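import Cfsg.Agent.Lib.Spor.Leech.Orbits

/-!
The stabiliser of the standard cross, the centre and the order of the automorphism group of the rank 24 lattice.
-/

set_option autoImplicit false
set_option maxRecDepth 100000

namespace Cfsg.Agent.Spor.Leech

open Cfsg
open scoped Pointwise

theorem single_mem (i : GolayPt) {s : ℤ} (hs : (8 : ℤ) ∣ s) : Pi.single i s ∈ leechLattice := by
  refine mem_lattice.2 ⟨0, Pi.single i (s / 2), Or.inl rfl, fun p => ?_, ?_, ?_⟩
  · rw [Pi.single_apply, Pi.single_apply]
    split_ifs <;> omega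
  · have h : par (Pi.single i (s / 2)) = 0 := by
      funext p
      rw [par, Pi.zero_apply, ZMod.intCast_zmod_eq_zero_iff_dvd, Pi.single_apply]
      split_ifs <;> omega
    rw [h]; exact Submodule.zero_mem _
  · rw [Finset.sum_pi_single', if_pos (Finset.mem_univ _), Int.ModEq]
    omega

theorem pair_mem (i j : GolayPt) {s t : ℤ} (hs : s = 4 ∨ s = -4) (ht : t = 4 ∨ t = -4) :
    Pi.single i s + Pi.single j t ∈ leechLattice := by
  refine mem_lattice.2 ⟨0, Pi.single i (s / 2) + Pi.single j (t / 2), Or.inl rfl, fun p => ?_, ?_, ?_⟩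
  · simp only [Pi.add_apply, Pi.single_apply]
    split_ifs <;> omega
  · have h : par (Pi.single i (s / 2) + Pi.single j (t / 2)) = 0 := by
      funext p
      rw [par, Pi.zero_apply, ZMod.intCast_zmod_eq_zero_iff_dvd, Pi.add_apply, Pi.single_apply, Pi.single_apply]
      split_ifs <;> omega
    rw [h]; exact Submodule.zero_mem _
  · simp only [Pi.add_apply, Finset.sum_add_distrib, Finset.sum_pi_single', Finset.mem_univ, if_true, Int.ModEq]
    omega

/-- The member with a single entry 8. -/
def axis (i : GolayPt) : leechLattice := ⟨Pi.single i 8, single_mem i (dvd_refl _)⟩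

theorem axis_val (i : GolayPt) : ((axis i : leechLattice) : Vec) = Pi.single i 8 := rfl

theorem axis_norm (i : GolayPt) : sqNorm ((axis i : leechLattice) : Vec) = 64 := by
  rw [axis_val, sqNorm, Finset.sum_eq_single i (fun j _ hj => by rw [Pi.single_eq_of_ne hj]; rfl) (by simp),
    Pi.single_eq_same]
  rfl

theorem eight_smul (v : leechLattice) : (8 : ℤ) • v = ∑ i, ((v : Vec) i) • axis i := by
  refine Subtype.ext (funext fun k => ?_)
  rw [AddSubgroup.val_finset_sum, Finset.sum_apply]
  simp only [AddSubgroup.coe_zsmul, axis_val, Pi.smul_apply, smul_eq_mul]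
  rw [Finset.sum_eq_single k (fun j _ hj => by rw [Pi.single_eq_of_ne hj.symm, mul_zero]) (by simp),
    Pi.single_eq_same, mul_comm]

theorem coord_smul (g : Co0) (v : leechLattice) (k : GolayPt) :
    8 * ((g • v : leechLattice) : Vec) k = ∑ i, (v : Vec) i * ((g • axis i : leechLattice) : Vec) k := by
  have h := congrArg (fun w : leechLattice => (w : Vec) k) ((co_zsmul g 8 v).symm.trans
    ((congrArg (fun w => g • w) (eight_smul v)).trans (co_sum g _ _)))
  simpa [AddSubgroup.val_finset_sum, co_zsmul] using h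

theorem ext_axis {g h : Co0} (e : ∀ i, g • axis i = h • axis i) : g = h := by
  refine Subtype.ext (Equiv.ext fun v => Subtype.ext (funext fun k => ?_))
  have h1 := coord_smul g v k
  simp only [e] at h1
  rw [← coord_smul h v k] at h1
  exact mul_left_cancel₀ (by norm_num : (8 : ℤ) ≠ 0) h1

/-- The standard cross inside the lattice. -/
def stdL : Set leechLattice := {v | (v : Vec) ∈ stdCross}

theorem mem_stdL {v : leechLattice} : v ∈ stdL ↔ ∃ i, v = axis i ∨ v = -axis i := by
  constructor
  · rintro ⟨i, s, rfl | rfl, e⟩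
    · exact ⟨i, Or.inl (Subtype.ext e)⟩
    · refine ⟨i, Or.inr (Subtype.ext ?_)⟩
      rw [e, AddSubgroup.coe_neg, axis_val, ← Pi.single_neg]
  · rintro ⟨i, rfl | rfl⟩
    · exact ⟨i, 8, Or.inl rfl, rfl⟩
    · exact ⟨i, -8, Or.inr rfl, by rw [AddSubgroup.coe_neg, axis_val, ← Pi.single_neg]⟩

theorem finite_stdL : stdL.Finite := by
  refine ((finite_norm 64).preimage Subtype.val_injective.injOn).subset fun v hv => ?_
  obtain ⟨i, rfl | rfl⟩ := mem_stdL.1 hv <;>
    simp [axis_norm, norm_neg]

/-- The stabiliser of the standard cross. -/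
def crossStab : Subgroup Co0 := MulAction.stabilizer Co0 stdL

theorem mem_crossStab {g : Co0} :
    g ∈ crossStab ↔ ∀ v : leechLattice, (v : Vec) ∈ stdCross → ((g • v : leechLattice) : Vec) ∈ stdCross := by
  rw [crossStab, MulAction.mem_stabilizer_iff]
  refine ⟨fun h v hv => ?_, fun h => ?_⟩
  · have : g • v ∈ stdL := h ▸ Set.smul_mem_smul_set hv
    exact this
  · refine Set.eq_of_subset_of_ncard_le ?_ (by rw [Set.ncard_smul_set]) finite_stdL
    rintro _ ⟨v, hv, rfl⟩
    exact h v hv

theorem exists_code_sep {i j : GolayPt} (h : i ≠ j) :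
    ∃ c ∈ supports (golayCode : Set (GolayPt → ZMod 2)), i ∈ c ∧ j ∉ c := by
  obtain ⟨σ, hσ, hb, -⟩ := exists_move [i, j] (by simp [h]) (by simp)
  obtain ⟨c, hc, hci⟩ := exists_sign {0}
  refine ⟨σ • c, smul_supports hσ hc, ?_, ?_⟩
  · have h0 : σ (Golay.base5 0) = i := hb 0 (by simp)
    rw [← h0]
    exact Finset.smul_mem_smul_finset ((hci 0).2 (by simp))
  · have h1 : σ (Golay.base5 1) = j := hb 1 (by simp)
    rw [← h1]
    intro hm
    have := (hci 1).1 ((Finset.smul_mem_smul_finset_iff σ).1 hm)
    simp at this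

theorem mono_axis {σ : Equiv.Perm GolayPt} (hσ : σ ∈ M24) {c : Finset GolayPt}
    (hc : c ∈ supports (golayCode : Set (GolayPt → ZMod 2))) (i : GolayPt) :
    mono hσ hc • axis i = if σ i ∈ c then -axis (σ i) else axis (σ i) := by
  refine Subtype.ext (funext fun k => ?_)
  rw [mono_apply, signedPerm, axis_val]
  by_cases hk : k = σ i
  · subst hk
    split_ifs <;> simp [axis_val]
  · have h1 : (Pi.single i (8 : ℤ) : Vec) (σ.symm k) = 0 :=
      Pi.single_eq_of_ne (fun e => hk (by rw [← e, Equiv.apply_symm_apply])) _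
    split_ifs <;> simp [axis_val, h1, Pi.single_eq_of_ne hk]

theorem axis_ne_neg (i j : GolayPt) : axis i ≠ -axis j := by
  intro h
  have h1 := congrArg (fun v : leechLattice => (v : Vec) i) h
  simp only [AddSubgroup.coe_neg, Pi.neg_apply, axis_val, Pi.single_eq_same, Pi.single_apply] at h1
  split_ifs at h1 <;> omega

theorem axis_injective : Function.Injective axis := by
  intro i j h
  have h1 := congrArg (fun v : leechLattice => (v : Vec) i) h
  simp only [axis_val, Pi.single_eq_same, Pi.single_apply] at h1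
  split_ifs at h1 with h2
  · exact h2
  · omega

theorem mono_inj {σ τ : Equiv.Perm GolayPt} (hσ : σ ∈ M24) (hτ : τ ∈ M24) {c d : Finset GolayPt}
    (hc : c ∈ supports (golayCode : Set (GolayPt → ZMod 2))) (hd : d ∈ supports (golayCode : Set (GolayPt → ZMod 2)))
    (h : mono hσ hc = mono hτ hd) : σ = τ ∧ c = d := by
  have key : ∀ i, σ i = τ i ∧ (σ i ∈ c ↔ τ i ∈ d) := by
    intro i
    have h1 := congrArg (fun g : Co0 => g • axis i) h
    simp only [mono_axis] at h1
    split_ifs at h1 with a b b
    · exact ⟨axis_injective (neg_injective h1), iff_of_true a b⟩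
    · exact absurd h1.symm (axis_ne_neg _ _)
    · exact absurd h1 (axis_ne_neg _ _)
    · exact ⟨axis_injective h1, iff_of_false a b⟩
  obtain rfl : σ = τ := Equiv.ext fun i => (key i).1
  refine ⟨rfl, Finset.ext fun k => ?_⟩
  have := (key (σ.symm k)).2
  rwa [Equiv.apply_symm_apply] at this

theorem mono_mem {σ : Equiv.Perm GolayPt} (hσ : σ ∈ M24) {c : Finset GolayPt}
    (hc : c ∈ supports (golayCode : Set (GolayPt → ZMod 2))) : mono hσ hc ∈ crossStab := by
  refine mem_crossStab.2 fun v hv => ?_
  show mono hσ hc • v ∈ stdL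
  obtain ⟨i, rfl | rfl⟩ := mem_stdL.1 (show v ∈ stdL from hv)
  · rw [mono_axis]; split_ifs <;> exact mem_stdL.2 ⟨σ i, by simp⟩
  · rw [co_neg, mono_axis]; split_ifs <;> exact mem_stdL.2 ⟨σ i, by simp⟩

theorem oddGen_emod : ∀ k, oddGen k % 4 = 1 := by decide

theorem exists_mono {g : Co0} (hg : g ∈ crossStab) :
    ∃ (σ : Equiv.Perm GolayPt) (hσ : σ ∈ M24) (c : Finset GolayPt)
      (hc : c ∈ supports (golayCode : Set (GolayPt → ZMod 2))), g = mono hσ hc := by
  classical
  have hax : ∀ i, ∃ j, g • axis i = axis j ∨ g • axis i = -axis j := fun i =>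
    mem_stdL.1 (mem_crossStab.1 hg (axis i) (mem_stdL.2 ⟨i, Or.inl rfl⟩))
  choose π hπ using hax
  have hinj : Function.Injective π := by
    intro i j h
    have hi := hπ i
    have hj := hπ j
    rw [← h] at hj
    have : g • axis i = g • axis j ∨ g • axis i = g • (-axis j) := by
      rw [co_neg]
      rcases hi with a | a <;> rcases hj with b | b <;> rw [a, b] <;> simp
    rcases this with e | e
    · exact axis_injective (smul_left_cancel g e)
    · exact absurd (smul_left_cancel g e) (axis_ne_neg i j)
  let σ : Equiv.Perm GolayPt := Equiv.ofBijective π ⟨hinj, Finite.surjective_of_injective hinj⟩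
  have hσi : ∀ i, σ i = π i := fun _ => rfl
  let c : Finset GolayPt := Finset.univ.filter fun k => g • axis (σ.symm k) = -axis k
  have hval : ∀ i, g • axis i = if σ i ∈ c then -axis (σ i) else axis (σ i) := by
    intro i
    have hm : σ i ∈ c ↔ g • axis i = -axis (σ i) := by simp [c]
    split_ifs with h
    · exact hm.1 h
    · rcases hπ i with e | e
      · exact e
      · exact absurd (hm.2 e) h
  have hcoord : ∀ (v : leechLattice) k,
      ((g • v : leechLattice) : Vec) k = signedPerm σ c (v : Vec) k := by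
    intro v k
    refine mul_left_cancel₀ (by norm_num : (8 : ℤ) ≠ 0) ?_
    rw [coord_smul, Finset.sum_eq_single (σ.symm k) ?_ (by simp), hval, Equiv.apply_symm_apply, signedPerm]
    · split_ifs <;> simp [axis_val] <;> ring
    · intro i _ hi
      have hne : k ≠ σ i := fun e => hi (by rw [e, Equiv.symm_apply_apply])
      rw [hval]
      split_ifs <;> simp [axis_val, Pi.single_eq_of_ne hne]
  have hσ : σ ∈ M24 := by
    rw [Golay.mem_M24_iff]
    intro b hb
    obtain ⟨m, a, hm, hxa, hca, -⟩ := mem_lattice.1
      (g • (⟨twos b, mem_lattice.2 (twos_good (Golay.basis_octad b hb))⟩ : leechLattice)).2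
    have hx : ∀ k, (if k ∈ c then -twos b (σ.symm k) else twos b (σ.symm k)) = m + 2 * a k := fun k => by
      rw [← hxa k, hcoord]; rfl
    have hm0 : m = 0 := by
      have := hx none
      unfold twos at this
      split_ifs at this <;> omega
    have he : σ • Golay.pts b = support₂ (par a) := by
      ext k
      have e : k ∈ σ • Golay.pts b ↔ b.testBit (Golay.idx (σ.symm k)) = true := by
        rw [← Finset.inv_smul_mem_iff, Golay.mem_pts]
        rfl
      rw [e, support₂, Finset.mem_filter, par, intCast_zmod2_ne_zero]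
      have := hx k
      unfold twos at this
      cases hb' : b.testBit (Golay.idx (σ.symm k)) <;> simp only [hb', if_true, if_false, Bool.false_eq_true] at this ⊢
      · simp only [Finset.mem_univ, true_and, false_iff]
        split_ifs at this <;> omega
      · simp only [Finset.mem_univ, true_and, true_iff]
        split_ifs at this <;> omega
    rw [he]
    exact ⟨par a, hca, rfl⟩
  have hc : c ∈ supports (golayCode : Set (GolayPt → ZMod 2)) := by
    obtain ⟨m, -, -, hk⟩ := (coe_leech ▸ (g • (⟨_, perm_mem hσ (mem_lattice.2 oddGen_good)⟩ : leechLattice)).2 :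
      ((g • (⟨_, perm_mem hσ (mem_lattice.2 oddGen_good)⟩ : leechLattice) : leechLattice) : Vec) ∈ leechSet)
    have h3 := hk 3
    have he : (Finset.univ.filter fun k => ((g • (⟨_, perm_mem hσ (mem_lattice.2 oddGen_good)⟩ :
        leechLattice) : leechLattice) : Vec) k ≡ 3 [ZMOD 4]) = c := by
      ext k
      rw [Finset.mem_filter, hcoord, signedPerm]
      simp only [Equiv.apply_symm_apply, Finset.mem_univ, true_and, Int.ModEq]
      have := oddGen_emod k
      split_ifs with h <;> simp only [h, iff_true, iff_false] <;> omega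
    rwa [he] at h3
  exact ⟨σ, hσ, c, hc, ext_axis fun i => by rw [hval, mono_axis]⟩

theorem card_supports : Nat.card (supports (golayCode : Set (GolayPt → ZMod 2))) = 4096 := by
  rw [← Golay.card_golayCode, supports,
    Nat.card_image_of_injective (fun v w h => Golay.eq_of_support h)]
  rfl

theorem card_crossStab : Nat.card crossStab = 4096 * 244823040 := by
  have e : crossStab ≃ supports (golayCode : Set (GolayPt → ZMod 2)) × M24 :=
    (Equiv.ofBijective
      (fun q : supports (golayCode : Set (GolayPt → ZMod 2)) × M24 =>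
        (⟨mono q.2.2 q.1.2, mono_mem q.2.2 q.1.2⟩ : crossStab))
      ⟨fun q q' h => by
        obtain ⟨h1, h2⟩ := mono_inj q.2.2 q'.2.2 q.1.2 q'.1.2 (congrArg Subtype.val h)
        exact Prod.ext (Subtype.ext h2) (Subtype.ext h1),
      fun g => by
        obtain ⟨σ, hσ, c, hc, hg⟩ := exists_mono g.2
        exact ⟨(⟨c, hc⟩, ⟨σ, hσ⟩), Subtype.ext hg.symm⟩⟩).symm
  rw [Nat.card_congr e, Nat.card_prod, card_supports, Golay.card_M24]

/-- The class of a member among those of norm 64. -/
def crossOf (u : leechLattice) : Set leechLattice := {v | sqNorm (v : Vec) = 64 ∧ cls v = cls u}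

theorem congr_smul {g : Co0} {u v : leechLattice} (h : cls u = cls v) : cls (g • u) = cls (g • v) := by
  obtain ⟨z, hz, e⟩ := cls_eq.1 h
  refine cls_eq.2 ⟨((g • (⟨z, hz⟩ : leechLattice) : leechLattice) : Vec), (g • (⟨z, hz⟩ : leechLattice)).2, ?_⟩
  have e' : u - v = 2 • (⟨z, hz⟩ : leechLattice) := Subtype.ext e
  have h2 := congrArg (fun w : leechLattice => ((g • w : leechLattice) : Vec)) e'
  simp only [co_sub, co_nsmul, AddSubgroup.coe_sub, AddSubgroup.coe_nsmul] at h2
  exact h2

theorem smul_crossOf (g : Co0) (u : leechLattice) : g • crossOf u = crossOf (g • u) := by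
  ext v
  rw [Set.mem_smul_set_iff_inv_smul_mem]
  constructor
  · rintro ⟨h1, h2⟩
    rw [co_norm] at h1
    refine ⟨h1, ?_⟩
    have := congr_smul (g := g) h2
    rwa [smul_inv_smul] at this
  · rintro ⟨h1, h2⟩
    refine ⟨by rwa [co_norm], ?_⟩
    have := congr_smul (g := g⁻¹) h2
    rwa [inv_smul_smul] at this

theorem ncard_stdL : stdL.ncard = 48 := by
  have h : stdL = ↑(Finset.univ.image axis ∪ Finset.univ.image (fun i => -axis i)) := by
    ext v
    simp only [mem_stdL, Finset.coe_union, Finset.coe_image, Finset.coe_univ, Set.image_univ, Set.mem_union,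
      Set.mem_range]
    constructor
    · rintro ⟨i, rfl | rfl⟩
      · exact Or.inl ⟨i, rfl⟩
      · exact Or.inr ⟨i, rfl⟩
    · rintro (⟨i, rfl⟩ | ⟨i, rfl⟩)
      · exact ⟨i, Or.inl rfl⟩
      · exact ⟨i, Or.inr rfl⟩
  rw [h, Set.ncard_coe_finset, Finset.card_union_of_disjoint,
    Finset.card_image_of_injective _ axis_injective,
    Finset.card_image_of_injective (f := fun i => -axis i) _ (neg_injective.comp axis_injective), Finset.card_univ, Golay.card_golayPt]
  rw [Finset.disjoint_left]
  intro v h1 h2
  obtain ⟨i, -, rfl⟩ := Finset.mem_image.1 h1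
  obtain ⟨j, -, e⟩ := Finset.mem_image.1 h2
  exact axis_ne_neg i j e.symm

theorem crossOf_axis (i : GolayPt) : crossOf (axis i) = stdL := by
  refine (Set.eq_of_subset_of_ncard_le ?_ ?_
    (((finite_norm 64).preimage Subtype.val_injective.injOn).subset fun v hv => hv.1)).symm
  · intro v hv
    obtain ⟨j, rfl | rfl⟩ := mem_stdL.1 hv
    · refine ⟨axis_norm j, cls_eq.2 ⟨_, pair_mem j i (Or.inl rfl) (Or.inr rfl), ?_⟩⟩
      funext p
      simp only [Pi.sub_apply, Pi.smul_apply, two_nsmul, Pi.add_apply, axis_val, Pi.single_apply]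
      split_ifs <;> norm_num
    · refine ⟨by rw [AddSubgroup.coe_neg, norm_neg, axis_norm], cls_eq.2 ⟨_, pair_mem j i (Or.inr rfl) (Or.inr rfl), ?_⟩⟩
      funext p
      simp only [AddSubgroup.coe_neg, Pi.sub_apply, Pi.neg_apply, Pi.smul_apply, two_nsmul, Pi.add_apply, axis_val,
        Pi.single_apply]
      split_ifs <;> norm_num
  · rw [ncard_stdL]
    exact (class_facts.2 (axis i) (axis_norm i)).le

theorem patF_one : patF 1 8 = Pi.single (Golay.base5 0) 8 := by
  funext q
  rw [Pi.single_apply]
  unfold patF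
  split_ifs with a b b
  · rfl
  · obtain ⟨i, hi, rfl⟩ := a
    obtain rfl : i = 0 := Fin.ext (by simp only [Fin.val_zero]; omega)
    exact absurd rfl b
  · exact absurd ⟨0, by simp, b⟩ a
  · rfl

theorem exists_to_axis (v : leechLattice) (hv : sqNorm (v : Vec) = 64) :
    ∃ g : Co0, g • v = axis (Golay.base5 0) := by
  obtain ⟨g, w, h1, h2⟩ := orbit_64 v.2 hv
  obtain rfl : w = v := Subtype.ext h1
  exact ⟨g, Subtype.ext (h2.trans patF_one)⟩

theorem orbit_stdL : MulAction.orbit Co0 stdL = crossOf '' {v | sqNorm (v : Vec) = 64} := by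
  ext S
  constructor
  · rintro ⟨g, rfl⟩
    refine ⟨g • axis none, by simp only [Set.mem_setOf_eq, co_norm, axis_norm], ?_⟩
    show crossOf (g • axis none) = g • stdL
    rw [← crossOf_axis none, smul_crossOf]
  · rintro ⟨v, hv, rfl⟩
    obtain ⟨g, hg⟩ := exists_to_axis v hv
    refine ⟨g⁻¹, ?_⟩
    show g⁻¹ • stdL = crossOf v
    rw [← crossOf_axis (Golay.base5 0), smul_crossOf, ← hg, inv_smul_smul]

theorem ncard_orbit : (MulAction.orbit Co0 stdL).ncard = 8292375 := by
  classical
  have hfin : {v : leechLattice | sqNorm (v : Vec) = 64}.Finite :=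
    (finite_norm 64).preimage Subtype.val_injective.injOn
  have hcard : hfin.toFinset.card = 398034000 := by
    rw [← Set.ncard_eq_toFinset_card _ hfin, ← ncard_64, ← Set.ncard_image_of_injective _ Subtype.val_injective]
    congr 1
    ext x
    simp only [Set.mem_image, Set.mem_setOf_eq]
    exact ⟨fun ⟨v, hv, e⟩ => e ▸ ⟨v.2, hv⟩, fun h => ⟨⟨x, h.1⟩, h.2, rfl⟩⟩
  have hb : ∀ S ∈ hfin.toFinset.image crossOf, (hfin.toFinset.filter fun v => crossOf v = S).card = 48 := by
    intro S hS
    obtain ⟨u, hu, rfl⟩ := Finset.mem_image.1 hS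
    have hu' : sqNorm (u : Vec) = 64 := by simpa using hu
    rw [← class_facts.2 u hu', ← Set.ncard_coe_finset]
    congr 1
    ext v
    simp only [Finset.coe_filter, Set.Finite.mem_toFinset, Set.mem_setOf_eq]
    refine ⟨fun ⟨h1, h2⟩ => ⟨h1, ?_⟩, fun ⟨h1, h2⟩ => ⟨h1, ?_⟩⟩
    · have : v ∈ crossOf u := h2 ▸ (⟨h1, rfl⟩ : v ∈ crossOf v)
      exact this.2
    · ext w; simp [crossOf, h2]
  have h := Finset.card_eq_sum_card_image crossOf hfin.toFinset
  rw [Finset.sum_congr rfl hb, Finset.sum_const, hcard, smul_eq_mul] at h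
  rw [orbit_stdL, show crossOf '' {v | sqNorm (v : Vec) = 64} = ↑(hfin.toFinset.image crossOf) by simp,
    Set.ncard_coe_finset]
  omega

theorem card_Co0 : Nat.card Co0 = 8315553613086720000 := by
  have h := (MulAction.stabilizer Co0 stdL).index_mul_card
  rw [MulAction.index_stabilizer, ncard_orbit] at h
  rw [← h, show MulAction.stabilizer Co0 stdL = crossStab from rfl, card_crossStab]

theorem eq_one_or_neg {g : Co0} {c : Finset GolayPt} (hc : c ∈ supports (golayCode : Set (GolayPt → ZMod 2)))
    (h : c = ∅ ∨ c = Finset.univ) (hg : g = mono (one_mem M24) hc) : g = 1 ∨ g = negCo := by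
  rcases h with rfl | rfl
  · refine Or.inl (ext_axis fun i => ?_)
    rw [hg, mono_axis, one_smul]
    simp
  · exact Or.inr hg

theorem mem_center_iff {g : Co0} : g ∈ Subgroup.center Co0 ↔ g = 1 ∨ g = negCo := by
  constructor
  · intro hg
    have hcomm : ∀ (h : Co0) (v : leechLattice), g • h • v = h • g • v := fun h v => by
      rw [← mul_smul, ← mul_smul, Subgroup.mem_center_iff.1 hg h]
    have hax : ∀ i k, k ≠ i → ((g • axis i : leechLattice) : Vec) k = 0 := by
      intro i k hk
      obtain ⟨c, hc, hkc, hic⟩ := exists_code_sep hk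
      have h1 := hcomm (mono (one_mem M24) hc) (axis i)
      rw [mono_axis, if_neg (by simpa using hic)] at h1
      have h2 := congrArg (fun v : leechLattice => (v : Vec) k) h1
      simp only [mono_apply, signedPerm, if_pos hkc, Equiv.Perm.one_def, Equiv.refl_symm, Equiv.refl_apply] at h2
      omega
    have hs : g ∈ crossStab := by
      refine mem_crossStab.2 fun v hv => ?_
      show g • v ∈ stdL
      have key : ∀ i, g • axis i ∈ stdL := fun i => by
        have hn := co_norm g (axis i)
        rw [axis_norm, sqNorm, Finset.sum_eq_single i (fun k _ hk => by rw [hax i k hk]; rfl) (by simp)] at hn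
        have he : ((g • axis i : leechLattice) : Vec) = Pi.single i (((g • axis i : leechLattice) : Vec) i) := by
          funext k
          by_cases hk : k = i
          · subst hk; simp
          · rw [hax i k hk, Pi.single_eq_of_ne hk]
        refine ⟨i, _, ?_, he⟩
        have : (((g • axis i : leechLattice) : Vec) i - 8) * (((g • axis i : leechLattice) : Vec) i + 8) = 0 := by
          linear_combination hn
        rcases mul_eq_zero.1 this with e | e
        · exact Or.inl (by linarith)
        · exact Or.inr (by linarith)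
      obtain ⟨i, rfl | rfl⟩ := mem_stdL.1 (show v ∈ stdL from hv)
      · exact key i
      · rw [co_neg]
        obtain ⟨j, e | e⟩ := mem_stdL.1 (key i) <;> exact mem_stdL.2 ⟨j, by simp [e]⟩
    obtain ⟨σ, hσ, c, hc, rfl⟩ := exists_mono hs
    obtain rfl : σ = 1 := by
      refine Equiv.ext fun i => ?_
      by_contra hne
      have h1 := hax i (σ i) hne
      rw [mono_axis] at h1
      split_ifs at h1 <;> simp [axis_val] at h1
    refine eq_one_or_neg hc ?_ rfl
    rcases c.eq_empty_or_nonempty with h | ⟨k, hk⟩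
    · exact Or.inl h
    · refine Or.inr (Finset.eq_univ_iff_forall.2 fun j => ?_)
      obtain ⟨τ, hτ, hb, -⟩ := exists_move [j] (by simp) (by simp)
      obtain ⟨υ, hυ, hb', -⟩ := exists_move [k] (by simp) (by simp)
      have hmem : υ * τ⁻¹ ∈ M24 := mul_mem hυ (inv_mem hτ)
      have he : (υ * τ⁻¹) j = k := by
        have h0 : τ (Golay.base5 0) = j := hb 0 (by simp)
        rw [← h0, Equiv.Perm.mul_apply]
        simpa using hb' 0 (by simp)
      by_contra hj
      have h1 := hcomm (mono hmem empty_code) (axis j)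
      rw [mono_axis hmem empty_code, mono_axis (one_mem M24) hc] at h1
      simp only [Finset.notMem_empty, if_false, he, Equiv.Perm.one_apply] at h1
      rw [mono_axis (one_mem M24) hc, Equiv.Perm.one_apply, if_pos hk] at h1
      simp only [hj, if_false] at h1
      rw [mono_axis hmem empty_code, he] at h1
      simp only [Finset.notMem_empty, if_false] at h1
      exact axis_ne_neg k k h1.symm
  · rintro (rfl | rfl)
    · exact one_mem _
    · refine Subgroup.mem_center_iff.2 fun h => Subtype.ext (Equiv.ext fun v => ?_)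
      show h • negCo • v = negCo • h • v
      rw [negCo_apply, negCo_apply, co_neg]

theorem negCo_ne_one : negCo ≠ 1 := by
  intro h
  have h1 := negCo_apply (axis none)
  rw [h, one_smul] at h1
  exact axis_ne_neg none none h1

theorem card_center : Nat.card (Subgroup.center Co0) = 2 := by
  rw [← SetLike.coe_sort_coe, Nat.card_coe_set_eq, show (Subgroup.center Co0 : Set Co0) = {1, negCo} from
    Set.ext fun g => mem_center_iff.trans (by simp)]
  exact Set.ncard_pair negCo_ne_one.symm

end Cfsg.Agent.Spor.Leech
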