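import Cfsg.Agent.Lib.Spor.Leech.Orbits
import Cfsg.Agent.Lib.Spor.Golay.Perm

/-!
The stabiliser of a member of norm 32 is transitive, up to sign, on the members of norm 32 perpendicular to it.
-/

set_option autoImplicit false
set_option maxRecDepth 100000

namespace Cfsg.Agent.Spor.Leech

open Cfsg
open scoped Pointwise

/-- The first base point. -/
abbrev bp : GolayPt := Golay.base5 0

/-- The second base point. -/
abbrev bq : GolayPt := Golay.base5 1

/-- The base member of norm 32. -/
def v0 : Vec := patF 2 4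

theorem v0_mem : v0 ∈ leechLattice := mem_of_inL (by decide +kernel)

theorem v0_norm : sqNorm v0 = 32 := by decide +kernel

theorem v0_vals : ∀ q, v0 q = if q = bp ∨ q = bq then 4 else 0 := by decide +kernel

/-- The base member inside the lattice. -/
def vB : leechLattice := ⟨v0, v0_mem⟩

theorem dot_v0 (x : Vec) : dotInt v0 x = 4 * (x bp + x bq) := by
  rw [dotInt, Finset.sum_eq_add bp bq (by decide +kernel)
    (fun q _ hq => by rw [v0_vals, if_neg (by tauto), zero_mul]) (by simp) (by simp),
    v0_vals, v0_vals, if_pos (Or.inl rfl), if_pos (Or.inr rfl)]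
  ring

/-- Same orbit, up to sign, of the stabiliser of the base member. -/
def SConn (x y : leechLattice) : Prop := ∃ g : Co0, g • vB = vB ∧ (g • x = y ∨ g • x = -y)

theorem SConn.refl (x : leechLattice) : SConn x x := ⟨1, one_smul _ _, Or.inl (one_smul _ _)⟩

theorem SConn.symm {x y : leechLattice} (h : SConn x y) : SConn y x := by
  obtain ⟨g, hv, h | h⟩ := h
  · exact ⟨g⁻¹, by rw [inv_smul_eq_iff, hv], Or.inl (by rw [← h, inv_smul_smul])⟩
  · refine ⟨g⁻¹, by rw [inv_smul_eq_iff, hv], Or.inr ?_⟩
    rw [show y = -(g • x) by rw [h, neg_neg], co_neg, inv_smul_smul]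

theorem SConn.trans {x y z : leechLattice} (h : SConn x y) (h' : SConn y z) : SConn x z := by
  obtain ⟨g, hv, h⟩ := h
  obtain ⟨k, hk, h'⟩ := h'
  refine ⟨k * g, by rw [mul_smul, hv, hk], ?_⟩
  rw [mul_smul]
  rcases h with h | h <;> rcases h' with h' | h' <;> rw [h] <;> simp [co_neg, h']

theorem SConn.dot {x y : leechLattice} (h : SConn x y) (hd : dotInt v0 (x : Vec) = 0) :
    dotInt v0 (y : Vec) = 0 := by
  obtain ⟨g, hv, h⟩ := h
  have h1 := co_dot g vB x
  rw [hv] at h1
  rcases h with h | h <;> rw [h] at h1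
  · exact h1.trans hd
  · have h2 : dotInt v0 (-(y : Vec)) = -dotInt v0 (y : Vec) := by simp [dotInt]
    have h3 : dotInt (vB : Vec) ((-y : leechLattice) : Vec) = dotInt v0 (-(y : Vec)) := rfl
    have h4 : dotInt (vB : Vec) (x : Vec) = 0 := hd
    omega

theorem SConn.norm {x y : leechLattice} (h : SConn x y) : sqNorm (y : Vec) = sqNorm (x : Vec) := by
  obtain ⟨g, -, h | h⟩ := h <;> rw [← co_norm g x, h]
  rw [AddSubgroup.coe_neg, norm_neg]

/-- The packed permutation carrying the pair of the third and fourth base points to the first two. -/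
def betaP : ℕ := 152184234325825891651857365884470352

/-- Packed permutations preserving the first pair. -/
def tauL : List ℕ :=
  [984818244535754528103549039458486304, 393523397116417645366621516828514336, 279458034276313458969194011917700128,
    344421345954689568681204669199431712, 314964724307487923638450962089743392, 358970889739790653720211150553733121,
    441648640222677249072120303359449089]

theorem beta_ok : Golay.inM24 betaP = true ∧ (tauL.all fun t => Golay.inM24 t) = true := by decide +kernel

theorem valid_of_inM24 {P : ℕ} (h : Golay.inM24 P = true) : Golay.valid P = true :=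
  (Bool.and_eq_true _ _ ▸ h : Golay.valid P = true ∧ _).1

/-- The composite map of a packed permutation. -/
noncomputable def hTau (t : ℕ) (h : Golay.inM24 t = true) : Co0 :=
  mono (Golay.permOf_mem_M24 beta_ok.1) univ_code * xi * mono (Golay.permOf_mem_M24 h) empty_code

/-- The image vector of the composite map. -/
def tauImg (t : ℕ) (x : Vec) : Vec := fun i => x (Golay.pt ((List.range 24).findIdx fun j => Golay.get t j == Golay.idx i))

/-- The composite map on vectors. -/
def hVec (t : ℕ) (x : Vec) : Vec := fun i => -xiFun (tauImg t x) (Golay.pt ((List.range 24).findIdx fun j => Golay.get betaP j == Golay.idx i))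

theorem symm_permOf {P : ℕ} (h : Golay.valid P = true) (i : GolayPt) :
    (Golay.permOf P).symm i = Golay.pt ((List.range 24).findIdx fun j => Golay.get P j == Golay.idx i) := by
  obtain ⟨hs, -⟩ := Golay.valid_iff.1 h
  obtain ⟨k, hk, hki⟩ := hs (Golay.idx i) (Golay.idx_lt i)
  have hlt : ((List.range 24).findIdx fun j => Golay.get P j == Golay.idx i) < 24 := by
    have := List.findIdx_lt_length_of_exists (p := fun j => Golay.get P j == Golay.idx i) (xs := List.range 24)
      ⟨k, List.mem_range.2 hk, by simpa using hki⟩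
    simpa using this
  have hp : Golay.get P ((List.range 24).findIdx fun j => Golay.get P j == Golay.idx i) = Golay.idx i := by
    have := List.findIdx_getElem (p := fun j => Golay.get P j == Golay.idx i) (xs := List.range 24)
      (w := by simpa using hlt)
    simpa using this
  rw [Equiv.symm_apply_eq]
  refine Golay.idx_injective ?_
  rw [Golay.idx_permOf h, Golay.idx_pt hlt, hp]

theorem hTau_apply (t : ℕ) (h : Golay.inM24 t = true) (x : leechLattice) :
    ((hTau t h • x : leechLattice) : Vec) = hVec t (x : Vec) := by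
  have e : tauImg t (x : Vec) = ((mono (Golay.permOf_mem_M24 h) empty_code • x : leechLattice) : Vec) := by
    funext i
    rw [mono_apply, signedPerm, if_neg (Finset.notMem_empty i), symm_permOf (valid_of_inM24 h)]
    rfl
  funext i
  rw [hTau, mul_smul, mul_smul, mono_apply, signedPerm, if_pos (Finset.mem_univ i),
    symm_permOf (valid_of_inM24 beta_ok.1), xi_apply, ← e]
  rfl

theorem tau_fix : ∀ t ∈ tauL, ∀ i, hVec t v0 i = v0 i := by decide +kernel

theorem sconn_tau {t : ℕ} (ht : t ∈ tauL) (x : leechLattice) :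
    SConn x (hTau t (List.all_eq_true.1 beta_ok.2 t ht) • x) :=
  ⟨_, Subtype.ext ((hTau_apply t _ vB).trans (funext (tau_fix t ht))), Or.inl rfl⟩

theorem oct_cover : ∀ o ∈ Golay.octList, (o.testBit (Golay.idx bp) = o.testBit (Golay.idx bq)) →
    ∃ t ∈ tauL, ((Finset.univ.filter fun j => tet j = tet (Golay.pt ((List.range 24).findIdx fun k =>
      Golay.get betaP k == Golay.idx (none : GolayPt)))) ∩ Golay.pts (Golay.imgMask (Golay.get t) o)).card % 2 = 1 := by
  decide +kernel

theorem pair_cover : ∀ i j : GolayPt, i = j ∨ i = bp ∨ i = bq ∨ j = bp ∨ j = bq ∨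
    ∃ t ∈ tauL, tet (Golay.pt (Golay.get t (Golay.idx i))) ≠ tet (Golay.pt (Golay.get t (Golay.idx j))) := by
  decide +kernel

set_option maxHeartbeats 400000 in
/-- The odd representative has sign change on a word separating the two base points. -/
theorem odd_normal {x y : leechLattice} (hx : sqNorm (x : Vec) = 32) (hy : sqNorm (y : Vec) = 32)
    (hdx : dotInt v0 (x : Vec) = 0) (hdy : dotInt v0 (y : Vec) = 0) (hox : (x : Vec) none % 2 = 1)
    (hoy : (y : Vec) none % 2 = 1) : SConn x y := by
  classical
  obtain ⟨c₀, hc₀, hc₀i⟩ := exists_sign {1}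
  have hp₀ : bp ∉ c₀ := fun h => absurd ((hc₀i 0).1 h) (by decide)
  have hq₀ : bq ∈ c₀ := (hc₀i 1).2 (by decide)
  let tgt : Vec := flip c₀ fun q => 1 + 4 * (if q = Golay.base5 2 then -1 else 0)
  suffices key : ∀ z : leechLattice, sqNorm (z : Vec) = 32 → dotInt v0 (z : Vec) = 0 → (z : Vec) none % 2 = 1 →
      ∃ g : Co0, g • vB = vB ∧ (((g • z : leechLattice) : Vec) = tgt ∨ ((g • z : leechLattice) : Vec) = -tgt) by
    obtain ⟨g, hg, ex⟩ := key x hx hdx hox
    obtain ⟨k, hk, ey⟩ := key y hy hdy hoy
    have h3 : g • x = k • y ∨ g • x = -(k • y) := by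
      rcases ex with e | e <;> rcases ey with f | f
      · exact Or.inl (Subtype.ext (e.trans f.symm))
      · exact Or.inr (Subtype.ext (by rw [AddSubgroup.coe_neg, e, f, neg_neg]))
      · exact Or.inr (Subtype.ext (by rw [AddSubgroup.coe_neg, e, f]))
      · exact Or.inl (Subtype.ext (e.trans f.symm))
    exact (show SConn x (k • y) from ⟨g, hg, h3⟩).trans (show SConn y (k • y) from ⟨k, hk, Or.inl rfl⟩).symm
  intro z hz hd ho
  obtain ⟨c, hc, b, hzb, hk, -, hv⟩ := (oddSet_iff (x := (z : Vec)) (k := 1) (by norm_num)).2 ⟨z.2, by rw [hz]; norm_num, ho⟩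
  have hv' : ∀ i, b i = 0 ∨ b i = -1 := fun i => by
    have h1 : b i = 0 ∨ b i = -1 ∨ b i = 1 := by simpa [oddVals] using hv i
    rcases h1 with h | h | h
    · exact Or.inl h
    · exact Or.inr h
    · exfalso
      have := Finset.single_le_sum (f := fun j => oddCost (b j)) (fun j _ => Nat.zero_le _) (Finset.mem_univ i)
      simp only [hk, h] at this
      exact absurd this (by decide)
  have hone : ∀ i j, b i = -1 → b j = -1 → i = j := by
    intro i j hi hj
    by_contra hne
    have := Finset.add_le_sum (f := fun l => oddCost (b l)) (s := Finset.univ) (fun l _ => Nat.zero_le _)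
      (Finset.mem_univ i) (Finset.mem_univ j) hne
    simp only [hk, hi, hj] at this
    exact absurd this (by decide)
  obtain ⟨r, hr⟩ : ∃ r, b r = -1 := by
    by_contra hcon
    simp only [not_exists] at hcon
    rw [Finset.sum_eq_zero fun i _ => by rcases hv' i with h | h <;> simp [h, oddCost] at hcon ⊢; exact absurd h (hcon i)] at hk
    omega
  have hsum : (z : Vec) bp + (z : Vec) bq = 0 := by rw [dot_v0] at hd; omega
  have hpq : bp ≠ bq := by decide +kernel
  have hzp := congrFun hzb bp
  have hzq := congrFun hzb bq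
  unfold flip at hzp hzq
  dsimp only at hzp hzq
  have hbp : b bp = 0 := by
    rcases hv' bp with h | h
    · exact h
    · have hq : b bq = 0 := (hv' bq).resolve_right fun h' => hpq (hone _ _ h h')
      rw [h] at hzp; rw [hq] at hzq
      split_ifs at hzp hzq <;> omega
  have hbq : b bq = 0 := by
    rcases hv' bq with h | h
    · exact h
    · rw [hbp] at hzp; rw [h] at hzq
      split_ifs at hzp hzq <;> omega
  have hsep : bp ∈ c ↔ bq ∉ c := by
    rw [hbp] at hzp; rw [hbq] at hzq
    constructor
    · intro h h'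
      rw [if_pos h] at hzp; rw [if_pos h'] at hzq; omega
    · intro h'
      by_contra h
      rw [if_neg h] at hzp; rw [if_neg h'] at hzq; omega
  obtain ⟨σ, hσ, hbase, -⟩ := exists_move [bp, bq, r]
    (by
      have h1 : bp ≠ r := fun e => by rw [e, hr] at hbp; omega
      have h2 : bq ≠ r := fun e => by rw [e, hr] at hbq; omega
      simp [hpq, h1, h2]) (by simp)
  have e0 : σ bp = bp := hbase 0 (by simp)
  have e1 : σ bq = bq := hbase 1 (by simp)
  have e2 : σ (Golay.base5 2) = r := hbase 2 (by simp)
  have hcσ : σ.symm • c ∈ supports (golayCode : Set (GolayPt → ZMod 2)) := smul_supports (mem_symm hσ) hc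
  have hmem : ∀ i, i ∈ σ.symm • c ↔ σ i ∈ c := fun i => by
    rw [show σ.symm = σ⁻¹ from rfl, Finset.mem_inv_smul_finset_iff, Equiv.Perm.smul_def]
  have hb' : ∀ i, b (σ i) = if i = Golay.base5 2 then -1 else 0 := fun i => by
    split_ifs with h
    · rw [h, e2, hr]
    · refine (hv' _).resolve_right fun h' => h (σ.injective ?_)
      rw [e2]; exact hone _ _ h' hr
  -- the sign change to apply avoids both base points, after replacing the member by its negative if needed
  by_cases hq : bq ∈ c
  · have hd' := Golay.symmDiff_mem_supports hcσ hc₀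
    refine ⟨mono (mem_symm hσ) hd', ?_, Or.inl ?_⟩
    · refine Subtype.ext (funext fun i => ?_)
      rw [mono_apply, signedPerm_eq]
      show flip _ (fun k => v0 (σ k)) i = v0 i
      have hnp : bp ∉ symmDiff (σ.symm • c) c₀ := by
        rw [Finset.mem_symmDiff, hmem, e0]
        rintro (⟨h, -⟩ | ⟨h, -⟩)
        · exact hsep.1 h hq
        · exact hp₀ h
      have hnq : bq ∉ symmDiff (σ.symm • c) c₀ := by
        rw [Finset.mem_symmDiff, hmem, e1]
        rintro (⟨-, h⟩ | ⟨-, h⟩)
        · exact h hq₀
        · exact h hq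
      unfold flip
      dsimp only
      rw [v0_vals, v0_vals]
      by_cases hi : i = bp ∨ i = bq
      · rcases hi with rfl | rfl
        · rw [if_neg hnp, e0]
        · rw [if_neg hnq, e1]
      · have : ¬(σ i = bp ∨ σ i = bq) := fun h => hi (h.imp (fun h => σ.injective (h.trans e0.symm))
          fun h => σ.injective (h.trans e1.symm))
        simp [hi, this]
    · funext i
      rw [mono_apply, signedPerm_eq]
      show flip _ (fun k => (z : Vec) (σ k)) i = tgt i
      simp only [tgt, hzb, Agent.Spor.Leech.flip, Finset.mem_symmDiff, hmem, hb']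
      by_cases h1 : σ i ∈ c <;> by_cases h2 : i ∈ c₀ <;> simp [h1, h2]
  · have hd' := Golay.symmDiff_mem_supports hcσ (Golay.symmDiff_mem_supports hc₀ univ_code)
    refine ⟨mono (mem_symm hσ) hd', ?_, Or.inr ?_⟩
    · refine Subtype.ext (funext fun i => ?_)
      rw [mono_apply, signedPerm_eq]
      show flip _ (fun k => v0 (σ k)) i = v0 i
      have hpc := hsep.2 hq
      have hnp : bp ∉ symmDiff (σ.symm • c) (symmDiff c₀ Finset.univ) := by
        have hin : bp ∈ symmDiff c₀ Finset.univ := Finset.mem_symmDiff.2 (Or.inr ⟨Finset.mem_univ _, hp₀⟩)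
        rw [Finset.mem_symmDiff, hmem, e0]
        rintro (⟨-, h⟩ | ⟨-, h⟩)
        · exact h hin
        · exact h hpc
      have hnq : bq ∉ symmDiff (σ.symm • c) (symmDiff c₀ Finset.univ) := by
        have hout : bq ∉ symmDiff c₀ Finset.univ := by
          rw [Finset.mem_symmDiff]
          rintro (⟨-, h⟩ | ⟨-, h⟩)
          · exact h (Finset.mem_univ _)
          · exact h hq₀
        rw [Finset.mem_symmDiff, hmem, e1]
        rintro (⟨h, -⟩ | ⟨h, -⟩)
        · exact hq h
        · exact hout h
      unfold flip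
      dsimp only
      rw [v0_vals, v0_vals]
      by_cases hi : i = bp ∨ i = bq
      · rcases hi with rfl | rfl
        · rw [if_neg hnp, e0]
        · rw [if_neg hnq, e1]
      · have : ¬(σ i = bp ∨ σ i = bq) := fun h => hi (h.imp (fun h => σ.injective (h.trans e0.symm))
          fun h => σ.injective (h.trans e1.symm))
        simp [hi, this]
    · funext i
      rw [mono_apply, signedPerm_eq]
      show flip _ (fun k => (z : Vec) (σ k)) i = (-tgt) i
      simp only [tgt, hzb, Pi.neg_apply, Agent.Spor.Leech.flip, Finset.mem_symmDiff, hmem, Finset.mem_univ, hb']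
      by_cases h1 : σ i ∈ c <;> by_cases h2 : i ∈ c₀ <;> simp [h1, h2]

theorem even_step {x : leechLattice} (hn : sqNorm (x : Vec) = 32) (hd : dotInt v0 (x : Vec) = 0)
    (h0 : (x : Vec) none % 2 = 0) (hne : ∃ i, (x : Vec) i % 4 ≠ 0) :
    ∃ y, SConn x y ∧ (y : Vec) none % 2 = 1 := by
  obtain ⟨m, a, hm, hxa, hca, -⟩ := mem_lattice.1 x.2
  have : m = 0 := by have := hxa none; omega
  subst this
  have hsq := sq_le_sum (a := a)
  have he : sqNorm (x : Vec) = 4 * ∑ i, a i * a i := by
    rw [sqNorm, Finset.mul_sum]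
    exact Finset.sum_congr rfl fun i _ => by rw [hxa]; ring
  obtain ⟨o, ho, hoe⟩ : ∃ o ∈ Golay.octList, support₂ (par a) = Golay.pts o := by
    obtain ⟨o, ho, e⟩ := Golay.mem_golayCode.1 hca
    refine ⟨o, Golay.mem_weightList.2 ⟨ho, ?_⟩, by rw [e, Golay.support_vec]⟩
    obtain ⟨i, hi⟩ := hne
    have hi' : i ∈ support₂ (par a) := by
      rw [support₂, Finset.mem_filter]
      exact ⟨Finset.mem_univ _, intCast_zmod2_ne_zero.2 (by have := hxa i; omega)⟩
    rw [e, Golay.support_vec] at hi'
    have h1 := Finset.card_pos.2 ⟨i, hi'⟩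
    have h2 : ((Golay.pts o).card : ℤ) ≤ 8 := by rw [← Golay.support_vec, ← e]; omega
    rw [Golay.card_pts] at h1 h2
    rcases Golay.pop_code ho with h | h | h | h | h <;> omega
  have hmemo : ∀ i, o.testBit (Golay.idx i) = true ↔ a i % 2 = 1 := fun i => by
    rw [← Golay.mem_pts, ← hoe, support₂, Finset.mem_filter, ← intCast_zmod2_ne_zero]
    simp [par]
  obtain ⟨t, ht, hcard⟩ := oct_cover o ho (by
    rw [dot_v0, hxa, hxa] at hd
    rw [Bool.eq_iff_iff, hmemo, hmemo]
    omega)
  refine ⟨_, sconn_tau ht x, ?_⟩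
  have hin := List.all_eq_true.1 beta_ok.2 t ht
  set σ := Golay.permOf t
  have hv := valid_of_inM24 hin
  have hsum : ∀ s : Finset GolayPt, (∑ j ∈ s, a (σ.symm j)) % 2 =
      (((s ∩ Golay.pts (Golay.imgMask (Golay.get t) o)).card : ℕ) : ℤ) % 2 := by
    intro s
    rw [Finset.sum_int_mod, ← Finset.filter_mem_eq_inter, Finset.card_filter, Nat.cast_sum]
    congr 1
    refine Finset.sum_congr rfl fun j _ => ?_
    have hj : j ∈ Golay.pts (Golay.imgMask (Golay.get t) o) ↔ a (σ.symm j) % 2 = 1 := by
      rw [← Golay.permOf_smul_pts hv, ← Finset.inv_smul_mem_iff, Golay.mem_pts, hmemo]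
      rfl
    split_ifs with h
    · simpa using hj.1 h
    · have := mt hj.2 h
      simp only [Nat.cast_zero]
      omega
  rw [hTau_apply]
  have hti : ∀ i, tauImg t (x : Vec) i = 2 * a (σ.symm i) := fun i => by
    rw [tauImg, ← symm_permOf hv, hxa]; simp [σ]
  unfold hVec
  generalize hk : Golay.pt ((List.range 24).findIdx fun k => Golay.get betaP k == Golay.idx (none : GolayPt)) = k at hcard ⊢
  have h2 := hsum (Finset.univ.filter fun j => tet j = tet k)
  unfold xiFun
  rw [hti k, show (∑ j, if tet j = tet k then tauImg t (x : Vec) j else 0) =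
      2 * ∑ j ∈ Finset.univ.filter (fun j => tet j = tet k), a (σ.symm j) by
    rw [Finset.mul_sum, Finset.sum_filter]
    exact Finset.sum_congr rfl fun j _ => by rw [hti]]
  split_ifs <;> omega

theorem two_vals : ∀ i j : GolayPt, tet i ≠ tet j → ∀ s ∈ ([4, -4] : List ℤ), ∀ u ∈ ([4, -4] : List ℤ),
    xiFun (fun k => if k = i then s else if k = j then u else 0) i % 4 ≠ 0 := by decide +kernel

theorem four_step {x : leechLattice} {i j : GolayPt} {s u : ℤ} (hs : s = 4 ∨ s = -4) (hu : u = 4 ∨ u = -4)
    (hij : i ≠ j) (hi : i ≠ bp ∧ i ≠ bq) (hj : j ≠ bp ∧ j ≠ bq)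
    (hx : (x : Vec) = fun k => if k = i then s else if k = j then u else 0) :
    ∃ y, SConn x y ∧ ∃ l, (y : Vec) l % 4 ≠ 0 ∧ (y : Vec) none % 2 = 0 := by
  obtain ⟨t, ht, htet⟩ : ∃ t ∈ tauL,
      tet (Golay.pt (Golay.get t (Golay.idx i))) ≠ tet (Golay.pt (Golay.get t (Golay.idx j))) := by
    have := pair_cover i j
    tauto
  refine ⟨_, sconn_tau ht x, ?_⟩
  have hin := List.all_eq_true.1 beta_ok.2 t ht
  have hv := valid_of_inM24 hin
  have hp : ∀ q, Golay.pt (Golay.get t (Golay.idx q)) = Golay.permOf t q := fun q => by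
    rw [Golay.permOf_apply hv, Golay.app]
  rw [hp, hp] at htet
  have e : tauImg t (x : Vec) =
      fun k => if k = Golay.permOf t i then s else if k = Golay.permOf t j then u else 0 := by
    funext k
    rw [tauImg, ← symm_permOf hv, hx]
    simp only [Equiv.symm_apply_eq]
  have h2 := two_vals _ _ htet s (by simpa using hs) u (by simpa using hu)
  have hb := valid_of_inM24 beta_ok.1
  refine ⟨(Golay.permOf betaP) (Golay.permOf t i), ?_, ?_⟩
  · rw [hTau_apply, hVec, ← symm_permOf hb, e, Equiv.symm_apply_apply]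
    omega
  · obtain ⟨m, hp', -, -⟩ := (coe_leech ▸ xiFun_mem (x := tauImg t (x : Vec)) (by
        rw [e]
        have := (mono (Golay.permOf_mem_M24 hin) empty_code • x).2
        have e' : ((mono (Golay.permOf_mem_M24 hin) empty_code • x : leechLattice) : Vec) =
            fun k => if k = Golay.permOf t i then s else if k = Golay.permOf t j then u else 0 := by
          funext k
          rw [mono_apply, signedPerm, if_neg (Finset.notMem_empty k), hx]
          simp only [Equiv.symm_apply_eq]
        rwa [e'] at this) : xiFun (tauImg t (x : Vec)) ∈ leechSet)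
    have h3 := hp' (Golay.permOf t i)
    rw [hTau_apply, hVec, ← symm_permOf hb]
    have h4 := hp' ((Golay.permOf betaP).symm none)
    unfold Int.ModEq at h3 h4
    rw [e] at h3 h4 ⊢
    have h5 : xiFun (fun k => if k = Golay.permOf t i then s else if k = Golay.permOf t j then u else 0)
        (Golay.permOf t i) % 2 = 0 := by
      unfold xiFun
      dsimp only
      rw [if_pos rfl, show (∑ l, if tet l = tet (Golay.permOf t i) then
          (if l = Golay.permOf t i then s else if l = Golay.permOf t j then u else 0) else 0) = s by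
        rw [Finset.sum_eq_single (Golay.permOf t i) (fun l _ hl => by
          split_ifs with h1 h2
          · exact absurd (h2 ▸ h1) (Ne.symm htet)
          · rfl
          · rfl) (by simp)]
        simp]
      rcases hs with rfl | rfl <;> split_ifs <;> norm_num
    omega

theorem pair_shape {x : leechLattice} (hn : sqNorm (x : Vec) = 32) (h4 : ∀ i, (x : Vec) i % 4 = 0) :
    ∃ (i j : GolayPt) (s u : ℤ), i ≠ j ∧ (s = 4 ∨ s = -4) ∧ (u = 4 ∨ u = -4) ∧
      (x : Vec) = fun k => if k = i then s else if k = j then u else 0 := by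
  have hb : ∀ i, (x : Vec) i = 4 * ((x : Vec) i / 4) := fun i => by have := h4 i; omega
  have he : ∑ i, ((x : Vec) i / 4) * ((x : Vec) i / 4) = 2 := by
    have : sqNorm (x : Vec) = 16 * ∑ i, ((x : Vec) i / 4) * ((x : Vec) i / 4) := by
      rw [sqNorm, Finset.mul_sum]
      exact Finset.sum_congr rfl fun i _ => by linear_combination ((x : Vec) i + 4 * ((x : Vec) i / 4)) * (hb i)
    omega
  have hle : ∀ i, (x : Vec) i / 4 = 0 ∨ (x : Vec) i / 4 = 1 ∨ (x : Vec) i / 4 = -1 := fun i => by
    have h := Finset.single_le_sum (f := fun j => ((x : Vec) j / 4) * ((x : Vec) j / 4))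
      (fun j _ => mul_self_nonneg ((x : Vec) j / 4)) (Finset.mem_univ i)
    rw [he] at h
    have h1 : -1 ≤ (x : Vec) i / 4 := by nlinarith
    have h2 : (x : Vec) i / 4 ≤ 1 := by nlinarith
    omega
  have hc : (Finset.univ.filter fun i => (x : Vec) i ≠ 0).card = 2 := by
    have : (((Finset.univ.filter fun i => (x : Vec) i ≠ 0).card : ℕ) : ℤ) = 2 := by
      rw [← he, Finset.card_filter, Nat.cast_sum]
      refine Finset.sum_congr rfl fun i _ => ?_
      have := hb i
      rcases hle i with h | h | h <;> rw [h] at this ⊢ <;> simp [this]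
    exact_mod_cast this
  obtain ⟨i, j, hij, hS⟩ := Finset.card_eq_two.1 hc
  have hmem : ∀ k, (x : Vec) k ≠ 0 ↔ k = i ∨ k = j := fun k => by
    have := congrArg (fun s : Finset GolayPt => k ∈ s) hS
    simpa using this
  refine ⟨i, j, (x : Vec) i, (x : Vec) j, hij, ?_, ?_, funext fun k => ?_⟩
  · have := (hmem i).2 (Or.inl rfl); have := hb i; have := hle i; omega
  · have := (hmem j).2 (Or.inr rfl); have := hb j; have := hle j; omega
  · split_ifs with h1 h2
    · rw [h1]
    · rw [h2]
    · by_contra h; rcases (hmem k).1 h with e | e <;> contradiction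

theorem id_pair : ∀ s ∈ ([4, -4] : List ℤ), ∀ k ∈ ([bp, bq] : List GolayPt),
    hVec (tauL.headD 0) (fun l => if l = bp then s else if l = bq then -s else 0) k = 0 := by decide +kernel

theorem to_odd {x : leechLattice} (hn : sqNorm (x : Vec) = 32) (hd : dotInt v0 (x : Vec) = 0) :
    ∃ y, SConn x y ∧ (y : Vec) none % 2 = 1 := by
  rcases Int.emod_two_eq_zero_or_one ((x : Vec) none) with h0 | h1
  swap
  · exact ⟨x, SConn.refl x, h1⟩
  by_cases hne : ∃ i, (x : Vec) i % 4 ≠ 0
  · exact even_step hn hd h0 hne
  simp only [not_exists, not_not] at hne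
  -- move to two points other than the base pair
  have hB : ∀ z : leechLattice, sqNorm (z : Vec) = 32 → dotInt v0 (z : Vec) = 0 → (∀ i, (z : Vec) i % 4 = 0) →
      (z : Vec) bp = 0 → ∃ y, SConn z y ∧ (y : Vec) none % 2 = 1 := by
    intro z hzn hzd hz4 hzp
    obtain ⟨i, j, s, u, hij, hs, hu, he⟩ := pair_shape hzn hz4
    have hzq : (z : Vec) bq = 0 := by rw [dot_v0] at hzd; omega
    rw [he] at hzp hzq
    have hi : i ≠ bp ∧ i ≠ bq := by
      constructor <;> rintro rfl
      · simp only [if_true] at hzp; omega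
      · simp only [if_true] at hzq; omega
    have hj : j ≠ bp ∧ j ≠ bq := by
      constructor <;> rintro rfl
      · dsimp only at hzp; rw [if_neg hij.symm, if_pos rfl] at hzp; omega
      · dsimp only at hzq; rw [if_neg hij.symm, if_pos rfl] at hzq; omega
    obtain ⟨y, hy, l, hl, hy0⟩ := four_step hs hu hij hi hj he
    obtain ⟨w, hw, hw1⟩ := even_step (hy.norm.trans hzn) (hy.dot hzd) hy0 ⟨l, hl⟩
    exact ⟨w, hy.trans hw, hw1⟩
  by_cases hp : (x : Vec) bp = 0
  · exact hB x hn hd hne hp
  obtain ⟨i, j, s, u, hij, hs, hu, he⟩ := pair_shape hn hne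
  have hq : (x : Vec) bq = -(x : Vec) bp := by rw [dot_v0] at hd; omega
  have hbpq : bp ≠ bq := by decide +kernel
  have hform : ∃ r : ℤ, (r = 4 ∨ r = -4) ∧ (x : Vec) = fun l => if l = bp then r else if l = bq then -r else 0 := by
    have h1 : bp = i ∨ bp = j := by
      by_contra h; push Not at h
      rw [he] at hp; simp [h.1, h.2] at hp
    have h2 : bq = i ∨ bq = j := by
      by_contra h; push Not at h
      rw [he] at hp hq
      simp [h.1, h.2] at hq
      exact hp hq
    refine ⟨(x : Vec) bp, ?_, funext fun l => ?_⟩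
    · rw [he]
      rcases h1 with h | h <;> rw [h] <;> simp only [hij.symm, if_true, if_false] <;> assumption
    · split_ifs with a b
      · rw [a]
      · rw [b, hq]
      · rw [he]
        rcases h1 with h | h <;> rcases h2 with h' | h'
        · exact absurd (h.trans h'.symm) hbpq
        · rw [h] at a; rw [h'] at b; simp [a, b]
        · rw [h] at a; rw [h'] at b; simp [a, b]
        · exact absurd (h.trans h'.symm) hbpq
  obtain ⟨r, hr, hxr⟩ := hform
  have ht : tauL.headD 0 ∈ tauL := by simp [tauL]
  have hstep := sconn_tau ht x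
  have hzp : ((hTau _ (List.all_eq_true.1 beta_ok.2 _ ht) • x : leechLattice) : Vec) bp = 0 := by
    rw [hTau_apply, hxr]
    exact id_pair r (by simpa using hr) bp (by simp)
  set z := hTau _ (List.all_eq_true.1 beta_ok.2 _ ht) • x
  have hzn := hstep.norm.trans hn
  have hzd := hstep.dot hd
  rcases Int.emod_two_eq_zero_or_one ((z : Vec) none) with g0 | g1
  swap
  · exact ⟨z, hstep, g1⟩
  by_cases hz4 : ∃ i, (z : Vec) i % 4 ≠ 0
  · obtain ⟨y, hy, hy1⟩ := even_step hzn hzd g0 hz4
    exact ⟨y, hstep.trans hy, hy1⟩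
  simp only [not_exists, not_not] at hz4
  obtain ⟨y, hy, hy1⟩ := hB z hzn hzd hz4 hzp
  exact ⟨y, hstep.trans hy, hy1⟩

/-- Transitivity up to sign. -/
theorem orth_conn {x y : leechLattice} (hx : sqNorm (x : Vec) = 32) (hy : sqNorm (y : Vec) = 32)
    (hdx : dotInt v0 (x : Vec) = 0) (hdy : dotInt v0 (y : Vec) = 0) : SConn x y := by
  obtain ⟨x', hx', ox⟩ := to_odd hx hdx
  obtain ⟨y', hy', oy⟩ := to_odd hy hdy
  exact hx'.trans ((odd_normal (hx'.norm.trans hx) (hy'.norm.trans hy) (hx'.dot hdx) (hy'.dot hdy) ox oy).trans hy'.symm)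

theorem exists_to_vB (v : leechLattice) (hv : sqNorm (v : Vec) = 32) : ∃ g : Co0, g • v = vB := by
  obtain ⟨g, w, h1, h2⟩ := (orbit_32 v.2 hv).trans (orbit_32 v0_mem v0_norm).symm
  obtain rfl : w = v := Subtype.ext h1
  exact ⟨g, Subtype.ext h2⟩

end Cfsg.Agent.Spor.Leech
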