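import Cfsg.Agent.Lib.Spor.Leech.Frame
import Cfsg.Agent.Lib.Spor.Leech.Monomial
import Cfsg.Agent.Lib.Spor.SimpleOfStab
import Cfsg.Agent.S1576
import Cfsg.Prelude.Def_Sporadic

/-!
The automorphism group of the lattice modulo its centre acts faithfully and primitively on the pairs of opposite
vectors of norm 32; simplicity follows from that of a stabiliser.
-/

set_option autoImplicit false
set_option maxRecDepth 100000

namespace Cfsg.Agent.Spor.Leech.OnePairs

open Cfsg
open scoped Pointwise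

/-- Pairs of opposite vectors of norm 32. -/
def Pair : Type := {s : Set leechLattice // ∃ v : leechLattice, sqNorm (v : Vec) = 32 ∧ s = {v, -v}}

theorem neg_norm (v : leechLattice) : sqNorm ((-v : leechLattice) : Vec) = sqNorm (v : Vec) :=
  Finset.sum_congr rfl fun i _ => by simp [AddSubgroup.coe_neg]

theorem dot_neg (u v : leechLattice) : dotInt (u : Vec) ((-v : leechLattice) : Vec) = -dotInt (u : Vec) (v : Vec) := by
  simp [dotInt, AddSubgroup.coe_neg, Finset.sum_neg_distrib]

noncomputable instance : MulAction Co0 Pair where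
  smul g s := ⟨g • s.1, by
    obtain ⟨v, hv, e⟩ := s.2
    exact ⟨g • v, (co_norm g v).trans hv, by rw [e, Set.smul_set_insert, Set.smul_set_singleton, co_neg]⟩⟩
  one_smul s := Subtype.ext (one_smul Co0 s.1)
  mul_smul g h s := Subtype.ext (mul_smul g h s.1)

/-- The pair of a vector. -/
def pair (v : leechLattice) (hv : sqNorm (v : Vec) = 32) : Pair := ⟨{v, -v}, v, hv, rfl⟩

theorem smul_pair (g : Co0) (v : leechLattice) (hv : sqNorm (v : Vec) = 32) :
    g • pair v hv = pair (g • v) ((co_norm g v).trans hv) := by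
  refine Subtype.ext ?_
  show g • ({v, -v} : Set leechLattice) = _
  rw [Set.smul_set_insert, Set.smul_set_singleton, co_neg]
  rfl

theorem pair_eq {v w : leechLattice} {hv : sqNorm (v : Vec) = 32} {hw : sqNorm (w : Vec) = 32}
    (h : pair v hv = pair w hw) : v = w ∨ v = -w := by
  have : v ∈ ({w, -w} : Set leechLattice) := by
    have h' := congrArg Subtype.val h
    show v ∈ (pair w hw).1
    rw [← h']
    exact Set.mem_insert _ _
  simpa using this

theorem pair_neg (v : leechLattice) (hv : sqNorm (v : Vec) = 32) :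
    pair (-v) ((neg_norm v).trans hv) = pair v hv :=
  Subtype.ext (by show ({-v, - -v} : Set leechLattice) = {v, -v}; rw [neg_neg, Set.pair_comm])

theorem exists_pair (s : Pair) : ∃ (v : leechLattice) (hv : sqNorm (v : Vec) = 32), s = pair v hv := by
  obtain ⟨v, hv, e⟩ := s.2
  exact ⟨v, hv, Subtype.ext e⟩

theorem negCo_pair (s : Pair) : negCo • s = s := by
  obtain ⟨v, hv, rfl⟩ := exists_pair s
  rw [smul_pair]
  have e : negCo • v = -v := negCo_apply v
  exact (Subtype.ext (by show ({negCo • v, -(negCo • v)} : Set leechLattice) = {-v, - -v}; rw [e]) :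
    pair (negCo • v) _ = pair (-v) ((neg_norm v).trans hv)).trans (pair_neg v hv)

/-- The representation on pairs. -/
noncomputable def rep : Co0 →* Equiv.Perm Pair := MulAction.toPermHom Co0 Pair

theorem rep_apply (g : Co0) (s : Pair) : rep g s = g • s := rfl

theorem negCo_ker : negCo ∈ rep.ker := MonoidHom.mem_ker.2 (Equiv.ext fun s => negCo_pair s)

/-- A classification of a product of two short vectors. -/
theorem dot_cases {v w : leechLattice} (hv : sqNorm (v : Vec) = 32) (hw : sqNorm (w : Vec) = 32)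
    (h1 : w ≠ v) (h2 : w ≠ -v) : dotInt (v : Vec) (w : Vec) ∈ ({-16, -8, 0, 8, 16} : Finset ℤ) := by
  obtain ⟨k, hk⟩ := dot_dvd v.2 w.2
  have hne1 : (v : Vec) - (w : Vec) ≠ 0 := fun e => h1 (Subtype.ext (sub_eq_zero.1 e).symm)
  have hne2 : (v : Vec) + (w : Vec) ≠ 0 := fun e => h2 (Subtype.ext (by
    rw [AddSubgroup.coe_neg]; exact eq_neg_of_add_eq_zero_right e))
  have a := norm_ge (sub_mem v.2 w.2) hne1
  have b := norm_ge (add_mem v.2 w.2) hne2
  rw [sqNorm_sub, hv, hw] at a
  rw [norm_add, hv, hw] at b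
  rw [hk] at a b ⊢
  have h3 : -2 ≤ k := by omega
  have h4 : k ≤ 2 := by omega
  interval_cases k <;> decide

variable (bv : leechLattice) (hbv : sqNorm (bv : Vec) = 32)

/-- The class of pairs with product `±c` with the base vector. -/
def cls' (c : ℤ) : Set Pair :=
  {s | ∃ y, ∃ hy : y ∈ shellOne bv c, s = pair y hy.1}

include hbv in
theorem cover (s : Pair) : s = pair bv hbv ∨ ∃ c ∈ [(-16 : ℤ), -8, 0], s ∈ cls' bv c := by
  obtain ⟨w, hw, rfl⟩ := exists_pair s
  by_cases h1 : w = bv
  · subst h1; exact Or.inl rfl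
  by_cases h2 : w = -bv
  · subst h2; exact Or.inl (pair_neg bv hbv)
  right
  have h := dot_cases hbv hw h1 h2
  simp only [Finset.mem_insert, Finset.mem_singleton] at h
  have hn : ∀ c, dotInt (bv : Vec) (w : Vec) = -c → pair w hw ∈ cls' bv c := fun c hc =>
    ⟨-w, ⟨(neg_norm w).trans hw, by rw [dot_neg, hc, neg_neg]⟩, (pair_neg w hw).symm⟩
  rcases h with h | h | h | h | h
  · exact ⟨-16, by simp, w, ⟨hw, h⟩, rfl⟩
  · exact ⟨-8, by simp, w, ⟨hw, h⟩, rfl⟩
  · exact ⟨0, by simp, w, ⟨hw, h⟩, rfl⟩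
  · exact ⟨-8, by simp, hn _ (by rw [h]; norm_num)⟩
  · exact ⟨-16, by simp, hn _ (by rw [h]; norm_num)⟩

theorem cls_disjoint {c d : ℤ} (h : c ≠ d) (h' : c ≠ -d) : Disjoint (cls' bv c) (cls' bv d) := by
  rw [Set.disjoint_left]
  rintro s ⟨y, hy, rfl⟩ ⟨z, hz, e⟩
  rcases pair_eq e with rfl | rfl
  · exact h (hy.2.symm.trans hz.2)
  · have := hy.2
    rw [dot_neg, hz.2] at this
    exact h' this.symm

include hbv in
theorem base_notMem {c : ℤ} (h1 : c ≠ 32) (h2 : c ≠ -32) : pair bv hbv ∉ cls' bv c := by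
  rintro ⟨y, hy, e⟩
  have hd := hy.2
  rcases pair_eq e with h | h
  · rw [← h, dot_self, hbv] at hd; omega
  · rw [show y = -bv by rw [h, neg_neg], dot_neg, dot_self, hbv] at hd; omega

theorem cls_ncard {c : ℤ} (hc : c ≠ 0) {n : ℕ} (hn : (shellOne bv c).ncard = n) : (cls' bv c).ncard = n := by
  classical
  rw [← hn]
  refine (Set.ncard_congr (fun (y : leechLattice) (hy : y ∈ shellOne bv c) => pair y hy.1) (t := cls' bv c) (fun y hy => ⟨y, hy, rfl⟩) (fun y z hy hz e => ?_)
    (fun s hs => ?_)).symm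
  · rcases pair_eq e with h | h
    · exact h
    · exfalso
      have := hy.2
      rw [h, dot_neg, hz.2] at this
      omega
  · obtain ⟨y, hy, rfl⟩ := hs
    exact ⟨y, hy, rfl⟩

end Cfsg.Agent.Spor.Leech.OnePairs
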