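import Cfsg.Agent.Lib.Spor.Leech.CrossOrbits
import Cfsg.Agent.Lib.Spor.Leech.OnePairs

/-!
The stabiliser of the standard cross is a maximal subgroup.
-/

set_option autoImplicit false
set_option maxRecDepth 100000

namespace Cfsg.Agent.Spor.Leech.CrossMaximal

open Cfsg Golay CrossShapes CrossOrbits TwoPairs OnePairs
open scoped Pointwise symmDiff

theorem classify' {x : leechLattice} (hx : sqNorm (x : Vec) = 32) : IsTwo x ∨ IsOct x ∨ IsOdd x := classify hx

theorem exists_two {S : Finset GolayPt} (hS : S.card = 2) (N : Finset GolayPt) :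
    ∃ x : leechLattice, sqNorm (x : Vec) = 32 ∧ (x : Vec) = wv 0 4 S N := by
  obtain ⟨a, b, hab, rfl⟩ := Finset.card_eq_two.1 hS
  obtain ⟨σ, hσ, hσi⟩ := exists_perm [P, Q] [a, b] (by simp [P_ne_Q]) (by simp [hab]) (by simp) rfl
  obtain ⟨C, hC, hCi⟩ := exists_flip [a, b] (by simp [hab]) (by simp) N
  refine ⟨mono hσ hC • bV, (co_norm _ _).trans bV_norm, ?_⟩
  rw [smul_wv hσ hC bV_eq, Finset.smul_finset_insert, Finset.smul_finset_singleton,
    show σ • P = a from hσi 0 (by simp), show σ • Q = b from hσi 1 (by simp)]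
  refine wv_congr (Finset.ext fun i => ?_)
  simp only [Finset.smul_finset_empty, Finset.mem_inter, Finset.mem_symmDiff, Finset.mem_insert,
    Finset.mem_singleton, Finset.notMem_empty, false_and, false_or, not_false_eq_true, and_true]
  constructor <;> rintro ⟨h, rfl | rfl⟩
  · exact ⟨(hCi _ (by simp)).1 h, Or.inl rfl⟩
  · exact ⟨(hCi _ (by simp)).1 h, Or.inr rfl⟩
  · exact ⟨(hCi _ (by simp)).2 h, Or.inl rfl⟩
  · exact ⟨(hCi _ (by simp)).2 h, Or.inr rfl⟩

theorem octBase_norm : sqNorm (octBase : Vec) = 32 := by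
  show sqNorm (wv 0 2 (pts 5279) ∅) = 32
  decide +kernel

theorem oddBase_norm : sqNorm (oddBase : Vec) = 32 := by
  show sqNorm (wv 1 (-4) {P} ∅) = 32
  decide +kernel

theorem exists_oct {O : Finset GolayPt} (hO : O ∈ octads) :
    ∃ x : leechLattice, sqNorm (x : Vec) = 32 ∧ (x : Vec) = wv 0 2 O ∅ := by
  obtain ⟨g, hg, hgO⟩ := exists_smul_octA hO
  refine ⟨mono hg empty_code • octBase, (co_norm _ _).trans octBase_norm, ?_⟩
  rw [smul_wv hg empty_code (m := 0) (c := 2) (S := pts 5279) (N := ∅) rfl, Finset.smul_finset_empty,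
    symmDiff_self, Finset.bot_eq_empty]
  exact congrArg (fun O => wv 0 2 O ∅) hgO

theorem exists_odd (i : GolayPt) {N : Finset GolayPt} (hN : IsC N) :
    ∃ x : leechLattice, sqNorm (x : Vec) = 32 ∧ (x : Vec) = wv 1 (-4) {i} N := by
  obtain ⟨σ, hσ, hσi⟩ := exists_perm [P] [i] (by simp) (by simp) (by simp) rfl
  refine ⟨mono hσ hN • oddBase, (co_norm _ _).trans oddBase_norm, ?_⟩
  rw [smul_wv hσ hN (m := 1) (c := -4) (S := {P}) (N := ∅) rfl, Finset.smul_finset_empty,
    Finset.smul_finset_singleton, show σ • P = i from hσi 0 (by simp), ← Finset.bot_eq_empty, bot_symmDiff]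

theorem odd_parity {x : leechLattice} (h : IsOdd x) (i : GolayPt) : (x : Vec) i % 2 = 1 := by
  obtain ⟨j, N, -, hx⟩ := h
  rw [hx]
  simp only [wv, flip, Finset.mem_singleton]
  split_ifs <;> norm_num

theorem even_parity {x : leechLattice} (h : IsTwo x ∨ IsOct x) (i : GolayPt) : (2 : ℤ) ∣ (x : Vec) i := by
  rcases h with ⟨S, N, -, hx⟩ | ⟨S, N, -, -, hx⟩ <;> rw [hx] <;>
    by_cases h1 : i ∈ N <;> by_cases h2 : i ∈ S <;> simp [wv, flip, h1, h2]

theorem two_inj {S S' T T' : Finset GolayPt} (hT : T ⊆ S) (hT' : T' ⊆ S')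
    (e : wv 0 4 S T = wv 0 4 S' T') : S = S' ∧ T = T' := by
  have hi : ∀ i, (i ∈ S ↔ i ∈ S') ∧ (i ∈ T ↔ i ∈ T') := fun i => by
    have h := congrFun e i
    have a := @hT i
    have b := @hT' i
    by_cases h1 : i ∈ S <;> by_cases h2 : i ∈ T <;> by_cases h3 : i ∈ S' <;> by_cases h4 : i ∈ T' <;>
      simp [wv, flip, h1, h2, h3, h4] at h a b ⊢
  exact ⟨Finset.ext fun i => (hi i).1, Finset.ext fun i => (hi i).2⟩

theorem ncard_two : {x : leechLattice | IsTwo x}.ncard = 1104 := by
  classical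
  let F := ((Finset.univ : Finset GolayPt).powersetCard 2).sigma fun S => S.powerset
  have hF : F.card = 1104 := by
    rw [Finset.card_sigma, Finset.sum_congr rfl fun S hS => by
      rw [Finset.card_powerset, (Finset.mem_powersetCard.1 hS).2], Finset.sum_const, Finset.card_powersetCard,
      Finset.card_univ, Golay.card_golayPt]
    rfl
  have hinj : Set.InjOn (fun q : (_ : Finset GolayPt) × Finset GolayPt => wv 0 4 q.1 q.2) F := by
    rintro ⟨S, T⟩ hq ⟨S', T'⟩ hq' e
    simp only [F, Finset.mem_coe, Finset.mem_sigma, Finset.mem_powerset] at hq hq'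
    obtain ⟨rfl, rfl⟩ := two_inj hq.2 hq'.2 e
    rfl
  have e : Subtype.val '' {x : leechLattice | IsTwo x} = ↑(F.image fun q => wv 0 4 q.1 q.2) := by
    ext v
    simp only [Set.mem_image, Set.mem_setOf_eq, Finset.coe_image, Finset.mem_coe]
    constructor
    · rintro ⟨x, ⟨S, N, hS, hx⟩, rfl⟩
      exact ⟨⟨S, N ∩ S⟩, by simp [F, hS], (wv_congr (by simp [Finset.inter_assoc])).trans hx.symm⟩
    · rintro ⟨⟨S, T⟩, hq, rfl⟩
      simp only [F, Finset.mem_sigma, Finset.mem_powersetCard, Finset.mem_powerset] at hq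
      obtain ⟨x, -, hx⟩ := exists_two hq.1.2 T
      exact ⟨x, ⟨S, T, hq.1.2, hx⟩, hx⟩
  rw [← Set.ncard_image_of_injective _ Subtype.val_injective, e, Set.ncard_coe_finset,
    Finset.card_image_of_injOn hinj, hF]

theorem odd_inj {i j : GolayPt} {N M : Finset GolayPt} (e : wv 1 (-4) {i} N = wv 1 (-4) {j} M) : i = j ∧ N = M := by
  refine ⟨?_, Finset.ext fun k => ?_⟩
  · by_contra hne
    have h := congrFun e i
    simp only [wv, flip, Finset.mem_singleton, hne] at h
    split_ifs at h <;> omega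
  · have h := congrFun e k
    simp only [wv, flip, Finset.mem_singleton] at h
    by_cases h1 : k ∈ N <;> by_cases h2 : k ∈ M <;> simp only [h1, h2, if_true, if_false] at h ⊢ <;>
      split_ifs at h <;> omega

theorem ncard_odd : {x : leechLattice | IsOdd x}.ncard = 98304 := by
  classical
  choose f _ hf using fun q : GolayPt × supports (golayCode : Set (GolayPt → ZMod 2)) => exists_odd q.1 q.2.2
  have e : {x : leechLattice | IsOdd x} = Set.range f := by
    ext x
    constructor
    · rintro ⟨i, N, hN, hx⟩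
      exact ⟨(i, ⟨N, hN⟩), Subtype.ext ((hf _).trans hx.symm)⟩
    · rintro ⟨q, rfl⟩
      exact ⟨q.1, q.2.1, q.2.2, hf q⟩
  have hinj : Function.Injective f := fun q q' h => by
    obtain ⟨h1, h2⟩ := odd_inj ((hf q).symm.trans ((congrArg Subtype.val h).trans (hf q')))
    exact Prod.ext h1 (Subtype.ext h2)
  rw [e, Set.ncard_range_of_injective hinj, Nat.card_prod, card_supports, Nat.card_eq_fintype_card,
    Golay.card_golayPt]

theorem ncard_shell : {x : leechLattice | sqNorm (x : Vec) = 32}.ncard = 196560 := by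
  rw [← Set.ncard_image_of_injective _ Subtype.val_injective, ← ncard_32]
  congr 1
  ext v
  exact ⟨fun ⟨x, hx, e⟩ => e ▸ ⟨x.2, hx⟩, fun ⟨h, hn⟩ => ⟨⟨v, h⟩, hn, rfl⟩⟩

/-- A vector whose products with all even short vectors are divisible by 16 is a member of the standard cross. -/
theorem mem_stdL_of_dot {u : leechLattice} (hu : sqNorm (u : Vec) = 64)
    (h : ∀ x : leechLattice, sqNorm (x : Vec) = 32 → (IsTwo x ∨ IsOct x) → (16 : ℤ) ∣ dotInt (u : Vec) (x : Vec)) :
    u ∈ stdL := by
  classical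
  have hpair : ∀ a b, a ≠ b → (4 : ℤ) ∣ (u : Vec) a + (u : Vec) b := fun a b hab => by
    obtain ⟨x, hn, hx⟩ := exists_two (S := {a, b}) (by rw [Finset.card_pair hab]) ∅
    have hd := h x hn (Or.inl ⟨_, _, Finset.card_pair hab, hx⟩)
    have e : ∀ i, (u : Vec) i * wv 0 4 {a, b} ∅ i = if i ∈ ({a, b} : Finset GolayPt) then 4 * (u : Vec) i else 0 :=
      fun i => by by_cases h : i ∈ ({a, b} : Finset GolayPt) <;> simp [wv, flip, h, mul_comm]
    simp only [hx, dotInt, e, Finset.sum_ite_mem, Finset.univ_inter, Finset.sum_pair hab] at hd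
    omega
  have hmem : ∀ i, ∃ a b : GolayPt, a ≠ i ∧ b ≠ i ∧ a ≠ b := by decide +kernel
  have h4 : ∀ i, (4 : ℤ) ∣ (u : Vec) i := by
    by_contra hne
    obtain ⟨i0, hi0⟩ := not_forall.1 hne
    have hmod : ∀ i, (u : Vec) i % 4 = 2 := by
      have key : ∀ i, (u : Vec) i % 2 = 0 := fun i => by
        obtain ⟨a, b, ha, hb, hab⟩ := hmem i
        have := hpair a i ha
        have := hpair b i hb
        have := hpair a b hab
        omega
      intro i
      have h2 := key i0
      rcases eq_or_ne i i0 with rfl | hne'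
      · omega
      · have := hpair i i0 hne'
        omega
    have : (24 * 4 : ℤ) ≤ sqNorm (u : Vec) := by
      have hle : ∀ i ∈ (Finset.univ : Finset GolayPt), (4 : ℤ) ≤ (u : Vec) i ^ 2 := fun i _ => by
        have := hmod i
        rcases (show (u : Vec) i ≥ 2 ∨ (u : Vec) i ≤ -2 by omega) with hs | hs <;> nlinarith
      simpa [sqNorm] using Finset.sum_le_sum hle
    omega
  choose b hb using h4
  have hnorm : ∑ i, b i * b i = 4 := by
    have e : sqNorm (u : Vec) = 16 * ∑ i, b i * b i := by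
      rw [Finset.mul_sum, sqNorm]; exact Finset.sum_congr rfl fun i _ => by rw [hb i]; ring
    omega
  by_cases hbig : ∃ i, b i = 2 ∨ b i = -2
  · obtain ⟨i, hi⟩ := hbig
    have hz : ∀ j, j ≠ i → b j = 0 := fun j hj => by
      have h2 : b i * b i + b j * b j ≤ 4 := by
        have := Finset.sum_le_sum_of_subset_of_nonneg (f := fun k => b k * b k) (Finset.subset_univ {i, j})
          fun k _ _ => mul_self_nonneg (b k)
        rw [Finset.sum_pair hj.symm, hnorm] at this
        exact this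
      rcases hi with h | h <;> rw [h] at h2 <;> exact mul_self_eq_zero.1 (le_antisymm (by omega) (mul_self_nonneg _))
    refine mem_stdL.2 ⟨i, hi.imp (fun h => Subtype.ext (funext fun j => ?_)) fun h => Subtype.ext (funext fun j => ?_)⟩ <;>
      rcases eq_or_ne j i with rfl | hj <;> simp [hb, axis_val, h] <;> simp [hz j hj, Pi.single_eq_of_ne hj]
  · exfalso
    simp only [not_exists, not_or] at hbig
    have hval : ∀ i, b i = 0 ∨ b i = 1 ∨ b i = -1 := fun i => by
      have h := Finset.single_le_sum (fun j _ => mul_self_nonneg (b j)) (Finset.mem_univ i)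
      rw [hnorm] at h
      have := hbig i
      have h1 : -2 ≤ b i := by nlinarith
      have h2 : b i ≤ 2 := by nlinarith
      omega
    set S := Finset.univ.filter fun i => b i ≠ 0 with hS
    have hcard : S.card = 4 := by
      have : (S.card : ℤ) = 4 := by
        rw [← hnorm, Finset.card_filter, Nat.cast_sum]
        refine Finset.sum_congr rfl fun i _ => ?_
        rcases hval i with h | h | h <;> rw [h] <;> rfl
      exact_mod_cast this
    let φ : (GolayPt → ZMod 2) →ₗ[ZMod 2] ZMod 2 := ∑ i ∈ S, LinearMap.proj i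
    have hφ : ∀ w, φ w = ∑ i ∈ S, w i := fun w => by simp [φ]
    have hker : ∀ o ∈ octList, vec o ∈ LinearMap.ker φ := fun o ho => by
      obtain ⟨x, hn, hx⟩ := exists_oct (mem_octads.2 ⟨o, ho, rfl⟩)
      have hd := h x hn (Or.inr ⟨_, _, mem_octads.2 ⟨o, ho, rfl⟩, by simp, hx⟩)
      have e : ∀ i, (u : Vec) i * wv 0 2 (pts o) ∅ i = if i ∈ pts o then 8 * b i else 0 := fun i => by
        by_cases h : i ∈ pts o <;> simp [wv, flip, h, hb i] <;> ring
      simp only [hx, dotInt, e, Finset.sum_ite_mem, Finset.univ_inter, ← Finset.mul_sum] at hd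
      have h2 : (2 : ℤ) ∣ ∑ i ∈ pts o, b i := by omega
      rw [LinearMap.mem_ker, hφ]
      have h3 : ((∑ i ∈ pts o, b i : ℤ) : ZMod 2) = 0 := (ZMod.intCast_zmod_eq_zero_iff_dvd _ 2).2 h2
      rw [← h3, Int.cast_sum, ← Finset.sum_filter_ne_zero (s := pts o)]
      simp only [vec]
      rw [← Finset.sum_filter]
      refine Finset.sum_congr (Finset.ext fun i => ?_) fun i hi => ?_
      · simp only [Finset.mem_filter, hS, Finset.mem_univ, true_and, mem_pts]
        rcases hval i with h | h | h <;> simp [h]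
      · simp only [Finset.mem_filter] at hi
        rcases hval i with h | h | h
        · simp [h] at hi
        · simp [h]
        · rw [h]; decide
    obtain ⟨a, ha⟩ : S.Nonempty := Finset.card_pos.1 (by omega)
    obtain ⟨C, hC, hCi⟩ := exists_flip S.toList (Finset.nodup_toList S) (by rw [Finset.length_toList]; omega) {a}
    obtain ⟨m, hm, rfl⟩ := Golay.mem_supports.1 hC
    have h1 := mem_codeList.1 hm
    have h2 : vec m ∈ LinearMap.ker φ := by
      rw [← beq_iff_eq.1 h1]
      exact encAux_mem _ _ basis (fun b hb => hker b (basis_octad b hb)) 0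
    rw [LinearMap.mem_ker, hφ, Finset.sum_eq_single a] at h2
    · have : a ∈ pts m := (hCi a (Finset.mem_toList.2 ha)).2 (Finset.mem_singleton_self a)
      rw [mem_pts] at this
      simp [vec, this] at h2
    · intro i hi hia
      have : i ∉ pts m := fun h => hia (Finset.mem_singleton.1 ((hCi i (Finset.mem_toList.2 hi)).1 h))
      rw [mem_pts] at this
      simp [vec, this]
    · exact fun h => absurd ha h

theorem orbit_two : MulAction.orbit ↥crossStab bV = {x | IsTwo x} := by
  refine orbit_eq ⟨{P, Q}, ∅, Finset.card_pair P_ne_Q, bV_eq⟩ ?_ fun z hz => ?_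
  · rintro g hg z ⟨S, N, hS, hz⟩
    obtain ⟨σ, hσ, C, hC, rfl⟩ := exists_mono hg
    exact ⟨_, _, by rw [Finset.card_smul_finset, hS], smul_wv hσ hC hz⟩
  · obtain ⟨g, hg, e⟩ := move_two hz
    exact ⟨g⁻¹, inv_mem hg, by rw [← e, inv_smul_smul]⟩

theorem card_fix : Nat.card ↥(crossStab ⊓ MulAction.stabilizer Co0 bV) = 908328960 := by
  have h := StabSimple.card_eq crossStab bV 1104 _ (by rw [orbit_two, ncard_two]) rfl
  rw [card_crossStab] at h
  omega

theorem fix_le {g : Co0} (h1 : g • bV = bV) (h2 : g • pair nX nX_norm = pair nX nX_norm) : g ∈ crossStab := by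
  rw [smul_pair] at h2
  have key : g • axis P = axis P ∨ g • axis P = axis Q := by
    rcases pair_eq h2 with h | h
    · left; rw [← bV_add_nX, co_add, h1, h]
    · right; rw [← bV_add_nX, co_add, h1, h, ← sub_eq_add_neg, bV_sub_nX]
  rw [crossStab, MulAction.mem_stabilizer_iff, ← crossOf_axis P, smul_crossOf]
  rcases key with h | h <;> rw [h]
  rw [crossOf_axis, crossOf_axis]

theorem fix_ge {g : Co0} (hg : g ∈ crossStab) (h1 : g • bV = bV) : g • pair nX nX_norm = pair nX nX_norm := by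
  rw [smul_pair]
  have hmem : g • axis P ∈ stdL := (MulAction.mem_stabilizer_iff.1 hg) ▸ Set.smul_mem_smul_set (mem_stdL.2 ⟨P, Or.inl rfl⟩)
  have hd : dotInt (bV : Vec) ((g • axis P : leechLattice) : Vec) = 32 := by
    rw [dot_move g bV (axis P) h1, dot_bV, axis_val]
    simp [Pi.single_eq_of_ne P_ne_Q.symm]
  obtain ⟨i, hi⟩ := mem_stdL.1 hmem
  have hval : g • axis P = axis P ∨ g • axis P = axis Q := by
    rcases hi with hi | hi <;> rw [hi, dot_bV] at hd <;>
      simp only [AddSubgroup.coe_neg, Pi.neg_apply, axis_val, Pi.single_apply] at hd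
    · by_cases hP : P = i
      · subst hP; exact Or.inl hi
      · by_cases hQ : Q = i
        · subst hQ; exact Or.inr hi
        · simp [hP, hQ] at hd
    · split_ifs at hd <;> omega
  have e : g • nX = g • axis P - bV := by
    rw [← bV_add_nX, co_add, h1, add_sub_cancel_left]
  rcases hval with h | h
  · have : g • nX = nX := by rw [e, h, ← bV_add_nX, add_sub_cancel_left]
    exact Subtype.ext (by simp [pair, this])
  · have : g • nX = -nX := by rw [e, h, ← bV_sub_nX, sub_sub_cancel_left]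
    exact (Subtype.ext (by simp [pair, this]) :
      pair (g • nX) _ = pair (-nX) ((neg_norm nX).trans nX_norm)).trans (pair_neg nX nX_norm)

theorem stab_point :
    MulAction.stabilizer ↥(MulAction.stabilizer Co0 bV) (pair nX nX_norm) =
      crossStab.subgroupOf (MulAction.stabilizer Co0 bV) := by
  ext g
  rw [MulAction.mem_stabilizer_iff, Subgroup.mem_subgroupOf, Subgroup.smul_def]
  exact ⟨fix_le g.2, fun h => fix_ge h g.2⟩

theorem ncard_orbit_pair :
    (MulAction.orbit ↥(MulAction.stabilizer Co0 bV) (pair nX nX_norm)).ncard = 46575 := by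
  have h1 : Nat.card ↥(crossStab.subgroupOf (MulAction.stabilizer Co0 bV)) = 908328960 := by
    rw [← Subgroup.inf_subgroupOf_right, Nat.card_congr (Subgroup.subgroupOfEquivOfLe inf_le_right).toEquiv, card_fix]
  have h2 := Subgroup.card_mul_index (MulAction.stabilizer ↥(MulAction.stabilizer Co0 bV) (pair nX nX_norm))
  rw [MulAction.index_stabilizer, stab_point, h1, TwoSimple.facts.2] at h2
  omega

/-- The pairs with a representative in a class. -/
def OS (K : leechLattice → Prop) : Set Pair := {s | ∃ x hx, K x ∧ s = pair x hx}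

theorem ncard_pairs_le (F : Finset Vec) (O : Set Pair)
    (h : ∀ s ∈ O, ∃ x hx, s = pair x hx ∧ (x : Vec) ∈ F) : O.Finite ∧ O.ncard ≤ F.card := by
  classical
  let D := {x : leechLattice // sqNorm (x : Vec) = 32 ∧ (x : Vec) ∈ F}
  let f : D → F := fun x => ⟨_, x.2.2⟩
  have hf : Function.Injective f := fun x y e => by
    have h' : ((x.1 : leechLattice) : Vec) = (y.1 : Vec) := congrArg (fun z : F => (z : Vec)) e
    exact Subtype.ext (Subtype.ext h')
  have : Finite D := Finite.of_injective f hf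
  let k : D → Pair := fun x => pair x.1 x.2.1
  have hsub : O ⊆ Set.range k := fun s hs => by
    obtain ⟨x, hx, rfl, hF⟩ := h s hs
    exact ⟨⟨x, hx, hF⟩, rfl⟩
  refine ⟨(Set.finite_range k).subset hsub, ?_⟩
  calc O.ncard ≤ (Set.range k).ncard := Set.ncard_le_ncard hsub (Set.finite_range k)
    _ = (k '' Set.univ).ncard := by rw [Set.image_univ]
    _ ≤ (Set.univ : Set D).ncard := Set.ncard_image_le Set.finite_univ
    _ ≤ Nat.card F := by rw [Set.ncard_univ]; exact Nat.card_le_card_of_injective f hf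
    _ = F.card := by rw [Nat.card_eq_fintype_card, Fintype.card_coe]

/-- A chosen member of a set of points. -/
noncomputable def some' (S : Finset GolayPt) : GolayPt := Classical.epsilon fun a => a ∈ S

theorem some_mem {S : Finset GolayPt} (h : S.Nonempty) : some' S ∈ S := Classical.epsilon_spec h

theorem wv_neg {c : ℤ} (S N : Finset GolayPt) : -(wv 0 c S N) = wv 0 c S (N ∆ S) := by
  funext i
  by_cases h1 : i ∈ S <;> by_cases h2 : i ∈ N <;> simp [wv, flip, h1, h2, Finset.mem_symmDiff]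

/-- One of two opposite vectors has a negative set avoiding the chosen point. -/
theorem pick_sign {c : ℤ} {S N : Finset GolayPt} (x : leechLattice) (hn : sqNorm (x : Vec) = 32)
    (hx : (x : Vec) = wv 0 c S N) :
    ∃ y hy T, T ⊆ S.erase (some' S) ∧ pair x hn = pair y hy ∧ (y : Vec) = wv 0 c S T ∧
      (T = N ∩ S ∨ T = (N ∆ S) ∩ S) := by
  by_cases h : some' S ∈ N
  · refine ⟨-x, (neg_norm x).trans hn, (N ∆ S) ∩ S, fun i hi => ?_, (pair_neg x hn).symm, ?_, Or.inr rfl⟩
    · simp only [Finset.mem_inter, Finset.mem_symmDiff, Finset.mem_erase] at hi ⊢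
      refine ⟨fun e => ?_, hi.2⟩
      subst e
      tauto
    · rw [AddSubgroup.coe_neg, hx, wv_neg]
      exact wv_congr (by simp [Finset.inter_assoc])
  · refine ⟨x, hn, N ∩ S, fun i hi => ?_, rfl, hx.trans (wv_congr (by simp [Finset.inter_assoc])), Or.inl rfl⟩
    simp only [Finset.mem_inter, Finset.mem_erase] at hi ⊢
    exact ⟨fun e => h (e ▸ hi.1), hi.2⟩

theorem card_parity {O : Finset GolayPt} {n : ℕ} (hO : O.card = n) (r : ℕ) :
    (O.powerset.filter fun T => T.card % 2 = r).card =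
      ∑ k ∈ (Finset.range (n + 1)).filter (fun k => k % 2 = r), n.choose k := by
  have e : O.powerset.filter (fun T => T.card % 2 = r) =
      ((Finset.range (n + 1)).filter fun k => k % 2 = r).biUnion fun k => O.powersetCard k := by
    ext T
    simp only [Finset.mem_filter, Finset.mem_powerset, Finset.mem_biUnion, Finset.mem_powersetCard, Finset.mem_range]
    refine ⟨fun ⟨hT, he⟩ => ⟨T.card, ⟨?_, he⟩, hT, rfl⟩, fun ⟨k, ⟨_, hk⟩, hT, e⟩ => ⟨hT, e ▸ hk⟩⟩
    have := Finset.card_le_card hT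
    omega
  rw [e, Finset.card_biUnion fun a _ b _ hab => Finset.pairwise_disjoint_powersetCard O hab]
  simp [hO]

theorem bound_A : (OS ClA).Finite ∧ (OS ClA).ncard ≤ 462 := by
  classical
  let I := (((Finset.univ : Finset GolayPt).erase P).erase Q).powersetCard 2
  let F := (I.sigma fun S => (S.erase (some' S)).powerset).image fun q => wv 0 4 q.1 q.2
  obtain ⟨hfin, hle⟩ := ncard_pairs_le F (OS ClA) (by
    rintro _ ⟨x, hn, ⟨S, N, hS, hP, hQ, hx⟩, rfl⟩
    obtain ⟨y, hy, T, hT, e, hyv, -⟩ := pick_sign x hn hx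
    refine ⟨y, hy, e, Finset.mem_image.2 ⟨⟨S, T⟩, Finset.mem_sigma.2 ⟨?_, Finset.mem_powerset.2 hT⟩, hyv.symm⟩⟩
    simp only [I, Finset.mem_powersetCard, hS, and_true]
    exact fun i hi => Finset.mem_erase.2 ⟨fun e => hQ (e ▸ hi), Finset.mem_erase.2 ⟨fun e => hP (e ▸ hi), Finset.mem_univ i⟩⟩)
  refine ⟨hfin, hle.trans (Finset.card_image_le.trans (le_of_eq ?_))⟩
  rw [Finset.card_sigma, Finset.sum_congr rfl fun S hS => show _ = 2 by
    have h2 : S.card = 2 := (Finset.mem_powersetCard.1 hS).2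
    rw [Finset.card_powerset, Finset.card_erase_of_mem (some_mem (Finset.card_pos.1 (by omega))), h2]; rfl,
    Finset.sum_const, Finset.card_powersetCard, Finset.card_erase_of_mem, Finset.card_erase_of_mem (Finset.mem_univ P),
    Finset.card_univ, Golay.card_golayPt]
  · rfl
  · exact Finset.mem_erase.2 ⟨P_ne_Q.symm, Finset.mem_univ Q⟩

theorem tree_octads {e : ℕ × ℕ × ℕ} (he : e ∈ avoidTree) : (pts e.1).card = 8 := by
  obtain ⟨k, hk, rfl⟩ := List.getElem_of_mem he
  obtain ⟨σ, -, -, -, h⟩ := tree_reach hk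
  rw [List.getD_eq_getElem _ _ hk] at h
  rw [← h, Finset.card_smul_finset, card_pts]
  decide +kernel

attribute [local irreducible] avoidTree in
theorem bound_B : (OS ClB).Finite ∧ (OS ClB).ncard ≤ 21120 := by
  classical
  let I := (avoidTree.map fun e => pts e.1).toFinset
  let F := (I.sigma fun O => (O.erase (some' O)).powerset.filter fun T => T.card % 2 = 0).image fun q => wv 0 2 q.1 q.2
  obtain ⟨hfin, hle⟩ := ncard_pairs_le F (OS ClB) (by
    rintro _ ⟨x, hn, ⟨O, N, hO, he, hP, hQ, hx⟩, rfl⟩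
    obtain ⟨y, hy, T, hT, e, hyv, hTe⟩ := pick_sign x hn hx
    refine ⟨y, hy, e, Finset.mem_image.2 ⟨⟨O, T⟩, Finset.mem_sigma.2 ⟨avoid_count hO hP hQ,
      Finset.mem_filter.2 ⟨Finset.mem_powerset.2 hT, ?_⟩⟩, hyv.symm⟩⟩
    rw [Nat.even_iff] at he
    rcases hTe with rfl | rfl
    · exact he
    · have e2 : (N ∆ O) ∩ O = O \ N := by
        ext i; simp only [Finset.mem_inter, Finset.mem_symmDiff, Finset.mem_sdiff]; tauto
      have h3 := Finset.card_sdiff_add_card_inter O N
      rw [octad_card hO, Finset.inter_comm] at h3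
      rw [e2]
      show (O \ N).card % 2 = 0
      omega)
  refine ⟨hfin, hle.trans (Finset.card_image_le.trans ?_)⟩
  rw [Finset.card_sigma, Finset.sum_congr rfl fun O hO => show _ = 64 by
    obtain ⟨e, he, rfl⟩ := List.mem_map.1 (List.mem_toFinset.1 hO)
    have h8 := tree_octads he
    rw [card_parity (n := 7) (by rw [Finset.card_erase_of_mem (some_mem (Finset.card_pos.1 (by omega))), h8])]
    decide, Finset.sum_const, smul_eq_mul]
  have : I.card ≤ 330 := (List.toFinset_card_le _).trans (by rw [List.length_map]; decide +kernel)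
  omega

/-- Octads through both points. -/
theorem through_length : (octList.filter fun o => o.testBit 0 && o.testBit 23).length = 77 := by decide +kernel

theorem bound_C : (OS ClC).Finite ∧ (OS ClC).ncard ≤ 2464 := by
  classical
  let I := ((octList.filter fun o => o.testBit 0 && o.testBit 23).map pts).toFinset
  let F := (I.sigma fun O => ((O.erase P).erase Q).powerset.filter fun T => T.card % 2 = 1).image
    fun q => wv 0 2 q.1 (insert Q q.2)
  obtain ⟨hfin, hle⟩ := ncard_pairs_le F (OS ClC) (by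
    rintro _ ⟨x, hn, ⟨O, N, hO, he, hP, hQ, hPN, hQN, hx⟩, rfl⟩
    refine ⟨x, hn, rfl, Finset.mem_image.2 ⟨⟨O, (N ∩ O).erase Q⟩, Finset.mem_sigma.2 ⟨?_,
      Finset.mem_filter.2 ⟨Finset.mem_powerset.2 ?_, ?_⟩⟩, ?_⟩⟩
    · obtain ⟨o, ho, rfl⟩ := mem_octads.1 hO
      rw [mem_pts, P, idx_pt (by norm_num)] at hP
      rw [mem_pts, Q, idx_pt (by norm_num)] at hQ
      exact List.mem_toFinset.2 (List.mem_map.2 ⟨o, List.mem_filter.2 ⟨ho, by rw [hP, hQ]; rfl⟩, rfl⟩)
    · intro i hi
      simp only [Finset.mem_erase, Finset.mem_inter] at hi ⊢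
      exact ⟨hi.1, fun e => hPN (e ▸ hi.2.1), hi.2.2⟩
    · have hQm : Q ∈ N ∩ O := Finset.mem_inter.2 ⟨hQN, hQ⟩
      have := Finset.card_pos.2 ⟨Q, hQm⟩
      rw [Nat.even_iff] at he
      show ((N ∩ O).erase Q).card % 2 = 1
      rw [Finset.card_erase_of_mem hQm]
      omega
    · show wv 0 2 O (insert Q ((N ∩ O).erase Q)) = (x : Vec)
      rw [hx, Finset.insert_erase (Finset.mem_inter.2 ⟨hQN, hQ⟩)]
      exact wv_congr (by simp [Finset.inter_assoc]))
  refine ⟨hfin, hle.trans (Finset.card_image_le.trans ?_)⟩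
  rw [Finset.card_sigma, Finset.sum_congr rfl fun O hO => show _ = 32 by
    obtain ⟨o, ho, rfl⟩ := List.mem_map.1 (List.mem_toFinset.1 hO)
    rw [List.mem_filter, Bool.and_eq_true] at ho
    have hP : P ∈ pts o := by rw [mem_pts, P, idx_pt (by norm_num)]; exact ho.2.1
    have hQ : Q ∈ pts o := by rw [mem_pts, Q, idx_pt (by norm_num)]; exact ho.2.2
    rw [card_parity (n := 6) (by rw [Finset.card_erase_of_mem (Finset.mem_erase.2 ⟨P_ne_Q.symm, hQ⟩),
      Finset.card_erase_of_mem hP, card_pts, (mem_weightList.1 ho.1).2])]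
    decide, Finset.sum_const, smul_eq_mul]
  have : I.card ≤ 77 := (List.toFinset_card_le _).trans (by rw [List.length_map, through_length])
  omega

theorem half_codes : (codeList.filter fun m => !m.testBit 0 && m.testBit 23).length = 1024 := by decide +kernel

theorem bound_D : (OS ClD).Finite ∧ (OS ClD).ncard ≤ 22528 := by
  classical
  let L := ((codeList.filter fun m => !m.testBit 0 && m.testBit 23).map pts).toFinset
  let F := ((((Finset.univ : Finset GolayPt).erase P).erase Q) ×ˢ L).image fun q => wv 1 (-4) {q.1} q.2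
  obtain ⟨hfin, hle⟩ := ncard_pairs_le F (OS ClD) (by
    rintro _ ⟨x, hn, ⟨i, N, hN, hiP, hiQ, hPN, hQN, hx⟩, rfl⟩
    refine ⟨x, hn, rfl, Finset.mem_image.2 ⟨(i, N), Finset.mem_product.2 ⟨by simp [hiP, hiQ], ?_⟩, hx.symm⟩⟩
    obtain ⟨m, hm, rfl⟩ := mem_supports.1 hN
    rw [mem_pts, P, idx_pt (by norm_num)] at hPN
    rw [mem_pts, Q, idx_pt (by norm_num)] at hQN
    exact List.mem_toFinset.2 (List.mem_map.2 ⟨m, List.mem_filter.2 ⟨hm, by simp [hPN, hQN]⟩, rfl⟩))
  refine ⟨hfin, hle.trans (Finset.card_image_le.trans ?_)⟩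
  rw [Finset.card_product, Finset.card_erase_of_mem, Finset.card_erase_of_mem (Finset.mem_univ P), Finset.card_univ,
    Golay.card_golayPt]
  · have : L.card ≤ 1024 := (List.toFinset_card_le _).trans (by rw [List.length_map, half_codes])
    omega
  · exact Finset.mem_erase.2 ⟨P_ne_Q.symm, Finset.mem_univ Q⟩

theorem orth_cases {x : leechLattice} (hn : sqNorm (x : Vec) = 32) (hb : dotInt (bV : Vec) (x : Vec) = 0)
    (h0 : 0 ≤ dotInt (nX : Vec) (x : Vec)) (h32 : dotInt (nX : Vec) (x : Vec) ≠ 32) :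
    ClA x ∨ ClB x ∨ ClC x ∨ ClD x := by
  rw [dot_bV] at hb
  rw [dot_nX] at h0 h32
  have hsum : (x : Vec) P + (x : Vec) Q = 0 := by omega
  rcases classify' hn with ⟨S, N, hS, hx⟩ | ⟨O, N, hO, he, hx⟩ | ⟨i, N, hN, hx⟩ <;>
    rw [hx] at hsum h0 h32
  · refine Or.inl ⟨S, N, hS, ?_, ?_, hx⟩ <;> intro h <;>
      by_cases h2 : P ∈ S <;> by_cases h3 : Q ∈ S <;> by_cases h4 : P ∈ N <;> by_cases h5 : Q ∈ N <;>
        simp [wv, flip, h2, h3, h4, h5] at hsum h0 h32 h
  · by_cases h2 : P ∈ O <;> by_cases h3 : Q ∈ O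
    · refine Or.inr (Or.inr (Or.inl ⟨O, N, hO, he, h2, h3, ?_, ?_, hx⟩)) <;>
        by_cases h4 : P ∈ N <;> by_cases h5 : Q ∈ N <;> simp [wv, flip, h2, h3, h4, h5] at hsum h0 ⊢
    · exfalso; by_cases h4 : P ∈ N <;> simp [wv, flip, h2, h3, h4] at hsum
    · exfalso; by_cases h5 : Q ∈ N <;> simp [wv, flip, h2, h3, h5] at hsum
    · exact Or.inr (Or.inl ⟨O, N, hO, he, h2, h3, hx⟩)
  · have hiP : i ≠ P := fun e => by
      subst e
      simp only [wv, flip, Finset.mem_singleton, P_ne_Q.symm, if_true, if_false] at hsum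
      split_ifs at hsum <;> omega
    have hiQ : i ≠ Q := fun e => by
      subst e
      simp only [wv, flip, Finset.mem_singleton, P_ne_Q, if_true, if_false] at hsum
      split_ifs at hsum <;> omega
    refine Or.inr (Or.inr (Or.inr ⟨i, N, hN, hiP, hiQ, ?_, ?_, hx⟩)) <;>
      by_cases h4 : P ∈ N <;> by_cases h5 : Q ∈ N <;>
        simp [wv, flip, h4, h5, hiP.symm, hiQ.symm] at hsum h0 ⊢

theorem orbit_sub : ∀ s ∈ MulAction.orbit ↥(MulAction.stabilizer Co0 bV) (pair nX nX_norm),
    s = pair nX nX_norm ∨ s ∈ OS ClA ∨ s ∈ OS ClB ∨ s ∈ OS ClC ∨ s ∈ OS ClD := by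
  rintro _ ⟨g, rfl⟩
  refine or_iff_not_imp_left.2 fun hne => ?_
  obtain ⟨x, hx, e, h0, hb⟩ : ∃ x hx, g • pair nX nX_norm = pair x hx ∧ 0 ≤ dotInt (nX : Vec) (x : Vec) ∧
      dotInt (bV : Vec) (x : Vec) = 0 := by
    have hb : dotInt (bV : Vec) ((g.1 • nX : leechLattice) : Vec) = 0 := by
      rw [dot_move g.1 bV nX g.2, dot_bV]; decide +kernel
    rcases le_or_gt 0 (dotInt (nX : Vec) ((g.1 • nX : leechLattice) : Vec)) with h | h
    · exact ⟨g.1 • nX, (co_norm _ _).trans nX_norm, smul_pair g.1 nX nX_norm, h, hb⟩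
    · refine ⟨-(g.1 • nX), (neg_norm _).trans ((co_norm _ _).trans nX_norm),
        (smul_pair g.1 nX nX_norm).trans (pair_neg _ _).symm, ?_, ?_⟩
      · rw [OnePairs.dot_neg]; omega
      · rw [OnePairs.dot_neg, hb, neg_zero]
  have h32 : dotInt (nX : Vec) (x : Vec) ≠ 32 := fun h => hne (by
    show g • pair nX nX_norm = _
    rw [e]
    exact Subtype.ext (by simp [pair, eq_of_dot_32 nX_norm hx h]))
  rcases orth_cases hx hb h0 h32 with h | h | h | h
  · exact Or.inl ⟨x, hx, h, e⟩
  · exact Or.inr (Or.inl ⟨x, hx, h, e⟩)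
  · exact Or.inr (Or.inr (Or.inl ⟨x, hx, h, e⟩))
  · exact Or.inr (Or.inr (Or.inr ⟨x, hx, h, e⟩))

theorem os_disjoint {K K' : leechLattice → Prop} (f : leechLattice → Prop) (hneg : ∀ x, f (-x) ↔ f x)
    (h : ∀ x, K x → f x) (h' : ∀ x, K' x → ¬f x) : Disjoint (OS K) (OS K') := by
  rw [Set.disjoint_left]
  rintro s ⟨x, hx, hK, rfl⟩ ⟨y, hy, hK', e⟩
  rcases pair_eq e with h0 | h0 <;> subst h0
  · exact h' _ hK' (h _ hK)
  · exact h' _ hK' ((hneg y).1 (h _ hK))

theorem small_absvals {c : ℤ} (hc : 0 ≤ c) {S N : Finset GolayPt} (i : GolayPt) :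
    |wv 0 c S N i| = if i ∈ S then c else 0 := by
  by_cases h1 : i ∈ S <;> by_cases h2 : i ∈ N <;> simp [wv, flip, h1, h2, abs_of_nonneg hc]

theorem dot_C {x : leechLattice} (h : ClC x) : dotInt (nX : Vec) (x : Vec) = 16 := by
  obtain ⟨O, N, -, -, h1, h2, h3, h4, hx⟩ := h
  rw [dot_nX, hx]; simp [wv, flip, h1, h2, h3, h4]

theorem dot_D {x : leechLattice} (h : ClD x) : dotInt (nX : Vec) (x : Vec) = 8 := by
  obtain ⟨i, N, -, h1, h2, h3, h4, hx⟩ := h
  rw [dot_nX, hx]; simp [wv, flip, h3, h4, Ne.symm h1, Ne.symm h2]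

theorem dot_A {x : leechLattice} (h : ClA x) : dotInt (nX : Vec) (x : Vec) = 0 := by
  obtain ⟨S, N, -, h1, h2, hx⟩ := h
  rw [dot_nX, hx]; simp [wv, flip, h1, h2]

theorem dot_B {x : leechLattice} (h : ClB x) : dotInt (nX : Vec) (x : Vec) = 0 := by
  obtain ⟨S, N, -, -, h1, h2, hx⟩ := h
  rw [dot_nX, hx]; simp [wv, flip, h1, h2]

theorem classes_disjoint : [OS ClA, OS ClB, OS ClC, OS ClD].Pairwise Disjoint := by
  have hneg : ∀ (k : ℤ) (x : leechLattice),
      |dotInt (nX : Vec) ((-x : leechLattice) : Vec)| = k ↔ |dotInt (nX : Vec) (x : Vec)| = k := fun k x => by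
    rw [OnePairs.dot_neg, abs_neg]
  have hD : ∀ {K K' : leechLattice → Prop} (a b : ℤ), |a| ≠ |b| → (∀ x, K x → dotInt (nX : Vec) (x : Vec) = a) →
      (∀ x, K' x → dotInt (nX : Vec) (x : Vec) = b) → Disjoint (OS K) (OS K') := fun a b hab h h' =>
    os_disjoint (fun x => |dotInt (nX : Vec) (x : Vec)| = |a|) (hneg _) (fun x hx => by rw [h x hx])
      fun x hx => by rw [h' x hx]; exact hab.symm
  simp only [List.pairwise_cons, List.mem_cons, List.not_mem_nil, or_false, forall_eq_or_imp, forall_eq,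
    List.Pairwise.nil, and_true, false_implies, implies_true]
  refine ⟨⟨?_, ?_, ?_⟩, ⟨?_, ?_⟩, ?_⟩
  · refine os_disjoint (fun x => ∀ i, |(x : Vec) i| ≠ 2) (fun x => ?_) ?_ ?_
    · simp [AddSubgroup.coe_neg]
    · rintro x ⟨S, N, -, -, -, hx⟩ i
      rw [hx, small_absvals (by norm_num)]; split_ifs <;> norm_num
    · rintro x ⟨O, N, hO, -, -, -, hx⟩ hall
      obtain ⟨i, hi⟩ : O.Nonempty := Finset.card_pos.1 (by rw [octad_card hO]; norm_num)
      refine hall i ?_
      rw [hx, small_absvals (by norm_num), if_pos hi]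
  · exact hD 0 16 (by norm_num) (fun x => dot_A) (fun x => dot_C)
  · exact hD 0 8 (by norm_num) (fun x => dot_A) (fun x => dot_D)
  · exact hD 0 16 (by norm_num) (fun x => dot_B) (fun x => dot_C)
  · exact hD 0 8 (by norm_num) (fun x => dot_B) (fun x => dot_D)
  · exact hD 16 8 (by norm_num) (fun x => dot_C) (fun x => dot_D)

theorem point_notMem {K : leechLattice → Prop} (h : ∀ x, K x → |dotInt (nX : Vec) (x : Vec)| ≠ 32) :
    pair nX nX_norm ∉ OS K := by
  rintro ⟨x, hx, hK, e⟩
  refine h x hK ?_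
  rcases pair_eq e with h0 | h0
  · rw [← h0, dot_self, nX_norm]; rfl
  · rw [show x = -nX by rw [h0, neg_neg], OnePairs.dot_neg, dot_self, nX_norm]; rfl

/-- The stabiliser of the standard vector acts primitively on the pairs orthogonal to it. -/
theorem prim (K : Subgroup ↥(MulAction.stabilizer Co0 bV))
    (hK : crossStab.subgroupOf (MulAction.stabilizer Co0 bV) ≤ K) :
    K = crossStab.subgroupOf (MulAction.stabilizer Co0 bV) ∨ K = ⊤ := by
  classical
  set Ω := MulAction.orbit ↥(MulAction.stabilizer Co0 bV) (pair nX nX_norm) with hΩ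
  obtain ⟨fA, nA⟩ := bound_A
  obtain ⟨fB, nB⟩ := bound_B
  obtain ⟨fC, nC⟩ := bound_C
  obtain ⟨fD, nD⟩ := bound_D
  set U : Set Pair := insert (pair nX nX_norm) (OS ClA ∪ OS ClB ∪ OS ClC ∪ OS ClD) with hU
  have hUfin : U.Finite := ((((fA.union fB).union fC).union fD)).insert _
  have hsub : Ω ⊆ U := fun s hs => by
    rcases orbit_sub s hs with h | h | h | h | h
    · exact Set.mem_insert_iff.2 (Or.inl h)
    all_goals refine Set.mem_insert_of_mem _ ?_
    · exact Or.inl (Or.inl (Or.inl h))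
    · exact Or.inl (Or.inl (Or.inr h))
    · exact Or.inl (Or.inr h)
    · exact Or.inr h
  have hUle : U.ncard ≤ (OS ClA).ncard + (OS ClB).ncard + (OS ClC).ncard + (OS ClD).ncard + 1 := by
    refine (Set.ncard_insert_le _ _).trans (Nat.add_le_add_right ?_ 1)
    have := Set.ncard_union_le (OS ClA ∪ OS ClB ∪ OS ClC) (OS ClD)
    have := Set.ncard_union_le (OS ClA ∪ OS ClB) (OS ClC)
    have := Set.ncard_union_le (OS ClA) (OS ClB)
    omega
  have hn : Ω.ncard = 46575 := ncard_orbit_pair
  have hge := Set.ncard_le_ncard hsub hUfin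
  rw [hn] at hge
  have heq : Ω = U := Set.eq_of_subset_of_ncard_le hsub (by omega) hUfin
  have : Finite Ω := (hUfin.subset hsub).to_subtype
  let a : Ω := ⟨pair nX nX_norm, MulAction.mem_orbit_self _⟩
  have hstab : MulAction.stabilizer ↥(MulAction.stabilizer Co0 bV) a = crossStab.subgroupOf (MulAction.stabilizer Co0 bV) := by
    rw [← stab_point]
    ext g
    simp only [MulAction.mem_stabilizer_iff]
    exact ⟨fun h => congrArg Subtype.val h, fun h => Subtype.ext h⟩
  have hnc : ∀ C, OS C ⊆ Ω → (Subtype.val ⁻¹' OS C : Set Ω).ncard = (OS C).ncard := fun C hC =>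
    Set.ncard_preimage_of_injective_subset_range Subtype.val_injective (by rwa [Subtype.range_coe])
  have hinv : ∀ {C}, Trans C → ∀ x ∈ (Subtype.val ⁻¹' OS C : Set Ω), ∀ y ∈ (Subtype.val ⁻¹' OS C : Set Ω),
      ∃ g ∈ MulAction.stabilizer ↥(MulAction.stabilizer Co0 bV) a, g • x = y := by
    rintro C hT ⟨_, _⟩ ⟨u, hu, hCu, rfl⟩ ⟨_, _⟩ ⟨w, hw, hCw, rfl⟩
    obtain ⟨g, g1, g2, g3⟩ := hT u w hCu hCw
    refine ⟨⟨g, g1⟩, Subtype.ext ?_, Subtype.ext ?_⟩
    · show g • pair nX nX_norm = _
      rw [smul_pair]; exact Subtype.ext (by simp [a, pair, g2])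
    · show g • pair u hu = pair w hw
      rw [smul_pair]; exact Subtype.ext (by simp [pair, g3])
  have cA : OS ClA ⊆ Ω := fun s h => by rw [heq]; exact Or.inr (Or.inl (Or.inl (Or.inl h)))
  have cB : OS ClB ⊆ Ω := fun s h => by rw [heq]; exact Or.inr (Or.inl (Or.inl (Or.inr h)))
  have cC : OS ClC ⊆ Ω := fun s h => by rw [heq]; exact Or.inr (Or.inl (Or.inr h))
  have cD : OS ClD ⊆ Ω := fun s h => by rw [heq]; exact Or.inr (Or.inr h)
  have hcard : Nat.card Ω = 46575 := (Nat.card_coe_set_eq Ω).trans hn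
  rw [← hstab] at hK ⊢
  refine SimpleOfStab.primitive_of_suborbits a
    [Subtype.val ⁻¹' OS ClA, Subtype.val ⁻¹' OS ClB, Subtype.val ⁻¹' OS ClC, Subtype.val ⁻¹' OS ClD] ?_ ?_ ?_ ?_ ?_ K hK
  · exact List.Pairwise.map (l := [OS ClA, OS ClB, OS ClC, OS ClD]) (fun s => (Subtype.val ⁻¹' s : Set Ω))
      (fun s t h => h.preimage _) classes_disjoint
  · intro O hO
    simp only [List.mem_cons, List.not_mem_nil, or_false] at hO
    rcases hO with rfl | rfl | rfl | rfl
    · exact hinv trans_A
    · exact hinv trans_B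
    · exact hinv trans_C
    · exact hinv trans_D
  · rintro ⟨s, hs⟩
    rcases orbit_sub s hs with h | h | h | h | h
    · exact Or.inl (Subtype.ext h)
    all_goals right
    · exact ⟨_, List.mem_cons_self, h⟩
    · exact ⟨_, List.mem_cons_of_mem _ List.mem_cons_self, h⟩
    · exact ⟨_, List.mem_cons_of_mem _ (List.mem_cons_of_mem _ List.mem_cons_self), h⟩
    · exact ⟨_, List.mem_cons_of_mem _ (List.mem_cons_of_mem _ (List.mem_cons_of_mem _ List.mem_cons_self)), h⟩
  · intro O hO
    simp only [List.mem_cons, List.not_mem_nil, or_false] at hO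
    rcases hO with rfl | rfl | rfl | rfl
    · exact point_notMem fun x hx => by rw [dot_A hx]; norm_num
    · exact point_notMem fun x hx => by rw [dot_B hx]; norm_num
    · exact point_notMem fun x hx => by rw [dot_C hx]; norm_num
    · exact point_notMem fun x hx => by rw [dot_D hx]; norm_num
  · rw [show (OS ClA).ncard + (OS ClB).ncard + (OS ClC).ncard + (OS ClD).ncard + 1 =
      (OS ClA).ncard + (OS ClB).ncard + (OS ClC).ncard + (OS ClD).ncard + 1 from rfl] at hUle
    simp only [List.map_cons, List.map_nil, hnc _ cA, hnc _ cB, hnc _ cC, hnc _ cD, hcard]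
    rw [show (OS ClA).ncard = 462 by omega, show (OS ClB).ncard = 21120 by omega,
      show (OS ClC).ncard = 2464 by omega, show (OS ClD).ncard = 22528 by omega]
    decide +kernel

theorem maximal (M : Subgroup Co0) (hM : crossStab ≤ M) : M = crossStab ∨ M = ⊤ := by
  classical
  set T := MulAction.orbit ↥M bV
  have hTn : ∀ z ∈ T, sqNorm (z : Vec) = 32 := by
    rintro _ ⟨g, rfl⟩; exact (co_norm g.1 bV).trans bV_norm
  have hcl : ∀ {x y : leechLattice} {b : leechLattice}, x ∈ T → (∃ g ∈ crossStab, g • x = b) →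
      (∃ g ∈ crossStab, g • y = b) → y ∈ T := by
    rintro x y b ⟨m, rfl⟩ ⟨g, hg, e1⟩ ⟨k, hk, e2⟩
    refine ⟨⟨k⁻¹ * g * m.1, M.mul_mem (M.mul_mem (M.inv_mem (hM hk)) (hM hg)) m.2⟩, ?_⟩
    show (k⁻¹ * g * m.1) • bV = y
    rw [mul_smul, mul_smul, inv_smul_eq_iff, e2]
    exact e1
  have hbV : bV ∈ T := MulAction.mem_orbit_self _
  have htwo : {x | IsTwo x} ⊆ T := fun y hy =>
    hcl hbV ⟨1, one_mem _, one_smul _ _⟩ (move_two hy)
  rcases prim ((M ⊓ MulAction.stabilizer Co0 bV).subgroupOf (MulAction.stabilizer Co0 bV))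
    (fun g hg => ⟨hM hg, g.2⟩) with hp | hp
  · -- the stabiliser in M is small
    left
    have hsame : M ⊓ MulAction.stabilizer Co0 bV = crossStab ⊓ MulAction.stabilizer Co0 bV := by
      refine le_antisymm (fun g hg => ⟨?_, hg.2⟩) (inf_le_inf_right _ hM)
      have : (⟨g, hg.2⟩ : MulAction.stabilizer Co0 bV) ∈ (crossStab.subgroupOf (MulAction.stabilizer Co0 bV)) :=
        hp ▸ hg
      exact this
    have hcardM := StabSimple.card_eq M bV T.ncard 908328960 rfl (by rw [hsame, card_fix])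
    have hdvd := Subgroup.card_dvd_of_le hM
    rw [hcardM, card_crossStab] at hdvd
    have h1104 : 1104 ∣ T.ncard := by
      rw [show 4096 * 244823040 = 1104 * 908328960 by norm_num] at hdvd
      exact Nat.dvd_of_mul_dvd_mul_right (by norm_num : 0 < 908328960) hdvd
    have hfinShell := finite_shell
    have hfin : T.Finite := hfinShell.subset hTn
    have hMfin : Nat.card ↥M ≠ 0 := by
      rw [hcardM]
      exact Nat.mul_ne_zero ((Set.ncard_pos hfin).2 ⟨bV, hbV⟩).ne' (by norm_num)
    by_cases hodd : ∃ z ∈ T, IsOdd z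
    · exfalso
      obtain ⟨z, hz, hzo⟩ := hodd
      have hsubO : {x | IsOdd x} ⊆ T := fun y hy => hcl hz (move_odd hzo) (move_odd hy)
      by_cases hoct : ∃ z ∈ T, IsOct z
      · obtain ⟨w, hw, hwo⟩ := hoct
        have : T = {x : leechLattice | sqNorm (x : Vec) = 32} := by
          refine Set.Subset.antisymm hTn fun y hy => ?_
          rcases classify' hy with h | h | h
          · exact htwo h
          · exact hcl hw (move_oct hwo) (move_oct h)
          · exact hsubO h
        rw [this, ncard_shell] at h1104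
        omega
      · have hT : T = {x | IsTwo x} ∪ {x | IsOdd x} := by
          refine Set.Subset.antisymm (fun y hy => ?_) (Set.union_subset htwo hsubO)
          rcases classify' (hTn y hy) with h | h | h
          · exact Or.inl h
          · exact absurd ⟨y, hy, h⟩ hoct
          · exact Or.inr h
        have hdis : Disjoint {x : leechLattice | IsTwo x} {x | IsOdd x} := Set.disjoint_left.2 fun y h h' => by
          have := odd_parity h' P
          have := even_parity (Or.inl h) P
          omega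
        rw [hT, Set.ncard_union_eq hdis (hfin.subset htwo) (hfin.subset hsubO), ncard_two, ncard_odd] at h1104
        omega
    · by_cases hoct : ∃ z ∈ T, IsOct z
      · obtain ⟨w, hw, hwo⟩ := hoct
        refine le_antisymm (fun g hg => mem_crossStab.2 fun v hv => ?_) hM
        have hsub : ∀ y : leechLattice, IsTwo y ∨ IsOct y → y ∈ T := fun y hy =>
          hy.elim (fun h => htwo h) fun h => hcl hw (move_oct hwo) (move_oct h)
        show g • v ∈ stdL
        refine mem_stdL_of_dot ?_ fun x hx he => ?_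
        · rw [co_norm]
          obtain ⟨i, rfl | rfl⟩ := mem_stdL.1 (show v ∈ stdL from hv) <;> simp [axis_norm, norm_neg]
        · have hy : g⁻¹ • x ∈ T := by
            obtain ⟨m, hm⟩ := hsub x he
            refine ⟨⟨g⁻¹ * m.1, M.mul_mem (M.inv_mem hg) m.2⟩, ?_⟩
            show (g⁻¹ * m.1) • bV = _
            rw [mul_smul]
            exact congrArg (g⁻¹ • ·) hm
          have hev : IsTwo (g⁻¹ • x) ∨ IsOct (g⁻¹ • x) := by
            rcases classify' (hTn _ hy) with h | h | h
            · exact Or.inl h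
            · exact Or.inr h
            · exact absurd ⟨_, hy, h⟩ hodd
          have e : dotInt ((g • v : leechLattice) : Vec) (x : Vec) = dotInt (v : Vec) ((g⁻¹ • x : leechLattice) : Vec) := by
            conv_lhs => rw [← smul_inv_smul g x]
            exact co_dot g v _
          rw [e]
          obtain ⟨i, rfl | rfl⟩ := mem_stdL.1 (show v ∈ stdL from hv) <;>
            simp only [AddSubgroup.coe_neg, axis_val, dotInt, Pi.neg_apply, Pi.single_apply, neg_mul, ite_mul,
              zero_mul, Finset.sum_neg_distrib, Finset.sum_ite_eq', Finset.mem_univ, if_true]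
          · obtain ⟨k, hk⟩ := even_parity hev i; exact ⟨k, by rw [hk]; ring⟩
          · obtain ⟨k, hk⟩ := even_parity hev i; exact ⟨-k, by rw [hk]; ring⟩
      · have hT : T = {x | IsTwo x} := by
          refine Set.Subset.antisymm (fun y hy => ?_) htwo
          rcases classify' (hTn y hy) with h | h | h
          · exact h
          · exact absurd ⟨y, hy, h⟩ hoct
          · exact absurd ⟨y, hy, h⟩ hodd
        rw [hT, ncard_two] at hcardM
        have : Finite ↥M := Nat.finite_of_card_ne_zero hMfin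
        refine (Subgroup.eq_of_le_of_card_ge hM ?_).symm
        rw [hcardM, card_crossStab]
  · right
    have hstab : MulAction.stabilizer Co0 bV ≤ M := fun g hg => by
      have h : (⟨g, hg⟩ : MulAction.stabilizer Co0 bV) ∈
          (M ⊓ MulAction.stabilizer Co0 bV).subgroupOf (MulAction.stabilizer Co0 bV) := by
        rw [hp]; exact Subgroup.mem_top _
      exact (Subgroup.mem_subgroupOf.1 h).1
    obtain ⟨-, htr⟩ := partners16 bV_norm
    have hshell : ∀ {w w' : leechLattice}, w ∈ T → w ∈ shellOne bV (-16) → w' ∈ shellOne bV (-16) → w' ∈ T := by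
      rintro w w' ⟨m, rfl⟩ hw hw'
      obtain ⟨g, g1, g2⟩ := htr _ hw w' hw'
      refine ⟨⟨g * m.1, M.mul_mem (hstab g1) m.2⟩, ?_⟩
      show (g * m.1) • bV = w'
      rw [mul_smul]; exact g2
    obtain ⟨w1, n1, e1⟩ := exists_two (S := {P, pt 1}) (by decide +kernel) {P}
    obtain ⟨C, hC, hCi⟩ := exists_flip [P, Q] (by simp [P_ne_Q]) (by simp) {Q}
    obtain ⟨w2, n2, e2⟩ := exists_odd P hC
    have hC1 : P ∉ C := fun h => P_ne_Q (Finset.mem_singleton.1 ((hCi P (by simp)).1 h))
    have hC2 : Q ∈ C := (hCi Q (by simp)).2 (Finset.mem_singleton_self Q)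
    have hwmem : inL (wv 0 2 (pts 13062145) {P, Q}) = true := by decide +kernel
    let w3 : leechLattice := ⟨_, mem_of_inL hwmem⟩
    have s1 : w1 ∈ shellOne bV (-16) := ⟨n1, by rw [dot_bV, e1]; decide +kernel⟩
    have s2 : w2 ∈ shellOne bV (-16) := ⟨n2, by rw [dot_bV, e2]; simp [wv, flip, hC1, hC2, P_ne_Q.symm]⟩
    have s3 : w3 ∈ shellOne bV (-16) := ⟨by show sqNorm (wv 0 2 (pts 13062145) {P, Q}) = 32; decide +kernel, by
      show dotInt (bV : Vec) (wv 0 2 (pts 13062145) {P, Q}) = -16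
      decide +kernel⟩
    have t1 : w1 ∈ T := htwo ⟨_, _, by decide +kernel, e1⟩
    have t2 := hshell t1 s1 s2
    have t3 := hshell t1 s1 s3
    have h3 : IsOct w3 := ⟨pts 13062145, {P, Q}, mem_octads.2 ⟨_, mem_weightList.2 ⟨mem_codeList.2 (by decide +kernel),
      by decide +kernel⟩, rfl⟩, by decide +kernel, rfl⟩
    refine eq_top_iff.2 fun g _ => ?_
    have hg : g • bV ∈ T := by
      rcases classify' ((co_norm g bV).trans bV_norm) with h | h | h
      · exact htwo h
      · exact hcl t3 (move_oct h3) (move_oct h)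
      · exact hcl t2 (move_odd ⟨P, C, hC, e2⟩) (move_odd h)
    obtain ⟨m, hm⟩ := hg
    have hmem : m.1⁻¹ * g ∈ MulAction.stabilizer Co0 bV := by
      rw [MulAction.mem_stabilizer_iff, mul_smul, inv_smul_eq_iff]
      exact hm.symm
    simpa using M.mul_mem m.2 (hstab hmem)

theorem crossStab_ne_top : crossStab ≠ ⊤ := fun h => by
  have := card_Co0
  rw [← Nat.card_congr Subgroup.topEquiv.toEquiv, ← h, card_crossStab] at this
  norm_num at this

theorem isCoatom : IsCoatom crossStab :=
  ⟨crossStab_ne_top, fun M hM => (maximal M hM.le).resolve_left hM.ne'⟩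

end Cfsg.Agent.Spor.Leech.CrossMaximal
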