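import Cfsg.Agent.Lib.Spor.Leech.CertT47104Data

/-! Blocks of the certificate for 47104 short vectors. -/

set_option autoImplicit false
set_option maxRecDepth 100000
set_option maxHeartbeats 1000000

namespace Cfsg.Agent.Spor.Leech

theorem co2t_range46 : chkRange co2tC 605575095584661629984560680234662416 46 = true := by decide +kernel

theorem co2t_range47 : chkRange co2tC 605575095584661629984560680234662416 47 = true := by decide +kernel

theorem co2t_range48 : chkRange co2tC 605575095584661629984560680234662416 48 = true := by decide +kernel

theorem co2t_range49 : chkRange co2tC 605575095584661629984560680234662416 49 = true := by decide +kernel

theorem co2t_range50 : chkRange co2tC 605575095584661629984560680234662416 50 = true := by decide +kernel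

theorem co2t_range51 : chkRange co2tC 605575095584661629984560680234662416 51 = true := by decide +kernel

theorem co2t_range52 : chkRange co2tC 605575095584661629984560680234662416 52 = true := by decide +kernel

theorem co2t_range53 : chkRange co2tC 605575095584661629984560680234662416 53 = true := by decide +kernel

theorem co2t_range54 : chkRange co2tC 605575095584661629984560680234662416 54 = true := by decide +kernel

theorem co2t_range55 : chkRange co2tC 605575095584661629984560680234662416 55 = true := by decide +kernel

theorem co2t_range56 : chkRange co2tC 605575095584661629984560680234662416 56 = true := by decide +kernel

theorem co2t_range57 : chkRange co2tC 605575095584661629984560680234662416 57 = true := by decide +kernel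

theorem co2t_range58 : chkRange co2tC 605575095584661629984560680234662416 58 = true := by decide +kernel

theorem co2t_range59 : chkRange co2tC 605575095584661629984560680234662416 59 = true := by decide +kernel

theorem co2t_range60 : chkRange co2tC 605575095584661629984560680234662416 60 = true := by decide +kernel

theorem co2t_range61 : chkRange co2tC 605575095584661629984560680234662416 61 = true := by decide +kernel

theorem co2t_range62 : chkRange co2tC 605575095584661629984560680234662416 62 = true := by decide +kernel

theorem co2t_range63 : chkRange co2tC 605575095584661629984560680234662416 63 = true := by decide +kernel

theorem co2t_range64 : chkRange co2tC 605575095584661629984560680234662416 64 = true := by decide +kernel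

theorem co2t_range65 : chkRange co2tC 605575095584661629984560680234662416 65 = true := by decide +kernel

theorem co2t_range66 : chkRange co2tC 605575095584661629984560680234662416 66 = true := by decide +kernel

theorem co2t_range67 : chkRange co2tC 605575095584661629984560680234662416 67 = true := by decide +kernel

theorem co2t_range68 : chkRange co2tC 605575095584661629984560680234662416 68 = true := by decide +kernel

theorem co2t_range69 : chkRange co2tC 605575095584661629984560680234662416 69 = true := by decide +kernel

theorem co2t_range70 : chkRange co2tC 605575095584661629984560680234662416 70 = true := by decide +kernel

theorem co2t_range71 : chkRange co2tC 605575095584661629984560680234662416 71 = true := by decide +kernel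

theorem co2t_range72 : chkRange co2tC 605575095584661629984560680234662416 72 = true := by decide +kernel

theorem co2t_range73 : chkRange co2tC 605575095584661629984560680234662416 73 = true := by decide +kernel

theorem co2t_range74 : chkRange co2tC 605575095584661629984560680234662416 74 = true := by decide +kernel

theorem co2t_range75 : chkRange co2tC 605575095584661629984560680234662416 75 = true := by decide +kernel

theorem co2t_range76 : chkRange co2tC 605575095584661629984560680234662416 76 = true := by decide +kernel

theorem co2t_range77 : chkRange co2tC 605575095584661629984560680234662416 77 = true := by decide +kernel

theorem co2t_range78 : chkRange co2tC 605575095584661629984560680234662416 78 = true := by decide +kernel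

theorem co2t_range79 : chkRange co2tC 605575095584661629984560680234662416 79 = true := by decide +kernel

theorem co2t_range80 : chkRange co2tC 605575095584661629984560680234662416 80 = true := by decide +kernel

theorem co2t_range81 : chkRange co2tC 605575095584661629984560680234662416 81 = true := by decide +kernel

theorem co2t_range82 : chkRange co2tC 605575095584661629984560680234662416 82 = true := by decide +kernel

theorem co2t_range83 : chkRange co2tC 605575095584661629984560680234662416 83 = true := by decide +kernel

theorem co2t_range84 : chkRange co2tC 605575095584661629984560680234662416 84 = true := by decide +kernel

theorem co2t_range85 : chkRange co2tC 605575095584661629984560680234662416 85 = true := by decide +kernel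

theorem co2t_range86 : chkRange co2tC 605575095584661629984560680234662416 86 = true := by decide +kernel

theorem co2t_range87 : chkRange co2tC 605575095584661629984560680234662416 87 = true := by decide +kernel

theorem co2t_range88 : chkRange co2tC 605575095584661629984560680234662416 88 = true := by decide +kernel

theorem co2t_range89 : chkRange co2tC 605575095584661629984560680234662416 89 = true := by decide +kernel

theorem co2t_range90 : chkRange co2tC 605575095584661629984560680234662416 90 = true := by decide +kernel

theorem co2t_range91 : chkRange co2tC 605575095584661629984560680234662416 91 = true := by decide +kernel

end Cfsg.Agent.Spor.Leech
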