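import Cfsg.Agent.Lib.Spor.Leech.CertT47104Data

/-! Blocks of the certificate for 47104 short vectors. -/

set_option autoImplicit false
set_option maxRecDepth 100000
set_option maxHeartbeats 1000000

namespace Cfsg.Agent.Spor.Leech

theorem co2t_range92 : chkRange co2tC 605575095584661629984560680234662416 92 = true := by decide +kernel

theorem co2t_range93 : chkRange co2tC 605575095584661629984560680234662416 93 = true := by decide +kernel

theorem co2t_range94 : chkRange co2tC 605575095584661629984560680234662416 94 = true := by decide +kernel

theorem co2t_range95 : chkRange co2tC 605575095584661629984560680234662416 95 = true := by decide +kernel

theorem co2t_range96 : chkRange co2tC 605575095584661629984560680234662416 96 = true := by decide +kernel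

theorem co2t_range97 : chkRange co2tC 605575095584661629984560680234662416 97 = true := by decide +kernel

theorem co2t_range98 : chkRange co2tC 605575095584661629984560680234662416 98 = true := by decide +kernel

theorem co2t_range99 : chkRange co2tC 605575095584661629984560680234662416 99 = true := by decide +kernel

theorem co2t_range100 : chkRange co2tC 605575095584661629984560680234662416 100 = true := by decide +kernel

theorem co2t_range101 : chkRange co2tC 605575095584661629984560680234662416 101 = true := by decide +kernel

theorem co2t_range102 : chkRange co2tC 605575095584661629984560680234662416 102 = true := by decide +kernel

theorem co2t_range103 : chkRange co2tC 605575095584661629984560680234662416 103 = true := by decide +kernel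

theorem co2t_range104 : chkRange co2tC 605575095584661629984560680234662416 104 = true := by decide +kernel

theorem co2t_range105 : chkRange co2tC 605575095584661629984560680234662416 105 = true := by decide +kernel

theorem co2t_range106 : chkRange co2tC 605575095584661629984560680234662416 106 = true := by decide +kernel

theorem co2t_range107 : chkRange co2tC 605575095584661629984560680234662416 107 = true := by decide +kernel

theorem co2t_range108 : chkRange co2tC 605575095584661629984560680234662416 108 = true := by decide +kernel

theorem co2t_range109 : chkRange co2tC 605575095584661629984560680234662416 109 = true := by decide +kernel

theorem co2t_range110 : chkRange co2tC 605575095584661629984560680234662416 110 = true := by decide +kernel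

theorem co2t_range111 : chkRange co2tC 605575095584661629984560680234662416 111 = true := by decide +kernel

theorem co2t_range112 : chkRange co2tC 605575095584661629984560680234662416 112 = true := by decide +kernel

theorem co2t_range113 : chkRange co2tC 605575095584661629984560680234662416 113 = true := by decide +kernel

theorem co2t_range114 : chkRange co2tC 605575095584661629984560680234662416 114 = true := by decide +kernel

theorem co2t_range115 : chkRange co2tC 605575095584661629984560680234662416 115 = true := by decide +kernel

theorem co2t_range116 : chkRange co2tC 605575095584661629984560680234662416 116 = true := by decide +kernel

theorem co2t_range117 : chkRange co2tC 605575095584661629984560680234662416 117 = true := by decide +kernel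

theorem co2t_range118 : chkRange co2tC 605575095584661629984560680234662416 118 = true := by decide +kernel

theorem co2t_range119 : chkRange co2tC 605575095584661629984560680234662416 119 = true := by decide +kernel

theorem co2t_range120 : chkRange co2tC 605575095584661629984560680234662416 120 = true := by decide +kernel

theorem co2t_range121 : chkRange co2tC 605575095584661629984560680234662416 121 = true := by decide +kernel

theorem co2t_range122 : chkRange co2tC 605575095584661629984560680234662416 122 = true := by decide +kernel

theorem co2t_range123 : chkRange co2tC 605575095584661629984560680234662416 123 = true := by decide +kernel

theorem co2t_range124 : chkRange co2tC 605575095584661629984560680234662416 124 = true := by decide +kernel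

theorem co2t_range125 : chkRange co2tC 605575095584661629984560680234662416 125 = true := by decide +kernel

theorem co2t_range126 : chkRange co2tC 605575095584661629984560680234662416 126 = true := by decide +kernel

theorem co2t_range127 : chkRange co2tC 605575095584661629984560680234662416 127 = true := by decide +kernel

theorem co2t_range128 : chkRange co2tC 605575095584661629984560680234662416 128 = true := by decide +kernel

theorem co2t_range129 : chkRange co2tC 605575095584661629984560680234662416 129 = true := by decide +kernel

theorem co2t_range130 : chkRange co2tC 605575095584661629984560680234662416 130 = true := by decide +kernel

theorem co2t_range131 : chkRange co2tC 605575095584661629984560680234662416 131 = true := by decide +kernel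

theorem co2t_range132 : chkRange co2tC 605575095584661629984560680234662416 132 = true := by decide +kernel

theorem co2t_range133 : chkRange co2tC 605575095584661629984560680234662416 133 = true := by decide +kernel

theorem co2t_range134 : chkRange co2tC 605575095584661629984560680234662416 134 = true := by decide +kernel

theorem co2t_range135 : chkRange co2tC 605575095584661629984560680234662416 135 = true := by decide +kernel

theorem co2t_range136 : chkRange co2tC 605575095584661629984560680234662416 136 = true := by decide +kernel

theorem co2t_range137 : chkRange co2tC 605575095584661629984560680234662416 137 = true := by decide +kernel

end Cfsg.Agent.Spor.Leech
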