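import Cfsg.Agent.Lib.Spor.Leech.CertT47104Data

/-! Blocks of the certificate for 47104 short vectors. -/

set_option autoImplicit false
set_option maxRecDepth 100000
set_option maxHeartbeats 1000000

namespace Cfsg.Agent.Spor.Leech

theorem co2t_range138 : chkRange co2tC 605575095584661629984560680234662416 138 = true := by decide +kernel

theorem co2t_range139 : chkRange co2tC 605575095584661629984560680234662416 139 = true := by decide +kernel

theorem co2t_range140 : chkRange co2tC 605575095584661629984560680234662416 140 = true := by decide +kernel

theorem co2t_range141 : chkRange co2tC 605575095584661629984560680234662416 141 = true := by decide +kernel

theorem co2t_range142 : chkRange co2tC 605575095584661629984560680234662416 142 = true := by decide +kernel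

theorem co2t_range143 : chkRange co2tC 605575095584661629984560680234662416 143 = true := by decide +kernel

theorem co2t_range144 : chkRange co2tC 605575095584661629984560680234662416 144 = true := by decide +kernel

theorem co2t_range145 : chkRange co2tC 605575095584661629984560680234662416 145 = true := by decide +kernel

theorem co2t_range146 : chkRange co2tC 605575095584661629984560680234662416 146 = true := by decide +kernel

theorem co2t_range147 : chkRange co2tC 605575095584661629984560680234662416 147 = true := by decide +kernel

theorem co2t_range148 : chkRange co2tC 605575095584661629984560680234662416 148 = true := by decide +kernel

theorem co2t_range149 : chkRange co2tC 605575095584661629984560680234662416 149 = true := by decide +kernel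

theorem co2t_range150 : chkRange co2tC 605575095584661629984560680234662416 150 = true := by decide +kernel

theorem co2t_range151 : chkRange co2tC 605575095584661629984560680234662416 151 = true := by decide +kernel

theorem co2t_range152 : chkRange co2tC 605575095584661629984560680234662416 152 = true := by decide +kernel

theorem co2t_range153 : chkRange co2tC 605575095584661629984560680234662416 153 = true := by decide +kernel

theorem co2t_range154 : chkRange co2tC 605575095584661629984560680234662416 154 = true := by decide +kernel

theorem co2t_range155 : chkRange co2tC 605575095584661629984560680234662416 155 = true := by decide +kernel

theorem co2t_range156 : chkRange co2tC 605575095584661629984560680234662416 156 = true := by decide +kernel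

theorem co2t_range157 : chkRange co2tC 605575095584661629984560680234662416 157 = true := by decide +kernel

theorem co2t_range158 : chkRange co2tC 605575095584661629984560680234662416 158 = true := by decide +kernel

theorem co2t_range159 : chkRange co2tC 605575095584661629984560680234662416 159 = true := by decide +kernel

theorem co2t_range160 : chkRange co2tC 605575095584661629984560680234662416 160 = true := by decide +kernel

theorem co2t_range161 : chkRange co2tC 605575095584661629984560680234662416 161 = true := by decide +kernel

theorem co2t_range162 : chkRange co2tC 605575095584661629984560680234662416 162 = true := by decide +kernel

theorem co2t_range163 : chkRange co2tC 605575095584661629984560680234662416 163 = true := by decide +kernel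

theorem co2t_range164 : chkRange co2tC 605575095584661629984560680234662416 164 = true := by decide +kernel

theorem co2t_range165 : chkRange co2tC 605575095584661629984560680234662416 165 = true := by decide +kernel

theorem co2t_range166 : chkRange co2tC 605575095584661629984560680234662416 166 = true := by decide +kernel

theorem co2t_range167 : chkRange co2tC 605575095584661629984560680234662416 167 = true := by decide +kernel

theorem co2t_range168 : chkRange co2tC 605575095584661629984560680234662416 168 = true := by decide +kernel

theorem co2t_range169 : chkRange co2tC 605575095584661629984560680234662416 169 = true := by decide +kernel

theorem co2t_range170 : chkRange co2tC 605575095584661629984560680234662416 170 = true := by decide +kernel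

theorem co2t_range171 : chkRange co2tC 605575095584661629984560680234662416 171 = true := by decide +kernel

theorem co2t_range172 : chkRange co2tC 605575095584661629984560680234662416 172 = true := by decide +kernel

theorem co2t_range173 : chkRange co2tC 605575095584661629984560680234662416 173 = true := by decide +kernel

theorem co2t_range174 : chkRange co2tC 605575095584661629984560680234662416 174 = true := by decide +kernel

theorem co2t_range175 : chkRange co2tC 605575095584661629984560680234662416 175 = true := by decide +kernel

theorem co2t_range176 : chkRange co2tC 605575095584661629984560680234662416 176 = true := by decide +kernel

theorem co2t_range177 : chkRange co2tC 605575095584661629984560680234662416 177 = true := by decide +kernel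

theorem co2t_range178 : chkRange co2tC 605575095584661629984560680234662416 178 = true := by decide +kernel

theorem co2t_range179 : chkRange co2tC 605575095584661629984560680234662416 179 = true := by decide +kernel

theorem co2t_range180 : chkRange co2tC 605575095584661629984560680234662416 180 = true := by decide +kernel

theorem co2t_range181 : chkRange co2tC 605575095584661629984560680234662416 181 = true := by decide +kernel

theorem co2t_range182 : chkRange co2tC 605575095584661629984560680234662416 182 = true := by decide +kernel

theorem co2t_range183 : chkRange co2tC 605575095584661629984560680234662416 183 = true := by decide +kernel

end Cfsg.Agent.Spor.Leech
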