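import Cfsg.Agent.Lib.Spor.Leech.CertT47104A
import Cfsg.Agent.Lib.Spor.Leech.CertT47104B
import Cfsg.Agent.Lib.Spor.Leech.CertT47104C
import Cfsg.Agent.Lib.Spor.Leech.CertT47104D

/-! Blocks of the certificate for 47104 short vectors. -/

set_option autoImplicit false
set_option maxRecDepth 100000
set_option maxHeartbeats 1000000

namespace Cfsg.Agent.Spor.Leech

theorem co2t_odd0 : chkMatch co2tC (oddPart co2tC.spec 0) co2tW0 = true := by decide +kernel

theorem co2t_odd1 : chkMatch co2tC (oddPart co2tC.spec 1) co2tW1 = true := by decide +kernel

theorem co2t_odd2 : chkMatch co2tC (oddPart co2tC.spec 2) co2tW2 = true := by decide +kernel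

theorem co2t_odd3 : chkMatch co2tC (oddPart co2tC.spec 3) co2tW3 = true := by decide +kernel

theorem co2t_odd4 : chkMatch co2tC (oddPart co2tC.spec 4) co2tW4 = true := by decide +kernel

theorem co2t_odd5 : chkMatch co2tC (oddPart co2tC.spec 5) co2tW5 = true := by decide +kernel

theorem co2t_odd6 : chkMatch co2tC (oddPart co2tC.spec 6) co2tW6 = true := by decide +kernel

theorem co2t_odd7 : chkMatch co2tC (oddPart co2tC.spec 7) co2tW7 = true := by decide +kernel

theorem co2t_odd8 : chkMatch co2tC (oddPart co2tC.spec 8) co2tW8 = true := by decide +kernel

theorem co2t_odd9 : chkMatch co2tC (oddPart co2tC.spec 9) co2tW9 = true := by decide +kernel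

theorem co2t_odd10 : chkMatch co2tC (oddPart co2tC.spec 10) co2tW10 = true := by decide +kernel

theorem co2t_odd11 : chkMatch co2tC (oddPart co2tC.spec 11) co2tW11 = true := by decide +kernel

theorem co2t_odd12 : chkMatch co2tC (oddPart co2tC.spec 12) co2tW12 = true := by decide +kernel

theorem co2t_odd13 : chkMatch co2tC (oddPart co2tC.spec 13) co2tW13 = true := by decide +kernel

theorem co2t_odd14 : chkMatch co2tC (oddPart co2tC.spec 14) co2tW14 = true := by decide +kernel

theorem co2t_odd15 : chkMatch co2tC (oddPart co2tC.spec 15) co2tW15 = true := by decide +kernel

theorem co2t_oct0 : chkMatch co2tC (octPart co2tC.spec 0) co2tW16 = true := by decide +kernel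

theorem co2t_oct1 : chkMatch co2tC (octPart co2tC.spec 1) co2tW17 = true := by decide +kernel

theorem co2t_oct2 : chkMatch co2tC (octPart co2tC.spec 2) co2tW18 = true := by decide +kernel

theorem co2t_pair : chkMatch co2tC (pairList co2tC.spec) co2tW19 = true := by decide +kernel

theorem co2t_checks : Checks co2tL co2tX0 co2tC 605575095584661629984560680234662416 where
  gens := by decide +kernel
  root := by decide +kernel
  start := by decide +kernel
  spec := by decide +kernel
  range := by
    intro j hj
    have hj' : j < 184 := by
      have : (co2tC).n = 47104 := rfl
      omega
    interval_cases j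
    · exact co2t_range0
    · exact co2t_range1
    · exact co2t_range2
    · exact co2t_range3
    · exact co2t_range4
    · exact co2t_range5
    · exact co2t_range6
    · exact co2t_range7
    · exact co2t_range8
    · exact co2t_range9
    · exact co2t_range10
    · exact co2t_range11
    · exact co2t_range12
    · exact co2t_range13
    · exact co2t_range14
    · exact co2t_range15
    · exact co2t_range16
    · exact co2t_range17
    · exact co2t_range18
    · exact co2t_range19
    · exact co2t_range20
    · exact co2t_range21
    · exact co2t_range22
    · exact co2t_range23
    · exact co2t_range24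
    · exact co2t_range25
    · exact co2t_range26
    · exact co2t_range27
    · exact co2t_range28
    · exact co2t_range29
    · exact co2t_range30
    · exact co2t_range31
    · exact co2t_range32
    · exact co2t_range33
    · exact co2t_range34
    · exact co2t_range35
    · exact co2t_range36
    · exact co2t_range37
    · exact co2t_range38
    · exact co2t_range39
    · exact co2t_range40
    · exact co2t_range41
    · exact co2t_range42
    · exact co2t_range43
    · exact co2t_range44
    · exact co2t_range45
    · exact co2t_range46
    · exact co2t_range47
    · exact co2t_range48
    · exact co2t_range49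
    · exact co2t_range50
    · exact co2t_range51
    · exact co2t_range52
    · exact co2t_range53
    · exact co2t_range54
    · exact co2t_range55
    · exact co2t_range56
    · exact co2t_range57
    · exact co2t_range58
    · exact co2t_range59
    · exact co2t_range60
    · exact co2t_range61
    · exact co2t_range62
    · exact co2t_range63
    · exact co2t_range64
    · exact co2t_range65
    · exact co2t_range66
    · exact co2t_range67
    · exact co2t_range68
    · exact co2t_range69
    · exact co2t_range70
    · exact co2t_range71
    · exact co2t_range72
    · exact co2t_range73
    · exact co2t_range74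
    · exact co2t_range75
    · exact co2t_range76
    · exact co2t_range77
    · exact co2t_range78
    · exact co2t_range79
    · exact co2t_range80
    · exact co2t_range81
    · exact co2t_range82
    · exact co2t_range83
    · exact co2t_range84
    · exact co2t_range85
    · exact co2t_range86
    · exact co2t_range87
    · exact co2t_range88
    · exact co2t_range89
    · exact co2t_range90
    · exact co2t_range91
    · exact co2t_range92
    · exact co2t_range93
    · exact co2t_range94
    · exact co2t_range95
    · exact co2t_range96
    · exact co2t_range97
    · exact co2t_range98
    · exact co2t_range99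
    · exact co2t_range100
    · exact co2t_range101
    · exact co2t_range102
    · exact co2t_range103
    · exact co2t_range104
    · exact co2t_range105
    · exact co2t_range106
    · exact co2t_range107
    · exact co2t_range108
    · exact co2t_range109
    · exact co2t_range110
    · exact co2t_range111
    · exact co2t_range112
    · exact co2t_range113
    · exact co2t_range114
    · exact co2t_range115
    · exact co2t_range116
    · exact co2t_range117
    · exact co2t_range118
    · exact co2t_range119
    · exact co2t_range120
    · exact co2t_range121
    · exact co2t_range122
    · exact co2t_range123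
    · exact co2t_range124
    · exact co2t_range125
    · exact co2t_range126
    · exact co2t_range127
    · exact co2t_range128
    · exact co2t_range129
    · exact co2t_range130
    · exact co2t_range131
    · exact co2t_range132
    · exact co2t_range133
    · exact co2t_range134
    · exact co2t_range135
    · exact co2t_range136
    · exact co2t_range137
    · exact co2t_range138
    · exact co2t_range139
    · exact co2t_range140
    · exact co2t_range141
    · exact co2t_range142
    · exact co2t_range143
    · exact co2t_range144
    · exact co2t_range145
    · exact co2t_range146
    · exact co2t_range147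
    · exact co2t_range148
    · exact co2t_range149
    · exact co2t_range150
    · exact co2t_range151
    · exact co2t_range152
    · exact co2t_range153
    · exact co2t_range154
    · exact co2t_range155
    · exact co2t_range156
    · exact co2t_range157
    · exact co2t_range158
    · exact co2t_range159
    · exact co2t_range160
    · exact co2t_range161
    · exact co2t_range162
    · exact co2t_range163
    · exact co2t_range164
    · exact co2t_range165
    · exact co2t_range166
    · exact co2t_range167
    · exact co2t_range168
    · exact co2t_range169
    · exact co2t_range170
    · exact co2t_range171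
    · exact co2t_range172
    · exact co2t_range173
    · exact co2t_range174
    · exact co2t_range175
    · exact co2t_range176
    · exact co2t_range177
    · exact co2t_range178
    · exact co2t_range179
    · exact co2t_range180
    · exact co2t_range181
    · exact co2t_range182
    · exact co2t_range183
  odd := by
    intro i hi
    interval_cases i
    · exact ⟨_, co2t_odd0⟩
    · exact ⟨_, co2t_odd1⟩
    · exact ⟨_, co2t_odd2⟩
    · exact ⟨_, co2t_odd3⟩
    · exact ⟨_, co2t_odd4⟩
    · exact ⟨_, co2t_odd5⟩
    · exact ⟨_, co2t_odd6⟩
    · exact ⟨_, co2t_odd7⟩
    · exact ⟨_, co2t_odd8⟩
    · exact ⟨_, co2t_odd9⟩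
    · exact ⟨_, co2t_odd10⟩
    · exact ⟨_, co2t_odd11⟩
    · exact ⟨_, co2t_odd12⟩
    · exact ⟨_, co2t_odd13⟩
    · exact ⟨_, co2t_odd14⟩
    · exact ⟨_, co2t_odd15⟩
  oct := by
    intro i hi
    interval_cases i
    · exact ⟨_, co2t_oct0⟩
    · exact ⟨_, co2t_oct1⟩
    · exact ⟨_, co2t_oct2⟩
  pair := ⟨_, co2t_pair⟩

end Cfsg.Agent.Spor.Leech
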