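import Cfsg.Agent.Lib.Spor.Leech.Frame
import Cfsg.Agent.Lib.Spor.Leech.CertS4600
import Cfsg.Agent.Lib.Spor.Leech.CertT47104

/-!
The stabiliser of a vector of norm 32 is transitive on the vectors of norm 32 with product -16 and on those with
product -8 with it.
-/

set_option autoImplicit false
set_option maxRecDepth 100000

namespace Cfsg.Agent.Spor.Leech.TwoPairs

open Cfsg

/-- The standard vector of norm 32. -/
def bV : leechLattice :=
  mkL [4, 0, 0, 0, 0, 0, 0, 0, 0, 0, 0, 0, 0, 0, 0, 0, 0, 0, 0, 0, 0, 0, 0, 4] (by decide +kernel)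

theorem bV_norm : sqNorm (bV : Vec) = 32 := by decide +kernel

theorem partners16 {v : leechLattice} (hv : sqNorm (v : Vec) = 32) :
    (shellOne v (-16)).ncard = 4600 ∧ TransOne v (shellOne v (-16)) := by
  obtain ⟨h, hh⟩ := exists_move32 hv bV_norm
  have hs := std_one co2s_checks (by decide +kernel)
  obtain ⟨hn, ht⟩ := get_one hh (c := -16) (show TransOne bV (shellOne bV (-16)) from hs.2)
  exact ⟨hn.trans hs.1, ht⟩

theorem partners8 {v : leechLattice} (hv : sqNorm (v : Vec) = 32) :
    (shellOne v (-8)).ncard = 47104 ∧ TransOne v (shellOne v (-8)) := by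
  obtain ⟨h, hh⟩ := exists_move32 hv bV_norm
  have hs := std_one co2t_checks (by decide +kernel)
  obtain ⟨hn, ht⟩ := get_one hh (c := -8) (show TransOne bV (shellOne bV (-8)) from hs.2)
  exact ⟨hn.trans hs.1, ht⟩

end Cfsg.Agent.Spor.Leech.TwoPairs
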