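import Cfsg.Agent.Lib.Spor.Leech.CertU15400Data

/-! Blocks of the certificate for a large set of short vectors. -/

set_option autoImplicit false
set_option maxRecDepth 100000
set_option maxHeartbeats 1000000

namespace Cfsg.Agent.Spor.Leech

theorem mclS_range16 : chkRange mclSC 686055694495858120261503905033636366 16 = true := by decide +kernel

theorem mclS_range17 : chkRange mclSC 686055694495858120261503905033636366 17 = true := by decide +kernel

theorem mclS_range18 : chkRange mclSC 686055694495858120261503905033636366 18 = true := by decide +kernel

theorem mclS_range19 : chkRange mclSC 686055694495858120261503905033636366 19 = true := by decide +kernel

theorem mclS_range20 : chkRange mclSC 686055694495858120261503905033636366 20 = true := by decide +kernel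

theorem mclS_range21 : chkRange mclSC 686055694495858120261503905033636366 21 = true := by decide +kernel

theorem mclS_range22 : chkRange mclSC 686055694495858120261503905033636366 22 = true := by decide +kernel

theorem mclS_range23 : chkRange mclSC 686055694495858120261503905033636366 23 = true := by decide +kernel

theorem mclS_range24 : chkRange mclSC 686055694495858120261503905033636366 24 = true := by decide +kernel

theorem mclS_range25 : chkRange mclSC 686055694495858120261503905033636366 25 = true := by decide +kernel

theorem mclS_range26 : chkRange mclSC 686055694495858120261503905033636366 26 = true := by decide +kernel

theorem mclS_range27 : chkRange mclSC 686055694495858120261503905033636366 27 = true := by decide +kernel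

theorem mclS_range28 : chkRange mclSC 686055694495858120261503905033636366 28 = true := by decide +kernel

theorem mclS_range29 : chkRange mclSC 686055694495858120261503905033636366 29 = true := by decide +kernel

theorem mclS_range30 : chkRange mclSC 686055694495858120261503905033636366 30 = true := by decide +kernel

theorem mclS_range31 : chkRange mclSC 686055694495858120261503905033636366 31 = true := by decide +kernel

end Cfsg.Agent.Spor.Leech
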