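import Cfsg.Agent.Lib.Spor.Leech.CertU15400Data

/-! Blocks of the certificate for a large set of short vectors. -/

set_option autoImplicit false
set_option maxRecDepth 100000
set_option maxHeartbeats 1000000

namespace Cfsg.Agent.Spor.Leech

theorem mclS_range32 : chkRange mclSC 686055694495858120261503905033636366 32 = true := by decide +kernel

theorem mclS_range33 : chkRange mclSC 686055694495858120261503905033636366 33 = true := by decide +kernel

theorem mclS_range34 : chkRange mclSC 686055694495858120261503905033636366 34 = true := by decide +kernel

theorem mclS_range35 : chkRange mclSC 686055694495858120261503905033636366 35 = true := by decide +kernel

theorem mclS_range36 : chkRange mclSC 686055694495858120261503905033636366 36 = true := by decide +kernel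

theorem mclS_range37 : chkRange mclSC 686055694495858120261503905033636366 37 = true := by decide +kernel

theorem mclS_range38 : chkRange mclSC 686055694495858120261503905033636366 38 = true := by decide +kernel

theorem mclS_range39 : chkRange mclSC 686055694495858120261503905033636366 39 = true := by decide +kernel

theorem mclS_range40 : chkRange mclSC 686055694495858120261503905033636366 40 = true := by decide +kernel

theorem mclS_range41 : chkRange mclSC 686055694495858120261503905033636366 41 = true := by decide +kernel

theorem mclS_range42 : chkRange mclSC 686055694495858120261503905033636366 42 = true := by decide +kernel

theorem mclS_range43 : chkRange mclSC 686055694495858120261503905033636366 43 = true := by decide +kernel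

theorem mclS_range44 : chkRange mclSC 686055694495858120261503905033636366 44 = true := by decide +kernel

theorem mclS_range45 : chkRange mclSC 686055694495858120261503905033636366 45 = true := by decide +kernel

theorem mclS_range46 : chkRange mclSC 686055694495858120261503905033636366 46 = true := by decide +kernel

theorem mclS_range47 : chkRange mclSC 686055694495858120261503905033636366 47 = true := by decide +kernel

end Cfsg.Agent.Spor.Leech
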