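import Cfsg.Agent.Lib.Spor.Leech.CertU15400Data

/-! Blocks of the certificate for a large set of short vectors. -/

set_option autoImplicit false
set_option maxRecDepth 100000
set_option maxHeartbeats 1000000

namespace Cfsg.Agent.Spor.Leech

theorem mclS_range48 : chkRange mclSC 686055694495858120261503905033636366 48 = true := by decide +kernel

theorem mclS_range49 : chkRange mclSC 686055694495858120261503905033636366 49 = true := by decide +kernel

theorem mclS_range50 : chkRange mclSC 686055694495858120261503905033636366 50 = true := by decide +kernel

theorem mclS_range51 : chkRange mclSC 686055694495858120261503905033636366 51 = true := by decide +kernel

theorem mclS_range52 : chkRange mclSC 686055694495858120261503905033636366 52 = true := by decide +kernel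

theorem mclS_range53 : chkRange mclSC 686055694495858120261503905033636366 53 = true := by decide +kernel

theorem mclS_range54 : chkRange mclSC 686055694495858120261503905033636366 54 = true := by decide +kernel

theorem mclS_range55 : chkRange mclSC 686055694495858120261503905033636366 55 = true := by decide +kernel

theorem mclS_range56 : chkRange mclSC 686055694495858120261503905033636366 56 = true := by decide +kernel

theorem mclS_range57 : chkRange mclSC 686055694495858120261503905033636366 57 = true := by decide +kernel

theorem mclS_range58 : chkRange mclSC 686055694495858120261503905033636366 58 = true := by decide +kernel

theorem mclS_range59 : chkRange mclSC 686055694495858120261503905033636366 59 = true := by decide +kernel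

theorem mclS_range60 : chkRange mclSC 686055694495858120261503905033636366 60 = true := by decide +kernel

end Cfsg.Agent.Spor.Leech
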