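import Cfsg.Agent.Lib.Spor.Leech.CertU15400A
import Cfsg.Agent.Lib.Spor.Leech.CertU15400B
import Cfsg.Agent.Lib.Spor.Leech.CertU15400C
import Cfsg.Agent.Lib.Spor.Leech.CertU15400D

/-! Blocks of the certificate for a large set of short vectors. -/

set_option autoImplicit false
set_option maxRecDepth 100000
set_option maxHeartbeats 1000000

namespace Cfsg.Agent.Spor.Leech

theorem mclS_odd0 : chkMatch mclSC (oddPart mclSC.spec 0) mclSW0 = true := by decide +kernel

theorem mclS_odd1 : chkMatch mclSC (oddPart mclSC.spec 1) mclSW1 = true := by decide +kernel

theorem mclS_odd2 : chkMatch mclSC (oddPart mclSC.spec 2) mclSW2 = true := by decide +kernel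

theorem mclS_odd3 : chkMatch mclSC (oddPart mclSC.spec 3) mclSW3 = true := by decide +kernel

theorem mclS_odd4 : chkMatch mclSC (oddPart mclSC.spec 4) mclSW4 = true := by decide +kernel

theorem mclS_odd5 : chkMatch mclSC (oddPart mclSC.spec 5) mclSW5 = true := by decide +kernel

theorem mclS_odd6 : chkMatch mclSC (oddPart mclSC.spec 6) mclSW6 = true := by decide +kernel

theorem mclS_odd7 : chkMatch mclSC (oddPart mclSC.spec 7) mclSW7 = true := by decide +kernel

theorem mclS_odd8 : chkMatch mclSC (oddPart mclSC.spec 8) mclSW8 = true := by decide +kernel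

theorem mclS_odd9 : chkMatch mclSC (oddPart mclSC.spec 9) mclSW9 = true := by decide +kernel

theorem mclS_odd10 : chkMatch mclSC (oddPart mclSC.spec 10) mclSW10 = true := by decide +kernel

theorem mclS_odd11 : chkMatch mclSC (oddPart mclSC.spec 11) mclSW11 = true := by decide +kernel

theorem mclS_odd12 : chkMatch mclSC (oddPart mclSC.spec 12) mclSW12 = true := by decide +kernel

theorem mclS_odd13 : chkMatch mclSC (oddPart mclSC.spec 13) mclSW13 = true := by decide +kernel

theorem mclS_odd14 : chkMatch mclSC (oddPart mclSC.spec 14) mclSW14 = true := by decide +kernel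

theorem mclS_odd15 : chkMatch mclSC (oddPart mclSC.spec 15) mclSW15 = true := by decide +kernel

theorem mclS_oct0 : chkMatch mclSC (octPart mclSC.spec 0) mclSW16 = true := by decide +kernel

theorem mclS_oct1 : chkMatch mclSC (octPart mclSC.spec 1) mclSW17 = true := by decide +kernel

theorem mclS_oct2 : chkMatch mclSC (octPart mclSC.spec 2) mclSW18 = true := by decide +kernel

theorem mclS_pair : chkMatch mclSC (pairList mclSC.spec) mclSW19 = true := by decide +kernel

theorem mclS_checks : Checks mclSL mclSX0 mclSC 686055694495858120261503905033636366 where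
  gens := by decide +kernel
  root := by decide +kernel
  start := by decide +kernel
  spec := by decide +kernel
  range := by
    intro j hj
    have hj' : j < 61 := by
      have : (mclSC).n = 15400 := rfl
      omega
    interval_cases j
    · exact mclS_range0
    · exact mclS_range1
    · exact mclS_range2
    · exact mclS_range3
    · exact mclS_range4
    · exact mclS_range5
    · exact mclS_range6
    · exact mclS_range7
    · exact mclS_range8
    · exact mclS_range9
    · exact mclS_range10
    · exact mclS_range11
    · exact mclS_range12
    · exact mclS_range13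
    · exact mclS_range14
    · exact mclS_range15
    · exact mclS_range16
    · exact mclS_range17
    · exact mclS_range18
    · exact mclS_range19
    · exact mclS_range20
    · exact mclS_range21
    · exact mclS_range22
    · exact mclS_range23
    · exact mclS_range24
    · exact mclS_range25
    · exact mclS_range26
    · exact mclS_range27
    · exact mclS_range28
    · exact mclS_range29
    · exact mclS_range30
    · exact mclS_range31
    · exact mclS_range32
    · exact mclS_range33
    · exact mclS_range34
    · exact mclS_range35
    · exact mclS_range36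
    · exact mclS_range37
    · exact mclS_range38
    · exact mclS_range39
    · exact mclS_range40
    · exact mclS_range41
    · exact mclS_range42
    · exact mclS_range43
    · exact mclS_range44
    · exact mclS_range45
    · exact mclS_range46
    · exact mclS_range47
    · exact mclS_range48
    · exact mclS_range49
    · exact mclS_range50
    · exact mclS_range51
    · exact mclS_range52
    · exact mclS_range53
    · exact mclS_range54
    · exact mclS_range55
    · exact mclS_range56
    · exact mclS_range57
    · exact mclS_range58
    · exact mclS_range59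
    · exact mclS_range60
  odd := by
    intro i hi
    interval_cases i
    · exact ⟨_, mclS_odd0⟩
    · exact ⟨_, mclS_odd1⟩
    · exact ⟨_, mclS_odd2⟩
    · exact ⟨_, mclS_odd3⟩
    · exact ⟨_, mclS_odd4⟩
    · exact ⟨_, mclS_odd5⟩
    · exact ⟨_, mclS_odd6⟩
    · exact ⟨_, mclS_odd7⟩
    · exact ⟨_, mclS_odd8⟩
    · exact ⟨_, mclS_odd9⟩
    · exact ⟨_, mclS_odd10⟩
    · exact ⟨_, mclS_odd11⟩
    · exact ⟨_, mclS_odd12⟩
    · exact ⟨_, mclS_odd13⟩
    · exact ⟨_, mclS_odd14⟩
    · exact ⟨_, mclS_odd15⟩
  oct := by
    intro i hi
    interval_cases i
    · exact ⟨_, mclS_oct0⟩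
    · exact ⟨_, mclS_oct1⟩
    · exact ⟨_, mclS_oct2⟩
  pair := ⟨_, mclS_pair⟩

end Cfsg.Agent.Spor.Leech
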