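import Cfsg.Agent.Lib.Spor.Leech.CertU22275Data

/-! Blocks of the certificate for a large set of short vectors. -/

set_option autoImplicit false
set_option maxRecDepth 100000
set_option maxHeartbeats 1000000

namespace Cfsg.Agent.Spor.Leech

theorem mclT_range22 : chkRange mclTC 605575095584510362071470243484027408 22 = true := by decide +kernel

theorem mclT_range23 : chkRange mclTC 605575095584510362071470243484027408 23 = true := by decide +kernel

theorem mclT_range24 : chkRange mclTC 605575095584510362071470243484027408 24 = true := by decide +kernel

theorem mclT_range25 : chkRange mclTC 605575095584510362071470243484027408 25 = true := by decide +kernel

theorem mclT_range26 : chkRange mclTC 605575095584510362071470243484027408 26 = true := by decide +kernel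

theorem mclT_range27 : chkRange mclTC 605575095584510362071470243484027408 27 = true := by decide +kernel

theorem mclT_range28 : chkRange mclTC 605575095584510362071470243484027408 28 = true := by decide +kernel

theorem mclT_range29 : chkRange mclTC 605575095584510362071470243484027408 29 = true := by decide +kernel

theorem mclT_range30 : chkRange mclTC 605575095584510362071470243484027408 30 = true := by decide +kernel

theorem mclT_range31 : chkRange mclTC 605575095584510362071470243484027408 31 = true := by decide +kernel

theorem mclT_range32 : chkRange mclTC 605575095584510362071470243484027408 32 = true := by decide +kernel

theorem mclT_range33 : chkRange mclTC 605575095584510362071470243484027408 33 = true := by decide +kernel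

theorem mclT_range34 : chkRange mclTC 605575095584510362071470243484027408 34 = true := by decide +kernel

theorem mclT_range35 : chkRange mclTC 605575095584510362071470243484027408 35 = true := by decide +kernel

theorem mclT_range36 : chkRange mclTC 605575095584510362071470243484027408 36 = true := by decide +kernel

theorem mclT_range37 : chkRange mclTC 605575095584510362071470243484027408 37 = true := by decide +kernel

theorem mclT_range38 : chkRange mclTC 605575095584510362071470243484027408 38 = true := by decide +kernel

theorem mclT_range39 : chkRange mclTC 605575095584510362071470243484027408 39 = true := by decide +kernel

theorem mclT_range40 : chkRange mclTC 605575095584510362071470243484027408 40 = true := by decide +kernel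

theorem mclT_range41 : chkRange mclTC 605575095584510362071470243484027408 41 = true := by decide +kernel

theorem mclT_range42 : chkRange mclTC 605575095584510362071470243484027408 42 = true := by decide +kernel

theorem mclT_range43 : chkRange mclTC 605575095584510362071470243484027408 43 = true := by decide +kernel

end Cfsg.Agent.Spor.Leech
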