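import Cfsg.Agent.Lib.Spor.Leech.CertU22275Data

/-! Blocks of the certificate for a large set of short vectors. -/

set_option autoImplicit false
set_option maxRecDepth 100000
set_option maxHeartbeats 1000000

namespace Cfsg.Agent.Spor.Leech

theorem mclT_range44 : chkRange mclTC 605575095584510362071470243484027408 44 = true := by decide +kernel

theorem mclT_range45 : chkRange mclTC 605575095584510362071470243484027408 45 = true := by decide +kernel

theorem mclT_range46 : chkRange mclTC 605575095584510362071470243484027408 46 = true := by decide +kernel

theorem mclT_range47 : chkRange mclTC 605575095584510362071470243484027408 47 = true := by decide +kernel

theorem mclT_range48 : chkRange mclTC 605575095584510362071470243484027408 48 = true := by decide +kernel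

theorem mclT_range49 : chkRange mclTC 605575095584510362071470243484027408 49 = true := by decide +kernel

theorem mclT_range50 : chkRange mclTC 605575095584510362071470243484027408 50 = true := by decide +kernel

theorem mclT_range51 : chkRange mclTC 605575095584510362071470243484027408 51 = true := by decide +kernel

theorem mclT_range52 : chkRange mclTC 605575095584510362071470243484027408 52 = true := by decide +kernel

theorem mclT_range53 : chkRange mclTC 605575095584510362071470243484027408 53 = true := by decide +kernel

theorem mclT_range54 : chkRange mclTC 605575095584510362071470243484027408 54 = true := by decide +kernel

theorem mclT_range55 : chkRange mclTC 605575095584510362071470243484027408 55 = true := by decide +kernel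

theorem mclT_range56 : chkRange mclTC 605575095584510362071470243484027408 56 = true := by decide +kernel

theorem mclT_range57 : chkRange mclTC 605575095584510362071470243484027408 57 = true := by decide +kernel

theorem mclT_range58 : chkRange mclTC 605575095584510362071470243484027408 58 = true := by decide +kernel

theorem mclT_range59 : chkRange mclTC 605575095584510362071470243484027408 59 = true := by decide +kernel

theorem mclT_range60 : chkRange mclTC 605575095584510362071470243484027408 60 = true := by decide +kernel

theorem mclT_range61 : chkRange mclTC 605575095584510362071470243484027408 61 = true := by decide +kernel

theorem mclT_range62 : chkRange mclTC 605575095584510362071470243484027408 62 = true := by decide +kernel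

theorem mclT_range63 : chkRange mclTC 605575095584510362071470243484027408 63 = true := by decide +kernel

theorem mclT_range64 : chkRange mclTC 605575095584510362071470243484027408 64 = true := by decide +kernel

theorem mclT_range65 : chkRange mclTC 605575095584510362071470243484027408 65 = true := by decide +kernel

end Cfsg.Agent.Spor.Leech
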