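import Cfsg.Agent.Lib.Spor.Leech.CertU22275Data

/-! Blocks of the certificate for a large set of short vectors. -/

set_option autoImplicit false
set_option maxRecDepth 100000
set_option maxHeartbeats 1000000

namespace Cfsg.Agent.Spor.Leech

theorem mclT_range66 : chkRange mclTC 605575095584510362071470243484027408 66 = true := by decide +kernel

theorem mclT_range67 : chkRange mclTC 605575095584510362071470243484027408 67 = true := by decide +kernel

theorem mclT_range68 : chkRange mclTC 605575095584510362071470243484027408 68 = true := by decide +kernel

theorem mclT_range69 : chkRange mclTC 605575095584510362071470243484027408 69 = true := by decide +kernel

theorem mclT_range70 : chkRange mclTC 605575095584510362071470243484027408 70 = true := by decide +kernel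

theorem mclT_range71 : chkRange mclTC 605575095584510362071470243484027408 71 = true := by decide +kernel

theorem mclT_range72 : chkRange mclTC 605575095584510362071470243484027408 72 = true := by decide +kernel

theorem mclT_range73 : chkRange mclTC 605575095584510362071470243484027408 73 = true := by decide +kernel

theorem mclT_range74 : chkRange mclTC 605575095584510362071470243484027408 74 = true := by decide +kernel

theorem mclT_range75 : chkRange mclTC 605575095584510362071470243484027408 75 = true := by decide +kernel

theorem mclT_range76 : chkRange mclTC 605575095584510362071470243484027408 76 = true := by decide +kernel

theorem mclT_range77 : chkRange mclTC 605575095584510362071470243484027408 77 = true := by decide +kernel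

theorem mclT_range78 : chkRange mclTC 605575095584510362071470243484027408 78 = true := by decide +kernel

theorem mclT_range79 : chkRange mclTC 605575095584510362071470243484027408 79 = true := by decide +kernel

theorem mclT_range80 : chkRange mclTC 605575095584510362071470243484027408 80 = true := by decide +kernel

theorem mclT_range81 : chkRange mclTC 605575095584510362071470243484027408 81 = true := by decide +kernel

theorem mclT_range82 : chkRange mclTC 605575095584510362071470243484027408 82 = true := by decide +kernel

theorem mclT_range83 : chkRange mclTC 605575095584510362071470243484027408 83 = true := by decide +kernel

theorem mclT_range84 : chkRange mclTC 605575095584510362071470243484027408 84 = true := by decide +kernel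

theorem mclT_range85 : chkRange mclTC 605575095584510362071470243484027408 85 = true := by decide +kernel

theorem mclT_range86 : chkRange mclTC 605575095584510362071470243484027408 86 = true := by decide +kernel

theorem mclT_range87 : chkRange mclTC 605575095584510362071470243484027408 87 = true := by decide +kernel

end Cfsg.Agent.Spor.Leech
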