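import Cfsg.Agent.Lib.Spor.Leech.CertU22275A
import Cfsg.Agent.Lib.Spor.Leech.CertU22275B
import Cfsg.Agent.Lib.Spor.Leech.CertU22275C
import Cfsg.Agent.Lib.Spor.Leech.CertU22275D

/-! Blocks of the certificate for a large set of short vectors. -/

set_option autoImplicit false
set_option maxRecDepth 100000
set_option maxHeartbeats 1000000

namespace Cfsg.Agent.Spor.Leech

theorem mclT_odd0 : chkMatch mclTC (oddPart mclTC.spec 0) mclTW0 = true := by decide +kernel

theorem mclT_odd1 : chkMatch mclTC (oddPart mclTC.spec 1) mclTW1 = true := by decide +kernel

theorem mclT_odd2 : chkMatch mclTC (oddPart mclTC.spec 2) mclTW2 = true := by decide +kernel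

theorem mclT_odd3 : chkMatch mclTC (oddPart mclTC.spec 3) mclTW3 = true := by decide +kernel

theorem mclT_odd4 : chkMatch mclTC (oddPart mclTC.spec 4) mclTW4 = true := by decide +kernel

theorem mclT_odd5 : chkMatch mclTC (oddPart mclTC.spec 5) mclTW5 = true := by decide +kernel

theorem mclT_odd6 : chkMatch mclTC (oddPart mclTC.spec 6) mclTW6 = true := by decide +kernel

theorem mclT_odd7 : chkMatch mclTC (oddPart mclTC.spec 7) mclTW7 = true := by decide +kernel

theorem mclT_odd8 : chkMatch mclTC (oddPart mclTC.spec 8) mclTW8 = true := by decide +kernel

theorem mclT_odd9 : chkMatch mclTC (oddPart mclTC.spec 9) mclTW9 = true := by decide +kernel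

theorem mclT_odd10 : chkMatch mclTC (oddPart mclTC.spec 10) mclTW10 = true := by decide +kernel

theorem mclT_odd11 : chkMatch mclTC (oddPart mclTC.spec 11) mclTW11 = true := by decide +kernel

theorem mclT_odd12 : chkMatch mclTC (oddPart mclTC.spec 12) mclTW12 = true := by decide +kernel

theorem mclT_odd13 : chkMatch mclTC (oddPart mclTC.spec 13) mclTW13 = true := by decide +kernel

theorem mclT_odd14 : chkMatch mclTC (oddPart mclTC.spec 14) mclTW14 = true := by decide +kernel

theorem mclT_odd15 : chkMatch mclTC (oddPart mclTC.spec 15) mclTW15 = true := by decide +kernel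

theorem mclT_oct0 : chkMatch mclTC (octPart mclTC.spec 0) mclTW16 = true := by decide +kernel

theorem mclT_oct1 : chkMatch mclTC (octPart mclTC.spec 1) mclTW17 = true := by decide +kernel

theorem mclT_oct2 : chkMatch mclTC (octPart mclTC.spec 2) mclTW18 = true := by decide +kernel

theorem mclT_pair : chkMatch mclTC (pairList mclTC.spec) mclTW19 = true := by decide +kernel

theorem mclT_checks : Checks mclTL mclTX0 mclTC 605575095584510362071470243484027408 where
  gens := by decide +kernel
  root := by decide +kernel
  start := by decide +kernel
  spec := by decide +kernel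
  range := by
    intro j hj
    have hj' : j < 88 := by
      have : (mclTC).n = 22275 := rfl
      omega
    interval_cases j
    · exact mclT_range0
    · exact mclT_range1
    · exact mclT_range2
    · exact mclT_range3
    · exact mclT_range4
    · exact mclT_range5
    · exact mclT_range6
    · exact mclT_range7
    · exact mclT_range8
    · exact mclT_range9
    · exact mclT_range10
    · exact mclT_range11
    · exact mclT_range12
    · exact mclT_range13
    · exact mclT_range14
    · exact mclT_range15
    · exact mclT_range16
    · exact mclT_range17
    · exact mclT_range18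
    · exact mclT_range19
    · exact mclT_range20
    · exact mclT_range21
    · exact mclT_range22
    · exact mclT_range23
    · exact mclT_range24
    · exact mclT_range25
    · exact mclT_range26
    · exact mclT_range27
    · exact mclT_range28
    · exact mclT_range29
    · exact mclT_range30
    · exact mclT_range31
    · exact mclT_range32
    · exact mclT_range33
    · exact mclT_range34
    · exact mclT_range35
    · exact mclT_range36
    · exact mclT_range37
    · exact mclT_range38
    · exact mclT_range39
    · exact mclT_range40
    · exact mclT_range41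
    · exact mclT_range42
    · exact mclT_range43
    · exact mclT_range44
    · exact mclT_range45
    · exact mclT_range46
    · exact mclT_range47
    · exact mclT_range48
    · exact mclT_range49
    · exact mclT_range50
    · exact mclT_range51
    · exact mclT_range52
    · exact mclT_range53
    · exact mclT_range54
    · exact mclT_range55
    · exact mclT_range56
    · exact mclT_range57
    · exact mclT_range58
    · exact mclT_range59
    · exact mclT_range60
    · exact mclT_range61
    · exact mclT_range62
    · exact mclT_range63
    · exact mclT_range64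
    · exact mclT_range65
    · exact mclT_range66
    · exact mclT_range67
    · exact mclT_range68
    · exact mclT_range69
    · exact mclT_range70
    · exact mclT_range71
    · exact mclT_range72
    · exact mclT_range73
    · exact mclT_range74
    · exact mclT_range75
    · exact mclT_range76
    · exact mclT_range77
    · exact mclT_range78
    · exact mclT_range79
    · exact mclT_range80
    · exact mclT_range81
    · exact mclT_range82
    · exact mclT_range83
    · exact mclT_range84
    · exact mclT_range85
    · exact mclT_range86
    · exact mclT_range87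
  odd := by
    intro i hi
    interval_cases i
    · exact ⟨_, mclT_odd0⟩
    · exact ⟨_, mclT_odd1⟩
    · exact ⟨_, mclT_odd2⟩
    · exact ⟨_, mclT_odd3⟩
    · exact ⟨_, mclT_odd4⟩
    · exact ⟨_, mclT_odd5⟩
    · exact ⟨_, mclT_odd6⟩
    · exact ⟨_, mclT_odd7⟩
    · exact ⟨_, mclT_odd8⟩
    · exact ⟨_, mclT_odd9⟩
    · exact ⟨_, mclT_odd10⟩
    · exact ⟨_, mclT_odd11⟩
    · exact ⟨_, mclT_odd12⟩
    · exact ⟨_, mclT_odd13⟩
    · exact ⟨_, mclT_odd14⟩
    · exact ⟨_, mclT_odd15⟩
  oct := by
    intro i hi
    interval_cases i
    · exact ⟨_, mclT_oct0⟩
    · exact ⟨_, mclT_oct1⟩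
    · exact ⟨_, mclT_oct2⟩
  pair := ⟨_, mclT_pair⟩

end Cfsg.Agent.Spor.Leech
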