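import Cfsg.Agent.Lib.Spor.Leech.McLSimple
import Cfsg.Agent.Lib.Spor.Leech.CertU275
import Cfsg.Agent.Lib.Spor.Leech.CertU2025
import Cfsg.Agent.Lib.Spor.Leech.CertU7128
import Cfsg.Agent.Lib.Spor.Leech.CertU15400
import Cfsg.Agent.Lib.Spor.Leech.CertU22275

/-!
The stabiliser of a vector of norm 32 is simple of order 42305421312000.
-/

set_option autoImplicit false
set_option maxRecDepth 100000

namespace Cfsg.Agent.Spor.Leech.TwoSimple

open Cfsg TwoPairs McLSimple

theorem suborbit {v w : leechLattice} (hv : sqNorm (v : Vec) = 32) (hw : w ∈ shellOne v (-8)) {d : ℤ} {n : ℕ}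
    (hs : (shellTwo bV McLPairs.bW (-8) d).ncard = n ∧ TransTwo bV McLPairs.bW (shellTwo bV McLPairs.bW (-8) d)) :
    (shellTwo v w (-8) d).ncard = n ∧ TransTwo v w (shellTwo v w (-8) d) := by
  obtain ⟨h, h1, h2⟩ := McLPairs.to_pair hv hw
  obtain ⟨hn, ht⟩ := get_two h1 h2 (c := -8) (d := d) hs.2
  exact ⟨hn.trans hs.1, ht⟩

theorem sylow_47104 {N : Type*} [Group N] [Finite N] (hN : Nat.card N = 47104) :
    ∃ K : Subgroup N, K.Characteristic ∧ K ≠ ⊥ ∧ K ≠ ⊤ := by
  have : Fact (Nat.Prime 23) := ⟨by norm_num⟩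
  refine SimpleOfStab.exists_char_of_sylow (p := 23) (e := 1) (m := 2048) (by rw [hN]; rfl) (by norm_num) (by norm_num)
    (by norm_num) fun P => ?_
  have h1 : Nat.card (Sylow 23 N) ≡ 1 [MOD 23] := card_sylow_modEq_one 23 N
  have h2 : Nat.card (Sylow 23 N) ∣ 2048 := by
    have h := Sylow.card_dvd_index P
    have h3 := (P : Subgroup N).card_mul_index
    have h4 : Nat.card P = 23 := by
      rw [P.card_eq_multiplicity, hN, Nat.factorization_def _ (by norm_num)]
      rw [show padicValNat 23 47104 = 1 by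
        rw [show (47104 : ℕ) = 23 ^ 1 * 2048 by norm_num, padicValNat.mul (by norm_num) (by norm_num),
          padicValNat.prime_pow, padicValNat.eq_zero_of_not_dvd (by norm_num)]]
      norm_num
    rw [hN, h4] at h3
    rwa [show (P : Subgroup N).index = 2048 by omega] at h
  obtain ⟨i, hi, he⟩ := (Nat.dvd_prime_pow Nat.prime_two).1 (show _ ∣ 2 ^ 11 from h2)
  unfold Nat.ModEq at h1
  interval_cases i <;> rw [he] at h1 ⊢ <;> norm_num at h1 <;> norm_num

theorem facts : IsSimpleGroup ↥(MulAction.stabilizer Co0 bV) ∧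
    Nat.card ↥(MulAction.stabilizer Co0 bV) = 42305421312000 := by
  obtain ⟨hn, ht⟩ := partners8 bV_norm
  obtain ⟨nA, tA⟩ := suborbit bV_norm nW_mem (d := -16) (std_two mclP_checks (by decide +kernel) (by decide +kernel))
  obtain ⟨nB, tB⟩ := suborbit bV_norm nW_mem (d := 16) (std_two mclQ_checks (by decide +kernel) (by decide +kernel))
  obtain ⟨nC, tC⟩ := suborbit bV_norm nW_mem (d := -8) (std_two mclR_checks (by decide +kernel) (by decide +kernel))
  obtain ⟨nD, tD⟩ := suborbit bV_norm nW_mem (d := 8) (std_two mclS_checks (by decide +kernel) (by decide +kernel))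
  obtain ⟨nE, tE⟩ := suborbit bV_norm nW_mem (d := 0) (std_two mclT_checks (by decide +kernel) (by decide +kernel))
  replace nA : (shellTwo bV nW (-8) (-16)).ncard = 275 := nA
  replace nB : (shellTwo bV nW (-8) 16).ncard = 2025 := nB
  replace nC : (shellTwo bV nW (-8) (-8)).ncard = 7128 := nC
  replace nD : (shellTwo bV nW (-8) 8).ncard = 15400 := nD
  replace nE : (shellTwo bV nW (-8) 0).ncard = 22275 := nE
  obtain ⟨hS, hH⟩ := McLSimple.facts
  have horb : MulAction.orbit ↥(MulAction.stabilizer Co0 bV) nW = shellOne bV (-8) :=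
    orbit_eq nW_mem (fun _ hg _ hz => (smul_mem_shellOne hg).2 hz) fun z hz => by
      obtain ⟨g, hga, he⟩ := ht nW nW_mem z hz
      exact ⟨g, hga, he⟩
  have hcard := StabSimple.card_eq _ nW 47104 898128000 (by rw [horb, hn]) hH
  refine ⟨?_, by rw [hcard]⟩
  refine StabSimple.simple _ nW hH (by norm_num) (n := 47104) (by rw [horb, hn]) (by norm_num) hS
    [shellTwo bV nW (-8) (-16), shellTwo bV nW (-8) 16, shellTwo bV nW (-8) (-8), shellTwo bV nW (-8) 8,
      shellTwo bV nW (-8) 0] ?_ ?_ ?_ ?_ ?_ ?_ ?_ fun N hN _ => sylow_47104 hN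
  · simp only [List.pairwise_cons, List.mem_cons, List.not_mem_nil, or_false, forall_eq_or_imp, forall_eq,
      List.Pairwise.nil, and_true, false_implies, implies_true]
    refine ⟨⟨?_, ?_, ?_, ?_⟩, ⟨?_, ?_, ?_⟩, ⟨?_, ?_⟩, ?_⟩ <;>
      exact Set.disjoint_left.2 fun y h h' => by have := h.2.2; have := h'.2.2; omega
  · intro O hO y hy z hz
    simp only [List.mem_cons, List.not_mem_nil, or_false] at hO
    rcases hO with rfl | rfl | rfl | rfl | rfl
    · obtain ⟨g, a, b, c⟩ := tA y hy z hz; exact ⟨g, a, b, c⟩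
    · obtain ⟨g, a, b, c⟩ := tB y hy z hz; exact ⟨g, a, b, c⟩
    · obtain ⟨g, a, b, c⟩ := tC y hy z hz; exact ⟨g, a, b, c⟩
    · obtain ⟨g, a, b, c⟩ := tD y hy z hz; exact ⟨g, a, b, c⟩
    · obtain ⟨g, a, b, c⟩ := tE y hy z hz; exact ⟨g, a, b, c⟩
  · intro O hO
    simp only [List.mem_cons, List.not_mem_nil, or_false] at hO
    rw [horb]
    rcases hO with rfl | rfl | rfl | rfl | rfl <;> exact fun y hy => ⟨hy.1, hy.2.1⟩
  · intro O hO
    simp only [List.mem_cons, List.not_mem_nil, or_false] at hO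
    rcases hO with rfl | rfl | rfl | rfl | rfl <;>
      exact fun h => by have := h.2.2; rw [dot_self, nW_mem.1] at this; omega
  · intro y hy
    rw [horb] at hy
    refine or_iff_not_imp_left.2 fun hne => ?_
    have h := split_cover (S := shellOne bV (-8)) (fun z hz => hz.1) nW_mem {-16, 16, -8, 8, 0} (by decide) ?_ hy
    · simp only [hne, false_or, Finset.mem_insert, Finset.mem_singleton] at h
      rcases h with h | h | h | h | h <;>
        exact ⟨shellTwo bV nW (-8) (dotInt (nW : Vec) (y : Vec)), by rw [h]; simp, hy.1, hy.2, rfl⟩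
    · have e : ∀ k, {z ∈ shellOne bV (-8) | dotInt (nW : Vec) (z : Vec) = k} = shellTwo bV nW (-8) k := fun k => by
        ext z; simp [shellOne, shellTwo, and_assoc]
      rw [hn, Finset.sum_insert (by decide), Finset.sum_insert (by decide), Finset.sum_insert (by decide),
        Finset.sum_pair (by decide), e, e, e, e, e, nA, nB, nC, nD, nE]; rfl
  · exact ⟨_, List.mem_cons_self, by rw [nA]; norm_num⟩
  · simp only [List.map_cons, List.map_nil, nA, nB, nC, nD, nE]
    decide +kernel

theorem isCo2 {v : leechLattice} (hv : sqNorm (v : Vec) = 32) : IsCo2 ↥(MulAction.stabilizer Co0 v) := by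
  obtain ⟨k, hk⟩ := exists_move32 hv bV_norm
  have e := StabSimple.oneEquiv k hk
  exact ⟨e.isSimpleGroup_congr.2 facts.1, (Nat.card_congr e.toEquiv).trans facts.2⟩

end Cfsg.Agent.Spor.Leech.TwoSimple
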