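import Mathlib

/-!
A counting argument for classes modulo a subgroup whose short members are paired up or orthogonal.
-/

set_option autoImplicit false

namespace Cfsg.Agent.Spor.Leech

theorem exists_half {M : Type*} [AddCommGroup M] [DecidableEq M] {orth : M → M → Prop}
    (hsym : ∀ u v, orth u v → orth v u) : ∀ F : Finset M,
    (∀ u ∈ F, ∀ v ∈ F, u = v ∨ u = -v ∨ orth u v) →
    ∃ T ⊆ F, (∀ u ∈ T, ∀ v ∈ T, u ≠ v → orth u v) ∧ F ⊆ T ∪ T.image Neg.neg := by
  intro F
  induction F using Finset.induction_on with
  | empty => exact fun _ => ⟨∅, subset_rfl, by simp, by simp⟩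
  | @insert a F ha ih =>
    intro h
    obtain ⟨T, hT, hT1, hT2⟩ :=
      ih fun u hu v hv => h u (Finset.mem_insert_of_mem hu) v (Finset.mem_insert_of_mem hv)
    by_cases hn : -a ∈ T
    · refine ⟨T, hT.trans (Finset.subset_insert _ _), hT1, fun x hx => ?_⟩
      rcases Finset.mem_insert.1 hx with rfl | hx
      · exact Finset.mem_union_right _ (Finset.mem_image.2 ⟨_, hn, neg_neg _⟩)
      · exact hT2 hx
    · have key : ∀ v ∈ T, orth a v := fun v hv => by
        rcases h a (Finset.mem_insert_self _ _) v (Finset.mem_insert_of_mem (hT hv)) with e | e | e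
        · exact absurd (e ▸ hT hv) ha
        · exact absurd (show -a ∈ T by rw [e, neg_neg]; exact hv) hn
        · exact e
      refine ⟨insert a T, Finset.insert_subset_insert _ hT, ?_, fun x hx => ?_⟩
      · intro u hu v hv hne
        rcases Finset.mem_insert.1 hu with rfl | hu' <;> rcases Finset.mem_insert.1 hv with rfl | hv'
        · exact absurd rfl hne
        · exact key v hv'
        · exact hsym _ _ (key u hu')
        · exact hT1 u hu' v hv' hne
      · rcases Finset.mem_insert.1 hx with rfl | hx
        · exact Finset.mem_union_left _ (Finset.mem_insert_self _ _)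
        · rcases Finset.mem_union.1 (hT2 hx) with hx | hx
          · exact Finset.mem_union_left _ (Finset.mem_insert_of_mem hx)
          · exact Finset.mem_union_right _ (Finset.image_subset_image (Finset.subset_insert _ _) hx)

theorem full_classes {M C : Type*} [AddCommGroup M] [DecidableEq M] [Fintype C] [DecidableEq C] (red : M → C)
    (A B : Finset M) {orth : M → M → Prop} (hsym : ∀ u v, orth u v → orth v u)
    (hA : (0 : M) ∉ A) (hB : (0 : M) ∉ B) (hAB : Disjoint A B)
    (hpair : ∀ u ∈ insert 0 (A ∪ B), ∀ v ∈ insert 0 (A ∪ B), red u = red v →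
      u = v ∨ u = -v ∨ (u ∈ B ∧ v ∈ B ∧ orth u v))
    (horth : ∀ T ⊆ B, (∀ u ∈ T, ∀ v ∈ T, u ≠ v → orth u v) → T.card ≤ 24)
    (hcard : 48 + 24 * A.card + B.card = 48 * Fintype.card C) :
    (∀ c, ∃ u ∈ insert 0 (A ∪ B), red u = c) ∧
      ∀ u ∈ B, (B.filter fun v => red v = red u).card = 48 := by
  classical
  let S := insert (0 : M) (A ∪ B)
  let w : M → ℕ := fun v => if v = 0 then 48 else if v ∈ A then 24 else 1
  let W : C → ℕ := fun c => ∑ v ∈ S.filter (fun v => red v = c), w v
  have hle : ∀ c, W c ≤ 48 := by
    intro c
    by_cases h0 : red 0 = c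
    · have h : S.filter (fun v => red v = c) = {0} := by
        ext v
        rw [Finset.mem_filter, Finset.mem_singleton]
        refine ⟨fun ⟨hv, hc⟩ => ?_, fun hv => hv ▸ ⟨Finset.mem_insert_self _ _, h0⟩⟩
        rcases hpair v hv 0 (Finset.mem_insert_self _ _) (hc.trans h0.symm) with e | e | ⟨-, e, -⟩
        · exact e
        · rw [e, neg_zero]
        · exact absurd e hB
      simp [W, h, w]
    by_cases hA' : ∃ a ∈ A, red a = c
    · obtain ⟨a, ha, hac⟩ := hA'
      have ha0 : a ≠ 0 := fun h => hA (h ▸ ha)
      have hsub : S.filter (fun v => red v = c) ⊆ {a, -a} := fun v hv => by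
        rw [Finset.mem_filter] at hv
        rcases hpair v hv.1 a (Finset.mem_insert_of_mem (Finset.mem_union_left _ ha)) (hv.2.trans hac.symm) with
          e | e | ⟨-, e, -⟩
        · simp [e]
        · simp [e]
        · exact absurd (Finset.disjoint_left.1 hAB ha) (by simp [e])
      refine (Finset.sum_le_card_nsmul _ w 24 fun v hv => ?_).trans ?_
      · rw [Finset.mem_filter] at hv
        have hv0 : v ≠ 0 := fun h => h0 (h ▸ hv.2)
        simp only [w, if_neg hv0]
        split_ifs <;> omega
      · rw [smul_eq_mul]
        have := (Finset.card_le_card hsub).trans Finset.card_le_two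
        omega
    · have hmem : ∀ v ∈ S.filter (fun v => red v = c), v ∈ B ∧ red v = c := fun v hv => by
        rw [Finset.mem_filter] at hv
        refine ⟨?_, hv.2⟩
        rcases Finset.mem_insert.1 hv.1 with e | e
        · exact absurd (e ▸ hv.2) h0
        · rcases Finset.mem_union.1 e with e | e
          · exact absurd ⟨v, e, hv.2⟩ hA'
          · exact e
      obtain ⟨T, hT, hT1, hT2⟩ := exists_half hsym (S.filter fun v => red v = c) fun u hu v hv => by
        rcases hpair u (Finset.mem_filter.1 hu).1 v (Finset.mem_filter.1 hv).1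
          ((hmem u hu).2.trans (hmem v hv).2.symm) with e | e | ⟨-, -, e⟩
        · exact Or.inl e
        · exact Or.inr (Or.inl e)
        · exact Or.inr (Or.inr e)
      have h24 := horth T (fun v hv => (hmem v (hT hv)).1) hT1
      refine (Finset.sum_le_card_nsmul _ w 1 fun v hv => ?_).trans ?_
      · obtain ⟨hvB, -⟩ := hmem v hv
        have hv0 : v ≠ 0 := fun h => hB (h ▸ hvB)
        simp only [w, if_neg hv0, if_neg (Finset.disjoint_right.1 hAB hvB), le_refl]
      · rw [smul_eq_mul, mul_one]
        have := (Finset.card_le_card hT2).trans (Finset.card_union_le _ _)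
        have := Finset.card_image_le (f := (Neg.neg : M → M)) (s := T)
        omega
  have hsum : ∑ c, W c = ∑ _c : C, 48 := by
    simp only [W]
    rw [Finset.sum_fiberwise, Finset.sum_const, Finset.card_univ, smul_eq_mul, mul_comm, ← hcard,
      Finset.sum_insert (by simp [hA, hB]), Finset.sum_union hAB]
    have h1 : ∑ v ∈ A, w v = 24 * A.card := by
      rw [mul_comm, ← smul_eq_mul, ← Finset.sum_const]
      exact Finset.sum_congr rfl fun v hv => by
        simp only [w, if_neg (fun h : v = 0 => hA (h ▸ hv)), if_pos hv]
    have h2 : ∑ v ∈ B, w v = B.card := by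
      rw [Finset.card_eq_sum_ones]
      exact Finset.sum_congr rfl fun v hv => by
        simp only [w, if_neg (fun h : v = 0 => hB (h ▸ hv)), if_neg (Finset.disjoint_right.1 hAB hv)]
    rw [h1, h2]
    simp [w, add_assoc]
  have hfull : ∀ c, W c = 48 := fun c =>
    (Finset.sum_eq_sum_iff_of_le fun i _ => hle i).1 hsum c (Finset.mem_univ c)
  refine ⟨fun c => ?_, fun u hu => ?_⟩
  · by_contra hcon
    have : S.filter (fun v => red v = c) = ∅ := Finset.filter_eq_empty_iff.2 fun v hv hc => hcon ⟨v, hv, hc⟩
    have h := hfull c
    simp [W, this] at h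
  · have hu' : u ∈ S := Finset.mem_insert_of_mem (Finset.mem_union_right _ hu)
    have hu0 : u ≠ 0 := fun h => hB (h ▸ hu)
    have hfil : S.filter (fun v => red v = red u) = B.filter (fun v => red v = red u) := by
      ext v
      rw [Finset.mem_filter, Finset.mem_filter]
      refine ⟨fun ⟨hv, hc⟩ => ⟨?_, hc⟩, fun ⟨hv, hc⟩ => ⟨Finset.mem_insert_of_mem (Finset.mem_union_right _ hv), hc⟩⟩
      rcases hpair u hu' v hv hc.symm with e | e | ⟨-, e, -⟩
      · exact e ▸ hu
      · rcases Finset.mem_insert.1 hv with h | h
        · exact absurd (by rw [e, h, neg_zero]) hu0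
        · rcases Finset.mem_union.1 h with h | h
          · exfalso
            have hu2 := hpair v hv u hu' hc
            have h24 : w v = 24 := by
              simp only [w, if_neg (fun h' : v = 0 => hA (h' ▸ h)), if_pos h]
            have hsub : {u, v} ⊆ S.filter fun x => red x = red u := by
              intro x hx
              rw [Finset.mem_insert, Finset.mem_singleton] at hx
              rcases hx with rfl | rfl <;> simp [Finset.mem_filter, hu', hv, hc]
            have hfil2 : S.filter (fun x => red x = red u) = {u, v} := by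
              refine Finset.Subset.antisymm (fun x hx => ?_) hsub
              rw [Finset.mem_filter] at hx
              rcases hpair x hx.1 v hv (hx.2.trans hc.symm) with e' | e' | ⟨-, e', -⟩
              · simp [e']
              · simp [e', e]
              · exact absurd e' (Finset.disjoint_left.1 hAB h)
            have hne : u ≠ v := fun h' => Finset.disjoint_left.1 hAB h (h' ▸ hu)
            have := hfull (red u)
            simp only [W, hfil2, Finset.sum_pair hne, h24, w, if_neg hu0,
              if_neg (Finset.disjoint_right.1 hAB hu)] at this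
            omega
          · exact h
      · exact e
    have h := hfull (red u)
    simp only [W, hfil] at h
    rw [← h, Finset.card_eq_sum_ones]
    exact Finset.sum_congr rfl fun v hv => by
      have hvB := (Finset.mem_filter.1 hv).1
      simp only [w, if_neg (fun h' : v = 0 => hB (h' ▸ hvB)), if_neg (Finset.disjoint_right.1 hAB hvB)]

theorem orth_card_le {ι : Type*} [Fintype ι] (M : Matrix ι ι ℤ) (T : Finset (ι → ℤ))
    (hne : ∀ u ∈ T, u ⬝ᵥ M.mulVec u ≠ 0) (h : ∀ u ∈ T, ∀ v ∈ T, u ≠ v → u ⬝ᵥ M.mulVec v = 0) :
    T.card ≤ Fintype.card ι := by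
  classical
  have hli : LinearIndependent ℤ (fun u : T => (u : ι → ℤ)) := by
    rw [Fintype.linearIndependent_iff]
    intro g hg s
    have h1 := congrArg (fun y : ι → ℤ => y ⬝ᵥ M.mulVec (s : ι → ℤ)) hg
    simp only [sum_dotProduct, smul_dotProduct, zero_dotProduct, smul_eq_mul] at h1
    rw [Finset.sum_eq_single s (fun u _ hu => by rw [h u u.2 s s.2 (fun e => hu (Subtype.ext e)), mul_zero])
      (by simp)] at h1
    exact (mul_eq_zero.1 h1).resolve_right (hne s s.2)
  have := hli.fintype_card_le_finrank
  simpa using this

end Cfsg.Agent.Spor.Leech
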