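import Cfsg.Agent.Lib.Spor.Leech.Shapes
import Cfsg.Agent.Lib.Spor.Leech.Fibre

/-!
Classes of the rank 24 lattice modulo twice itself.
-/

set_option autoImplicit false
set_option maxRecDepth 100000

namespace Cfsg.Agent.Spor.Leech

open Cfsg

/-- Congruence modulo twice the lattice. -/
def Congr2 (x y : Vec) : Prop := ∃ z ∈ leechLattice, x - y = 2 • z

theorem norm_multiple {x : Vec} (hx : x ∈ leechLattice) :
    x = 0 ∨ sqNorm x = 32 ∨ sqNorm x = 48 ∨ sqNorm x = 64 ∨ 80 ≤ sqNorm x := by
  by_cases h : x = 0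
  · exact Or.inl h
  have := norm_ge hx h
  obtain ⟨k, hk⟩ := norm_dvd hx
  omega

theorem dot_one (x y : Vec) : x ⬝ᵥ (1 : Matrix GolayPt GolayPt ℤ).mulVec y = dotInt x y := by
  rw [Matrix.one_mulVec]; rfl

/-- The class map. -/
def cls : leechLattice → leechLattice ⧸ (leechLattice.map dbl).addSubgroupOf leechLattice := QuotientAddGroup.mk

theorem cls_eq {u v : leechLattice} : cls u = cls v ↔ Congr2 (u : Vec) (v : Vec) := by
  unfold cls
  rw [eq_comm, QuotientAddGroup.eq, AddSubgroup.mem_addSubgroupOf, AddSubgroup.mem_map]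
  have e : ((-v + u : leechLattice) : Vec) = (u : Vec) - (v : Vec) := by push_cast; abel
  rw [e]
  exact ⟨fun ⟨z, hz, h⟩ => ⟨z, hz, h.symm⟩, fun ⟨z, hz, h⟩ => ⟨z, hz, h.symm⟩⟩

theorem class_facts : (∀ c, ∃ u : leechLattice, sqNorm (u : Vec) ≤ 64 ∧ cls u = c) ∧
    ∀ u : leechLattice, sqNorm (u : Vec) = 64 →
      {v : leechLattice | sqNorm (v : Vec) = 64 ∧ cls v = cls u}.ncard = 48 := by
  classical
  have hfin : ∀ N, {v : leechLattice | sqNorm (v : Vec) = N}.Finite := fun N =>
    (finite_norm N).preimage Subtype.val_injective.injOn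
  have hcount : ∀ N, (hfin N).toFinset.card = {x : Vec | x ∈ leechLattice ∧ sqNorm x = N}.ncard := by
    intro N
    rw [← Set.ncard_eq_toFinset_card _ (hfin N), ← Set.ncard_image_of_injective _ Subtype.val_injective]
    congr 1
    ext x
    simp only [Set.mem_image, Set.mem_setOf_eq]
    exact ⟨fun ⟨v, hv, e⟩ => e ▸ ⟨v.2, hv⟩, fun h => ⟨⟨x, h.1⟩, h.2, rfl⟩⟩
  haveI : Finite (leechLattice ⧸ (leechLattice.map dbl).addSubgroupOf leechLattice) :=
    Nat.finite_of_card_ne_zero (by
      show (leechLattice.map dbl).relIndex leechLattice ≠ 0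
      rw [index_twice]; norm_num)
  letI := Fintype.ofFinite (leechLattice ⧸ (leechLattice.map dbl).addSubgroupOf leechLattice)
  let A := (hfin 32).toFinset ∪ (hfin 48).toFinset
  let B := (hfin 64).toFinset
  have h0 : sqNorm ((0 : leechLattice) : Vec) = 0 := by simp [sqNorm]
  have hcard : 48 + 24 * A.card + B.card =
      48 * Fintype.card (leechLattice ⧸ (leechLattice.map dbl).addSubgroupOf leechLattice) := by
    rw [← Nat.card_eq_fintype_card]
    show _ = 48 * (leechLattice.map dbl).relIndex leechLattice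
    rw [index_twice, Finset.card_union_of_disjoint (by
      rw [Finset.disjoint_left]; intro v h h'; simp only [Set.Finite.mem_toFinset, Set.mem_setOf_eq] at h h'; omega),
      hcount, hcount, hcount, ncard_32, ncard_48, ncard_64]
    norm_num
  obtain ⟨h1, h2⟩ := full_classes cls A B (orth := fun u v => dotInt (u : Vec) (v : Vec) = 0)
    (fun u v h => by rwa [dotInt_comm])
    (by simp [A, sqNorm]) (by simp [B, sqNorm])
    (by rw [Finset.disjoint_left]; intro v h h'
        simp only [A, B, Finset.mem_union, Set.Finite.mem_toFinset, Set.mem_setOf_eq] at h h'; omega)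
    (fun u hu v hv he => by
      have hle : ∀ w ∈ insert 0 (A ∪ B), sqNorm ((w : leechLattice) : Vec) ≤ 64 := fun w hw => by
        simp only [A, B, Finset.mem_insert, Finset.mem_union, Set.Finite.mem_toFinset, Set.mem_setOf_eq] at hw
        rcases hw with rfl | h <;> omega
      rcases congr_short u.2 v.2 (hle u hu) (hle v hv) (cls_eq.1 he) with e | e | ⟨a, b, d⟩
      · exact Or.inl (Subtype.ext e)
      · exact Or.inr (Or.inl (Subtype.ext e))
      · exact Or.inr (Or.inr ⟨by simpa [B] using a, by simpa [B] using b, d⟩))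
    (fun T hT h => by
      have := orth_card_le (1 : Matrix GolayPt GolayPt ℤ) (T.image Subtype.val)
        (fun x hx => by
          obtain ⟨u, hu, rfl⟩ := Finset.mem_image.1 hx
          have h64 : sqNorm (u : Vec) = 64 := by simpa [B] using hT hu
          rw [dot_one, show dotInt (u : Vec) u = sqNorm (u : Vec) from
            Finset.sum_congr rfl fun i _ => by ring, h64]
          norm_num)
        (fun x hx y hy hne => by
          obtain ⟨u, hu, rfl⟩ := Finset.mem_image.1 hx
          obtain ⟨v, hv, rfl⟩ := Finset.mem_image.1 hy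
          rw [dot_one]
          exact h u hu v hv fun e => hne (e ▸ rfl))
      rwa [Finset.card_image_of_injective _ Subtype.val_injective, Golay.card_golayPt] at this)
    hcard
  refine ⟨fun c => ?_, fun u hu => ?_⟩
  · obtain ⟨v, hv, hc⟩ := h1 c
    refine ⟨v, ?_, hc⟩
    simp only [A, B, Finset.mem_insert, Finset.mem_union, Set.Finite.mem_toFinset, Set.mem_setOf_eq] at hv
    rcases hv with rfl | h <;> omega
  · rw [← h2 u (by simpa [B] using hu), ← Set.ncard_coe_finset]
    congr 1
    ext v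
    simp [B]

/-- Every member is congruent to one of norm at most 64. -/
theorem exists_short {x : Vec} (hx : x ∈ leechLattice) :
    ∃ y ∈ leechLattice, sqNorm y ≤ 64 ∧ Congr2 x y := by
  obtain ⟨u, hu, hc⟩ := class_facts.1 (cls ⟨x, hx⟩)
  exact ⟨u, u.2, hu, cls_eq.1 hc.symm⟩

/-- A cross has 48 members. -/
theorem ncard_cross {x : Vec} (hx : x ∈ leechLattice) (hn : sqNorm x = 64) : (cross x).ncard = 48 := by
  rw [← class_facts.2 ⟨x, hx⟩ hn, ← Set.ncard_image_of_injective _ Subtype.val_injective]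
  congr 1
  ext y
  simp only [cross, Set.mem_setOf_eq, Set.mem_image]
  constructor
  · rintro ⟨hy, hyn, hc⟩
    exact ⟨⟨y, hy⟩, ⟨hyn.trans hn, ((cls_eq (u := ⟨x, hx⟩) (v := ⟨y, hy⟩)).2 hc).symm⟩, rfl⟩
  · rintro ⟨v, ⟨hv, hc⟩, rfl⟩
    exact ⟨v.2, hv.trans hn.symm, cls_eq.1 hc.symm⟩

end Cfsg.Agent.Spor.Leech
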