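import Cfsg.Agent.Lib.Spor.Leech.Co
import Cfsg.Agent.Lib.Spor.Leech.Classes

/-!
Transitivity of the automorphism group of the rank 24 lattice on the members of the three smallest nonzero norms.
-/

set_option autoImplicit false
set_option maxRecDepth 100000

namespace Cfsg.Agent.Spor.Leech

open Cfsg
open scoped Pointwise

/-- Membership in the same orbit. -/
def Conn (x y : Vec) : Prop :=
  ∃ (g : Co0) (v : leechLattice), (v : Vec) = x ∧ ((g • v : leechLattice) : Vec) = y

theorem Conn.refl {x : Vec} (hx : x ∈ leechLattice) : Conn x x := ⟨1, ⟨x, hx⟩, rfl, by rw [one_smul]⟩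

theorem Conn.symm {x y : Vec} (h : Conn x y) : Conn y x := by
  obtain ⟨g, v, rfl, rfl⟩ := h
  exact ⟨g⁻¹, g • v, rfl, by rw [inv_smul_smul]⟩

theorem Conn.trans {x y z : Vec} (h : Conn x y) (h' : Conn y z) : Conn x z := by
  obtain ⟨g, v, rfl, rfl⟩ := h
  obtain ⟨g', w, hw, rfl⟩ := h'
  obtain rfl : w = g • v := Subtype.ext hw
  exact ⟨g' * g, v, rfl, by rw [mul_smul]⟩

theorem Conn.mem {x y : Vec} (h : Conn x y) : y ∈ leechLattice := by
  obtain ⟨g, v, -, rfl⟩ := h; exact (g • v).2

theorem Conn.norm {x y : Vec} (h : Conn x y) : sqNorm y = sqNorm x := by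
  obtain ⟨g, v, rfl, rfl⟩ := h; exact co_norm g v

theorem conn_xi {x : Vec} (hx : x ∈ leechLattice) : Conn x (xiFun x) := ⟨xi, ⟨x, hx⟩, rfl, xi_apply _⟩

theorem conn_flip {x : Vec} (hx : x ∈ leechLattice) {c : Finset GolayPt}
    (hc : c ∈ supports (golayCode : Set (GolayPt → ZMod 2))) {σ : Equiv.Perm GolayPt} (hσ : σ ∈ M24) :
    Conn x (flip c fun i => x (σ i)) :=
  ⟨mono (mem_symm hσ) hc, ⟨x, hx⟩, rfl, by rw [mono_apply]; rfl⟩

/-- Moving a list of at most five points to the base points. -/
theorem exists_move (L : List GolayPt) (hL : L.Nodup) (hlen : L.length ≤ 5) : ∃ σ ∈ M24,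
    (∀ (i : Fin 5) (h : i.val < L.length), σ (Golay.base5 i) = L[i.val]) ∧
      ∀ q : GolayPt, (∀ i : Fin 5, i.val < L.length → q ≠ Golay.base5 i) → σ q ∉ L := by
  classical
  let L' := L ++ (Finset.univ \ L.toFinset).toList
  have hL' : L'.Nodup := by
    refine List.nodup_append.2 ⟨hL, Finset.nodup_toList _, ?_⟩
    intro a ha b hb e
    subst e
    rw [Finset.mem_toList, Finset.mem_sdiff, List.mem_toFinset] at hb
    exact hb.2 ha
  have hlen' : 5 ≤ L'.length := by
    simp only [L', List.length_append, Finset.length_toList]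
    rw [Finset.card_sdiff_of_subset (Finset.subset_univ _), List.toFinset_card_of_nodup hL, Finset.card_univ,
      Golay.card_golayPt]
    omega
  obtain ⟨g, hg, hgi⟩ := Golay.exists_base5
    ⟨fun i : Fin 5 => L'[i.val]'(lt_of_lt_of_le i.isLt hlen'), fun i j h =>
      Fin.ext ((List.Nodup.getElem_inj_iff hL').1 h)⟩
  refine ⟨g, hg, fun i h => ?_, fun q hq hmem => ?_⟩
  · rw [hgi i]
    exact List.getElem_append_left h
  · obtain ⟨j, hj, he⟩ := List.getElem_of_mem hmem
    refine hq ⟨j, by omega⟩ hj (g.injective ?_)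
    rw [hgi, ← he]
    exact (List.getElem_append_left hj).symm

/-- An odd pattern on the base points. -/
def patB (n p : ℕ) : Vec := fun q =>
  if ∃ i : Fin 5, i.val < n ∧ q = Golay.base5 i then -1
  else if ∃ i : Fin 5, i.val < n + p ∧ q = Golay.base5 i then 1 else 0

/-- The odd vector of a pattern. -/
def patO (n p : ℕ) : Vec := fun q => 1 + 4 * patB n p q

theorem odd_conn {x : Vec} {j : ℕ} (hj : j ≤ 5) (hx : x ∈ leechLattice) (hn : sqNorm x = 24 + 8 * (j : ℤ))
    (h1 : x none % 2 = 1) :
    ∃ n p : ℕ, n = (Finset.univ.filter fun i => |x i| = 3).card ∧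
      p = (Finset.univ.filter fun i => |x i| = 5).card ∧ n + 3 * p = j ∧ Conn x (patO n p) := by
  classical
  obtain ⟨c, hc, b, rfl, hk, -, hv⟩ := (oddSet_iff hj).2 ⟨hx, hn, h1⟩
  have hv' : ∀ i, b i = 0 ∨ b i = -1 ∨ b i = 1 := fun i => by
    simpa [oddVals] using hv i
  set N := Finset.univ.filter fun i => b i = -1 with hN
  set P := Finset.univ.filter fun i => b i = 1 with hP
  have hNe : N = Finset.univ.filter fun i => |flip c (fun q => 1 + 4 * b q) i| = 3 := by
    refine Finset.filter_congr fun i _ => ?_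
    unfold flip
    rcases hv' i with h | h | h <;> split_ifs <;> simp [h]
  have hPe : P = Finset.univ.filter fun i => |flip c (fun q => 1 + 4 * b q) i| = 5 := by
    refine Finset.filter_congr fun i _ => ?_
    unfold flip
    rcases hv' i with h | h | h <;> split_ifs <;> simp [h]
  have hcost : N.card + 3 * P.card = j := by
    rw [← hk, hN, hP, Finset.card_filter, Finset.card_filter, Finset.mul_sum, ← Finset.sum_add_distrib]
    refine Finset.sum_congr rfl fun i _ => ?_
    rcases hv' i with h | h | h <;> simp [h, oddCost]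
  refine ⟨N.card, P.card, by rw [← hNe], by rw [← hPe], hcost, ?_⟩
  obtain ⟨σ, hσ, hbase, hout⟩ := exists_move (N.toList ++ P.toList) (by
    refine List.nodup_append.2 ⟨Finset.nodup_toList _, Finset.nodup_toList _, ?_⟩
    intro a ha d hd e
    subst e
    simp only [hN, hP, Finset.mem_toList, Finset.mem_filter] at ha hd
    omega) (by simp only [List.length_append, Finset.length_toList]; omega)
  have hlen : (N.toList ++ P.toList).length = N.card + P.card := by simp
  have hNm : ∀ q ∈ N, b q = -1 := fun q hq => by rw [hN, Finset.mem_filter] at hq; exact hq.2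
  have hPm : ∀ q ∈ P, b q = 1 := fun q hq => by rw [hP, Finset.mem_filter] at hq; exact hq.2
  have hbσ : (fun q => b (σ q)) = patB N.card P.card := by
    funext q
    unfold patB
    split_ifs with h h'
    · obtain ⟨i, hi, rfl⟩ := h
      rw [hbase i (by omega), List.getElem_append_left (by simpa using hi)]
      have hm : N.toList[i.val]'(by simpa using hi) ∈ N := Finset.mem_toList.1 (List.getElem_mem _)
      exact hNm _ hm
    · obtain ⟨i, hi, rfl⟩ := h'
      have hge : N.card ≤ i.val := by
        by_contra hlt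
        exact h ⟨i, by omega, rfl⟩
      rw [hbase i (by omega), List.getElem_append_right (by simpa using hge)]
      have hm : P.toList[i.val - N.toList.length]'(by simp only [Finset.length_toList]; omega) ∈ P :=
        Finset.mem_toList.1 (List.getElem_mem _)
      exact hPm _ hm
    · have := hout q (fun i hi e => h' ⟨i, by omega, e⟩)
      simp only [List.mem_append, Finset.mem_toList, hN, hP, Finset.mem_filter, Finset.mem_univ, true_and] at this
      rcases hv' (σ q) with e | e | e
      · exact e
      · exact absurd (Or.inl e) this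
      · exact absurd (Or.inr e) this
  have h1 := conn_flip hx hc (one_mem M24)
  have e1 : (flip c fun i => flip c (fun q => 1 + 4 * b q) ((1 : Equiv.Perm GolayPt) i)) = fun q => 1 + 4 * b q :=
    flip_flip c fun q => 1 + 4 * b q
  rw [e1] at h1
  have h2 := conn_flip h1.mem empty_code hσ
  have e2 : (flip ∅ fun i => (fun q => 1 + 4 * b q) (σ i)) = patO N.card P.card := by
    funext q
    unfold patO
    rw [← congrFun hbσ q]
    simp [flip]
  rw [e2] at h2
  exact h1.trans h2

/-- The code word masks meeting each tetrad oddly. -/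
def oddMeet : List ℕ := [13062145, 8245261, 14676119]

theorem oddMeet_check : ∀ m ∈ oddMeet, m ∈ Golay.codeList ∧
    ∀ i, ((Finset.univ.filter fun j => tet j = tet i) ∩ Golay.pts m).card % 2 = 1 := by
  intro m hm
  rw [Golay.mem_codeList]
  revert m
  decide +kernel

theorem oddMeet_pop : Golay.pop 13062145 = 8 ∧ Golay.pop 8245261 = 12 ∧
    Golay.isCode (16777215 ^^^ 14676119) = true ∧ Golay.pop (16777215 ^^^ 14676119) = 8 := by decide +kernel

theorem smul_supports {σ : Equiv.Perm GolayPt} (hσ : σ ∈ M24) {s : Finset GolayPt}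
    (hs : s ∈ supports (golayCode : Set (GolayPt → ZMod 2))) :
    σ • s ∈ supports (golayCode : Set (GolayPt → ZMod 2)) := by
  have := Set.smul_mem_smul_set (a := σ) hs
  rwa [MulAction.mem_stabilizer_iff.1 hσ] at this

theorem exists_oddMeet {s : Finset GolayPt} (hs : s ∈ supports (golayCode : Set (GolayPt → ZMod 2)))
    (hcard : s.card = 8 ∨ s.card = 12 ∨ s.card = 16) : ∃ σ ∈ M24, ∃ m ∈ oddMeet, σ • Golay.pts m = s := by
  have hoct : ∀ o ∈ octads, ∀ t ∈ octads, ∃ σ ∈ M24, σ • o = t := fun o ho t ht => by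
    obtain ⟨g, hg, rfl⟩ := Golay.exists_smul_octA ho
    obtain ⟨h, hh, rfl⟩ := Golay.exists_smul_octA ht
    exact ⟨h * g⁻¹, mul_mem hh (inv_mem hg), by rw [mul_smul, inv_smul_smul]⟩
  have hmem : ∀ m ∈ oddMeet, Golay.pts m ∈ supports (golayCode : Set (GolayPt → ZMod 2)) := fun m hm =>
    Golay.mem_supports.2 ⟨m, (oddMeet_check m hm).1, rfl⟩
  rcases hcard with h | h | h
  · obtain ⟨σ, hσ, e⟩ := hoct _ (show Golay.pts 13062145 ∈ octads from
      ⟨hmem _ (by simp [oddMeet]), by rw [Golay.card_pts]; exact oddMeet_pop.1⟩) s ⟨hs, h⟩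
    exact ⟨σ, hσ, _, by simp [oddMeet], e⟩
  · obtain ⟨g, hg, e1⟩ := Golay.exists_smul_dd (show Golay.pts 8245261 ∈ dodecads from
      ⟨hmem _ (by simp [oddMeet]), by rw [Golay.card_pts]; exact oddMeet_pop.2.1⟩)
    obtain ⟨k, hk, e2⟩ := Golay.exists_smul_dd (show s ∈ dodecads from ⟨hs, h⟩)
    exact ⟨k * g⁻¹, mul_mem hk (inv_mem hg), 8245261, by simp [oddMeet],
      by rw [← e1, mul_smul, inv_smul_smul, e2]⟩
  · have hsc : sᶜ ∈ octads := by
      refine ⟨?_, by rw [Finset.card_compl, h, Golay.card_golayPt]⟩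
      have := Golay.symmDiff_mem_supports univ_code hs
      have e : symmDiff Finset.univ s = sᶜ := by
        ext i; simp [Finset.mem_symmDiff]
      rwa [e] at this
    obtain ⟨σ, hσ, e⟩ := hoct _ (show Golay.pts (16777215 ^^^ 14676119) ∈ octads from
      ⟨Golay.mem_supports.2 ⟨_, Golay.mem_codeList.2 oddMeet_pop.2.2.1, rfl⟩,
        by rw [Golay.card_pts]; exact oddMeet_pop.2.2.2⟩) sᶜ hsc
    refine ⟨σ, hσ, 14676119, by simp [oddMeet], ?_⟩
    rw [← Golay.pts_compl] at e
    ext i
    have h1 := congrArg (fun t => i ∈ t) e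
    simp only [Finset.mem_compl, eq_iff_iff] at h1
    rw [← Finset.inv_smul_mem_iff] at h1 ⊢
    rw [Finset.mem_compl] at h1
    exact not_iff_not.1 h1

theorem even_to_odd {x : Vec} (hx : x ∈ leechLattice) (hn : sqNorm x ≤ 64) (h0 : x none % 2 = 0)
    (hne : ∃ i, x i % 4 ≠ 0) : ∃ y, Conn x y ∧ y none % 2 = 1 := by
  obtain ⟨m, a, hm, hxa, hca, hs⟩ := mem_lattice.1 hx
  have : m = 0 := by have := hxa none; omega
  subst this
  have hsq := sq_le_sum (a := a)
  have he : sqNorm x = 4 * ∑ i, a i * a i := by
    rw [sqNorm, Finset.mul_sum]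
    exact Finset.sum_congr rfl fun i _ => by rw [hxa]; ring
  have hcard : (support₂ (par a)).card = 8 ∨ (support₂ (par a)).card = 12 ∨ (support₂ (par a)).card = 16 := by
    obtain ⟨i, hi⟩ := hne
    have hi' : i ∈ support₂ (par a) := by
      rw [support₂, Finset.mem_filter]
      exact ⟨Finset.mem_univ _, intCast_zmod2_ne_zero.2 (by have := hxa i; omega)⟩
    have := Finset.card_pos.2 ⟨i, hi'⟩
    rcases code_weight hca with h | h | h | h | h <;> omega
  obtain ⟨σ, hσ, o, ho, hσo⟩ := exists_oddMeet ⟨par a, hca, rfl⟩ hcard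
  have h1 := conn_flip hx empty_code hσ
  refine ⟨_, h1.trans (conn_xi h1.mem), ?_⟩
  have hsum : ∀ s : Finset GolayPt, (∑ j ∈ s, a (σ j)) % 2 = (((s ∩ Golay.pts o).card : ℕ) : ℤ) % 2 := by
    intro s
    rw [Finset.sum_int_mod, ← Finset.filter_mem_eq_inter, Finset.card_filter, Nat.cast_sum]
    congr 1
    refine Finset.sum_congr rfl fun j _ => ?_
    have hj : j ∈ Golay.pts o ↔ a (σ j) % 2 = 1 := by
      rw [← intCast_zmod2_ne_zero, ← Finset.smul_mem_smul_finset_iff σ, hσo, support₂, Finset.mem_filter]
      simp [par]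
    split_ifs with h
    · simpa using hj.1 h
    · have := mt hj.2 h
      simp only [Nat.cast_zero]
      omega
  have h2 := hsum (Finset.univ.filter fun j => tet j = tet none)
  have h3 := (oddMeet_check o ho).2 none
  have e : (flip ∅ fun i => x (σ i)) = fun i => 2 * a (σ i) := by
    funext i; simp [flip, hxa (σ i)]
  rw [e]
  unfold xiFun
  dsimp only
  rw [show (∑ j, if tet j = tet none then 2 * a (σ j) else 0) =
      2 * ∑ j ∈ Finset.univ.filter (fun j => tet j = tet none), a (σ j) by rw [Finset.mul_sum, Finset.sum_filter]]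
  split_ifs <;> omega

/-- A four-valued pattern on the base points. -/
def patF (k : ℕ) (v : ℤ) : Vec := fun q => if ∃ i : Fin 5, i.val < k ∧ q = Golay.base5 i then v else 0

/-- Code words separating the base points. -/
theorem exists_sep : ∀ j : Fin 5, ∃ m ∈ Golay.codeList, ∀ i : Fin 5,
    m.testBit (Golay.idx (Golay.base5 i)) = decide (i = j) := by decide +kernel

theorem exists_sign (s : Finset (Fin 5)) : ∃ c ∈ supports (golayCode : Set (GolayPt → ZMod 2)),
    ∀ i, Golay.base5 i ∈ c ↔ i ∈ s := by
  induction s using Finset.induction_on with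
  | empty => exact ⟨∅, empty_code, fun i => by simp⟩
  | @insert a s ha ih =>
    obtain ⟨c, hc, hci⟩ := ih
    obtain ⟨m, hm, hmi⟩ := exists_sep a
    refine ⟨symmDiff c (Golay.pts m), Golay.symmDiff_mem_supports hc (Golay.mem_supports.2 ⟨m, hm, rfl⟩), fun i => ?_⟩
    rw [Finset.mem_symmDiff, Golay.mem_pts, hmi, hci, Finset.mem_insert, decide_eq_true_iff]
    constructor
    · rintro (⟨h, -⟩ | ⟨h, -⟩)
      · exact Or.inr h
      · exact Or.inl h
    · rintro (rfl | h)
      · exact Or.inr ⟨rfl, ha⟩
      · exact Or.inl ⟨h, fun e => ha (e ▸ h)⟩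

theorem zero_conn {x : Vec} {v : ℤ} (hv : 0 < v) (hx : x ∈ leechLattice) (hvals : ∀ i, x i = 0 ∨ |x i| = v)
    (hcard : (Finset.univ.filter fun i => x i ≠ 0).card ≤ 5) :
    Conn x (patF (Finset.univ.filter fun i => x i ≠ 0).card v) := by
  classical
  set S := Finset.univ.filter fun i => x i ≠ 0 with hS
  obtain ⟨σ, hσ, hbase, hout⟩ := exists_move S.toList (Finset.nodup_toList _) (by rwa [Finset.length_toList])
  obtain ⟨c, hc, hci⟩ := exists_sign (Finset.univ.filter fun i => x (σ (Golay.base5 i)) < 0)
  have h1 := conn_flip hx hc hσ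
  have e : (flip c fun i => x (σ i)) = patF S.card v := by
    funext q
    unfold patF
    split_ifs with h
    · obtain ⟨i, hi, rfl⟩ := h
      have hmem : σ (Golay.base5 i) ∈ S := by
        rw [hbase i (by rwa [Finset.length_toList])]
        exact Finset.mem_toList.1 (List.getElem_mem _)
      have hne := (Finset.mem_filter.1 hmem).2
      have habs := (hvals _).resolve_left hne
      have := hci i
      simp only [Finset.mem_filter, Finset.mem_univ, true_and] at this
      unfold flip
      dsimp only
      rcases (abs_eq hv.le).1 habs with h | h <;> split_ifs with hq <;> rw [this] at hq <;> omega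
    · have hq := hout q fun i hi e => h ⟨i, by rwa [Finset.length_toList] at hi, e⟩
      simp only [Finset.mem_toList, hS, Finset.mem_filter, Finset.mem_univ, true_and, not_not] at hq
      unfold flip
      split_ifs <;> simp [hq]
  rwa [e] at h1

/-- A vector from its list of entries. -/
def ofList (l : List ℤ) : Vec := fun q => l.getD (Golay.idx q) 0

/-- Whether a vector lies in the lattice. -/
def inL (x : Vec) : Bool :=
  decide (∀ i, (x i - x none) % 2 = 0) &&
  decide ((∑ i, x i) % 8 = 4 * (x none % 2)) &&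
  Golay.isCode ((List.range 24).foldl
    (fun acc i => if (x (Golay.pt i) - x none % 2) / 2 % 2 = 1 then acc ||| 2 ^ i else acc) 0)

theorem mem_of_inL {x : Vec} (h : inL x = true) : x ∈ leechLattice := by
  simp only [inL, Bool.and_eq_true, decide_eq_true_eq] at h
  obtain ⟨⟨hp, hs⟩, hc⟩ := h
  refine mem_lattice.2 ⟨x none % 2, fun i => (x i - x none % 2) / 2,
    Int.emod_two_eq_zero_or_one _, fun i => by dsimp only; have := hp i; omega, ?_, by rw [Int.ModEq]; omega⟩
  set m := (List.range 24).foldl
    (fun acc i => if (x (Golay.pt i) - x none % 2) / 2 % 2 = 1 then acc ||| 2 ^ i else acc) 0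
  have e : par (fun i => (x i - x none % 2) / 2) = Golay.vec m := by
    refine Golay.eq_of_support ?_
    ext p
    rw [Golay.support_vec, Golay.mem_pts, testBit_fold, support₂, Finset.mem_filter]
    simp [Golay.pt_idx, Golay.idx_lt, par, intCast_zmod2_ne_zero]
  rw [e]; exact Golay.mem_golayCode.2 ⟨m, Golay.mem_codeList.2 hc, rfl⟩

/-- The vectors used as bridges. -/
def bridge : List (List ℤ) :=
  [[4, 0, 0, 0, 0, 0, 0, 0, 0, 0, 0, 0, 0, 4, 0, 0, 0, 0, 0, 0, 0, 0, 0, 0],
    [1, 1, -1, -1, 1, 1, -1, 3, -1, -1, 3, 1, -3, -1, 1, -1, -1, -1, -1, -1, -1, -1, 1, -1],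
    [-1, 1, 1, -1, -1, 3, -1, -1, -3, -1, 1, 1, 1, 3, -1, -3, 3, 1, -1, -1, 1, 1, 1, 1],
    [4, 4, 4, -4, 0, 0, 0, 0, 0, 0, 0, 0, 0, 0, 0, 0, 0, 0, 0, 0, 0, 0, 0, 0],
    [4, 0, 0, 0, 0, 4, 0, 0, 4, 0, 0, 0, 0, 4, 0, 0, 0, 0, 0, 0, 0, 0, 0, 0]]

theorem bridge_mem : (bridge.all fun l => inL (ofList l)) = true := by decide +kernel

theorem bridge_conn {l : List ℤ} (h : l ∈ bridge) : Conn (ofList l) (xiFun (ofList l)) :=
  conn_xi (mem_of_inL (List.all_eq_true.1 bridge_mem l h))

theorem orbit_32 {x : Vec} (hx : x ∈ leechLattice) (hn : sqNorm x = 32) : Conn x (patO 1 0) := by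
  have hodd : ∀ {z : Vec}, z ∈ leechLattice → sqNorm z = 32 → z none % 2 = 1 → Conn z (patO 1 0) := by
    intro z hz hzn h
    obtain ⟨n, p, -, -, hnp, hc⟩ := odd_conn (j := 1) (by norm_num) hz (by rw [hzn]; norm_num) h
    obtain ⟨rfl, rfl⟩ : n = 1 ∧ p = 0 := by omega
    exact hc
  have heven : ∀ {z : Vec}, z ∈ leechLattice → sqNorm z = 32 → z none % 2 = 0 → (∃ i, z i % 4 ≠ 0) →
      Conn z (patO 1 0) := by
    intro z hz hzn h0 hne
    obtain ⟨y, hy, hy1⟩ := even_to_odd hz (by omega) h0 hne
    exact hy.trans (hodd hy.mem (hy.norm.trans hzn) hy1)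
  rcases Int.emod_two_eq_zero_or_one (x none) with h0 | h1
  · by_cases hne : ∃ i, x i % 4 ≠ 0
    · exact heven hx hn h0 hne
    · simp only [not_exists, not_not] at hne
      have hfour := zero_shape hx hn hne
      have h2 : Conn (ofList bridge[0]) (patF 2 4) := by
        have hv := zero_conn (v := 4) (by norm_num) (x := ofList bridge[0]) (bridge_conn (by simp [bridge])).symm.mem
          (by decide +kernel) (by decide +kernel)
        rwa [show (Finset.univ.filter fun i => ofList bridge[0] i ≠ 0).card = 2 by decide +kernel] at hv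
      refine hfour.trans (h2.symm.trans ((bridge_conn (by simp [bridge])).trans (heven
        (bridge_conn (by simp [bridge])).mem ?_ (by decide +kernel) (by decide +kernel))))
      decide +kernel
  · exact hodd hx hn h1
where
  zero_shape {x : Vec} (hx : x ∈ leechLattice) (hn : sqNorm x = 32) (h4 : ∀ i, x i % 4 = 0) :
      Conn x (patF 2 4) := by
    have hb : ∀ i, x i = 4 * (x i / 4) := fun i => by have := h4 i; omega
    have he : ∑ i, (x i / 4) * (x i / 4) = 2 := by
      have : sqNorm x = 16 * ∑ i, (x i / 4) * (x i / 4) := by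
        rw [sqNorm, Finset.mul_sum]
        exact Finset.sum_congr rfl fun i _ => by linear_combination (x i + 4 * (x i / 4)) * (hb i)
      omega
    have hle : ∀ i, x i / 4 = 0 ∨ x i / 4 = 1 ∨ x i / 4 = -1 := fun i => by
      have h := Finset.single_le_sum (f := fun j => (x j / 4) * (x j / 4)) (fun j _ => mul_self_nonneg (x j / 4))
        (Finset.mem_univ i)
      rw [he] at h
      have h1 : -1 ≤ x i / 4 := by nlinarith
      have h2 : x i / 4 ≤ 1 := by nlinarith
      omega
    have hc : (Finset.univ.filter fun i => x i ≠ 0).card = 2 := by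
      have : (((Finset.univ.filter fun i => x i ≠ 0).card : ℕ) : ℤ) = 2 := by
        rw [← he, Finset.card_filter, Nat.cast_sum]
        refine Finset.sum_congr rfl fun i _ => ?_
        have := hb i
        rcases hle i with h | h | h <;> rw [h] at this ⊢ <;> simp [this]
      exact_mod_cast this
    have h := zero_conn (v := 4) (by norm_num) hx (fun i => by
      have := hb i
      rcases hle i with h | h | h <;> rw [h] at this <;> simp [this]) (by omega)
    rwa [hc] at h

theorem orbit_48 {x : Vec} (hx : x ∈ leechLattice) (hn : sqNorm x = 48) : Conn x (patO 0 1) := by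
  have hodd : ∀ {z : Vec}, z ∈ leechLattice → sqNorm z = 48 → z none % 2 = 1 →
      Conn z (patO 3 0) ∨ Conn z (patO 0 1) := by
    intro z hz hzn h
    obtain ⟨n, p, -, -, hnp, hc⟩ := odd_conn (j := 3) (by norm_num) hz (by rw [hzn]; norm_num) h
    rcases (show n = 3 ∧ p = 0 ∨ n = 0 ∧ p = 1 by omega) with ⟨rfl, rfl⟩ | ⟨rfl, rfl⟩
    · exact Or.inl hc
    · exact Or.inr hc
  have hedge : Conn (patO 3 0) (patO 0 1) := by
    have hb := bridge_conn (l := bridge[1]) (by simp [bridge])
    obtain ⟨n, p, en, ep, -, hc⟩ := odd_conn (j := 3) (by norm_num) hb.symm.mem (by decide +kernel) (by decide +kernel)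
    obtain ⟨n', p', en', ep', -, hc'⟩ := odd_conn (j := 3) (by norm_num) hb.mem (by decide +kernel) (by decide +kernel)
    obtain rfl : n = 3 := en.trans (by decide +kernel)
    obtain rfl : p = 0 := ep.trans (by decide +kernel)
    obtain rfl : n' = 0 := en'.trans (by decide +kernel)
    obtain rfl : p' = 1 := ep'.trans (by decide +kernel)
    exact hc.symm.trans (hb.trans hc')
  have hodd' : ∀ {z : Vec}, z ∈ leechLattice → sqNorm z = 48 → z none % 2 = 1 → Conn z (patO 0 1) :=
    fun hz hzn h => (hodd hz hzn h).elim (fun c => c.trans hedge) id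
  rcases Int.emod_two_eq_zero_or_one (x none) with h0 | h1
  · by_cases hne : ∃ i, x i % 4 ≠ 0
    · obtain ⟨y, hy, hy1⟩ := even_to_odd hx (by omega) h0 hne
      exact hy.trans (hodd' hy.mem (hy.norm.trans hn) hy1)
    · exfalso
      simp only [not_exists, not_not] at hne
      obtain ⟨m, a, hm, hxa, hca, hs⟩ := mem_lattice.1 hx
      have hb : ∀ i, x i = 4 * (x i / 4) := fun i => by have := hne i; omega
      have : sqNorm x = 16 * ∑ i, (x i / 4) * (x i / 4) := by
        rw [sqNorm, Finset.mul_sum]
        exact Finset.sum_congr rfl fun i _ => by linear_combination (x i + 4 * (x i / 4)) * (hb i)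
      have h3 : (∑ i, (x i / 4) * (x i / 4)) % 2 = (∑ i, x i / 4) % 2 := by
        rw [Finset.sum_int_mod, Finset.sum_int_mod (f := fun i => x i / 4)]
        refine congrArg (· % 2) (Finset.sum_congr rfl fun i _ => ?_)
        have := sq_emod_four (x i / 4)
        omega
      rw [Finset.sum_congr rfl fun i _ => hb i, ← Finset.mul_sum, Int.ModEq] at hs
      have := hxa none
      omega
  · exact hodd' hx hn h1

theorem orbit_64 {x : Vec} (hx : x ∈ leechLattice) (hn : sqNorm x = 64) : Conn x (patF 1 8) := by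
  have hodd : ∀ {z : Vec}, z ∈ leechLattice → sqNorm z = 64 → z none % 2 = 1 →
      Conn z (patO 5 0) ∨ Conn z (patO 2 1) := by
    intro z hz hzn h
    obtain ⟨n, p, -, -, hnp, hc⟩ := odd_conn (j := 5) (by norm_num) hz (by rw [hzn]; norm_num) h
    rcases (show n = 5 ∧ p = 0 ∨ n = 2 ∧ p = 1 by omega) with ⟨rfl, rfl⟩ | ⟨rfl, rfl⟩
    · exact Or.inl hc
    · exact Or.inr hc
  have hedge : Conn (patO 5 0) (patO 2 1) := by
    have hb := bridge_conn (l := bridge[2]) (by simp [bridge])
    obtain ⟨n, p, en, ep, -, hc⟩ := odd_conn (j := 5) (by norm_num) hb.symm.mem (by decide +kernel) (by decide +kernel)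
    obtain ⟨n', p', en', ep', -, hc'⟩ := odd_conn (j := 5) (by norm_num) hb.mem (by decide +kernel) (by decide +kernel)
    obtain rfl : n = 5 := en.trans (by decide +kernel)
    obtain rfl : p = 0 := ep.trans (by decide +kernel)
    obtain rfl : n' = 2 := en'.trans (by decide +kernel)
    obtain rfl : p' = 1 := ep'.trans (by decide +kernel)
    exact hc.symm.trans (hb.trans hc')
  have hev : ∀ {z : Vec}, z ∈ leechLattice → sqNorm z = 64 → z none % 2 = 0 → (∃ i, z i % 4 ≠ 0) →
      Conn z (patO 2 1) := by
    intro z hz hzn h0 hne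
    obtain ⟨y, hy, hy1⟩ := even_to_odd hz (by omega) h0 hne
    exact hy.trans ((hodd hy.mem (hy.norm.trans hzn) hy1).elim (fun c => c.trans hedge) id)
  have h8 : Conn (patF 4 4) (patF 1 8) := by
    have hb := bridge_conn (l := bridge[3]) (by simp [bridge])
    have h1 := zero_conn (v := 4) (by norm_num) hb.symm.mem (by decide +kernel) (by decide +kernel)
    have h2 := zero_conn (v := 8) (by norm_num) hb.mem (by decide +kernel) (by decide +kernel)
    rw [show (Finset.univ.filter fun i => ofList bridge[3] i ≠ 0).card = 4 by decide +kernel] at h1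
    rw [show (Finset.univ.filter fun i => xiFun (ofList bridge[3]) i ≠ 0).card = 1 by decide +kernel] at h2
    exact h1.symm.trans (hb.trans h2)
  have h44 : Conn (patF 4 4) (patO 2 1) := by
    have hb := bridge_conn (l := bridge[4]) (by simp [bridge])
    have h1 := zero_conn (v := 4) (by norm_num) hb.symm.mem (by decide +kernel) (by decide +kernel)
    rw [show (Finset.univ.filter fun i => ofList bridge[4] i ≠ 0).card = 4 by decide +kernel] at h1
    exact h1.symm.trans (hb.trans (hev hb.mem (by decide +kernel) (by decide +kernel) (by decide +kernel)))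
  have hR : Conn (patO 2 1) (patF 1 8) := h44.symm.trans h8
  rcases Int.emod_two_eq_zero_or_one (x none) with h0 | h1
  · by_cases hne : ∃ i, x i % 4 ≠ 0
    · exact (hev hx hn h0 hne).trans hR
    · simp only [not_exists, not_not] at hne
      have hb : ∀ i, x i = 4 * (x i / 4) := fun i => by have := hne i; omega
      have he : ∑ i, (x i / 4) * (x i / 4) = 4 := by
        have : sqNorm x = 16 * ∑ i, (x i / 4) * (x i / 4) := by
          rw [sqNorm, Finset.mul_sum]
          exact Finset.sum_congr rfl fun i _ => by linear_combination (x i + 4 * (x i / 4)) * (hb i)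
        omega
      have hle : ∀ i, -2 ≤ x i / 4 ∧ x i / 4 ≤ 2 := fun i => by
        have h := Finset.single_le_sum (f := fun j => (x j / 4) * (x j / 4)) (fun j _ => mul_self_nonneg (x j / 4))
          (Finset.mem_univ i)
        rw [he] at h
        exact ⟨by nlinarith, by nlinarith⟩
      by_cases h2 : ∃ i, x i / 4 = 2 ∨ x i / 4 = -2
      · obtain ⟨i, hi⟩ := h2
        have hz : ∀ j, j ≠ i → x j = 0 := fun j hj => by
          have h := Finset.add_le_sum (f := fun l => (x l / 4) * (x l / 4)) (s := Finset.univ)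
            (fun l _ => mul_self_nonneg (x l / 4)) (Finset.mem_univ i) (Finset.mem_univ j) hj.symm
          rw [he] at h
          have h4 : (x j / 4) * (x j / 4) ≤ 0 := by rcases hi with e | e <;> rw [e] at h <;> linarith
          have h5 : x j / 4 = 0 := mul_self_eq_zero.1 (le_antisymm h4 (mul_self_nonneg _))
          rw [hb j, h5]; rfl
        have hi0 : x i ≠ 0 := by have := hb i; omega
        have hc : (Finset.univ.filter fun j => x j ≠ 0) = {i} := by
          ext j
          simp only [Finset.mem_filter, Finset.mem_univ, true_and, Finset.mem_singleton]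
          exact ⟨fun h => by_contra fun hne => h (hz j hne), fun h => h ▸ hi0⟩
        have h := zero_conn (v := 8) (by norm_num) hx (fun j => by
          by_cases hj : j = i
          · subst hj
            right
            rw [hb j]
            rcases hi with e | e <;> rw [e] <;> rfl
          · exact Or.inl (hz j hj)) (by rw [hc]; simp)
        rwa [hc, Finset.card_singleton] at h
      · simp only [not_exists, not_or] at h2
        have hle' : ∀ i, x i / 4 = 0 ∨ x i / 4 = 1 ∨ x i / 4 = -1 := fun i => by
          have := hle i; have := h2 i; omega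
        have hc : (Finset.univ.filter fun i => x i ≠ 0).card = 4 := by
          have : (((Finset.univ.filter fun i => x i ≠ 0).card : ℕ) : ℤ) = 4 := by
            rw [← he, Finset.card_filter, Nat.cast_sum]
            refine Finset.sum_congr rfl fun i _ => ?_
            have := hb i
            rcases hle' i with h | h | h <;> rw [h] at this ⊢ <;> simp [this]
          exact_mod_cast this
        have h := zero_conn (v := 4) (by norm_num) hx (fun i => by
          have := hb i
          rcases hle' i with h | h | h <;> rw [h] at this <;> simp [this]) (by omega)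
        rw [hc] at h
        exact h.trans h8
  · exact ((hodd hx hn h1).elim (fun c => c.trans hedge) id).trans hR

end Cfsg.Agent.Spor.Leech
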