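import Cfsg.Agent.Lib.Spor.Leech.Shapes
import Cfsg.Agent.Lib.Spor.Leech.Orbits

/-!
The numbers of members of norm 32 with given product with a fixed one.
-/

set_option autoImplicit false
set_option maxRecDepth 100000

namespace Cfsg.Agent.Spor.Leech

open Cfsg

/-- Even members with values prescribed pointwise. -/
def evenSetW (W : GolayPt → Bool → List ℤ) (k : ℕ) : Set Vec :=
  {x | ∃ a : Vec, (∀ i, x i = 2 * a i) ∧ par a ∈ golayCode ∧ (4 : ℤ) ∣ ∑ i, a i ∧ ∑ i, a i * a i = (k : ℤ) ∧
    ∀ i, a i ∈ W i (decide (i ∈ support₂ (par a)))}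

/-- Odd members with values prescribed pointwise. -/
def oddSetW (W : GolayPt → Bool → List ℤ) (k : ℕ) : Set Vec :=
  {x | ∃ c ∈ supports (golayCode : Set (GolayPt → ZMod 2)), ∃ b : Vec,
    x = flip c (fun i => 1 + 4 * b i) ∧ ∑ i, oddCost (b i) = k ∧ (∑ i, b i) % 2 = 1 ∧ ∀ i, b i ∈ W i (decide (i ∈ c))}

theorem ncard_evenSetW (W : GolayPt → Bool → List ℤ) (hp : ∀ i b, ∀ v ∈ W i b, v % 2 = if b then 1 else 0) (k : ℕ) :
    (evenSetW W k).ncard =
      (Golay.codeList.map fun m => cnt sq (fun i => W i (decide (i ∈ Golay.pts m))) k 0).sum := by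
  classical
  let F : ℕ → Finset Vec := fun m =>
    ((Fintype.piFinset fun i => (W i (decide (i ∈ Golay.pts m))).toFinset).filter fun f =>
      ∑ i, sq (f i) = k ∧ (∑ i, f i) % 4 = ((0 : ℕ) : ℤ)).image fun a i => 2 * a i
  have hpar : ∀ m, ∀ a : Vec, (∀ i, a i ∈ W i (decide (i ∈ Golay.pts m))) → support₂ (par a) = Golay.pts m := by
    intro m a ha
    ext i
    rw [support₂, Finset.mem_filter, par, intCast_zmod2_ne_zero, hp _ _ _ (ha i)]
    by_cases h : i ∈ Golay.pts m <;> simp [h]
  have hset : evenSetW W k = ↑(Golay.codeList.toFinset.biUnion F) := by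
    ext x
    simp only [Finset.coe_biUnion, Set.mem_iUnion, Finset.mem_coe, F, Finset.mem_image, Finset.mem_filter,
      Fintype.mem_piFinset, List.mem_toFinset, exists_prop]
    constructor
    · rintro ⟨a, hxa, hca, h4, hk, hv⟩
      obtain ⟨m, hm, he⟩ := Golay.mem_golayCode.1 hca
      rw [he, Golay.support_vec] at hv
      refine ⟨m, hm, a, ⟨hv, ?_, ?_⟩, funext fun i => (hxa i).symm⟩
      · exact_mod_cast (sum_sq a).trans hk
      · simpa using Int.emod_eq_zero_of_dvd h4
    · rintro ⟨m, hm, a, ⟨hv, hk, h4⟩, rfl⟩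
      have hs := hpar m a hv
      refine ⟨a, fun i => rfl, ?_, Int.dvd_of_emod_eq_zero (by simpa using h4), ?_, ?_⟩
      · exact supports_iff.1 (hs ▸ Golay.mem_supports.2 ⟨m, hm, rfl⟩)
      · rw [← sum_sq, hk]
      · rw [hs]; exact hv
  have hdisj : (Golay.codeList.toFinset : Set ℕ).PairwiseDisjoint F := by
    intro m hm m' hm' hne
    rw [Function.onFun, Finset.disjoint_left]
    intro x hx hx'
    simp only [F, Finset.mem_image, Finset.mem_filter, Fintype.mem_piFinset, List.mem_toFinset] at hx hx'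
    obtain ⟨a, ⟨ha, -, -⟩, rfl⟩ := hx
    obtain ⟨a', ⟨ha', -, -⟩, he⟩ := hx'
    have hEq : a' = a := funext fun i => mul_left_cancel₀ two_ne_zero (congrFun he i)
    subst hEq
    rw [Finset.mem_coe, List.mem_toFinset] at hm hm'
    exact hne (Golay.pts_injOn (Golay.codeList_lt hm) (Golay.codeList_lt hm')
      ((hpar m a' ha).symm.trans (hpar m' a' ha')))
  rw [hset, Set.ncard_coe_finset, Finset.card_biUnion hdisj, List.sum_toFinset _ Golay.codeList_nodup]
  refine congrArg List.sum (List.map_congr_left fun m _ => ?_)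
  simp only [F]
  rw [Finset.card_image_of_injective _ fun a b h => funext fun i => mul_left_cancel₀ two_ne_zero (congrFun h i)]
  rfl

theorem ncard_oddSetW (W : GolayPt → Bool → List ℤ) (k : ℕ) :
    (oddSetW W k).ncard = (Golay.codeList.map fun m =>
      cnt oddCost (fun i => W i (decide (i ∈ Golay.pts m))) k 1 +
        cnt oddCost (fun i => W i (decide (i ∈ Golay.pts m))) k 3).sum := by
  let P : ℕ → ℕ → Finset Vec := fun m r =>
    (Fintype.piFinset fun i => (W i (decide (i ∈ Golay.pts m))).toFinset).filter fun f =>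
      ∑ i, oddCost (f i) = k ∧ (∑ i, f i) % 4 = ((r : ℕ) : ℤ)
  let F : ℕ → Finset Vec := fun m => (P m 1 ∪ P m 3).image fun b => flip (Golay.pts m) fun i => 1 + 4 * b i
  have hset : oddSetW W k = ↑(Golay.codeList.toFinset.biUnion F) := by
    ext x
    simp only [Finset.coe_biUnion, Set.mem_iUnion, Finset.mem_coe, F, P, Finset.mem_image, Finset.mem_union,
      Finset.mem_filter, Fintype.mem_piFinset, List.mem_toFinset, exists_prop]
    constructor
    · rintro ⟨c, hc, b, rfl, hk, h2, hv⟩
      obtain ⟨m, hm, rfl⟩ := Golay.mem_supports.1 hc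
      refine ⟨m, hm, b, ?_, rfl⟩
      rcases (show (∑ i, b i) % 4 = 1 ∨ (∑ i, b i) % 4 = 3 by omega) with h | h
      · exact Or.inl ⟨hv, hk, by simpa using h⟩
      · exact Or.inr ⟨hv, hk, by simpa using h⟩
    · rintro ⟨m, hm, b, h, rfl⟩
      refine ⟨_, Golay.mem_supports.2 ⟨m, hm, rfl⟩, b, rfl, ?_⟩
      rcases h with ⟨hv, hk, h4⟩ | ⟨hv, hk, h4⟩ <;> exact ⟨hk, by omega, hv⟩
  have hdisj : (Golay.codeList.toFinset : Set ℕ).PairwiseDisjoint F := by
    intro m hm m' hm' hne
    rw [Function.onFun, Finset.disjoint_left]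
    intro x hx hx'
    simp only [F, Finset.mem_image] at hx hx'
    obtain ⟨b, -, rfl⟩ := hx
    obtain ⟨b', -, he⟩ := hx'
    rw [Finset.mem_coe, List.mem_toFinset] at hm hm'
    refine hne (Golay.pts_injOn (Golay.codeList_lt hm) (Golay.codeList_lt hm') ?_)
    ext i
    have h := congrFun he i
    simp only [flip] at h
    split_ifs at h with h1 h2 h2
    · exact iff_of_true h2 h1
    · omega
    · omega
    · exact iff_of_false h2 h1
  rw [hset, Set.ncard_coe_finset, Finset.card_biUnion hdisj, List.sum_toFinset _ Golay.codeList_nodup]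
  refine congrArg List.sum (List.map_congr_left fun m _ => ?_)
  simp only [F]
  rw [Finset.card_image_of_injective _ fun a b h => funext fun i => by
      have h1 := congrArg (flip (Golay.pts m)) h
      simp only [flip_flip] at h1
      have := congrFun h1 i
      omega,
    Finset.card_union_of_disjoint (Finset.disjoint_filter.2 fun _ _ h h' => by omega)]
  rfl

/-- Moving a set to an initial segment. -/
theorem exists_sort' {α : Type*} [Fintype α] [DecidableEq α] {n : ℕ} (hn : Fintype.card α = n) (s : Finset α) :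
    ∃ e : Fin n ≃ α, ∀ j, e j ∈ s ↔ j.val < s.card := by
  let e0 : Fin n ≃ α := (Fintype.equivFinOfCardEq hn).symm
  let A : Finset (Fin n) := Finset.univ.filter fun j => j.val < s.card
  have hA : (A.map e0.toEmbedding).card = s.card := by
    rw [Finset.card_map, Fin.card_filter_val_lt, min_eq_right]
    exact le_trans (Finset.card_le_univ s) (le_of_eq hn)
  let f := Finset.equivOfCardEq hA
  refine ⟨e0.trans f.extendSubtype, fun j => ?_⟩
  have hmem : j.val < s.card ↔ e0 j ∈ A.map e0.toEmbedding := by simp [A]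
  rw [hmem]
  constructor
  · intro h
    by_contra hn
    exact f.extendSubtype_not_mem (e0 j) hn h
  · exact fun h => f.extendSubtype_mem (e0 j) h

/-- Value lists with two special points. -/
def two (p q : GolayPt) (Wp Wq V : Bool → List ℤ) (i : GolayPt) : Bool → List ℤ :=
  if i = p then Wp else if i = q then Wq else V

/-- The sorted lists of values. -/
def twoList (Wp Wq V : Bool → List ℤ) (key : Bool × Bool × ℕ) : List (List ℤ) :=
  Wp key.1 :: Wq key.2.1 :: List.ofFn fun j : Fin 22 => V (decide (j.val < key.2.2))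

/-- The position data of a mask. -/
def keyOf (p q : GolayPt) (m : ℕ) : Bool × Bool × ℕ :=
  (m.testBit (Golay.idx p), m.testBit (Golay.idx q),
    Golay.pop m - (if m.testBit (Golay.idx p) then 1 else 0) - (if m.testBit (Golay.idx q) then 1 else 0))

theorem cnt_two (c : ℤ → ℕ) {p q : GolayPt} (hpq : p ≠ q) (Wp Wq V : Bool → List ℤ) (hp : ∀ b, (Wp b).Nodup)
    (hq : ∀ b, (Wq b).Nodup) (hV : ∀ b, (V b).Nodup) (m : ℕ) {k K r : ℕ} (hk : k ≤ K) (hr : r < 4) :
    cnt c (fun i => two p q Wp Wq V i (decide (i ∈ Golay.pts m))) k r =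
      (tab c K (twoList Wp Wq V (keyOf p q m))).getD (4 * k + r) 0 := by
  classical
  have hcard : Fintype.card {i : GolayPt // i ≠ p ∧ i ≠ q} = 22 := by
    rw [Fintype.card_subtype, show (Finset.univ.filter fun i : GolayPt => i ≠ p ∧ i ≠ q) =
        (Finset.univ.erase p).erase q by ext i; simp [and_comm],
      Finset.card_erase_of_mem (by simp [hpq.symm]), Finset.card_erase_of_mem (Finset.mem_univ _), Finset.card_univ,
      Golay.card_golayPt]
  obtain ⟨e, he⟩ := exists_sort' hcard ((Golay.pts m).subtype fun i => i ≠ p ∧ i ≠ q)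
  have hn : ((Golay.pts m).subtype fun i => i ≠ p ∧ i ≠ q).card = (keyOf p q m).2.2 := by
    rw [Finset.card_subtype, show (Finset.filter (fun i => i ≠ p ∧ i ≠ q) (Golay.pts m)) =
      ((Golay.pts m).erase p).erase q by ext i; simp only [Finset.mem_filter, Finset.mem_erase]; tauto]
    simp only [keyOf, ← Golay.mem_pts, ← Golay.card_pts]
    rw [Finset.card_erase_eq_ite, Finset.card_erase_eq_ite]
    split_ifs <;> simp_all <;> omega
  let f : Fin 24 → GolayPt := Fin.cons p (Fin.cons q fun j => (e j).1)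
  have hf : Function.Bijective f := by
    rw [Fintype.bijective_iff_injective_and_card]
    refine ⟨?_, by rw [Golay.card_golayPt, Fintype.card_fin]⟩
    refine Fin.cons_injective_iff.2 ⟨?_, Fin.cons_injective_iff.2 ⟨?_, fun a b h => e.injective (Subtype.ext h)⟩⟩
    · rintro ⟨j, hj⟩
      cases j using Fin.cases with
      | zero => exact hpq (by simpa using hj.symm)
      | succ j => exact (e j).2.1 (by simpa using hj)
    · rintro ⟨j, hj⟩
      exact (e j).2.2 hj
  rw [← cnt_congr (Equiv.ofBijective f hf)]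
  have hlist : (fun i => two p q Wp Wq V (Equiv.ofBijective f hf i)
      (decide (Equiv.ofBijective f hf i ∈ Golay.pts m))) =
      Fin.cons (Wp (keyOf p q m).1) (Fin.cons (Wq (keyOf p q m).2.1)
        fun j : Fin 22 => V (decide (j.val < (keyOf p q m).2.2))) := by
    funext i
    simp only [Equiv.ofBijective_apply, f]
    cases i using Fin.cases with
    | zero =>
      simp only [Fin.cons_zero, two, if_true, keyOf, ← Golay.mem_pts]
      congr 1
      simp [Golay.mem_pts]
    | succ i =>
      cases i using Fin.cases with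
      | zero =>
        simp only [Fin.cons_succ, Fin.cons_zero, two, if_neg hpq.symm, if_true, keyOf]
        congr 1
        simp [Golay.mem_pts]
      | succ j =>
        simp only [Fin.cons_succ, two, if_neg (e j).2.1, if_neg (e j).2.2]
        congr 1
        rw [decide_eq_decide, ← hn, ← he j, Finset.mem_subtype]
  rw [getD_tab c K _ (fun i => ?_) k r hk hr, hlist, List.ofFn_succ, List.ofFn_succ]
  · simp only [Fin.cons_zero, Fin.cons_succ, twoList]
  · unfold two
    split_ifs <;> first | exact hp _ | exact hq _ | exact hV _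

theorem sum_by_key {α β : Type*} [DecidableEq β] (key : α → β) (F : β → ℕ) (keys : List β) (hk : keys.Nodup) :
    ∀ l : List α, (∀ x ∈ l, key x ∈ keys) →
      (l.map fun x => F (key x)).sum = (keys.map fun k => l.countP (fun x => decide (key x = k)) * F k).sum := by
  intro l
  induction l with
  | nil => intro _; simp
  | cons x l ih =>
    intro h
    rw [List.map_cons, List.sum_cons, ih fun y hy => h y (List.mem_cons_of_mem _ hy)]
    rw [← List.sum_toFinset _ hk, ← List.sum_toFinset _ hk,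
      show F (key x) = ∑ k ∈ keys.toFinset, if key x = k then F k else 0 by
        rw [Finset.sum_ite_eq, if_pos (List.mem_toFinset.2 (h x (List.mem_cons_self ..)))],
      ← Finset.sum_add_distrib]
    refine Finset.sum_congr rfl fun k _ => ?_
    rw [List.countP_cons]
    by_cases he : key x = k <;> simp [he] <;> ring

/-- The possible position data. -/
def keys : List (Bool × Bool × ℕ) :=
  [(false, false, 0), (false, false, 8), (true, false, 7), (false, true, 7), (true, true, 6), (false, false, 12),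
    (true, false, 11), (false, true, 11), (true, true, 10), (false, false, 16), (true, false, 15), (false, true, 15),
    (true, true, 14), (true, true, 22)]

theorem keys_mem : (Golay.codeList.all fun m => decide (keyOf (Golay.base5 0) (Golay.base5 1) m ∈ keys)) = true := by
  decide +kernel

/-- The numbers of code words with given position data. -/
def mult : List ((Bool × Bool × ℕ) × ℕ) :=
  keys.map fun k => (k, Golay.codeList.countP (fun m => decide (keyOf (Golay.base5 0) (Golay.base5 1) m = k)))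

theorem mult_val : mult = keys.zip
    [1, 330, 176, 176, 77, 616, 672, 672, 616, 77, 176, 176, 330, 1] := by decide +kernel

theorem sum_by_pairs {α β : Type*} [DecidableEq β] (key : α → β) (F : β → ℕ) (ks : List β) (hk : ks.Nodup)
    (l : List α) (h : ∀ x ∈ l, key x ∈ ks) : (l.map fun x => F (key x)).sum =
      ((ks.map fun k => (k, l.countP fun x => decide (key x = k))).map fun e => e.2 * F e.1).sum := by
  rw [sum_by_key key F ks hk l h, List.map_map]
  rfl

theorem sum_keys (F : Bool × Bool × ℕ → ℕ) :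
    (Golay.codeList.map fun m => F (keyOf (Golay.base5 0) (Golay.base5 1) m)).sum =
      ((keys.zip [1, 330, 176, 176, 77, 616, 672, 672, 616, 77, 176, 176, 330, 1]).map
        fun e => e.2 * F e.1).sum := by
  have h := sum_by_pairs (keyOf (Golay.base5 0) (Golay.base5 1)) F keys (by decide) Golay.codeList fun m hm => by
    simpa using List.all_eq_true.1 keys_mem m hm
  have e := mult_val
  unfold mult at e
  rw [h, e]

/-- Values restricted to one number. -/
def only (V : Bool → List ℤ) (P : Bool → ℤ → Bool) : Bool → List ℤ := fun b => (V b).filter (P b)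

/-- Lists for the even members with given entries at the two base points. -/
def evenW (D α : ℤ) : GolayPt → Bool → List ℤ :=
  two (Golay.base5 0) (Golay.base5 1) (only evenVals fun _ v => v == α) (only evenVals fun _ v => 8 * (α + v) == D)
    evenVals

/-- Lists for the odd members with given entries at the two base points. -/
def oddW (D ξ : ℤ) : GolayPt → Bool → List ℤ :=
  two (Golay.base5 0) (Golay.base5 1) (only (fun _ => oddVals) fun s v => (if s then -(1 + 4 * v) else 1 + 4 * v) == ξ)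
    (only (fun _ => oddVals) fun s v => 4 * (ξ + (if s then -(1 + 4 * v) else 1 + 4 * v)) == D) (fun _ => oddVals)

/-- One step of the table. -/
def tstep (c : ℤ → ℕ) (K : ℕ) (l : List ℤ) (t : List ℕ) : List ℕ :=
  (List.range (4 * (K + 1))).map fun j =>
    (l.map fun v =>
      if c v ≤ j / 4 then t.getD (4 * (j / 4 - c v) + ((((j % 4 : ℕ) : ℤ) - v) % 4).toNat) 0 else 0).sum

theorem tab_two (c : ℤ → ℕ) (K : ℕ) (Wp Wq V : Bool → List ℤ) (key : Bool × Bool × ℕ) :
    tab c K (twoList Wp Wq V key) = tstep c K (Wp key.1) (tstep c K (Wq key.2.1)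
      (tab c K (List.ofFn fun j : Fin 22 => V (decide (j.val < key.2.2))))) := rfl

/-- Tables of the other points for even members. -/
def evenTail : List (ℕ × List ℕ) :=
  [(0, [1, 0, 0, 0, 0, 0, 0, 0, 0, 0, 0, 0, 0, 0, 0, 0, 0, 0, 44, 0, 0, 0, 0, 0, 0, 0, 0, 0, 0, 0, 0, 0, 924, 0, 0, 0]),
    (8, [0, 0, 0, 0, 0, 0, 0, 0, 0, 0, 0, 0, 0, 0, 0, 0, 0, 0, 0, 0, 0, 0, 0, 0, 0, 0, 0, 0, 0, 0, 0, 0, 128, 0, 128, 0]),
    (7, [0, 0, 0, 0, 0, 0, 0, 0, 0, 0, 0, 0, 0, 0, 0, 0, 0, 0, 0, 0, 0, 0, 0, 0, 0, 0, 0, 0, 0, 64, 0, 64, 0, 0, 0, 0]),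
    (6, [0, 0, 0, 0, 0, 0, 0, 0, 0, 0, 0, 0, 0, 0, 0, 0, 0, 0, 0, 0, 0, 0, 0, 0, 32, 0, 32, 0, 0, 0, 0, 0, 0, 0, 0, 0]),
    (12, [0, 0, 0, 0, 0, 0, 0, 0, 0, 0, 0, 0, 0, 0, 0, 0, 0, 0, 0, 0, 0, 0, 0, 0, 0, 0, 0, 0, 0, 0, 0, 0, 0, 0, 0, 0]),
    (11, [0, 0, 0, 0, 0, 0, 0, 0, 0, 0, 0, 0, 0, 0, 0, 0, 0, 0, 0, 0, 0, 0, 0, 0, 0, 0, 0, 0, 0, 0, 0, 0, 0, 0, 0, 0]),
    (10, [0, 0, 0, 0, 0, 0, 0, 0, 0, 0, 0, 0, 0, 0, 0, 0, 0, 0, 0, 0, 0, 0, 0, 0, 0, 0, 0, 0, 0, 0, 0, 0, 0, 0, 0, 0]),
    (16, [0, 0, 0, 0, 0, 0, 0, 0, 0, 0, 0, 0, 0, 0, 0, 0, 0, 0, 0, 0, 0, 0, 0, 0, 0, 0, 0, 0, 0, 0, 0, 0, 0, 0, 0, 0]),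
    (15, [0, 0, 0, 0, 0, 0, 0, 0, 0, 0, 0, 0, 0, 0, 0, 0, 0, 0, 0, 0, 0, 0, 0, 0, 0, 0, 0, 0, 0, 0, 0, 0, 0, 0, 0, 0]),
    (14, [0, 0, 0, 0, 0, 0, 0, 0, 0, 0, 0, 0, 0, 0, 0, 0, 0, 0, 0, 0, 0, 0, 0, 0, 0, 0, 0, 0, 0, 0, 0, 0, 0, 0, 0, 0]),
    (22, [0, 0, 0, 0, 0, 0, 0, 0, 0, 0, 0, 0, 0, 0, 0, 0, 0, 0, 0, 0, 0, 0, 0, 0, 0, 0, 0, 0, 0, 0, 0, 0, 0, 0, 0, 0])]

theorem evenTail_val : (evenTail.map fun e => tab sq 8 (List.ofFn fun j : Fin 22 => evenVals (decide (j.val < e.1)))) =
    evenTail.map Prod.snd := by decide +kernel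

theorem evenTail_mem : ∀ key ∈ keys, ∃ e ∈ evenTail, e.1 = key.2.2 := by decide +kernel

/-- Table of the other points for odd members. -/
def oddTail : List ℕ := [1, 0, 0, 0, 0, 0, 0, 22]

theorem oddTail_val : tab oddCost 1 (List.replicate 22 oddVals) = oddTail := by decide +kernel

/-- The even contribution. -/
def evenNum (D α : ℤ) : ℕ :=
  ((keys.zip [1, 330, 176, 176, 77, 616, 672, 672, 616, 77, 176, 176, 330, 1]).map fun e =>
    e.2 * (tstep sq 8 (only evenVals (fun _ v => v == α) e.1.1)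
      (tstep sq 8 (only evenVals (fun _ v => 8 * (α + v) == D) e.1.2.1)
        ((evenTail.find? fun f => f.1 == e.1.2.2).getD (0, [])).2)).getD 32 0).sum

/-- The entries of the two odd residues. -/
def odd13 (t : List ℕ) : ℕ := t.getD 5 0 + t.getD 7 0

/-- The odd contribution. -/
def oddNum (D ξ : ℤ) : ℕ :=
  ((keys.zip [1, 330, 176, 176, 77, 616, 672, 672, 616, 77, 176, 176, 330, 1]).map fun e =>
    e.2 * odd13 (tstep oddCost 1
        (only (fun _ => oddVals) (fun s v => (if s then -(1 + 4 * v) else 1 + 4 * v) == ξ) e.1.1)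
        (tstep oddCost 1
          (only (fun _ => oddVals) (fun s v => 4 * (ξ + (if s then -(1 + 4 * v) else 1 + 4 * v)) == D) e.1.2.1)
          oddTail))).sum

theorem zip_keys {e : (Bool × Bool × ℕ) × ℕ}
    (h : e ∈ keys.zip [1, 330, 176, 176, 77, 616, 672, 672, 616, 77, 176, 176, 330, 1]) : e.1 ∈ keys :=
  (List.of_mem_zip (show (e.1, e.2) ∈ _ from h)).1

theorem tail_even {key : Bool × Bool × ℕ} (h : key ∈ keys) :
    tab sq 8 (List.ofFn fun j : Fin 22 => evenVals (decide (j.val < key.2.2))) =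
      ((evenTail.find? fun f => f.1 == key.2.2).getD (0, [])).2 := by
  obtain ⟨e, he, hek⟩ := evenTail_mem key h
  cases hf : evenTail.find? fun f => f.1 == key.2.2 with
  | none => exact absurd (List.find?_eq_none.1 hf e he) (by simp [hek])
  | some f =>
    have h1 := List.find?_some hf
    have h2 := List.mem_of_find?_eq_some hf
    rw [Option.getD_some, ← (show f.1 = key.2.2 by simpa using h1)]
    exact (List.map_inj_left.1 evenTail_val) f h2

theorem only_nodup {V : Bool → List ℤ} (h : ∀ b, (V b).Nodup) (P : Bool → ℤ → Bool) : ∀ b, (only V P b).Nodup :=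
  fun b => (h b).filter _

theorem oddVals_nodup : ∀ _ : Bool, oddVals.Nodup := by decide

theorem base_ne : Golay.base5 0 ≠ Golay.base5 1 := by decide +kernel

theorem ncard_evenW (D α : ℤ) : (evenSetW (evenW D α) 8).ncard = evenNum D α := by
  rw [ncard_evenSetW (evenW D α) fun i b v hv => evenVals_parity b v (by
    unfold evenW two at hv
    split_ifs at hv
    · exact List.mem_of_mem_filter hv
    · exact List.mem_of_mem_filter hv
    · exact hv)]
  unfold evenW
  refine (congrArg List.sum (List.map_congr_left fun m _ => cnt_two sq base_ne _ _ _ (only_nodup evenVals_nodup _)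
    (only_nodup evenVals_nodup _) evenVals_nodup m (le_refl 8) (by norm_num : 0 < 4))).trans ?_
  rw [sum_keys fun key => (tab sq 8 (twoList (only evenVals fun _ v => v == α)
    (only evenVals fun _ v => 8 * (α + v) == D) evenVals key)).getD (4 * 8 + 0) 0]
  refine congrArg List.sum (List.map_congr_left fun e he => ?_)
  rw [tab_two, tail_even (zip_keys he)]

theorem ncard_oddW (D ξ : ℤ) : (oddSetW (oddW D ξ) 1).ncard = oddNum D ξ := by
  rw [ncard_oddSetW]
  unfold oddW
  refine (congrArg List.sum (List.map_congr_left fun m _ => congrArg₂ (· + ·)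
    (cnt_two oddCost base_ne _ _ _ (only_nodup oddVals_nodup _) (only_nodup oddVals_nodup _) oddVals_nodup m
      (le_refl 1) (by norm_num : 1 < 4))
    (cnt_two oddCost base_ne _ _ _ (only_nodup oddVals_nodup _) (only_nodup oddVals_nodup _) oddVals_nodup m
      (le_refl 1) (by norm_num : 3 < 4)))).trans ?_
  rw [sum_keys fun key =>
    (tab oddCost 1 (twoList (only (fun _ => oddVals) fun s v => (if s then -(1 + 4 * v) else 1 + 4 * v) == ξ)
      (only (fun _ => oddVals) fun s v => 4 * (ξ + (if s then -(1 + 4 * v) else 1 + 4 * v)) == D)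
      (fun _ => oddVals) key)).getD (4 * 1 + 1) 0 +
    (tab oddCost 1 (twoList (only (fun _ => oddVals) fun s v => (if s then -(1 + 4 * v) else 1 + 4 * v) == ξ)
      (only (fun _ => oddVals) fun s v => 4 * (ξ + (if s then -(1 + 4 * v) else 1 + 4 * v)) == D)
      (fun _ => oddVals) key)).getD (4 * 1 + 3) 0]
  refine congrArg List.sum (List.map_congr_left fun e _ => ?_)
  rw [tab_two, List.ofFn_const, oddTail_val]
  rfl

/-- The members of norm 32 with given product with the base member. -/
def distSet (D : ℤ) : Set Vec := {x | x ∈ leechLattice ∧ sqNorm x = 32 ∧ dotInt (patF 2 4) x = D}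

theorem dot_base (x : Vec) : dotInt (patF 2 4) x = 4 * (x (Golay.base5 0) + x (Golay.base5 1)) := by
  have hv : ∀ q, patF 2 4 q = if q = Golay.base5 0 ∨ q = Golay.base5 1 then 4 else 0 := by decide +kernel
  rw [dotInt, Finset.sum_eq_add (Golay.base5 0) (Golay.base5 1) base_ne
    (fun q _ hq => by rw [hv, if_neg (by tauto), zero_mul]) (by simp) (by simp),
    hv, hv, if_pos (Or.inl rfl), if_pos (Or.inr rfl)]
  ring

theorem dist_mem_even {D α : ℤ} {x : Vec} : x ∈ evenSetW (evenW D α) 8 ↔
    x ∈ evenSet evenVals 8 ∧ x (Golay.base5 0) = 2 * α ∧ dotInt (patF 2 4) x = D := by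
  rw [dot_base]
  constructor
  · rintro ⟨a, hxa, hc, h4, hk, hv⟩
    have h0 := hv (Golay.base5 0)
    have h1 := hv (Golay.base5 1)
    simp only [evenW, two, if_true, if_neg base_ne.symm, only, List.mem_filter, beq_iff_eq] at h0 h1
    refine ⟨⟨a, hxa, hc, h4, hk, fun i => ?_⟩, by rw [hxa, h0.2], by rw [hxa, hxa, h0.2]; omega⟩
    have h := hv i
    unfold evenW two at h
    split_ifs at h
    · exact List.mem_of_mem_filter h
    · exact List.mem_of_mem_filter h
    · exact h
  · rintro ⟨⟨a, hxa, hc, h4, hk, hv⟩, hα, hD⟩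
    rw [hxa] at hα
    rw [hxa, hxa] at hD
    refine ⟨a, hxa, hc, h4, hk, fun i => ?_⟩
    unfold evenW two
    split_ifs with h h'
    · subst h
      exact List.mem_filter.2 ⟨hv _, beq_iff_eq.2 (by omega)⟩
    · subst h'
      exact List.mem_filter.2 ⟨hv _, beq_iff_eq.2 (by omega)⟩
    · exact hv i

theorem dist_mem_odd {D ξ : ℤ} {x : Vec} : x ∈ oddSetW (oddW D ξ) 1 ↔
    x ∈ oddSet oddVals 1 ∧ x (Golay.base5 0) = ξ ∧ dotInt (patF 2 4) x = D := by
  rw [dot_base]
  constructor
  · rintro ⟨c, hc, b, rfl, hk, h2, hv⟩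
    have h0 := hv (Golay.base5 0)
    have h1 := hv (Golay.base5 1)
    simp only [oddW, two, if_true, if_neg base_ne.symm, only, List.mem_filter, beq_iff_eq] at h0 h1
    refine ⟨⟨c, hc, b, rfl, hk, h2, fun i => ?_⟩, ?_, ?_⟩
    · have h := hv i
      unfold oddW two at h
      split_ifs at h
      · exact List.mem_of_mem_filter h
      · exact List.mem_of_mem_filter h
      · exact h
    · simpa [flip] using h0.2
    · have e0 : flip c (fun i => 1 + 4 * b i) (Golay.base5 0) = ξ := by simpa [flip] using h0.2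
      rw [e0]
      simpa [flip] using h1.2
  · rintro ⟨⟨c, hc, b, rfl, hk, h2, hv⟩, hα, hD⟩
    rw [hα] at hD
    refine ⟨c, hc, b, rfl, hk, h2, fun i => ?_⟩
    unfold oddW two
    split_ifs with h h'
    · subst h
      exact List.mem_filter.2 ⟨hv _, beq_iff_eq.2 (by simpa [flip] using hα)⟩
    · subst h'
      exact List.mem_filter.2 ⟨hv _, beq_iff_eq.2 (by simpa [flip] using hD)⟩
    · exact hv i

theorem ncard_distSet (D : ℤ) : (distSet D).ncard =
    (([0, 1, -1, 2, -2] : List ℤ).map (evenNum D)).sum + (([1, -1, 3, -3] : List ℤ).map (oddNum D)).sum := by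
  classical
  have hfin : ∀ {S : Set Vec}, (∀ x ∈ S, sqNorm x = 32) → S.Finite := fun h => (finite_norm 32).subset h
  have hE : ∀ α, ∀ x ∈ evenSetW (evenW D α) 8, x ∈ distSet D := fun α x hx => by
    obtain ⟨h1, -, h3⟩ := dist_mem_even.1 hx
    obtain ⟨a, b, -⟩ := (evenSet_iff (by norm_num)).1 h1
    exact ⟨a, by rw [b]; norm_num, h3⟩
  have hO : ∀ ξ, ∀ x ∈ oddSetW (oddW D ξ) 1, x ∈ distSet D := fun ξ x hx => by
    obtain ⟨h1, -, h3⟩ := dist_mem_odd.1 hx
    obtain ⟨a, b, -⟩ := (oddSet_iff (by norm_num)).1 h1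
    exact ⟨a, by rw [b]; norm_num, h3⟩
  let A : Finset ℤ := {0, 1, -1, 2, -2}
  let B : Finset ℤ := {1, -1, 3, -3}
  have fE : ∀ α, (evenSetW (evenW D α) 8).Finite := fun α => hfin fun x hx => (hE α x hx).2.1
  have fO : ∀ ξ, (oddSetW (oddW D ξ) 1).Finite := fun ξ => hfin fun x hx => (hO ξ x hx).2.1
  have hd : distSet D = ↑(A.biUnion (fun α => (fE α).toFinset) ∪ B.biUnion (fun ξ => (fO ξ).toFinset)) := by
    ext x
    simp only [Finset.coe_union, Finset.coe_biUnion, Set.mem_union, Set.mem_iUnion, Finset.mem_coe,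
      Set.Finite.mem_toFinset, exists_prop]
    refine ⟨fun ⟨hx, hn, hD⟩ => ?_, ?_⟩
    · rcases Int.emod_two_eq_zero_or_one (x none) with h | h
      · refine Or.inl ?_
        have he := (evenSet_iff (x := x) (k := 8) (by norm_num)).2 ⟨hx, by rw [hn]; norm_num, h⟩
        obtain ⟨a, hxa, -, -, hk, -⟩ := id he
        refine ⟨a (Golay.base5 0), ?_, dist_mem_even.2 ⟨he, hxa _, hD⟩⟩
        have hle := Finset.single_le_sum (f := fun j => a j * a j) (fun j _ => mul_self_nonneg (a j))
          (Finset.mem_univ (Golay.base5 0))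
        rw [hk] at hle
        push_cast at hle
        have h1 : -2 ≤ a (Golay.base5 0) := by nlinarith
        have h2 : a (Golay.base5 0) ≤ 2 := by nlinarith
        simp [A]
        omega
      · refine Or.inr ?_
        have he := (oddSet_iff (x := x) (k := 1) (by norm_num)).2 ⟨hx, by rw [hn]; norm_num, h⟩
        obtain ⟨c, -, b, hxb, hk, -, hv⟩ := id he
        refine ⟨x (Golay.base5 0), ?_, dist_mem_odd.2 ⟨he, rfl, hD⟩⟩
        have hle := Finset.single_le_sum (f := fun j => oddCost (b j)) (fun j _ => Nat.zero_le _)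
          (Finset.mem_univ (Golay.base5 0))
        have hv0 := hv (Golay.base5 0)
        simp only [oddVals, List.mem_cons, List.not_mem_nil, or_false] at hv0
        rw [hk] at hle
        rw [congrFun hxb (Golay.base5 0)]
        rcases hv0 with e | e | e <;> rw [e] at hle <;> simp [flip, e, oddCost, B] at hle ⊢ <;>
          by_cases hc : Golay.base5 0 ∈ c <;> simp [hc]
    · rintro (⟨α, -, h⟩ | ⟨ξ, -, h⟩)
      · exact hE α x h
      · exact hO ξ x h
  rw [hd, Set.ncard_coe_finset, Finset.card_union_of_disjoint, Finset.card_biUnion, Finset.card_biUnion]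
  · rw [← List.sum_toFinset (evenNum D) (by decide : ([0, 1, -1, 2, -2] : List ℤ).Nodup),
      ← List.sum_toFinset (oddNum D) (by decide : ([1, -1, 3, -3] : List ℤ).Nodup)]
    refine congrArg₂ (· + ·) (Finset.sum_congr (by decide) fun α _ => ?_) (Finset.sum_congr (by decide) fun α _ => ?_)
    · exact (Set.ncard_eq_toFinset_card _ (fE α)).symm.trans (ncard_evenW D α)
    · exact (Set.ncard_eq_toFinset_card _ (fO α)).symm.trans (ncard_oddW D α)
  · intro a _ b _ hne
    rw [Function.onFun, Finset.disjoint_left]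
    intro x h h'
    rw [Set.Finite.mem_toFinset] at h h'
    exact hne ((dist_mem_odd.1 h).2.1.symm.trans (dist_mem_odd.1 h').2.1)
  · intro a _ b _ hne
    rw [Function.onFun, Finset.disjoint_left]
    intro x h h'
    rw [Set.Finite.mem_toFinset] at h h'
    exact hne (mul_left_cancel₀ two_ne_zero ((dist_mem_even.1 h).2.1.symm.trans (dist_mem_even.1 h').2.1))
  · rw [Finset.disjoint_left]
    intro x h h'
    simp only [Finset.mem_biUnion, Set.Finite.mem_toFinset] at h h'
    obtain ⟨a, -, ha⟩ := h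
    obtain ⟨b, -, hb⟩ := h'
    have e1 := ((evenSet_iff (by norm_num)).1 (dist_mem_even.1 ha).1).2.2
    have e2 := ((oddSet_iff (by norm_num)).1 (dist_mem_odd.1 hb).1).2.2
    omega

theorem dist_counts : (distSet (-16)).ncard = 4600 ∧ (distSet (-8)).ncard = 47104 ∧ (distSet 0).ncard = 93150 := by
  refine ⟨?_, ?_, ?_⟩ <;> rw [ncard_distSet] <;> decide +kernel

end Cfsg.Agent.Spor.Leech
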