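import Cfsg.Agent.Lib.Spor.Leech.Monomial
import Cfsg.Agent.Lib.Spor.Leech.Orth
import Cfsg.Agent.Lib.Spor.Leech.Dist

/-!
2-groups normal in the stabiliser of a member of the lattice modulo two.
-/

set_option autoImplicit false
set_option maxRecDepth 100000
set_option linter.style.haveILetI false

namespace Cfsg.Agent.Spor.Leech

open Cfsg
open scoped Pointwise

/-- The stabiliser of the class of a member. -/
def stabC (v : leechLattice) : Subgroup Co0 where
  carrier := {g | cls (g • v) = cls v}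
  one_mem' := by simp
  mul_mem' := fun {g h} hg hh => by
    show cls ((g * h) • v) = cls v
    rw [mul_smul]; exact (congr_smul hh).trans hg
  inv_mem' := fun {g} hg => by
    have h := congr_smul (g := g⁻¹) hg
    rw [inv_smul_smul] at h
    exact h.symm

theorem mem_stabC {v : leechLattice} {g : Co0} : g ∈ stabC v ↔ cls (g • v) = cls v := Iff.rfl

theorem stabC_eq_crossStab (i : GolayPt) : stabC (axis i) = crossStab := by
  ext g
  rw [mem_stabC, crossStab, MulAction.mem_stabilizer_iff]
  constructor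
  · intro h
    rw [← crossOf_axis i, smul_crossOf]
    ext w; simp [crossOf, h]
  · intro h
    have hm : g • axis i ∈ crossOf (axis i) := by
      rw [crossOf_axis, ← h]
      exact Set.smul_mem_smul_set (mem_stdL.2 ⟨i, Or.inl rfl⟩)
    exact hm.2

theorem stabC_conj {t : Co0} {v w : leechLattice} (ht : t • v = w) :
    stabC w = (stabC v).map (MulAut.conj t).toMonoidHom := by
  ext g
  rw [Subgroup.mem_map]
  constructor
  · intro hg
    refine ⟨t⁻¹ * g * t, ?_, show t * (t⁻¹ * g * t) * t⁻¹ = g by group⟩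
    show cls ((t⁻¹ * g * t) • v) = cls v
    rw [mul_smul, mul_smul, ht, congr_smul (g := t⁻¹) hg, ← ht, inv_smul_smul]
  · rintro ⟨h, hh, rfl⟩
    show cls ((t * h * t⁻¹) • w) = cls w
    rw [mul_smul, mul_smul, ← ht, inv_smul_smul]
    exact congr_smul hh

theorem stabC_32 {v : leechLattice} (hv : sqNorm (v : Vec) = 32) {g : Co0} (hg : g ∈ stabC v) :
    g • v = v ∨ g • v = -v := by
  have h := congr_short (g • v).2 v.2 (by rw [co_norm, hv]; norm_num) (by rw [hv]; norm_num) (cls_eq.1 hg)
  rcases h with h | h | ⟨-, h, -⟩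
  · exact Or.inl (Subtype.ext h)
  · exact Or.inr (Subtype.ext h)
  · omega

theorem mem_stabC_of_fix {v : leechLattice} {g : Co0} (hg : g • v = v) : g ∈ stabC v := by
  rw [mem_stabC, hg]

/-! ### The permutation of a monomial automorphism -/

/-- The permutation of a monomial automorphism. -/
noncomputable def perm (g : crossStab) : Equiv.Perm GolayPt := (exists_mono g.2).choose

theorem perm_spec (g : crossStab) : perm g ∈ M24 ∧ ∀ i,
    (g : Co0) • axis i = axis (perm g i) ∨ (g : Co0) • axis i = -axis (perm g i) := by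
  obtain ⟨hσ, c, hc, e⟩ := (exists_mono g.2).choose_spec
  refine ⟨hσ, fun i => ?_⟩
  rw [e, mono_axis]
  split_ifs
  · exact Or.inr rfl
  · exact Or.inl rfl

theorem perm_unique (g : crossStab) (i j : GolayPt)
    (h : (g : Co0) • axis i = axis j ∨ (g : Co0) • axis i = -axis j) : perm g i = j := by
  rcases (perm_spec g).2 i with e | e <;> rcases h with f | f <;> rw [e] at f
  · exact axis_injective f
  · exact absurd f (axis_ne_neg _ _)
  · exact absurd f.symm (axis_ne_neg _ _)
  · exact axis_injective (neg_injective f)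

/-- The permutation, as a homomorphism. -/
noncomputable def permHom : crossStab →* Equiv.Perm GolayPt :=
  MonoidHom.mk' perm fun g h => Equiv.ext fun i => by
    refine perm_unique (g * h) i _ ?_
    rw [Subgroup.coe_mul, mul_smul, Equiv.Perm.mul_apply]
    rcases (perm_spec h).2 i with e | e <;> rw [e] <;> rcases (perm_spec g).2 (perm h i) with f | f <;>
      simp [co_neg, f]

theorem permHom_apply (g : crossStab) : permHom g = perm g := rfl

theorem perm_mono {σ : Equiv.Perm GolayPt} (hσ : σ ∈ M24) {c : Finset GolayPt}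
    (hc : c ∈ supports (golayCode : Set (GolayPt → ZMod 2))) : permHom ⟨mono hσ hc, mono_mem hσ hc⟩ = σ := by
  refine Equiv.ext fun i => perm_unique _ i _ ?_
  show mono hσ hc • axis i = _ ∨ mono hσ hc • axis i = _
  rw [mono_axis]
  split_ifs
  · exact Or.inr rfl
  · exact Or.inl rfl

/-- The sign changes. -/
noncomputable def signs : Subgroup Co0 := permHom.ker.map crossStab.subtype

theorem mem_signs {g : Co0} :
    g ∈ signs ↔ ∃ (c : Finset GolayPt) (hc : c ∈ supports (golayCode : Set (GolayPt → ZMod 2))),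
      g = mono (one_mem M24) hc := by
  constructor
  · rintro ⟨g, hg, rfl⟩
    obtain ⟨σ, hσ, c, hc, e⟩ := exists_mono g.2
    obtain rfl : σ = 1 := by
      rw [← perm_mono hσ hc]
      have : (⟨mono hσ hc, mono_mem hσ hc⟩ : crossStab) = g := Subtype.ext e.symm
      rw [this]
      exact hg
    exact ⟨c, hc, e⟩
  · rintro ⟨c, hc, rfl⟩
    exact ⟨⟨_, mono_mem (one_mem M24) hc⟩, perm_mono (one_mem M24) hc, rfl⟩

theorem center_le_signs : Subgroup.center Co0 ≤ signs := fun g hg => by
  refine mem_signs.2 ?_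
  rcases mem_center_iff.1 hg with e | e
  · refine ⟨∅, empty_code, ext_axis fun i => ?_⟩
    rw [e, mono_axis, one_smul]
    simp
  · exact ⟨Finset.univ, univ_code, e⟩

theorem card_signs : Nat.card signs = 4096 := by
  rw [← card_supports]
  refine (Nat.card_congr (Equiv.ofBijective
    (fun c : supports (golayCode : Set (GolayPt → ZMod 2)) =>
      (⟨mono (one_mem M24) c.2, mem_signs.2 ⟨_, c.2, rfl⟩⟩ : signs)) ⟨?_, ?_⟩)).symm
  · intro c d h
    exact Subtype.ext (mono_inj (one_mem M24) (one_mem M24) c.2 d.2 (congrArg Subtype.val h)).2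
  · intro g
    obtain ⟨c, hc, e⟩ := mem_signs.1 g.2
    exact ⟨⟨c, hc⟩, Subtype.ext e.symm⟩

theorem mono_empty_mul {σ τ : Equiv.Perm GolayPt} (hσ : σ ∈ M24) (hτ : τ ∈ M24) :
    mono hσ empty_code * mono hτ empty_code = mono (mul_mem hσ hτ) empty_code := by
  refine ext_axis fun i => ?_
  rw [mul_smul, mono_axis, if_neg (Finset.notMem_empty _), mono_axis, if_neg (Finset.notMem_empty _), mono_axis,
    if_neg (Finset.notMem_empty _), Equiv.Perm.mul_apply]

theorem mono_empty_mem_signs {σ : Equiv.Perm GolayPt} (hσ : σ ∈ M24) (h : mono hσ empty_code ∈ signs) : σ = 1 := by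
  obtain ⟨c, hc, e⟩ := mem_signs.1 h
  exact (mono_inj hσ (one_mem M24) empty_code hc e).1

theorem exists_mono_factor {g : Co0} (hg : g ∈ crossStab) :
    ∃ s ∈ signs, ∃ (σ : Equiv.Perm GolayPt) (hσ : σ ∈ M24), g = s * mono hσ empty_code := by
  obtain ⟨σ, hσ, c, hc, rfl⟩ := exists_mono hg
  refine ⟨mono (one_mem M24) hc, mem_signs.2 ⟨c, hc, rfl⟩, σ, hσ, ext_axis fun i => ?_⟩
  rw [mul_smul, mono_axis, mono_axis, if_neg (Finset.notMem_empty _), mono_axis, Equiv.Perm.one_apply]

/-! ### The case of norm 64 -/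

theorem two_group_crossStab {N : Subgroup Co0} (hp : IsPGroup 2 N) (hle : N ≤ crossStab)
    (hn : ∀ g ∈ crossStab, ∀ h ∈ N, g * h * g⁻¹ ∈ N) : N ≤ signs := by
  classical
  haveI : Fact (Nat.Prime 2) := ⟨Nat.prime_two⟩
  let M : Subgroup crossStab := N.subgroupOf crossStab
  let T : Subgroup (Equiv.Perm GolayPt) := M.map permHom
  have hTp : IsPGroup 2 T := (hp.comap_of_injective _ (Subgroup.subtype_injective _)).map _
  have hnorm : ∀ τ ∈ M24, ∀ σ ∈ T, τ * σ * τ⁻¹ ∈ T := by
    rintro τ hτ _ ⟨h, hh, rfl⟩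
    refine ⟨⟨mono hτ empty_code, mono_mem hτ empty_code⟩ * h * ⟨mono hτ empty_code, mono_mem hτ empty_code⟩⁻¹,
      hn _ (mono_mem hτ empty_code) _ hh, ?_⟩
    rw [map_mul, map_mul, map_inv, perm_mono]
  have htriv : ∀ σ ∈ T, σ = 1 := by
    intro σ hσ
    by_contra hne
    obtain ⟨a, ha⟩ : ∃ a, σ a ≠ a := by
      by_contra hcon
      simp only [not_exists, not_not] at hcon
      exact hne (Equiv.ext hcon)
    haveI : MulAction.IsPretransitive T GolayPt := by
      refine ⟨fun x y => ?_⟩
      by_cases hxy : x = y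
      · exact ⟨1, by rw [one_smul, hxy]⟩
      obtain ⟨τ₁, hτ₁, hb₁, -⟩ := exists_move [a, σ a] (by simp [Ne.symm ha]) (by simp)
      obtain ⟨τ₂, hτ₂, hb₂, -⟩ := exists_move [x, y] (by simp [hxy]) (by simp)
      have h1 : τ₁ (Golay.base5 0) = a := hb₁ 0 (by simp)
      have h1' : τ₁ (Golay.base5 1) = σ a := hb₁ 1 (by simp)
      have h2 : τ₂ (Golay.base5 0) = x := hb₂ 0 (by simp)
      have h2' : τ₂ (Golay.base5 1) = y := hb₂ 1 (by simp)
      refine ⟨⟨(τ₂ * τ₁⁻¹) * σ * (τ₂ * τ₁⁻¹)⁻¹, hnorm _ (mul_mem hτ₂ (inv_mem hτ₁)) σ hσ⟩, ?_⟩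
      show ((τ₂ * τ₁⁻¹) * σ * (τ₂ * τ₁⁻¹)⁻¹) x = y
      rw [← h2, ← h2', mul_inv_rev, inv_inv]
      simp only [Equiv.Perm.mul_apply, Equiv.Perm.coe_inv, Equiv.symm_apply_apply, h1]
      rw [← h1', Equiv.symm_apply_apply]
    have h24 := MulAction.index_stabilizer_of_transitive T (none : GolayPt)
    rw [Nat.card_eq_fintype_card (α := GolayPt), Golay.card_golayPt] at h24
    obtain ⟨n, hn2⟩ := IsPGroup.iff_card.1 hTp
    have hdvd := (MulAction.stabilizer T (none : GolayPt)).index_dvd_card
    rw [h24, hn2] at hdvd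
    have h3 : 3 ∣ 2 ^ n := dvd_trans (by norm_num) hdvd
    exact absurd (Nat.prime_three.dvd_of_dvd_pow h3) (by norm_num)
  intro g hg
  obtain ⟨σ, hσ, c, hc, rfl⟩ := exists_mono (hle hg)
  refine mem_signs.2 ?_
  obtain rfl : σ = 1 := by
    refine htriv σ ⟨⟨_, mono_mem hσ hc⟩, hg, ?_⟩
    exact perm_mono hσ hc
  exact ⟨c, hc, rfl⟩

/-! ### The case of norm 32 -/

theorem vB_norm : sqNorm ((vB : leechLattice) : Vec) = 32 := v0_norm

theorem dot_neg_right (x y : Vec) : dotInt x (-y) = -dotInt x y := by simp [dotInt]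

/-- The members of norm 32 perpendicular to the base member. -/
def orthSet : Set leechLattice := {w | sqNorm (w : Vec) = 32 ∧ dotInt v0 (w : Vec) = 0}

theorem neg_mem_orthSet {w : leechLattice} (hw : w ∈ orthSet) : -w ∈ orthSet := by
  refine ⟨by rw [AddSubgroup.coe_neg, norm_neg]; exact hw.1, ?_⟩
  rw [AddSubgroup.coe_neg, dot_neg_right, hw.2, neg_zero]

theorem smul_mem_orthSet {g : Co0} (hg : g ∈ stabC vB) {w : leechLattice} (hw : w ∈ orthSet) : g • w ∈ orthSet := by
  refine ⟨by rw [co_norm]; exact hw.1, ?_⟩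
  have h1 := co_dot g vB w
  have h2 : dotInt (vB : Vec) (w : Vec) = 0 := hw.2
  rcases stabC_32 vB_norm hg with e | e <;> rw [e] at h1
  · exact h1.trans h2
  · have h3 : dotInt (((-vB : leechLattice)) : Vec) ((g • w : leechLattice) : Vec) =
        -dotInt v0 ((g • w : leechLattice) : Vec) := by simp [dotInt, vB]
    omega

theorem ncard_orthSet : orthSet.ncard = 93150 := by
  rw [← dist_counts.2.2, ← Set.ncard_image_of_injective orthSet Subtype.val_injective]
  congr 1
  ext x
  exact ⟨fun ⟨w, ⟨h1, h2⟩, e⟩ => e ▸ ⟨w.2, h1, h2⟩, fun h => ⟨⟨x, h.1⟩, ⟨h.2.1, h.2.2⟩, rfl⟩⟩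

theorem finite_orthSet : orthSet.Finite :=
  ((finite_norm 32).preimage Subtype.val_injective.injOn).subset fun _ hw => hw.1

theorem ncard_pairs : ((fun w : leechLattice => ({w, -w} : Set leechLattice)) '' orthSet).ncard = 46575 := by
  classical
  let f : leechLattice → Set leechLattice := fun w => {w, -w}
  have h := Finset.card_eq_sum_card_image f finite_orthSet.toFinset
  have hb : ∀ S ∈ finite_orthSet.toFinset.image f, (finite_orthSet.toFinset.filter fun v => f v = S).card = 2 := by
    intro S hS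
    obtain ⟨u, hu, rfl⟩ := Finset.mem_image.1 hS
    rw [Set.Finite.mem_toFinset] at hu
    have hne : u ≠ -u := fun e => by
      have h1 : ((u : Vec)) = -(u : Vec) := congrArg Subtype.val e
      have h2 := hu.1
      have h0 : (u : Vec) = 0 := funext fun i => by
        have := congrFun h1 i
        simp only [Pi.neg_apply, Pi.zero_apply] at this ⊢
        omega
      rw [h0] at h2; simp [sqNorm] at h2
    have he : (finite_orthSet.toFinset.filter fun v => f v = f u) = {u, -u} := by
      ext v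
      rw [Finset.mem_filter, Set.Finite.mem_toFinset, Finset.mem_insert, Finset.mem_singleton]
      constructor
      · rintro ⟨-, h2⟩
        have h3 : v ∈ f u := h2 ▸ (Set.mem_insert v _ : v ∈ f v)
        simpa [f] using h3
      · rintro (rfl | rfl)
        · exact ⟨hu, rfl⟩
        · refine ⟨neg_mem_orthSet hu, ?_⟩
          show ({-u, - -u} : Set leechLattice) = {u, -u}
          rw [neg_neg, Set.pair_comm]
    rw [he, Finset.card_pair hne]
  rw [Finset.sum_congr rfl hb, Finset.sum_const, smul_eq_mul, ← Set.ncard_eq_toFinset_card _ finite_orthSet,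
    ncard_orthSet] at h
  rw [show (f '' orthSet) = ↑(finite_orthSet.toFinset.image f) by simp, Set.ncard_coe_finset]
  omega

theorem code_no_pair {i j : GolayPt} (hij : i ≠ j) :
    ({i, j} : Finset GolayPt) ∉ supports (golayCode : Set (GolayPt → ZMod 2)) := by
  rintro ⟨w, hw, e⟩
  have h := code_weight hw
  rw [e, Finset.card_pair hij] at h
  omega

theorem swap_not_mem {i j : GolayPt} (hij : i ≠ j) : Equiv.swap i j ∉ M24 := by
  intro h
  obtain ⟨c, hc, hi, hj⟩ := exists_code_sep hij
  refine code_no_pair hij ?_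
  have he : symmDiff c ((Equiv.swap i j) • c) = {i, j} := by
    ext k
    rw [Finset.mem_symmDiff, ← Finset.inv_smul_mem_iff, Equiv.Perm.smul_def, Equiv.swap_inv]
    by_cases h1 : k = i
    · subst h1; simp [hi, hj, Equiv.swap_apply_left]
    · by_cases h2 : k = j
      · subst h2; simp [hi, hj, Equiv.swap_apply_right]
      · simp [h1, h2, Equiv.swap_apply_of_ne_of_ne h1 h2]
  rw [← he]
  exact Golay.symmDiff_mem_supports hc (smul_supports h hc)

/-- An automorphism fixing every perpendicular pair and the base member up to sign is central. -/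
theorem central_of_fix {g : Co0} (hg : g ∈ stabC vB) (hw : ∀ w ∈ orthSet, g • w = w ∨ g • w = -w) :
    g ∈ Subgroup.center Co0 := by
  classical
  have hpm : ∀ {v a b : leechLattice}, v = a + b → (g • a = a ∨ g • a = -a) → (g • b = b ∨ g • b = -b) →
      g • v = a + b ∨ g • v = -(a + b) ∨ g • v = a - b ∨ g • v = -(a - b) := by
    intro v a b e ha hb
    rw [e, co_add]
    rcases ha with ha | ha <;> rcases hb with hb | hb <;> rw [ha, hb]
    · exact Or.inl rfl
    · exact Or.inr (Or.inr (Or.inl (by abel)))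
    · exact Or.inr (Or.inr (Or.inr (by abel)))
    · exact Or.inr (Or.inl (by abel))
  have hpq : bp ≠ bq := base_ne
  have horth : ∀ {i j : GolayPt}, i ≠ j → i ≠ bp → i ≠ bq → j ≠ bp → j ≠ bq → ∀ u : ℤ, (u = 4 ∨ u = -4) →
      ∃ w ∈ orthSet, (w : Vec) = Pi.single i 4 + Pi.single j u := by
    intro i j hij hip hiq hjp hjq u hu
    refine ⟨⟨_, pair_mem i j (Or.inl rfl) hu⟩, ⟨?_, ?_⟩, rfl⟩
    · show sqNorm (Pi.single i 4 + Pi.single j u) = 32
      rw [sqNorm, Finset.sum_eq_add i j hij (fun k _ hk => by simp [Pi.single_eq_of_ne hk.1, Pi.single_eq_of_ne hk.2])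
        (by simp) (by simp)]
      rcases hu with rfl | rfl <;> simp [Pi.single_eq_of_ne hij, Pi.single_eq_of_ne hij.symm]
    · show dotInt v0 (Pi.single i 4 + Pi.single j u) = 0
      rw [dot_v0]
      simp [Pi.single_eq_of_ne hip.symm, Pi.single_eq_of_ne hiq.symm, Pi.single_eq_of_ne hjp.symm,
        Pi.single_eq_of_ne hjq.symm]
  have hax1 : ∀ {i j : GolayPt}, i ≠ j → i ≠ bp → i ≠ bq → j ≠ bp → j ≠ bq →
      g • axis i = axis i ∨ g • axis i = -axis i ∨ g • axis i = axis j ∨ g • axis i = -axis j := by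
    intro i j hij hip hiq hjp hjq
    obtain ⟨a, ha, ea⟩ := horth hij hip hiq hjp hjq 4 (Or.inl rfl)
    obtain ⟨b, hb, eb⟩ := horth hij hip hiq hjp hjq (-4) (Or.inr rfl)
    have e1 : axis i = a + b := Subtype.ext (by
      rw [AddSubgroup.coe_add, ea, eb, axis_val]
      funext k
      simp only [Pi.add_apply, Pi.single_apply]
      split_ifs <;> norm_num)
    have e2 : axis j = a - b := Subtype.ext (by
      rw [AddSubgroup.coe_sub, ea, eb, axis_val]
      funext k
      simp only [Pi.sub_apply, Pi.add_apply, Pi.single_apply]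
      split_ifs <;> norm_num)
    have h := hpm e1 (hw a ha) (hw b hb)
    rwa [← e1, ← e2] at h
  have hax0 : ∀ i, i = bp ∨ i = bq → g • axis i = axis bp ∨ g • axis i = -axis bp ∨ g • axis i = axis bq ∨
      g • axis i = -axis bq := by
    intro i hi
    have hb : (⟨_, pair_mem bp bq (Or.inl rfl) (Or.inr rfl)⟩ : leechLattice) ∈ orthSet := by
      refine ⟨?_, ?_⟩
      · show sqNorm (Pi.single bp 4 + Pi.single bq (-4)) = 32
        decide +kernel
      · show dotInt v0 (Pi.single bp 4 + Pi.single bq (-4)) = 0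
        decide +kernel
    set b : leechLattice := ⟨_, pair_mem bp bq (Or.inl rfl) (Or.inr rfl)⟩ with hbdef
    have hvv : g • vB = vB ∨ g • vB = -vB := stabC_32 vB_norm hg
    have e1 : axis bp = vB + b := Subtype.ext (by
      rw [AddSubgroup.coe_add, axis_val]
      show _ = v0 + (Pi.single bp 4 + Pi.single bq (-4))
      decide +kernel)
    have e2 : axis bq = vB - b := Subtype.ext (by
      rw [AddSubgroup.coe_sub, axis_val]
      show _ = v0 - (Pi.single bp 4 + Pi.single bq (-4))
      decide +kernel)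
    have hb' := hw b hb
    rcases hi with rfl | rfl
    · have h := hpm e1 hvv hb'
      rwa [← e1, ← e2] at h
    · rw [sub_eq_add_neg] at e2
      have h := hpm e2 hvv (by
        rw [co_neg, neg_inj, neg_inj]; exact hb')
      rw [← e2, sub_neg_eq_add, ← e1] at h
      tauto
  have hthird : ∀ i : GolayPt, ∃ j k : GolayPt, j ≠ k ∧ i ≠ j ∧ i ≠ k ∧ j ≠ bp ∧ j ≠ bq ∧ k ≠ bp ∧ k ≠ bq := by
    decide +kernel
  have hs : g ∈ crossStab := by
    refine mem_crossStab.2 fun v hv => ?_
    show g • v ∈ stdL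
    have hi : ∀ i, g • axis i ∈ stdL := fun i => by
      rw [mem_stdL]
      by_cases hb : i = bp ∨ i = bq
      · rcases hax0 i hb with e | e | e | e
        exacts [⟨bp, Or.inl e⟩, ⟨bp, Or.inr e⟩, ⟨bq, Or.inl e⟩, ⟨bq, Or.inr e⟩]
      · push Not at hb
        obtain ⟨j, k, -, hij, -, hjp, hjq, -, -⟩ := hthird i
        rcases hax1 hij hb.1 hb.2 hjp hjq with e | e | e | e
        exacts [⟨i, Or.inl e⟩, ⟨i, Or.inr e⟩, ⟨j, Or.inl e⟩, ⟨j, Or.inr e⟩]
    obtain ⟨i, rfl | rfl⟩ := mem_stdL.1 (show v ∈ stdL from hv)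
    · exact hi i
    · obtain ⟨j, e | e⟩ := mem_stdL.1 (hi i) <;> exact mem_stdL.2 ⟨j, by simp [co_neg, e]⟩
  obtain ⟨σ, hσ, c, hc, rfl⟩ := exists_mono hs
  have hperm : ∀ {i j : GolayPt}, mono hσ hc • axis i = axis j ∨ mono hσ hc • axis i = -axis j → σ i = j := by
    intro i j h
    rw [mono_axis] at h
    split_ifs at h <;> rcases h with h | h
    · exact absurd h.symm (axis_ne_neg _ _)
    · exact axis_injective (neg_injective h)
    · exact axis_injective h
    · exact absurd h (axis_ne_neg _ _)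
  have hout : ∀ i, i ≠ bp → i ≠ bq → σ i = i := by
    intro i hip hiq
    obtain ⟨j, k, hjk, hij, hik, hjp, hjq, hkp, hkq⟩ := hthird i
    have a : σ i = i ∨ σ i = j := by
      rcases hax1 hij hip hiq hjp hjq with e | e | e | e
      exacts [Or.inl (hperm (Or.inl e)), Or.inl (hperm (Or.inr e)), Or.inr (hperm (Or.inl e)), Or.inr (hperm (Or.inr e))]
    have b : σ i = i ∨ σ i = k := by
      rcases hax1 hik hip hiq hkp hkq with e | e | e | e
      exacts [Or.inl (hperm (Or.inl e)), Or.inl (hperm (Or.inr e)), Or.inr (hperm (Or.inl e)), Or.inr (hperm (Or.inr e))]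
    rcases a with a | a
    · exact a
    · rcases b with b | b
      · exact b
      · exact absurd (a.symm.trans b) hjk
  have hin : σ bp = bp ∨ σ bp = bq := by
    rcases hax0 bp (Or.inl rfl) with e | e | e | e
    exacts [Or.inl (hperm (Or.inl e)), Or.inl (hperm (Or.inr e)), Or.inr (hperm (Or.inl e)), Or.inr (hperm (Or.inr e))]
  obtain rfl : σ = 1 := by
    rcases hin with h | h
    · refine Equiv.ext fun i => ?_
      by_cases hi : i = bp
      · rw [hi, h]; rfl
      by_cases hi' : i = bq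
      · subst hi'
        by_contra hne
        by_cases h2 : σ bq = bp
        · exact hi (σ.injective (h2.trans h.symm))
        · exact hne (σ.injective (hout _ h2 hne))
      · exact hout i hi hi'
    · exfalso
      refine swap_not_mem hpq ?_
      convert hσ using 1
      refine Equiv.ext fun i => ?_
      by_cases hi : i = bp
      · rw [hi, Equiv.swap_apply_left, h]
      by_cases hi' : i = bq
      · subst hi'
        rw [Equiv.swap_apply_right]
        by_contra hne
        by_cases h2 : σ bq = bq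
        · exact hpq (σ.injective (h.trans h2.symm))
        · exact h2 (σ.injective (hout _ (Ne.symm hne) h2))
      · rw [Equiv.swap_apply_of_ne_of_ne hi hi', hout i hi hi']
  refine mem_center_iff.2 (eq_one_or_neg hc ?_ rfl)
  have hconst : ∀ i j, i ≠ bp → i ≠ bq → j ≠ bp → j ≠ bq → i ∈ c → j ∈ c := by
    intro i j hip hiq hjp hjq hi
    by_contra hj
    have hij : i ≠ j := fun e => hj (e ▸ hi)
    obtain ⟨w, hwo, ew⟩ := horth hij hip hiq hjp hjq 4 (Or.inl rfl)
    rcases hw w hwo with e | e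
    · have h1 := congrArg (fun v : leechLattice => (v : Vec) i) e
      simp only [mono_apply, signedPerm, if_pos hi, ew, Pi.add_apply, Pi.single_eq_same, Equiv.Perm.one_def,
        Equiv.refl_symm, Equiv.refl_apply, Pi.single_eq_of_ne hij] at h1
      omega
    · have h1 := congrArg (fun v : leechLattice => (v : Vec) j) e
      simp only [mono_apply, signedPerm, if_neg hj, ew, AddSubgroup.coe_neg, Pi.neg_apply, Pi.add_apply,
        Pi.single_eq_same, Equiv.Perm.one_def, Equiv.refl_symm, Equiv.refl_apply, Pi.single_eq_of_ne hij.symm] at h1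
      omega
  obtain ⟨w, hw', ew⟩ := hc
  have hwt := code_weight hw'
  rw [ew] at hwt
  by_cases hex : ∃ i ∈ c, i ≠ bp ∧ i ≠ bq
  · obtain ⟨i, hi, hip, hiq⟩ := hex
    refine Or.inr (Finset.eq_univ_of_card _ ?_)
    have hsub : Finset.univ \ {bp, bq} ⊆ c := fun j hj => by
      simp only [Finset.mem_sdiff, Finset.mem_univ, true_and, Finset.mem_insert, Finset.mem_singleton, not_or] at hj
      exact hconst i j hip hiq hj.1 hj.2 hi
    have h1 := Finset.card_le_card hsub
    rw [Finset.card_univ_diff, Finset.card_pair hpq, Golay.card_golayPt] at h1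
    rw [Golay.card_golayPt]
    omega
  · refine Or.inl (Finset.card_eq_zero.1 ?_)
    have hsub : c ⊆ {bp, bq} := fun j hj => by
      simp only [not_exists, not_and, not_not] at hex
      simp only [Finset.mem_insert, Finset.mem_singleton]
      by_cases h : j = bp
      · exact Or.inl h
      · exact Or.inr (hex j hj h)
    have h1 := Finset.card_le_card hsub
    rw [Finset.card_pair hpq] at h1
    omega

theorem two_group_vB {N : Subgroup Co0} (hp : IsPGroup 2 N) (hle : N ≤ stabC vB)
    (hn : ∀ g ∈ stabC vB, ∀ h ∈ N, g * h * g⁻¹ ∈ N) : N ≤ Subgroup.center Co0 := by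
  classical
  haveI : Fact (Nat.Prime 2) := ⟨Nat.prime_two⟩
  let f : leechLattice → Set leechLattice := fun w => {w, -w}
  have hsm : ∀ (g : Co0) (w : leechLattice), g • f w = f (g • w) := fun g w => by
    show g • ({w, -w} : Set leechLattice) = {g • w, -(g • w)}
    rw [Set.smul_set_insert, Set.smul_set_singleton, co_neg]
  let Ω : SubMulAction N (Set leechLattice) :=
    { carrier := f '' orthSet
      smul_mem' := by
        rintro h _ ⟨w, hw, rfl⟩
        exact ⟨(h : Co0) • w, smul_mem_orthSet (hle h.2) hw, (hsm _ _).symm⟩ }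
  haveI : Finite Ω := (finite_orthSet.image f).to_subtype
  have hmod := hp.card_modEq_card_fixedPoints Ω
  have hc : Nat.card Ω = 46575 := by
    rw [← ncard_pairs]; exact Nat.card_coe_set_eq _
  have hpos : 0 < Nat.card (MulAction.fixedPoints N Ω) := by
    rcases Nat.eq_zero_or_pos (Nat.card (MulAction.fixedPoints N Ω)) with e | e
    · rw [hc, e] at hmod
      exact absurd hmod (by decide)
    · exact e
  obtain ⟨⟨S, ⟨w₀, hw₀, hS⟩⟩, hfix⟩ := (Nat.card_pos_iff.1 hpos).1
  have h0 : ∀ h ∈ N, h • w₀ = w₀ ∨ h • w₀ = -w₀ := fun h hh => by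
    have e : h • S = S := congrArg Subtype.val (hfix ⟨h, hh⟩)
    rw [← hS, hsm] at e
    have hm : h • w₀ ∈ f w₀ := e ▸ (Set.mem_insert _ _ : h • w₀ ∈ f (h • w₀))
    simpa [f] using hm
  intro h hh
  refine central_of_fix (hle hh) fun w hw => ?_
  obtain ⟨g, hg, hgw⟩ := orth_conn hw₀.1 hw.1 hw₀.2 hw.2
  have hg' : g ∈ stabC vB := mem_stabC_of_fix hg
  have hk := hn g⁻¹ (inv_mem hg') h hh
  have e : h • (g • w₀) = g • w₀ ∨ h • (g • w₀) = -(g • w₀) := by
    have hkey : h • g • w₀ = g • ((g⁻¹ * h * g⁻¹⁻¹) • w₀) := by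
      rw [← mul_smul, ← mul_smul]; congr 1; group
    rw [hkey]
    rcases h0 _ hk with e | e <;> rw [e]
    · exact Or.inl rfl
    · exact Or.inr (co_neg g w₀)
  rcases hgw with e' | e' <;> rw [e'] at e
  · exact e
  · rw [co_neg, neg_inj, neg_inj] at e; exact e

/-! ### Transport -/

theorem isPGroup_map_conj {N : Subgroup Co0} (hp : IsPGroup 2 N) (t : Co0) :
    IsPGroup 2 (N.map (MulAut.conj t).toMonoidHom) := hp.map _

theorem no_two_group_32 {v : leechLattice} (hv : sqNorm (v : Vec) = 32) {N : Subgroup Co0} (hp : IsPGroup 2 N)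
    (hle : N ≤ stabC v) (hn : ∀ g ∈ stabC v, ∀ h ∈ N, g * h * g⁻¹ ∈ N) : N ≤ Subgroup.center Co0 := by
  obtain ⟨t, ht⟩ := exists_to_vB v hv
  have key := two_group_vB (isPGroup_map_conj hp t) ((Subgroup.map_mono hle).trans (stabC_conj ht).ge) ?_
  · intro h hh
    have hc := key ⟨h, hh, rfl⟩
    have e : t * h * t⁻¹ = h := by
      have := Subgroup.mem_center_iff.1 hc t
      change t * (t * h * t⁻¹) = t * h * t⁻¹ * t at this
      rw [inv_mul_cancel_right] at this
      exact mul_left_cancel this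
    rw [← e]; exact hc
  · rw [stabC_conj ht]
    rintro _ ⟨g, hg, rfl⟩ _ ⟨h, hh, rfl⟩
    exact ⟨g * h * g⁻¹, hn g hg h hh, by simp [mul_assoc]⟩

theorem two_group_64 {v : leechLattice} {i : GolayPt} {t : Co0} (ht : t • v = axis i) {N : Subgroup Co0}
    (hp : IsPGroup 2 N) (hle : N ≤ stabC v) (hn : ∀ g ∈ stabC v, ∀ h ∈ N, g * h * g⁻¹ ∈ N) :
    N.map (MulAut.conj t).toMonoidHom ≤ signs := by
  refine two_group_crossStab (isPGroup_map_conj hp t) ?_ ?_
  · rw [← stabC_eq_crossStab i, stabC_conj ht]; exact Subgroup.map_mono hle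
  · rw [← stabC_eq_crossStab i, stabC_conj ht]
    rintro _ ⟨g, hg, rfl⟩ _ ⟨h, hh, rfl⟩
    exact ⟨g * h * g⁻¹, hn g hg h hh, by simp [mul_assoc]⟩

end Cfsg.Agent.Spor.Leech
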