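import Cfsg.Agent.Lib.Spor.Leech.MonsterBase
import Cfsg.Agent.Lib.Spor.Leech.MonsterStab

/-!
Two conjugate centres, one lying in the extraspecial group of the other.
-/

set_option autoImplicit false
set_option maxRecDepth 100000
set_option linter.style.haveILetI false

namespace Cfsg.Agent.Spor.Leech

open Cfsg
open scoped Pointwise

/-- The order of a subgroup from kernel and image. -/
theorem card_eq_ker_mul_map {G H : Type*} [Group G] [Group H] (f : G →* H) (S : Subgroup G) :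
    Nat.card S = Nat.card (S ⊓ f.ker : Subgroup G) * Nat.card (S.map f) := by
  rw [← (f.comp S.subtype).ker.card_mul_index, Subgroup.index_ker, MonoidHom.range_comp, Subgroup.range_subtype,
    ← MonoidHom.comap_ker]
  congr 1
  rw [← Subgroup.card_map_of_injective (K := f.ker.comap S.subtype) (Subgroup.subtype_injective S)]
  show Nat.card ((f.ker.subgroupOf S).map S.subtype) = _
  rw [Subgroup.subgroupOf_map_subtype, inf_comm]

/-- An abelian subgroup containing the centre has at most the square root of twice the order. -/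
theorem abelian_sq_le {G : Type*} [Group G] [Finite G] {z : G} {Q : Subgroup G} (h : ExtraPair.Ext z Q)
    {D : Subgroup G} (hle : D ≤ Q) (hz : z ∈ D) (hcomm : ∀ a ∈ D, ∀ b ∈ D, a * b = b * a)
    (hsq : ∀ a ∈ D, a * a = 1) : Nat.card D * Nat.card D ≤ 2 * Nat.card Q := by
  classical
  have key : ∀ S : Finset G, (∀ s ∈ S, s ∈ D) →
      Nat.card ↥(Q ⊓ Subgroup.centralizer ((Subgroup.closure (insert z (S : Set G)) : Subgroup G) : Set G)) *
        Nat.card ↥(Subgroup.closure (insert z (S : Set G))) ≤ 2 * Nat.card Q := by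
    intro S
    induction S using Finset.induction_on with
    | empty =>
      intro _
      have h2 : Nat.card ↥(Subgroup.closure (insert z ((∅ : Finset G) : Set G))) ≤ 2 := by
        rw [Finset.coe_empty, show (insert z (∅ : Set G)) = {z} by simp, ← Subgroup.zpowers_eq_closure,
          Nat.card_zpowers]
        exact Nat.le_of_dvd (by norm_num) (orderOf_dvd_iff_pow_eq_one.2 (by rw [pow_two]; exact h.zz))
      exact (Nat.mul_le_mul (Subgroup.card_le_of_le inf_le_left) h2).trans (le_of_eq (mul_comm _ _))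
    | @insert a S ha ih =>
      intro hS
      have haD : a ∈ D := hS a (Finset.mem_insert_self _ _)
      have hS' : ∀ s ∈ S, s ∈ D := fun s hs => hS s (Finset.mem_insert_of_mem hs)
      have hih := ih hS'
      set K := Subgroup.closure (insert z (S : Set G)) with hK
      set K' := Subgroup.closure (insert z (↑(insert a S) : Set G)) with hK'
      have hKD : K ≤ D := (Subgroup.closure_le _).2 (Set.insert_subset_iff.2 ⟨hz, fun s hs => hS' s hs⟩)
      have hKK' : K ≤ K' := Subgroup.closure_mono (Set.insert_subset_insert (by simp))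
      have haK' : a ∈ K' := Subgroup.subset_closure (by simp)
      by_cases haK : a ∈ K
      · have : K' = K := le_antisymm ((Subgroup.closure_le _).2 (Set.insert_subset_iff.2
          ⟨Subgroup.subset_closure (by simp), fun s hs => by
            rcases Finset.mem_insert.1 (Finset.mem_coe.1 hs) with rfl | hs
            · exact haK
            · exact Subgroup.subset_closure (Set.mem_insert_of_mem _ hs)⟩)) hKK'
        rw [this]; exact hih
      have hcK : Nat.card K' ≤ 2 * Nat.card K := by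
        let U : Subgroup G :=
          { carrier := {y | y ∈ D ∧ (y ∈ K ∨ a * y ∈ K)}
            one_mem' := ⟨one_mem _, Or.inl (one_mem _)⟩
            mul_mem' := fun {y w} hy hw => ⟨mul_mem hy.1 hw.1, by
              rcases hy.2 with h1 | h1 <;> rcases hw.2 with h2 | h2
              · exact Or.inl (mul_mem h1 h2)
              · right; rw [← mul_assoc, hcomm a haD y hy.1, mul_assoc]; exact mul_mem h1 h2
              · right; rw [← mul_assoc]; exact mul_mem h1 h2
              · left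
                have e : (a * y) * (a * w) = y * w := by
                  rw [hcomm a haD y hy.1, mul_assoc, ← mul_assoc a a w, hsq a haD, one_mul]
                rw [← e]; exact mul_mem h1 h2⟩
            inv_mem' := fun {y} hy => by
              rw [inv_eq_of_mul_eq_one_right (hsq y hy.1)]; exact hy }
        have hK'U : K' ≤ U := (Subgroup.closure_le _).2 (Set.insert_subset_iff.2
          ⟨⟨hz, Or.inl (Subgroup.subset_closure (by simp))⟩, fun s hs => ⟨hS s hs, by
            rcases Finset.mem_insert.1 (Finset.mem_coe.1 hs) with rfl | hs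
            · right; rw [hsq s haD]; exact one_mem _
            · exact Or.inl (Subgroup.subset_closure (Set.mem_insert_of_mem _ hs))⟩⟩)
        have hcov : (K' : Set G) ⊆ (K : Set G) ∪ (fun y => a * y) '' (K : Set G) := fun y hy => by
          rcases (hK'U hy).2 with h1 | h1
          · exact Or.inl h1
          · exact Or.inr ⟨a * y, h1, by show a * (a * y) = y; rw [← mul_assoc, hsq a haD, one_mul]⟩
        have h1 := (Set.ncard_le_ncard hcov (Set.toFinite _)).trans (Set.ncard_union_le _ _)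
        rw [Set.ncard_image_of_injective _ (mul_right_injective a), ← Nat.card_coe_set_eq,
          ← Nat.card_coe_set_eq] at h1
        rw [two_mul]; exact h1
      set A := Q ⊓ Subgroup.centralizer (K : Set G) with hA
      set B := Q ⊓ Subgroup.centralizer (K' : Set G) with hB
      have hBA : B ≤ A := inf_le_inf_left Q (Subgroup.centralizer_le (SetLike.coe_subset_coe.2 hKK'))
      have hne : B ≠ A := by
        intro e
        refine haK (h.double_centralizer S (fun s hs => hle (hS' s hs)) a (hle haD) fun y hy hys => ?_)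
        have hyA : y ∈ A := by
          refine ⟨hy, ?_⟩
          rw [hK, Subgroup.centralizer_closure]
          refine Subgroup.mem_centralizer_iff.2 fun s hs => ?_
          rcases Set.mem_insert_iff.1 hs with rfl | hs
          · exact (h.central y hy).symm
          · exact (hys s hs).symm
        rw [← e] at hyA
        exact (Subgroup.mem_centralizer_iff.1 hyA.2 a haK').symm
      obtain ⟨k, hk⟩ := Subgroup.card_dvd_of_le hBA
      have hlt : Nat.card B ≠ Nat.card A := fun e => hne (Subgroup.eq_of_le_of_card_ge hBA e.ge)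
      have hpos : 0 < Nat.card A := Nat.card_pos
      rcases k with _ | _ | k
      · omega
      · omega
      have h2 : 2 * Nat.card B ≤ Nat.card A := by rw [hk]; nlinarith
      calc Nat.card B * Nat.card K' ≤ Nat.card B * (2 * Nat.card K) := Nat.mul_le_mul_left _ hcK
        _ = 2 * Nat.card B * Nat.card K := by ring
        _ ≤ Nat.card A * Nat.card K := Nat.mul_le_mul_right _ h2
        _ ≤ _ := hih
  have h1 := key (Set.toFinite (D : Set G)).toFinset (fun s hs => by simpa using hs)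
  have hcl : Subgroup.closure (insert z (((Set.toFinite (D : Set G)).toFinset : Finset G) : Set G)) = D := by
    rw [Set.Finite.coe_toFinset, Set.insert_eq_of_mem hz, Subgroup.closure_eq]
  rw [hcl] at h1
  refine le_trans (Nat.mul_le_mul_right _ (Subgroup.card_le_of_le ?_)) h1
  exact fun y hy => ⟨hle hy, Subgroup.mem_centralizer_iff.2 fun s hs => hcomm s hs y hy⟩

section Lift

variable {G : Type*} [Group G] {z : G} {Q : Subgroup (Subgroup.centralizer ({z} : Set G))} [Q.Normal]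

/-- The preimage among the lattice automorphisms. -/
def lift (e : (Subgroup.centralizer ({z} : Set G)) ⧸ Q ≃* Cfsg.Spor.Co1)
    (K : Subgroup ((Subgroup.centralizer ({z} : Set G)) ⧸ Q)) : Subgroup Co0 :=
  (K.map e.toMonoidHom).comap (QuotientGroup.mk' (Subgroup.center Co0))

theorem mem_lift {e : (Subgroup.centralizer ({z} : Set G)) ⧸ Q ≃* Cfsg.Spor.Co1}
    {K : Subgroup ((Subgroup.centralizer ({z} : Set G)) ⧸ Q)} {k : Co0} :
    k ∈ lift e K ↔ e.symm (QuotientGroup.mk k) ∈ K := by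
  rw [lift, Subgroup.mem_comap, Subgroup.mem_map]
  constructor
  · rintro ⟨y, hy, e'⟩
    have e'' : e y = QuotientGroup.mk k := e'
    rwa [← e'', MulEquiv.symm_apply_apply]
  · exact fun h => ⟨_, h, e.apply_symm_apply _⟩

theorem card_lift (e : (Subgroup.centralizer ({z} : Set G)) ⧸ Q ≃* Cfsg.Spor.Co1)
    (K : Subgroup ((Subgroup.centralizer ({z} : Set G)) ⧸ Q)) : Nat.card (lift e K) = 2 * Nat.card K := by
  rw [card_eq_ker_mul_map (QuotientGroup.mk' (Subgroup.center Co0)) (lift e K), QuotientGroup.ker_mk', lift,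
    Subgroup.map_comap_eq_self_of_surjective (QuotientGroup.mk'_surjective _),
    Subgroup.card_map_of_injective e.injective]
  congr 1
  rw [inf_eq_right.2 ?_, card_center]
  intro g hg
  show QuotientGroup.mk' (Subgroup.center Co0) g ∈ K.map e.toMonoidHom
  rw [show QuotientGroup.mk' (Subgroup.center Co0) g = 1 from (QuotientGroup.eq_one_iff g).2 hg]
  exact one_mem _

/-- The second extraspecial group. -/
abbrev PG (Q : Subgroup (Subgroup.centralizer ({z} : Set G))) (g : G) : Subgroup G :=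
  (QG Q).map (MulAut.conj g).toMonoidHom

/-- The image of the second extraspecial group. -/
abbrev imageE (Q : Subgroup (Subgroup.centralizer ({z} : Set G))) [Q.Normal] (g : G) :
    Subgroup ((Subgroup.centralizer ({z} : Set G)) ⧸ Q) :=
  ((PG Q g ⊓ Subgroup.centralizer ({z} : Set G)).subgroupOf (Subgroup.centralizer ({z} : Set G))).map
    (QuotientGroup.mk' Q)

/-- The image of the centraliser of the second centre. -/
abbrev imageX (Q : Subgroup (Subgroup.centralizer ({z} : Set G))) [Q.Normal] (x : G) :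
    Subgroup ((Subgroup.centralizer ({z} : Set G)) ⧸ Q) :=
  ((Subgroup.centralizer ({z} : Set G) ⊓ Subgroup.centralizer ({x} : Set G)).subgroupOf
    (Subgroup.centralizer ({z} : Set G))).map (QuotientGroup.mk' Q)

theorem mem_imageX {x : G} {y : (Subgroup.centralizer ({z} : Set G)) ⧸ Q} :
    y ∈ imageX Q x ↔ ∃ c : Subgroup.centralizer ({z} : Set G), (c : G) * x = x * c ∧ QuotientGroup.mk c = y := by
  constructor
  · rintro ⟨c, ⟨-, hc⟩, e⟩
    exact ⟨c, Subgroup.mem_centralizer_singleton_iff.1 hc, e⟩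
  · rintro ⟨c, hc, e⟩
    exact ⟨c, ⟨c.2, Subgroup.mem_centralizer_singleton_iff.2 hc⟩, e⟩

theorem mem_imageE {g : G} {y : (Subgroup.centralizer ({z} : Set G)) ⧸ Q} :
    y ∈ imageE Q g ↔ ∃ c : Subgroup.centralizer ({z} : Set G), (c : G) ∈ PG Q g ∧ QuotientGroup.mk c = y := by
  constructor
  · rintro ⟨c, ⟨hc, -⟩, e⟩
    exact ⟨c, hc, e⟩
  · rintro ⟨c, hc, e⟩
    exact ⟨c, ⟨hc, c.2⟩, e⟩

end Lift

namespace MT

variable {G : Type*} [Group G] {z : G} {Q : Subgroup (Subgroup.centralizer ({z} : Set G))} [hQn : Q.Normal]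
  {e : (Subgroup.centralizer ({z} : Set G)) ⧸ Q ≃* Cfsg.Spor.Co1} {ψ : leechLattice → Q ⧸ Subgroup.center Q}
  [Finite G]

theorem lift_imageX (h : MT z Q e ψ) {x : G} {v : leechLattice} (hr : Rep ψ v x) (h1 : x ≠ 1) (hz : x ≠ z) :
    lift e (imageX Q x) = stabC v := by
  ext k
  rw [mem_lift, mem_imageX, mem_stabC]
  constructor
  · rintro ⟨c, hc, hce⟩
    have hk : (QuotientGroup.mk k : Cfsg.Spor.Co1) = e (QuotientGroup.mk c) := by
      rw [hce, MulEquiv.apply_symm_apply]
    have hr' := h.rep_conj hk hr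
    rw [hc, mul_inv_cancel_right] at hr'
    exact h.rep_cls hr' hr
  · intro hk
    obtain ⟨c, hc⟩ := h.exists_elt k
    have hr' := h.rep_congr (h.rep_conj hc hr) hk
    rcases h.rep_unique hr hr' with e' | e'
    · refine ⟨c, ?_, by rw [hc, MulEquiv.symm_apply_apply]⟩
      calc (c : G) * x = (c : G) * x * (c : G)⁻¹ * c := by group
        _ = x * c := by rw [e']
    · obtain ⟨q, hq, hqx⟩ := h.noncentral (rep_mem hr) h1 hz
      have hq' := ((h.ext.conj_cases (rep_mem hr) hq).resolve_left hqx).2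
      obtain ⟨q', rfl⟩ := mem_QG.1 hq
      refine ⟨(q' : Subgroup.centralizer ({z} : Set G)) * c, ?_, ?_⟩
      · have hqz : ((q' : Subgroup.centralizer ({z} : Set G)) : G) * z *
            ((q' : Subgroup.centralizer ({z} : Set G)) : G)⁻¹ = z := by
          rw [h.ext.central _ hq, mul_inv_cancel_right]
        rw [Subgroup.coe_mul]
        generalize ((q' : Subgroup.centralizer ({z} : Set G)) : G) = q at hq' hqz ⊢
        calc q * (c : G) * x = q * ((c : G) * x * (c : G)⁻¹) * c := by group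
          _ = q * (x * z) * c := by rw [e']
          _ = (q * x * q⁻¹) * (q * z * q⁻¹) * (q * c) := by group
          _ = x * (q * c) := by rw [hq', hqz, mul_assoc x z z, h.z_sq, mul_one]
      · rw [QuotientGroup.mk_mul, (QuotientGroup.eq_one_iff _).2 q'.2, one_mul, hc, MulEquiv.symm_apply_apply]

variable {g : G}

theorem ext' (h : MT z Q e ψ) (g : G) : ExtraPair.Ext (g * z * g⁻¹) (PG Q g) := h.ext.map_conj g

theorem card_PG (h : MT z Q e ψ) (g : G) : Nat.card (PG Q g) = 2 ^ 25 := by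
  rw [Subgroup.card_map_of_injective (MulAut.conj g).injective, card_QG h]

theorem z_mem_PG (h : MT z Q e ψ) (hx : g * z * g⁻¹ ∈ QG Q) : z ∈ PG Q g := by
  refine h.ext.mem_pair hx (h.ext.exists_noncommuting hx ?_)
  rw [card_QG h]; norm_num

theorem imageE_le (h : MT z Q e ψ) : imageE Q g ≤ imageX Q (g * z * g⁻¹) := fun y hy => by
  obtain ⟨c, hc, hy⟩ := mem_imageE.1 hy
  exact mem_imageX.2 ⟨c, (h.ext' g).central _ hc, hy⟩

theorem imageE_norm (h : MT z Q e ψ) : ∀ a ∈ imageX Q (g * z * g⁻¹), ∀ b ∈ imageE Q g, a * b * a⁻¹ ∈ imageE Q g := by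
  intro a ha b hb
  obtain ⟨c, hc, rfl⟩ := mem_imageX.1 ha
  obtain ⟨d, hd, rfl⟩ := mem_imageE.1 hb
  exact mem_imageE.2 ⟨c * d * c⁻¹, (h.ext' g).norm _ hc _ hd, rfl⟩

theorem imageE_sq (h : MT z Q e ψ) (hx : g * z * g⁻¹ ∈ QG Q) : ∀ b ∈ imageE Q g, b * b = 1 := by
  intro b hb
  obtain ⟨d, hd, rfl⟩ := mem_imageE.1 hb
  rw [← QuotientGroup.mk_mul, QuotientGroup.eq_one_iff]
  have hm : ((d * d : Subgroup.centralizer ({z} : Set G)) : G) ∈ QG Q := by
    rw [Subgroup.coe_mul]
    rcases (h.ext' g).sq _ hd with e' | e' <;> rw [e']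
    exacts [one_mem _, hx]
  obtain ⟨q, hq⟩ := mem_QG.1 hm
  rw [← Subtype.ext hq]
  exact q.2

theorem inter_sq (h : MT z Q e ψ) (hne : g * z * g⁻¹ ≠ z) : ∀ a ∈ QG Q ⊓ PG Q g, a * a = 1 := by
  rintro a ⟨haQ, haP⟩
  rcases h.ext.sq a haQ with e' | e'
  · exact e'
  · rcases (h.ext' g).sq a haP with e'' | e''
    · exact e''
    · exact absurd (e''.symm.trans e') hne

theorem inter_comm (h : MT z Q e ψ) (hne : g * z * g⁻¹ ≠ z) :
    ∀ a ∈ QG Q ⊓ PG Q g, ∀ b ∈ QG Q ⊓ PG Q g, a * b = b * a := by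
  intro a ha b hb
  have h1 := h.inter_sq hne _ (mul_mem ha hb)
  calc a * b = (a * b)⁻¹ := (inv_eq_of_mul_eq_one_right h1).symm
    _ = b⁻¹ * a⁻¹ := mul_inv_rev a b
    _ = b * a := by rw [inv_eq_of_mul_eq_one_right (h.inter_sq hne b hb), inv_eq_of_mul_eq_one_right (h.inter_sq hne a ha)]

theorem card_half (h : MT z Q e ψ) (hx : g * z * g⁻¹ ∈ QG Q) (hne : g * z * g⁻¹ ≠ z) :
    Nat.card ↥(PG Q g ⊓ Subgroup.centralizer ({z} : Set G)) = 2 ^ 24 := by
  have hz := h.z_mem_PG hx
  have h1 := (h.ext' g).card_le_centralizing hz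
  rw [h.card_PG g] at h1
  have hlt : PG Q g ⊓ Subgroup.centralizer ({z} : Set G) ≠ PG Q g := fun e' => by
    rcases (h.ext' g).cen z hz fun q hq => Subgroup.mem_centralizer_singleton_iff.1 (inf_eq_left.1 e' hq) with e'' | e''
    · exact h.z_ne e''
    · exact hne e''.symm
  obtain ⟨j, hj, he⟩ := (Nat.dvd_prime_pow Nat.prime_two).1
    (h.card_PG g ▸ Subgroup.card_dvd_of_le (inf_le_left : PG Q g ⊓ Subgroup.centralizer ({z} : Set G) ≤ PG Q g))
  have hj25 : j ≠ 25 := fun e' => hlt (Subgroup.eq_of_le_of_card_ge inf_le_left (by rw [he, e', h.card_PG g]))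
  have hj24 : 24 ≤ j := by
    by_contra hlt'
    have := Nat.pow_le_pow_right (show 0 < 2 by norm_num) (show j ≤ 23 by omega)
    rw [he] at h1; omega
  rw [he, show j = 24 by omega]

theorem card_split (h : MT z Q e ψ) (hx : g * z * g⁻¹ ∈ QG Q) (hne : g * z * g⁻¹ ≠ z) :
    Nat.card ↥(QG Q ⊓ PG Q g) * Nat.card (imageE Q g) = 2 ^ 24 := by
  rw [← h.card_half hx hne,
    ← Nat.card_congr (Subgroup.subgroupOfEquivOfLe (inf_le_right :
      PG Q g ⊓ Subgroup.centralizer ({z} : Set G) ≤ Subgroup.centralizer ({z} : Set G))).toEquiv,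
    card_eq_ker_mul_map (QuotientGroup.mk' Q)
      ((PG Q g ⊓ Subgroup.centralizer ({z} : Set G)).subgroupOf (Subgroup.centralizer ({z} : Set G))),
    QuotientGroup.ker_mk']
  congr 1
  rw [← Subgroup.card_map_of_injective
    (K := (PG Q g ⊓ Subgroup.centralizer ({z} : Set G)).subgroupOf (Subgroup.centralizer ({z} : Set G)) ⊓ Q)
    (Subgroup.subtype_injective _)]
  congr 2
  rw [Subgroup.map_inf _ _ _ (Subgroup.subtype_injective _), Subgroup.subgroupOf_map_subtype]
  ext y
  refine ⟨fun hy => ?_, fun hy => ⟨hy.2, hy.1.1.1⟩⟩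
  exact ⟨⟨⟨hy.2, QG_le hy.1⟩, QG_le hy.1⟩, hy.1⟩

theorem card_inter_le (h : MT z Q e ψ) (hx : g * z * g⁻¹ ∈ QG Q) (hne : g * z * g⁻¹ ≠ z) :
    Nat.card ↥(QG Q ⊓ PG Q g) ≤ 2 ^ 13 := by
  have h1 := abelian_sq_le h.ext (D := QG Q ⊓ PG Q g) inf_le_left ⟨h.z_mem, h.z_mem_PG hx⟩ (h.inter_comm hne)
    (h.inter_sq hne)
  rw [card_QG h] at h1
  by_contra hgt
  have := Nat.mul_le_mul (Nat.succ_le_of_lt (not_le.1 hgt)) (Nat.succ_le_of_lt (not_le.1 hgt))
  generalize Nat.card ↥(QG Q ⊓ PG Q g) = d at h1 this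
  norm_num at h1 this
  omega

/-- All that happens for two such centres. -/
theorem pair (h : MT z Q e ψ) (hx : g * z * g⁻¹ ∈ QG Q) (hne : g * z * g⁻¹ ≠ z) :
    ∃ (v : leechLattice) (t : Co0), Rep ψ v (g * z * g⁻¹) ∧ sqNorm (v : Vec) = 64 ∧
      Nat.card ↥(QG Q ⊓ PG Q g) = 2 ^ 13 ∧ Nat.card (imageE Q g) = 2 ^ 11 ∧
      (lift e (imageE Q g)).map (MulAut.conj t).toMonoidHom = signs ∧
      (lift e (imageX Q (g * z * g⁻¹))).map (MulAut.conj t).toMonoidHom = crossStab := by
  set x := g * z * g⁻¹ with hxdef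
  have h1 : x ≠ 1 := fun e' => h.z_ne (conj_eq_one_iff.1 e')
  have hxx : x * x = 1 := (h.ext' g).zz
  obtain ⟨v, hr, hv⟩ := h.exists_short_rep hx hxx h1 hne
  have hX := h.lift_imageX hr h1 hne
  have hle : lift e (imageE Q g) ≤ stabC v := fun k hk => hX ▸ mem_lift.2 (h.imageE_le (mem_lift.1 hk))
  have hn : ∀ a ∈ stabC v, ∀ b ∈ lift e (imageE Q g), a * b * a⁻¹ ∈ lift e (imageE Q g) := by
    intro a ha b hb
    rw [← hX, mem_lift] at ha
    rw [mem_lift] at hb ⊢
    simpa using h.imageE_norm _ ha _ hb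
  have hsplit := h.card_split hx hne
  have hD := h.card_inter_le hx hne
  have hE11 : 2 ^ 11 ≤ Nat.card (imageE Q g) := by
    by_contra hlt
    have h' : Nat.card ↥(QG Q ⊓ PG Q g) * Nat.card (imageE Q g) < 2 ^ 13 * 2 ^ 11 :=
      lt_of_le_of_lt (Nat.mul_le_mul_right _ hD) (Nat.mul_lt_mul_of_pos_left (not_le.1 hlt) (by norm_num))
    rw [hsplit] at h'
    norm_num at h'
  have hp : IsPGroup 2 (lift e (imageE Q g)) := by
    haveI : Fact (Nat.Prime 2) := ⟨Nat.prime_two⟩
    obtain ⟨j, -, hj⟩ := (Nat.dvd_prime_pow Nat.prime_two).1 ((Dvd.intro_left _ hsplit : _ ∣ 2 ^ 24))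
    exact IsPGroup.of_card (n := j + 1) (by rw [card_lift, hj, pow_succ, mul_comm])
  haveI : Finite (Subgroup.center Co0) := Nat.finite_of_card_ne_zero (by rw [card_center]; norm_num)
  haveI : Finite signs := Nat.finite_of_card_ne_zero (by rw [card_signs]; norm_num)
  have h2048 : (2 : ℕ) ^ 11 = 2048 := by norm_num
  rcases hv with hv | hv
  · exfalso
    have h2 := Subgroup.card_le_of_le (no_two_group_32 hv hp hle hn)
    rw [card_lift, card_center] at h2
    omega
  · obtain ⟨t, ht⟩ := exists_to_axis v hv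
    have hs := two_group_64 ht hp hle hn
    have hc : Nat.card ↥((lift e (imageE Q g)).map (MulAut.conj t).toMonoidHom) = 2 * Nat.card (imageE Q g) := by
      rw [Subgroup.card_map_of_injective (MulAut.conj t).injective, card_lift]
    have h2 := Subgroup.card_le_of_le hs
    rw [hc, card_signs] at h2
    have hE : Nat.card (imageE Q g) = 2 ^ 11 := le_antisymm (by omega) hE11
    refine ⟨v, t, hr, hv, ?_, hE, Subgroup.eq_of_le_of_card_ge hs (by rw [hc, hE, card_signs]; norm_num), ?_⟩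
    · rw [hE] at hsplit
      exact mul_right_cancel₀ (by norm_num : (2 : ℕ) ^ 11 ≠ 0) (hsplit.trans (by norm_num))
    · rw [hX, ← stabC_eq_crossStab (Golay.base5 0)]
      exact (stabC_conj ht).symm

/-- A representative of a member of norm 64 is a further centre, and conversely. -/
theorem conj_iff (h : MT z Q e ψ) {g₀ : G} (hx₀ : g₀ * z * g₀⁻¹ ∈ QG Q) (hne₀ : g₀ * z * g₀⁻¹ ≠ z) {x : G}
    (hxQ : x ∈ QG Q) : (IsConj z x ∧ x ≠ z) ↔ ∃ v : leechLattice, sqNorm (v : Vec) = 64 ∧ Rep ψ v x := by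
  constructor
  · rintro ⟨hc, hne⟩
    obtain ⟨g, rfl⟩ := isConj_iff.1 hc
    obtain ⟨v, t, hr, hv, -⟩ := h.pair hxQ hne
    exact ⟨v, hv, hr⟩
  · rintro ⟨v, hv, hr⟩
    obtain ⟨v₀, -, hr₀, hv₀, -⟩ := h.pair hx₀ hne₀
    obtain ⟨-, h1, hz⟩ := h.rep_involution hr (Or.inr hv)
    refine ⟨?_, hz⟩
    obtain ⟨t, ht⟩ := exists_to_axis v hv
    obtain ⟨t₀, ht₀⟩ := exists_to_axis v₀ hv₀
    obtain ⟨c, -, hc⟩ := h.conj_of_conn hr₀ hr (h.noncentral hxQ h1 hz)
      ⟨t⁻¹ * t₀, by rw [mul_smul, ht₀, ← ht, inv_smul_smul]⟩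
    exact isConj_iff.2 ⟨c * g₀, by rw [← hc]; group⟩

/-- Two further centres inside the extraspecial group are conjugate in the centraliser. -/
theorem conj_centres (h : MT z Q e ψ) {s t : G} (hs : s ∈ QG Q) (ht : t ∈ QG Q) (hs' : IsConj z s) (ht' : IsConj z t)
    (hs1 : s ≠ z) (ht1 : t ≠ z) : ∃ c ∈ Subgroup.centralizer ({z} : Set G), c * s * c⁻¹ = t := by
  obtain ⟨g, rfl⟩ := isConj_iff.1 hs'
  obtain ⟨v, hv, hr⟩ := (h.conj_iff hs hs1 hs).1 ⟨hs', hs1⟩
  obtain ⟨w, hw, hr'⟩ := (h.conj_iff hs hs1 ht).1 ⟨ht', ht1⟩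
  obtain ⟨-, h1, hz⟩ := h.rep_involution hr' (Or.inr hw)
  obtain ⟨a, ha⟩ := exists_to_axis v hv
  obtain ⟨b, hb⟩ := exists_to_axis w hw
  exact h.conj_of_conn hr hr' (h.noncentral ht h1 hz) ⟨b⁻¹ * a, by rw [mul_smul, ha, ← hb, inv_smul_smul]⟩

/-- The other involutions inside the extraspecial group are conjugate in the centraliser. -/
theorem conj_others (h : MT z Q e ψ) {g₀ : G} (hx₀ : g₀ * z * g₀⁻¹ ∈ QG Q) (hne₀ : g₀ * z * g₀⁻¹ ≠ z)
    {s t : G} (hs : s ∈ QG Q) (ht : t ∈ QG Q) (hs2 : orderOf s = 2) (ht2 : orderOf t = 2)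
    (hs' : ¬ IsConj z s) (ht' : ¬ IsConj z t) : ∃ c ∈ Subgroup.centralizer ({z} : Set G), c * s * c⁻¹ = t := by
  have key : ∀ u ∈ QG Q, orderOf u = 2 → ¬ IsConj z u →
      u ≠ 1 ∧ u ≠ z ∧ ∃ v : leechLattice, Rep ψ v u ∧ sqNorm (v : Vec) = 32 := by
    intro u hu hu2 hu'
    have hu1 : u ≠ 1 := fun e' => by rw [e', orderOf_one] at hu2; omega
    have huz : u ≠ z := fun e' => hu' (e' ▸ IsConj.refl z)
    obtain ⟨v, hr, hv⟩ := h.exists_short_rep hu (by rw [← pow_two, ← hu2, pow_orderOf_eq_one]) hu1 huz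
    refine ⟨hu1, huz, v, hr, hv.resolve_right fun hv' => hu' ?_⟩
    exact ((h.conj_iff hx₀ hne₀ hu).2 ⟨v, hv', hr⟩).1
  obtain ⟨-, -, v, hr, hv⟩ := key s hs hs2 hs'
  obtain ⟨h1, hz, w, hr', hw⟩ := key t ht ht2 ht'
  obtain ⟨a, ha⟩ := exists_to_vB v hv
  obtain ⟨b, hb⟩ := exists_to_vB w hw
  exact h.conj_of_conn hr hr' (h.noncentral ht h1 hz) ⟨b⁻¹ * a, by rw [mul_smul, ha, ← hb, inv_smul_smul]⟩

/-- The permutation part of the centraliser of two centres. -/
theorem complement (h : MT z Q e ψ) (hx : g * z * g⁻¹ ∈ QG Q) (hne : g * z * g⁻¹ ≠ z) :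
    ∃ K : Subgroup ((Subgroup.centralizer ({z} : Set G)) ⧸ Q), K ≤ imageX Q (g * z * g⁻¹) ∧
      imageE Q g ⊓ K = ⊥ ∧ imageE Q g ⊔ K = imageX Q (g * z * g⁻¹) ∧ Nonempty (K ≃* Cfsg.M24) := by
  obtain ⟨v, t, -, -, -, -, hE, hX⟩ := h.pair hx hne
  have hXm : ∀ k : Co0, t * k * t⁻¹ ∈ crossStab ↔ e.symm (QuotientGroup.mk k) ∈ imageX Q (g * z * g⁻¹) := fun k => by
    rw [← hX, ← mem_lift, Subgroup.mem_map_equiv]
    simp [mul_assoc]
  have hEm : ∀ k : Co0, t * k * t⁻¹ ∈ signs ↔ e.symm (QuotientGroup.mk k) ∈ imageE Q g := fun k => by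
    rw [← hE, ← mem_lift, Subgroup.mem_map_equiv]
    simp [mul_assoc]
  let φ : Cfsg.M24 →* (Subgroup.centralizer ({z} : Set G)) ⧸ Q :=
    MonoidHom.mk' (fun σ => e.symm (QuotientGroup.mk (t⁻¹ * mono σ.2 empty_code * t))) fun σ τ => by
      show e.symm (QuotientGroup.mk (t⁻¹ * mono (mul_mem σ.2 τ.2) empty_code * t)) = _
      rw [← mono_empty_mul σ.2 τ.2, ← map_mul, ← QuotientGroup.mk_mul]
      congr 2
      group
  have hφ : ∀ σ, φ σ = e.symm (QuotientGroup.mk (t⁻¹ * mono σ.2 empty_code * t)) := fun σ => rfl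
  have hconj : ∀ σ : Cfsg.M24, t * (t⁻¹ * mono σ.2 empty_code * t) * t⁻¹ = mono σ.2 empty_code := fun σ => by group
  have hinj : Function.Injective φ := by
    refine (injective_iff_map_eq_one _).2 fun σ hσ => Subtype.ext (mono_empty_mem_signs σ.2 ?_)
    have h1 := (hEm (t⁻¹ * mono σ.2 empty_code * t)).2 (by rw [← hφ, hσ]; exact one_mem _)
    rwa [hconj] at h1
  refine ⟨φ.range, ?_, ?_, ?_, ⟨(MonoidHom.ofInjective hinj).symm⟩⟩
  · rintro _ ⟨σ, rfl⟩
    rw [hφ, ← hXm, hconj]
    exact mono_mem σ.2 empty_code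
  · rw [eq_bot_iff]
    rintro y ⟨hy, σ, rfl⟩
    rw [hφ] at hy
    have h1 := (hEm _).2 hy
    rw [hconj] at h1
    rw [Subgroup.mem_bot, show σ = 1 from Subtype.ext (mono_empty_mem_signs σ.2 h1), map_one]
  · refine le_antisymm (sup_le h.imageE_le ?_) fun y hy => ?_
    · rintro _ ⟨σ, rfl⟩
      rw [hφ, ← hXm, hconj]
      exact mono_mem σ.2 empty_code
    obtain ⟨k, hk⟩ := QuotientGroup.mk_surjective (e y)
    have hy' : y = e.symm (QuotientGroup.mk k) := by rw [hk, MulEquiv.symm_apply_apply]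
    rw [hy'] at hy ⊢
    obtain ⟨s, hs, σ, hσ, hsσ⟩ := exists_mono_factor ((hXm k).2 hy)
    have hk' : k = (t⁻¹ * s * t) * (t⁻¹ * mono hσ empty_code * t) := by
      calc k = t⁻¹ * (t * k * t⁻¹) * t := by group
        _ = _ := by rw [hsσ]; group
    rw [hk', QuotientGroup.mk_mul, map_mul]
    refine Subgroup.mul_mem_sup ((hEm _).1 ?_) ⟨⟨σ, hσ⟩, rfl⟩
    rwa [show t * (t⁻¹ * s * t) * t⁻¹ = s by group]

end MT

end Cfsg.Agent.Spor.Leech
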