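import Cfsg.Agent.Lib.Spor.Leech.HSSimple
import Cfsg.Agent.Lib.Spor.SteinerAut622

/-!
The point-block graph of an S(3,6,22) inside the lattice: automorphisms.
-/

set_option autoImplicit false

namespace Cfsg.Agent.Spor.Leech.HSGraph

open Finset Cfsg SteinerCode
open scoped Pointwise

/-- A constant plus a multiple of an indicator. -/
def vv (m c : ℤ) (S : Finset GolayPt) : Vec := fun i => m + if i ∈ S then c else 0

theorem sum_vv (m c : ℤ) (S : Finset GolayPt) : ∑ i, vv m c S i = 24 * m + c * #S := by
  simp only [vv, Finset.sum_add_distrib, Finset.sum_ite_mem, Finset.sum_const, Finset.card_univ,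
    Golay.card_golayPt, Finset.univ_inter]
  ring

theorem dot_vv (m c n d : ℤ) (S T : Finset GolayPt) :
    dotInt (vv m c S) (vv n d T) = 24 * m * n + m * d * #T + n * c * #S + c * d * #(S ∩ T) := by
  have e : ∀ i, vv m c S i * vv n d T i =
      m * vv n d T i + n * (if i ∈ S then c else 0) + (if i ∈ S ∩ T then c * d else 0) := by
    intro i
    by_cases h1 : i ∈ S <;> by_cases h2 : i ∈ T <;> simp [vv, h1, h2] <;> ring
  simp only [dotInt, e, Finset.sum_add_distrib, ← Finset.mul_sum, sum_vv, Finset.sum_ite_mem,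
    Finset.univ_inter, Finset.sum_const]
  ring

theorem norm_vv (m c : ℤ) (S : Finset GolayPt) :
    sqNorm (vv m c S) = 24 * m * m + 2 * (m * c) * #S + c * c * #S := by
  rw [← dot_self, dot_vv, inter_self]; ring

theorem mem_vv {m c : ℤ} {S : Finset GolayPt} (hm : m = 0 ∨ m = 1)
    (hc : c % 4 = 0 ∨ (c = 2 ∧ S ∈ supports (golayCode : Set (GolayPt → ZMod 2))))
    (hs : 24 * m + c * #S ≡ 4 * m [ZMOD 8]) : vv m c S ∈ leechLattice := by
  refine mem_lattice.2 ⟨m, fun i => if i ∈ S then c / 2 else 0, hm, fun i => ?_, ?_, by rwa [sum_vv]⟩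
  · rcases hc with h | ⟨rfl, -⟩ <;> simp only [vv] <;> split_ifs <;> omega
  · rcases hc with h | ⟨rfl, hS⟩
    · have : par (fun i => if i ∈ S then c / 2 else 0) = 0 := by
        funext i
        simp only [par, Pi.zero_apply, ZMod.intCast_zmod_eq_zero_iff_dvd]
        split_ifs <;> omega
      rw [this]; exact Submodule.zero_mem _
    · refine supports_iff.1 ?_
      convert hS using 1
      ext i
      by_cases h : i ∈ S <;> simp [support₂, par, h]

theorem mem_four {m c : ℤ} {S : Finset GolayPt} {k : ℕ} (hm : m = 0 ∨ m = 1) (hc : c % 4 = 0) (hk : #S = k)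
    (hs : (24 * m + c * k) % 8 = (4 * m) % 8) : vv m c S ∈ leechLattice :=
  mem_vv hm (Or.inl hc) (by rw [Int.ModEq, hk]; exact hs)

/-- The norm 48 vector attached to a point. -/
def uVec (p : GolayPt) : leechLattice :=
  ⟨vv 1 4 {p}, mem_four (Or.inr rfl) (by norm_num) (card_singleton p) (by norm_num)⟩

/-- Its partner. -/
def wVec (q : GolayPt) : leechLattice := -uVec q

/-- The vector attached to a point among the remaining ones. -/
def aVec (i : GolayPt) : leechLattice :=
  ⟨vv 1 (-4) {i}, mem_four (Or.inr rfl) (by norm_num) (card_singleton i) (by norm_num)⟩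

/-- The vector attached to two points. -/
def fVec {p q : GolayPt} (h : p ≠ q) : leechLattice :=
  ⟨vv 0 4 {p, q}, mem_four (Or.inl rfl) (by norm_num) (card_pair h) (by norm_num)⟩

theorem octad_data {O : Finset GolayPt} (h : O ∈ octads) :
    O ∈ supports (golayCode : Set (GolayPt → ZMod 2)) ∧ #O = 8 := h

/-- The vector attached to an octad. -/
def oVec {O : Finset GolayPt} (h : O ∈ octads) : leechLattice :=
  ⟨vv 0 2 O, mem_vv (Or.inl rfl) (Or.inr ⟨rfl, (octad_data h).1⟩) (by rw [(octad_data h).2]; decide)⟩

theorem dot_w (q : GolayPt) (n d : ℤ) (T : Finset GolayPt) :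
    dotInt ((wVec q : leechLattice) : Vec) (vv n d T) = -(24 * n + d * #T + n * 4 + 4 * d * #({q} ∩ T)) := by
  have e : ((wVec q : leechLattice) : Vec) = -(vv 1 4 {q}) := rfl
  have h : dotInt (-(vv 1 4 {q})) (vv n d T) = -dotInt (vv 1 4 {q}) (vv n d T) := by
    simp [dotInt, Finset.sum_neg_distrib]
  rw [e, h, dot_vv, card_singleton]; push_cast; ring

theorem dot_u (p : GolayPt) (n d : ℤ) (T : Finset GolayPt) :
    dotInt ((uVec p : leechLattice) : Vec) (vv n d T) = 24 * n + d * #T + n * 4 + 4 * d * #({p} ∩ T) := by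
  show dotInt (vv 1 4 {p}) (vv n d T) = _
  rw [dot_vv, card_singleton]; push_cast; ring

theorem u_norm (p : GolayPt) : sqNorm ((uVec p : leechLattice) : Vec) = 48 := by
  show sqNorm (vv 1 4 {p}) = 48
  rw [norm_vv, card_singleton]; norm_num

theorem w_norm (q : GolayPt) : sqNorm ((wVec q : leechLattice) : Vec) = 48 := by
  show sqNorm (-(vv 1 4 {q})) = 48
  rw [norm_neg, norm_vv, card_singleton]; norm_num

theorem uw_dot {p q : GolayPt} (h : p ≠ q) :
    dotInt ((uVec p : leechLattice) : Vec) ((wVec q : leechLattice) : Vec) = -32 := by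
  rw [dot_comm]
  show dotInt ((wVec q : leechLattice) : Vec) (vv 1 4 {p}) = -32
  rw [dot_w, singleton_inter_of_notMem (by simp [h.symm]), card_singleton]; norm_num

variable {α : Type*} [Fintype α] [DecidableEq α] {B : Set (Finset α)}

theorem ext2_inter (b c : Finset α) : ext2 b ∩ ext2 c = ext2 (b ∩ c) := by
  ext z; rcases z with _ | _ | x <;> simp [ext2, ext1]

theorem card_B (hα : Fintype.card α = 22) (hB : IsSteinerSystem 3 6 B) : Nat.card B = 77 := by
  have h := Steiner.blocks_through hB (s := (∅ : Finset α)) (by simp)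
  simp only [Finset.empty_subset, Finset.filter_true, card_empty, hα, Nat.sub_zero] at h
  have e : B = ↑(Steiner.blocks B) := by ext x; simp [Steiner.blocks]
  rw [show Nat.card B = #(Steiner.blocks B) by rw [← Set.ncard_coe_finset, ← e, Nat.card_coe_set_eq]]
  simp [Nat.choose] at h
  omega

section Embed

variable (e : Option (Option α) ≃ GolayPt) (he : ∀ b, b ∈ B ↔ (ext2 b).image e ∈ octads)

/-- The vertices as lattice vectors. -/
def vec : Option (α ⊕ B) → leechLattice
  | none => fVec (show e none ≠ e (some none) by simp)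
  | some (Sum.inl a) => aVec (e (some (some a)))
  | some (Sum.inr b) => oVec ((he b.1).1 b.2)

theorem vec_mem (x : Option (α ⊕ B)) :
    vec e he x ∈ shellTwo (uVec (e none)) (wVec (e (some none))) 24 (-24) := by
  rcases x with _ | a | b
  · refine ⟨?_, ?_, ?_⟩
    · show sqNorm (vv 0 4 {e none, e (some none)}) = 32
      rw [norm_vv, card_pair (by simp)]; norm_num
    · show dotInt _ (vv 0 4 _) = 24
      rw [dot_u, card_pair (by simp), singleton_inter_of_mem (by simp), card_singleton]; norm_num
    · show dotInt _ (vv 0 4 _) = -24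
      rw [dot_w, card_pair (by simp), singleton_inter_of_mem (by simp), card_singleton]; norm_num
  · refine ⟨?_, ?_, ?_⟩
    · show sqNorm (vv 1 (-4) _) = 32
      rw [norm_vv, card_singleton]; norm_num
    · show dotInt _ (vv 1 (-4) _) = 24
      rw [dot_u, card_singleton, singleton_inter_of_notMem (by simp)]; norm_num
    · show dotInt _ (vv 1 (-4) _) = -24
      rw [dot_w, card_singleton, singleton_inter_of_notMem (by simp)]; norm_num
  · have h8 := (octad_data ((he b.1).1 b.2)).2
    refine ⟨?_, ?_, ?_⟩
    · show sqNorm (vv 0 2 _) = 32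
      rw [norm_vv, h8]; norm_num
    · show dotInt _ (vv 0 2 _) = 24
      rw [dot_u, h8, singleton_inter_of_mem (mem_image_of_mem _ (by simp [ext2, ext1])), card_singleton]; norm_num
    · show dotInt _ (vv 0 2 _) = -24
      rw [dot_w, h8, singleton_inter_of_mem (mem_image_of_mem _ (by simp [ext2, ext1])), card_singleton]; norm_num

theorem vec_pairs (hα : Fintype.card α = 22) (hB : IsSteinerSystem 3 6 B) {x y : Option (α ⊕ B)} (hxy : x ≠ y) :
    ((pointBlockGraph B).Adj x y ∧ dotInt ((vec e he x : leechLattice) : Vec) ((vec e he y : leechLattice) : Vec) = 8) ∨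
    (¬(pointBlockGraph B).Adj x y ∧
      dotInt ((vec e he x : leechLattice) : Vec) ((vec e he y : leechLattice) : Vec) = 16) := by
  have hadj : (pointBlockGraph B).Adj x y ↔ pointBlockRel B x y ∨ pointBlockRel B y x :=
    ⟨fun h => h.2, fun h => ⟨hxy, h⟩⟩
  rw [hadj]
  have fa : ∀ a, dotInt (vv 0 4 {e none, e (some none)}) (vv 1 (-4) {e (some (some a))}) = 8 := fun a => by
    rw [dot_vv, card_pair (by simp), card_singleton, inter_singleton_of_notMem (by simp)]; norm_num
  have fb : ∀ b : B, dotInt (vv 0 4 {e none, e (some none)}) (vv 0 2 ((ext2 b.1).image e)) = 16 := fun b => by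
    rw [dot_vv, inter_eq_left.2 (by simp [Finset.insert_subset_iff, ext2, ext1]), card_pair (by simp)]; norm_num
  have ab : ∀ (a : α) (b : B), dotInt (vv 1 (-4) {e (some (some a))}) (vv 0 2 ((ext2 b.1).image e)) =
      if a ∈ b.1 then 8 else 16 := fun a b => by
    rw [dot_vv, (octad_data ((he b.1).1 b.2)).2]
    have hmem : e (some (some a)) ∈ (ext2 b.1).image e ↔ a ∈ b.1 := by
      rw [e.injective.mem_finset_image]; simp [ext2, ext1]
    split_ifs with h
    · rw [singleton_inter_of_mem (hmem.2 h), card_singleton]; norm_num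
    · rw [singleton_inter_of_notMem (mt hmem.1 h), card_empty]; norm_num
  rcases x with _ | a | b <;> rcases y with _ | c | d <;> simp only [pointBlockRel, vec, oVec, aVec, fVec, or_false,
    false_or, not_false_eq_true, true_and, not_true_eq_false, false_and]
  · exact absurd rfl hxy
  · exact fa c
  · exact fb d
  · rw [dot_comm]; exact fa a
  · rw [dot_vv, card_singleton, card_singleton, singleton_inter_of_notMem]
    · norm_num
    · simp only [mem_singleton, EmbeddingLike.apply_eq_iff_eq, Option.some.injEq]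
      rintro rfl; exact hxy rfl
  · rw [ab]; split_ifs with h <;> simp [h]
  · rw [dot_comm]; exact fb b
  · rw [dot_comm, ab]; split_ifs with h <;> simp [h]
  · have hne : (b : Finset α) ≠ d := fun h => hxy (by rw [Subtype.ext h])
    have hi : #((ext2 b.1).image e ∩ (ext2 d.1).image e) = #(b.1 ∩ d.1) + 2 := by
      rw [← image_inter _ _ e.injective, card_image_of_injective _ e.injective, ext2_inter, card_ext2]
    rw [dot_vv, hi, disjoint_comm (a := (d : Finset α)), or_self, disjoint_iff_inter_eq_empty, ← card_eq_zero]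
    rcases Steiner.card_inter622 hα hB b.2 d.2 hne with h | h <;> rw [h] <;> norm_num

theorem vec_injective (hα : Fintype.card α = 22) (hB : IsSteinerSystem 3 6 B) : Function.Injective (vec e he) := by
  intro x y hxy
  by_contra hne
  rcases vec_pairs e he hα hB hne with ⟨-, h⟩ | ⟨-, h⟩ <;>
    rw [hxy, dot_self, (vec_mem e he y).1] at h <;> norm_num at h

theorem adj_iff (hα : Fintype.card α = 22) (hB : IsSteinerSystem 3 6 B) {x y : Option (α ⊕ B)} :
    (pointBlockGraph B).Adj x y ↔
      dotInt ((vec e he x : leechLattice) : Vec) ((vec e he y : leechLattice) : Vec) = 8 := by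
  rcases eq_or_ne x y with rfl | hne
  · simp [dot_self, (vec_mem e he x).1]
  · rcases vec_pairs e he hα hB hne with ⟨h1, h2⟩ | ⟨h1, h2⟩ <;> simp [h1, h2]

/-- The group of the pair. -/
abbrev pairStab : Subgroup Co0 :=
  MulAction.stabilizer Co0 (uVec (e none)) ⊓ MulAction.stabilizer Co0 (wVec (e (some none)))

end Embed

theorem exists_hs (hα : Fintype.card α = 22) (hB : IsSteinerSystem 3 6 B) :
    ∃ H : Subgroup (pointBlockGraph B ≃g pointBlockGraph B), IsHS H ∧
      ∀ x y : Option (α ⊕ B), ∃ g ∈ H, g x = y := by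
  classical
  obtain ⟨e, he, -⟩ := exists_equiv622 hα hB
  have hpq : e none ≠ e (some none) := by simp
  let X := shellTwo (uVec (e none)) (wVec (e (some none))) 24 (-24)
  obtain ⟨hn, htr⟩ := HSPairs.hundred (u_norm (e none)) (w_norm (e (some none))) (uw_dot hpq)
  have hfin : X.Finite := finite_shell.subset fun z hz => hz.1
  have hrange : Set.range (vec e he) = X := by
    refine Set.eq_of_subset_of_ncard_le (Set.range_subset_iff.2 (vec_mem e he)) ?_ hfin
    rw [Set.ncard_range_of_injective (vec_injective e he hα hB), hn]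
    rw [Finite.card_option, Nat.card_sum, card_B hα hB, Nat.card_eq_fintype_card, hα]
  let φ : Option (α ⊕ B) ≃ X :=
    (Equiv.ofInjective _ (vec_injective e he hα hB)).trans (Equiv.setCongr hrange)
  have hφ : ∀ x, ((φ x : X) : leechLattice) = vec e he x := fun x => rfl
  have hmove : ∀ g : pairStab e, ∀ z : X, (g : Co0) • (z : leechLattice) ∈ X := fun g z =>
    (smul_mem_shellTwo g.2.1 g.2.2).2 z.2
  let F : pairStab e → Option (α ⊕ B) → Option (α ⊕ B) := fun g x => φ.symm ⟨_, hmove g (φ x)⟩
  have hF : ∀ g x, vec e he (F g x) = (g : Co0) • vec e he x := fun g x => by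
    rw [← hφ, Equiv.apply_symm_apply, ← hφ]
  have hinj := vec_injective e he hα hB
  have hmul : ∀ g h x, F (g * h) x = F g (F h x) := fun g h x => hinj (by
    rw [hF, hF, hF, Subgroup.coe_mul, mul_smul])
  have hone : ∀ x, F 1 x = x := fun x => hinj (by rw [hF, Subgroup.coe_one, one_smul])
  let ρ : pairStab e →* (pointBlockGraph B ≃g pointBlockGraph B) :=
    { toFun := fun g =>
        { toFun := F g
          invFun := F g⁻¹
          left_inv := fun x => by rw [← hmul, inv_mul_cancel, hone]
          right_inv := fun x => by rw [← hmul, mul_inv_cancel, hone]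
          map_rel_iff' := by
            intro x y
            show (pointBlockGraph B).Adj (F g x) (F g y) ↔ _
            rw [adj_iff e he hα hB, adj_iff e he hα hB, hF, hF, co_dot] }
      map_one' := RelIso.ext hone
      map_mul' := fun g h => RelIso.ext (hmul g h) }
  have hHS := HSSimple.isHS (u_norm (e none)) (w_norm (e (some none))) (uw_dot hpq)
  have htrans : ∀ x y, ∃ g, ρ g x = y := fun x y => by
    obtain ⟨g, g1, g2, g3⟩ := htr _ (vec_mem e he x) _ (vec_mem e he y)
    exact ⟨⟨g, g1, g2⟩, hinj ((hF _ x).trans g3)⟩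
  have : IsSimpleGroup (pairStab e) := hHS.1
  have hker : ρ.ker = ⊥ := by
    refine (ρ.normal_ker.eq_bot_or_eq_top).resolve_right fun h => ?_
    obtain ⟨a⟩ : Nonempty α := Fintype.card_pos_iff.1 (by omega)
    obtain ⟨g, hg⟩ := htrans none (some (Sum.inl a))
    have h1 : ρ g = 1 := MonoidHom.mem_ker.1 (h ▸ Subgroup.mem_top g)
    rw [h1] at hg
    simp at hg
  have eR := MonoidHom.ofInjective (f := ρ) ((MonoidHom.ker_eq_bot_iff ρ).1 hker)
  refine ⟨ρ.range, ⟨eR.isSimpleGroup_congr.1 hHS.1, (Nat.card_congr eR.toEquiv).symm.trans hHS.2⟩, fun x y => ?_⟩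
  obtain ⟨g, hg⟩ := htrans x y
  exact ⟨ρ g, ⟨g, rfl⟩, hg⟩

theorem card_aut (hα : Fintype.card α = 22) (hB : IsSteinerSystem 3 6 B) :
    Nat.card (pointBlockGraph B ≃g pointBlockGraph B) = 88704000 := by
  classical
  obtain ⟨H, -, htr⟩ := exists_hs hα hB
  obtain ⟨hcard, -, -⟩ := aut622 hα hB
  let Γ := pointBlockGraph B
  have : Finite (Γ ≃g Γ) := Finite.of_injective (fun f => ⇑f) DFunLike.coe_injective
  have hmemB : ∀ g : setSystemAut B, ∀ b : B, (g : Equiv.Perm α) • (b : Finset α) ∈ B := fun g b => by
    have := Set.smul_mem_smul_set (a := (g : Equiv.Perm α)) b.2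
    rwa [MulAction.mem_stabilizer_iff.1 g.2] at this
  let F : setSystemAut B → Option (α ⊕ B) → Option (α ⊕ B) := fun g =>
    Option.map (Sum.map (g : Equiv.Perm α) fun b => ⟨_, hmemB g b⟩)
  have hmul : ∀ g h x, F (g * h) x = F g (F h x) := fun g h x => by
    rcases x with _ | a | b <;> simp [F, mul_smul]
  have hone : ∀ x, F 1 x = x := fun x => by rcases x with _ | a | b <;> simp [F]
  have hrel : ∀ g x y, pointBlockRel B x y → pointBlockRel B (F g x) (F g y) := by
    intro g x y h
    rcases x with _ | a | b <;> rcases y with _ | c | d <;> simp only [pointBlockRel, F, Option.map_none,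
      Option.map_some, Sum.map_inl, Sum.map_inr] at h ⊢
    · exact Finset.smul_mem_smul_finset h
    · rw [Finset.disjoint_left] at h ⊢
      intro z hz hz'
      rw [Finset.mem_smul_finset] at hz hz'
      obtain ⟨u, hu, rfl⟩ := hz
      obtain ⟨v, hv, hv'⟩ := hz'
      exact h hu (MulAction.injective (g : Equiv.Perm α) hv' ▸ hv)
  have hadj : ∀ g x y, Γ.Adj x y → Γ.Adj (F g x) (F g y) := fun g x y h =>
    ⟨fun he => h.1 (by simpa [← hmul, hone] using congrArg (F g⁻¹) he), h.2.imp (hrel g x y) (hrel g y x)⟩
  let π : setSystemAut B →* (Γ ≃g Γ) :=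
    { toFun := fun g =>
        { toFun := F g
          invFun := F g⁻¹
          left_inv := fun x => by rw [← hmul, inv_mul_cancel, hone]
          right_inv := fun x => by rw [← hmul, mul_inv_cancel, hone]
          map_rel_iff' := by
            intro x y
            exact ⟨fun h => by simpa [← hmul, hone] using hadj g⁻¹ _ _ h, hadj g x y⟩ }
      map_one' := RelIso.ext hone
      map_mul' := fun g h => RelIso.ext (hmul g h) }
  let S := MulAction.stabilizer (Γ ≃g Γ) (none : Option (α ⊕ B))
  have hπS : π.range = S := by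
    refine le_antisymm ?_ fun f hf => ?_
    · rintro _ ⟨g, rfl⟩; rfl
    have hf0 : f none = none := hf
    have hN : ∀ x, Γ.Adj none x ↔ ∃ a, x = some (Sum.inl a) := fun x => by
      rcases x with _ | a | b <;> simp [Γ, pointBlockGraph, pointBlockRel]
    have hpt : ∀ (k : Γ ≃g Γ), k none = none → ∀ a, ∃ a', k (some (Sum.inl a)) = some (Sum.inl a') := fun k hk a => by
      have h := k.map_rel_iff.2 ((hN (some (Sum.inl a))).2 ⟨a, rfl⟩)
      exact (hN _).1 (by simpa [hk] using h)
    choose p hp using hpt f hf0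
    have hinj : Function.Injective p := fun a c h => by
      simpa using f.injective ((hp a).trans ((congrArg (fun z => some (Sum.inl z)) h).trans (hp c).symm))
    let g : Equiv.Perm α := Equiv.ofBijective p hinj.bijective_of_finite
    have hblk : ∀ b : B, ∃ b' : B, f (some (Sum.inr b)) = some (Sum.inr b') := fun b => by
      rcases h : f (some (Sum.inr b)) with _ | a | b'
      · exact absurd (f.injective (h.trans hf0.symm)) (by simp)
      · obtain ⟨c, hc⟩ := g.surjective a
        have h2 : f (some (Sum.inl c)) = some (Sum.inl a) := by rw [hp, ← hc]; rfl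
        exact absurd (f.injective (h.trans h2.symm)) (by simp)
      · exact ⟨b', rfl⟩
    choose q hq using hblk
    have hgb : ∀ b : B, g • (b : Finset α) = (q b : Finset α) := fun b => by
      ext z
      obtain ⟨a, rfl⟩ := g.surjective z
      rw [show g a = g • a from rfl, Finset.smul_mem_smul_finset_iff]
      have h : Γ.Adj (f (some (Sum.inl a))) (f (some (Sum.inr b))) ↔ Γ.Adj (some (Sum.inl a)) (some (Sum.inr b)) :=
        f.map_rel_iff
      rw [hp, hq] at h
      simp only [Γ, pointBlockGraph, SimpleGraph.fromRel_adj, pointBlockRel, ne_eq, Option.some.injEq,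
        reduceCtorEq, not_false_eq_true, or_false, true_and] at h
      exact h.symm
    have hg : g ∈ setSystemAut B := by
      refine MulAction.mem_stabilizer_iff.2 (Set.eq_of_subset_of_ncard_le ?_ (by rw [Set.ncard_smul_set]) B.toFinite)
      rintro _ ⟨b, hb, rfl⟩
      show g • b ∈ B
      rw [hgb ⟨b, hb⟩]
      exact (q _).2
    refine ⟨⟨g, hg⟩, RelIso.ext fun x => ?_⟩
    show F ⟨g, hg⟩ x = f x
    rcases x with _ | a | b
    · exact hf0.symm
    · exact (hp a).symm
    · rw [hq]
      simp only [F, Option.map_some, Sum.map_inr, Option.some.injEq, Sum.inr.injEq]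
      exact Subtype.ext (hgb b)
  have hπ : Function.Injective π := fun g h hgh => Subtype.ext (Equiv.ext fun a => by
    have := DFunLike.congr_fun hgh (some (Sum.inl a))
    simpa [π, F] using this)
  have hS : Nat.card S = 887040 := by
    rw [← hπS, ← Nat.card_congr (MonoidHom.ofInjective hπ).toEquiv, hcard]
  have horb : MulAction.orbit (Γ ≃g Γ) (none : Option (α ⊕ B)) = Set.univ :=
    Set.eq_univ_of_forall fun y => by obtain ⟨g, -, hg⟩ := htr none y; exact ⟨g, hg⟩
  have hidx : S.index = 100 := by
    rw [MulAction.index_stabilizer, horb, Set.ncard_univ]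
    rw [Finite.card_option, Nat.card_sum, card_B hα hB, Nat.card_eq_fintype_card, hα]
  rw [← S.card_mul_index, hS, hidx]

end Cfsg.Agent.Spor.Leech.HSGraph
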