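import Cfsg.Agent.Lib.Spor.Leech.Frame
import Cfsg.Agent.Lib.Spor.SimpleOfStab

/-!
Order and simplicity of a stabiliser in the automorphism group of the lattice from one of its orbits.
-/

set_option autoImplicit false

namespace Cfsg.Agent.Spor.Leech.StabSimple

open Cfsg
open scoped Pointwise

variable (G : Subgroup Co0) (x : leechLattice)

/-- The stabiliser inside the subgroup is the intersection. -/
noncomputable def stabEquivInf :
    ↥(MulAction.stabilizer ↥G (⟨x, MulAction.mem_orbit_self x⟩ : MulAction.orbit ↥G x)) ≃*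
      ↥(G ⊓ MulAction.stabilizer Co0 x) where
  toFun g := ⟨g.1.1, g.1.2, congrArg Subtype.val g.2⟩
  invFun g := ⟨⟨g.1, g.2.1⟩, Subtype.ext g.2.2⟩
  left_inv _ := rfl
  right_inv _ := rfl
  map_mul' _ _ := rfl

theorem card_eq (n h : ℕ) (hn : (MulAction.orbit ↥G x).ncard = n)
    (hh : Nat.card ↥(G ⊓ MulAction.stabilizer Co0 x) = h) : Nat.card ↥G = n * h := by
  rw [← Nat.card_congr (MulAction.orbitProdStabilizerEquivGroup ↥G x), Nat.card_prod, Nat.card_coe_set_eq, hn]
  congr 1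
  refine (Nat.card_congr ?_).trans hh
  exact
    { toFun := fun g => ⟨g.1.1, g.1.2, g.2⟩
      invFun := fun g => ⟨⟨g.1, g.2.1⟩, g.2.2⟩
      left_inv := fun _ => rfl
      right_inv := fun _ => rfl }

theorem simple {h n : ℕ} (hh : Nat.card ↥(G ⊓ MulAction.stabilizer Co0 x) = h) (hpos : 0 < h)
    (hn : (MulAction.orbit ↥G x).ncard = n) (hn1 : 1 < n)
    (hS : IsSimpleGroup ↥(G ⊓ MulAction.stabilizer Co0 x))
    (os : List (Set leechLattice)) (hd : os.Pairwise Disjoint)
    (htr : ∀ O ∈ os, ∀ y ∈ O, ∀ z ∈ O, ∃ g ∈ G, g • x = x ∧ g • y = z)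
    (hsub : ∀ O ∈ os, O ⊆ MulAction.orbit ↥G x) (hnx : ∀ O ∈ os, x ∉ O)
    (hcov : ∀ y ∈ MulAction.orbit ↥G x, y = x ∨ ∃ O ∈ os, y ∈ O)
    (hbig : ∃ O ∈ os, 1 < O.ncard)
    (hdiv : ∀ s ∈ SimpleOfStab.subSums (os.map Set.ncard), 1 + s ∣ n → 1 + s = 1 ∨ 1 + s = n)
    (hreg : ∀ (N : Subgroup ↥G), Nat.card ↥N = n → Finite ↥N → ∃ K : Subgroup ↥N, K.Characteristic ∧ K ≠ ⊥ ∧ K ≠ ⊤) :
    IsSimpleGroup ↥G := by
  classical
  set Ω := MulAction.orbit ↥G x with hΩ
  have hfinΩ : Finite Ω := (Set.finite_of_ncard_pos (by rw [hn]; omega)).to_subtype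
  have hG : Nat.card ↥G = n * h := card_eq G x n h hn hh
  haveI : Finite ↥G := Nat.finite_of_card_ne_zero (by rw [hG]; positivity)
  haveI : Nontrivial ↥G := Finite.one_lt_card_iff_nontrivial.1 (by rw [hG]; nlinarith)
  set a : Ω := ⟨x, MulAction.mem_orbit_self x⟩ with ha
  have hH : IsSimpleGroup (MulAction.stabilizer ↥G a) := (stabEquivInf G x).symm.isSimpleGroup_congr.1 hS
  -- the kernel of the action
  haveI : FaithfulSMul ↥G Ω := by
    let K := (MulAction.toPermHom ↥G Ω).ker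
    have hKH : K ≤ MulAction.stabilizer ↥G a := fun g hg => by
      have := Equiv.congr_fun (MonoidHom.mem_ker.1 hg) a
      exact this
    have hK : K = ⊥ := by
      have hKn : (K.subgroupOf (MulAction.stabilizer ↥G a)).Normal :=
        (MonoidHom.normal_ker (MulAction.toPermHom ↥G Ω)).comap _
      rcases hH.eq_bot_or_eq_top_of_normal (K.subgroupOf (MulAction.stabilizer ↥G a)) hKn with e | e
      · rwa [Subgroup.subgroupOf_eq_bot, disjoint_iff, inf_eq_left.2 hKH] at e
      · exfalso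
        obtain ⟨O, hO, hO1⟩ := hbig
        obtain ⟨y, hy, z, hz, hyz⟩ := (Set.one_lt_ncard (Set.finite_of_ncard_pos (by omega))).1 hO1
        obtain ⟨g, hg, hgx, hgy⟩ := htr O hO y hy z hz
        have hmem : (⟨g, hg⟩ : ↥G) ∈ MulAction.stabilizer ↥G a := Subtype.ext hgx
        have hk : (⟨⟨g, hg⟩, hmem⟩ : MulAction.stabilizer ↥G a) ∈ K.subgroupOf (MulAction.stabilizer ↥G a) := by
          rw [e]; exact Subgroup.mem_top _
        have := Equiv.congr_fun (MonoidHom.mem_ker.1 (Subgroup.mem_subgroupOf.1 hk)) (⟨y, hsub O hO hy⟩ : Ω)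
        exact hyz ((congrArg Subtype.val this).symm.trans hgy)
    exact ⟨fun {g₁ g₂} e => by
      have : g₂⁻¹ * g₁ ∈ K := MonoidHom.mem_ker.2 (Equiv.ext fun b => by
        show (g₂⁻¹ * g₁) • b = b
        rw [mul_smul, e b, inv_smul_smul])
      rw [hK, Subgroup.mem_bot, inv_mul_eq_one] at this
      exact this.symm⟩
  have hcard : Nat.card Ω = n := (Nat.card_coe_set_eq _).trans hn
  let os' : List (Set Ω) := os.map fun O => Subtype.val ⁻¹' O
  refine SimpleOfStab.isSimpleGroup_of a hH (fun M hM => ?_) fun N _ hN => hreg N (hN.trans hcard) inferInstance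
  refine SimpleOfStab.primitive_of_suborbits a os' ?_ ?_ ?_ ?_ ?_ M hM
  · exact List.pairwise_map.2 (hd.imp fun h => Disjoint.preimage _ h)
  · intro O hO y hy z hz
    obtain ⟨P, hP, rfl⟩ := List.mem_map.1 hO
    obtain ⟨g, hg, hgx, hgy⟩ := htr P hP y.1 hy z.1 hz
    exact ⟨⟨g, hg⟩, Subtype.ext hgx, Subtype.ext hgy⟩
  · intro y
    rcases hcov y.1 y.2 with e | ⟨O, hO, hy⟩
    · exact Or.inl (Subtype.ext e)
    · exact Or.inr ⟨_, List.mem_map.2 ⟨O, hO, rfl⟩, hy⟩
  · intro O hO h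
    obtain ⟨P, hP, rfl⟩ := List.mem_map.1 hO
    exact hnx P hP h
  · have e : os'.map Set.ncard = os.map Set.ncard := by
      rw [List.map_map]
      refine List.map_congr_left fun O hO => ?_
      exact Set.ncard_preimage_of_injective_subset_range Subtype.val_injective (by rw [Subtype.range_coe]; exact hsub O hO)
    rw [e, hcard]
    exact hdiv

/-- Conjugate pairs have isomorphic stabilisers. -/
def pairEquiv (k : Co0) {v w v' w' : leechLattice} (hv : k • v = v') (hw : k • w = w') :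
    ↥(MulAction.stabilizer Co0 v ⊓ MulAction.stabilizer Co0 w) ≃*
      ↥(MulAction.stabilizer Co0 v' ⊓ MulAction.stabilizer Co0 w') where
  toFun g := ⟨k * g.1 * k⁻¹, by
    constructor
    · show (k * g.1 * k⁻¹) • v' = v'
      rw [mul_smul, mul_smul, ← hv, inv_smul_smul]
      exact congrArg (k • ·) g.2.1
    · show (k * g.1 * k⁻¹) • w' = w'
      rw [mul_smul, mul_smul, ← hw, inv_smul_smul]
      exact congrArg (k • ·) g.2.2⟩
  invFun g := ⟨k⁻¹ * g.1 * k, fix_move hv g.2.1, fix_move hw g.2.2⟩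
  left_inv g := Subtype.ext (by simp [mul_assoc])
  right_inv g := Subtype.ext (by simp [mul_assoc])
  map_mul' g g' := Subtype.ext (by simp [mul_assoc])

/-- Conjugate vectors have isomorphic stabilisers. -/
def oneEquiv (k : Co0) {v v' : leechLattice} (hv : k • v = v') :
    ↥(MulAction.stabilizer Co0 v) ≃* ↥(MulAction.stabilizer Co0 v') where
  toFun g := ⟨k * g.1 * k⁻¹, by
    rw [MulAction.mem_stabilizer_iff, mul_smul, mul_smul, ← hv, inv_smul_smul]
    exact congrArg (k • ·) g.2⟩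
  invFun g := ⟨k⁻¹ * g.1 * k, fix_move hv g.2⟩
  left_inv g := Subtype.ext (by simp [mul_assoc])
  right_inv g := Subtype.ext (by simp [mul_assoc])
  map_mul' g g' := Subtype.ext (by simp [mul_assoc])

end Cfsg.Agent.Spor.Leech.StabSimple
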