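import Cfsg.Agent.Lib.Spor.Leech.Frame
import Cfsg.Agent.Lib.Spor.Leech.Monomial
import Cfsg.Agent.S0378
import Cfsg.Agent.S0379

/-!
Triples of lattice vectors whose stabiliser is a two-point stabiliser in the group of the length-24 code.
-/

set_option autoImplicit false
set_option maxRecDepth 100000

namespace Cfsg.Agent.Spor.Leech.TwoPointTriple

open Cfsg
open scoped Pointwise

/-- The first point. -/
def P : GolayPt := none

/-- The second point. -/
def Q : GolayPt := some 0

theorem PQ : P ≠ Q := by decide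

/-- The two-point stabiliser. -/
def M : Subgroup M24 := MulAction.stabilizer M24 P ⊓ MulAction.stabilizer M24 Q

/-- The automorphism of a permutation, no signs. -/
def permCo : M24 →* Co0 where
  toFun σ := mono σ.2 empty_code
  map_one' := ext_axis fun i => by rw [mono_axis, one_smul, if_neg (Finset.notMem_empty _)]; rfl
  map_mul' σ τ := ext_axis fun i => by
    rw [mul_smul, mono_axis, mono_axis, if_neg (Finset.notMem_empty _), if_neg (Finset.notMem_empty _), mono_axis,
      if_neg (Finset.notMem_empty _)]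
    rfl

theorem permCo_injective : Function.Injective permCo := fun σ τ h =>
  Subtype.ext (mono_inj σ.2 τ.2 empty_code empty_code h).1

/-- Vectors constant away from the two points. -/
def Nice (p : Vec) : Prop := ∀ i, i = P ∨ i = Q ∨ p i = p (some 1)

theorem sigma_fix {σ : M24} (h : σ ∈ M) : (σ : Equiv.Perm GolayPt) P = P ∧ (σ : Equiv.Perm GolayPt) Q = Q := h

theorem permCo_fix {σ : M24} (h : σ ∈ M) {p : leechLattice} (hp : Nice (p : Vec)) : permCo σ • p = p := by
  obtain ⟨hP, hQ⟩ := sigma_fix h
  refine Subtype.ext ?_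
  show signedPerm (σ : Equiv.Perm GolayPt) ∅ (p : Vec) = _
  funext i
  simp only [signedPerm, Finset.notMem_empty, if_false]
  set j := (σ : Equiv.Perm GolayPt).symm i with hj
  have hi : (σ : Equiv.Perm GolayPt) j = i := Equiv.apply_symm_apply _ _
  rcases hp j with e | e | e
  · rw [e] at hi ⊢; rw [← hi, hP]
  · rw [e] at hi ⊢; rw [← hi, hQ]
  · rcases hp i with e' | e' | e'
    · have : j = P := Equiv.injective (σ : Equiv.Perm GolayPt) (by rw [hi, hP, e'])
      rw [this, e']
    · have : j = Q := Equiv.injective (σ : Equiv.Perm GolayPt) (by rw [hi, hQ, e'])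
      rw [this, e']
    · rw [e, e']

theorem range_eq {p q r : leechLattice} (hp : Nice (p : Vec)) (hq : Nice (q : Vec)) (hr : Nice (r : Vec))
    (haxP : ∀ g : Co0, g • p = p → g • q = q → g • r = r → g • axis P = axis P)
    (haxQ : ∀ g : Co0, g • p = p → g • q = q → g • r = r → g • axis Q = axis Q)
    {u : leechLattice} (hu : u = p ∨ u = q ∨ u = r) (hne : ∀ i, (u : Vec) i ≠ 0) :
    M.map permCo = MulAction.stabilizer Co0 p ⊓ MulAction.stabilizer Co0 q ⊓ MulAction.stabilizer Co0 r := by
  ext g
  rw [Subgroup.mem_map]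
  constructor
  · rintro ⟨σ, hσ, rfl⟩
    exact ⟨⟨permCo_fix hσ hp, permCo_fix hσ hq⟩, permCo_fix hσ hr⟩
  · rintro ⟨⟨h1, h2⟩, h3⟩
    have hP := haxP g h1 h2 h3
    have hQ := haxQ g h1 h2 h3
    have hcross : g ∈ crossStab := MulAction.mem_stabilizer_iff.2 (by rw [← crossOf_axis P, smul_crossOf, hP])
    obtain ⟨σ, hσ, c, hc, rfl⟩ := exists_mono hcross
    have fixpt : ∀ i, mono hσ hc • axis i = axis i → σ i = i := fun i hi => by
      rw [mono_axis] at hi
      split_ifs at hi
      · exact absurd hi.symm (axis_ne_neg _ _)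
      · exact axis_injective hi
    have hM : (⟨σ, hσ⟩ : M24) ∈ M := ⟨fixpt P hP, fixpt Q hQ⟩
    have hfu : mono hσ hc • u = u := by rcases hu with rfl | rfl | rfl <;> assumption
    have hniceU : Nice (u : Vec) := by rcases hu with rfl | rfl | rfl <;> assumption
    have hpu : permCo ⟨σ, hσ⟩ • u = u := permCo_fix hM hniceU
    have hc0 : c = ∅ := Finset.eq_empty_of_forall_notMem fun i hi => by
      have e1 := congrFun (congrArg (Subtype.val : leechLattice → Vec) hfu) i
      have e2 := congrFun (congrArg (Subtype.val : leechLattice → Vec) hpu) i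
      have e1' : -(u : Vec) (σ.symm i) = (u : Vec) i := by
        rw [mono_apply, signedPerm, if_pos hi] at e1; exact e1
      have e2' : (u : Vec) (σ.symm i) = (u : Vec) i := by
        simpa [permCo, mono_apply, signedPerm] using e2
      exact hne i (by omega)
    subst hc0
    exact ⟨⟨σ, hσ⟩, hM, rfl⟩

theorem stab_facts {p q r : leechLattice} (hp : Nice (p : Vec)) (hq : Nice (q : Vec)) (hr : Nice (r : Vec))
    (haxP : ∀ g : Co0, g • p = p → g • q = q → g • r = r → g • axis P = axis P)
    (haxQ : ∀ g : Co0, g • p = p → g • q = q → g • r = r → g • axis Q = axis Q)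
    {u : leechLattice} (hu : u = p ∨ u = q ∨ u = r) (hne : ∀ i, (u : Vec) i ≠ 0) :
    IsSimpleGroup ↥(MulAction.stabilizer Co0 p ⊓ MulAction.stabilizer Co0 q ⊓ MulAction.stabilizer Co0 r) ∧
      Nat.card ↥(MulAction.stabilizer Co0 p ⊓ MulAction.stabilizer Co0 q ⊓ MulAction.stabilizer Co0 r) = 443520 := by
  let e : ↥M ≃* ↥(MulAction.stabilizer Co0 p ⊓ MulAction.stabilizer Co0 q ⊓ MulAction.stabilizer Co0 r) :=
    (M.equivMapOfInjective permCo permCo_injective).trans
      (MulEquiv.subgroupCongr (range_eq hp hq hr haxP haxQ hu hne))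
  have : IsSimpleGroup ↥M := Cfsg.Agent.S0379.result P Q PQ
  exact ⟨e.isSimpleGroup_congr.1 inferInstance, (Nat.card_congr e.toEquiv).symm.trans (Cfsg.Agent.S0378.result P Q PQ)⟩

end Cfsg.Agent.Spor.Leech.TwoPointTriple
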