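import Cfsg.Agent.Lib.Spor.Leech.HSPairs
import Cfsg.Prelude.Def_Sporadic
import Cfsg.Agent.Lib.Spor.Leech.StabSimple
import Cfsg.Agent.Lib.Spor.Leech.TwoPointTriple

/-!
The stabiliser of two vectors of norm 48 with product -32 is simple of order 44352000.
-/

set_option autoImplicit false
set_option maxRecDepth 100000

namespace Cfsg.Agent.Spor.Leech.HSSimple

open Cfsg HSPairs

theorem combo : ((axis TwoPointTriple.Q : leechLattice) : Vec) = (bX : Vec) - ((bU : Vec) + (bW : Vec)) ∧
    ((axis TwoPointTriple.P : leechLattice) : Vec) = (bX : Vec) + ((bU : Vec) + (bW : Vec)) := by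
  constructor <;> funext i <;> revert i <;> decide +kernel

theorem nice : TwoPointTriple.Nice (bU : Vec) ∧ TwoPointTriple.Nice (bW : Vec) ∧ TwoPointTriple.Nice (bX : Vec) ∧
    ∀ i, (bU : Vec) i ≠ 0 := by
  unfold TwoPointTriple.Nice
  decide +kernel

theorem triple :
    IsSimpleGroup ↥(MulAction.stabilizer Co0 bU ⊓ MulAction.stabilizer Co0 bW ⊓ MulAction.stabilizer Co0 bX) ∧
      Nat.card ↥(MulAction.stabilizer Co0 bU ⊓ MulAction.stabilizer Co0 bW ⊓ MulAction.stabilizer Co0 bX) = 443520 := by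
  have e1 : axis TwoPointTriple.Q = bX - (bU + bW) := Subtype.ext combo.1
  have e2 : axis TwoPointTriple.P = bX + (bU + bW) := Subtype.ext combo.2
  exact TwoPointTriple.stab_facts nice.1 nice.2.1 nice.2.2.1
    (fun g a b c => by rw [e2, co_add, co_add, a, b, c])
    (fun g a b c => by rw [e1, co_sub, co_add, a, b, c]) (Or.inl rfl) nice.2.2.2

theorem sylow_hundred {N : Type*} [Group N] [Finite N] (hN : Nat.card N = 100) :
    ∃ K : Subgroup N, K.Characteristic ∧ K ≠ ⊥ ∧ K ≠ ⊤ := by
  have : Fact (Nat.Prime 5) := ⟨by norm_num⟩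
  refine SimpleOfStab.exists_char_of_central (p := 5) (e := 2) (m := 4) (by rw [hN]; rfl) (by norm_num) (by norm_num)
    (by norm_num) fun P hP => Or.inl ?_
  have h1 : Nat.card (Sylow 5 N) ≡ 1 [MOD 5] := card_sylow_modEq_one 5 N
  have h2 : Nat.card (Sylow 5 N) ∣ 4 := by
    have h := Sylow.card_dvd_index P
    have h3 := (P : Subgroup N).card_mul_index
    rw [hN, hP] at h3
    rwa [show (P : Subgroup N).index = 4 by omega] at h
  have h4 := Nat.le_of_dvd (by norm_num) h2
  unfold Nat.ModEq at h1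
  omega

theorem facts : IsSimpleGroup ↥(MulAction.stabilizer Co0 bU ⊓ MulAction.stabilizer Co0 bW) ∧
    Nat.card ↥(MulAction.stabilizer Co0 bU ⊓ MulAction.stabilizer Co0 bW) = 44352000 := by
  obtain ⟨hn, ht⟩ := hundred bU_norm bW_norm bUW
  obtain ⟨nA, nB, tA, tB⟩ := suborbits bU_norm bW_norm bUW bX_mem
  obtain ⟨hS, hH⟩ := triple
  have horb := orbit_shellTwo bX_mem ht
  have hcard := StabSimple.card_eq _ bX 100 443520 (by rw [horb, hn]) hH
  refine ⟨?_, by rw [hcard]⟩
  refine StabSimple.simple _ bX hH (by norm_num) (n := 100) (by rw [horb, hn]) (by norm_num) hS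
    [shellThree bU bW bX 24 (-24) 8, shellThree bU bW bX 24 (-24) 16] ?_ ?_ ?_ ?_ ?_ ?_ ?_
    fun N hN _ => sylow_hundred hN
  · simp only [List.pairwise_cons, List.mem_cons, List.not_mem_nil, or_false, forall_eq, List.Pairwise.nil, and_true,
      false_implies, implies_true]
    exact Set.disjoint_left.2 fun y h h' => by have := h.2.2.2; have := h'.2.2.2; omega
  · intro O hO y hy z hz
    simp only [List.mem_cons, List.not_mem_nil, or_false] at hO
    rcases hO with rfl | rfl
    · obtain ⟨g, a, b, c, d⟩ := tA y hy z hz; exact ⟨g, ⟨a, b⟩, c, d⟩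
    · obtain ⟨g, a, b, c, d⟩ := tB y hy z hz; exact ⟨g, ⟨a, b⟩, c, d⟩
  · intro O hO
    simp only [List.mem_cons, List.not_mem_nil, or_false] at hO
    rw [horb]
    rcases hO with rfl | rfl <;> exact fun y hy => ⟨hy.1, hy.2.1, hy.2.2.1⟩
  · intro O hO
    simp only [List.mem_cons, List.not_mem_nil, or_false] at hO
    rcases hO with rfl | rfl <;>
      exact fun h => by have := h.2.2.2; rw [dot_self, bX_mem.1] at this; omega
  · intro y hy
    rw [horb] at hy
    refine or_iff_not_imp_left.2 fun hne => ?_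
    rcases dot_cases bU_norm bW_norm bUW bX_mem hy hne with h | h
    · exact ⟨_, List.mem_cons_self, hy.1, hy.2.1, hy.2.2, h⟩
    · exact ⟨_, List.mem_cons_of_mem _ List.mem_cons_self, hy.1, hy.2.1, hy.2.2, h⟩
  · exact ⟨_, List.mem_cons_self, by rw [nA]; norm_num⟩
  · simp only [List.map_cons, List.map_nil, nA, nB]
    decide

theorem isHS {v w : leechLattice} (hv : sqNorm (v : Vec) = 48) (hw : sqNorm (w : Vec) = 48)
    (hvw : dotInt (v : Vec) (w : Vec) = -32) :
    IsHS ↥(MulAction.stabilizer Co0 v ⊓ MulAction.stabilizer Co0 w) := by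
  obtain ⟨k, k1, k2⟩ := to_pair hv hw hvw
  have e := StabSimple.pairEquiv k k1 k2
  exact ⟨e.isSimpleGroup_congr.2 facts.1, (Nat.card_congr e.toEquiv).trans facts.2⟩

end Cfsg.Agent.Spor.Leech.HSSimple
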