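import Cfsg.Agent.Lib.Spor.Leech.Frame
import Cfsg.Agent.Lib.Spor.Leech.CertS11178
import Cfsg.Agent.Lib.Spor.Leech.CertS352
import Cfsg.Agent.Lib.Spor.Leech.CertS1100
import Cfsg.Agent.Lib.Spor.Leech.CertS4125
import Cfsg.Agent.Lib.Spor.Leech.CertS5600

/-!
The stabiliser of a vector of norm 48 on the 11178 vectors of norm 32 with product -16 with it.
-/

set_option autoImplicit false
set_option maxRecDepth 100000

namespace Cfsg.Agent.Spor.Leech.ThreeOrbits

open Cfsg

/-- The standard vector of norm 48. -/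
def bU : leechLattice :=
  mkL [1, 1, 1, 1, 1, 1, 1, 1, 1, 1, 1, 1, 1, 1, 1, 1, 1, 1, 1, 1, 1, 1, 1, 5] (by decide +kernel)

/-- The standard member of the set. -/
def bS : leechLattice :=
  mkL [4, 0, 0, 0, 0, 0, 0, 0, 0, 0, 0, 0, 0, 0, 0, 0, 0, 0, 0, 0, 0, 0, 0, -4] (by decide +kernel)

theorem bU_norm : sqNorm (bU : Vec) = 48 := by decide +kernel

theorem bS_mem : bS ∈ shellOne bU (-16) := ⟨by decide +kernel, by decide +kernel⟩

theorem members {u : leechLattice} (hu : sqNorm (u : Vec) = 48) :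
    (shellOne u (-16)).ncard = 11178 ∧ TransOne u (shellOne u (-16)) := by
  obtain ⟨h, hh⟩ := exists_move48 hu bU_norm
  have hs := std_one co3s_checks (by decide +kernel)
  obtain ⟨hn, ht⟩ := get_one hh (c := -16) (show TransOne bU (shellOne bU (-16)) from hs.2)
  exact ⟨hn.trans hs.1, ht⟩

theorem to_pair {u x : leechLattice} (hu : sqNorm (u : Vec) = 48) (hx : x ∈ shellOne u (-16)) :
    ∃ h : Co0, h • u = bU ∧ h • x = bS := by
  obtain ⟨h, hh⟩ := exists_move48 hu bU_norm
  exact step_one hh (std_one co3s_checks (by decide +kernel)).2 hx bS_mem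

theorem suborbit {u x : leechLattice} (hu : sqNorm (u : Vec) = 48) (hx : x ∈ shellOne u (-16)) {d : ℤ} {n : ℕ}
    (hs : (shellTwo bU bS (-16) d).ncard = n ∧ TransTwo bU bS (shellTwo bU bS (-16) d)) :
    (shellTwo u x (-16) d).ncard = n ∧ TransTwo u x (shellTwo u x (-16) d) := by
  obtain ⟨h, h1, h2⟩ := to_pair hu hx
  obtain ⟨hn, ht⟩ := get_two h1 h2 (c := -16) (d := d) hs.2
  exact ⟨hn.trans hs.1, ht⟩

theorem orbits {u x : leechLattice} (hu : sqNorm (u : Vec) = 48) (hx : x ∈ shellOne u (-16)) :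
    ∃ y₁ ∈ shellOne u (-16), ∃ y₂ ∈ shellOne u (-16), ∃ y₃ ∈ shellOne u (-16), ∃ y₄ ∈ shellOne u (-16),
      (MulAction.orbit ↥(MulAction.stabilizer Co0 u ⊓ MulAction.stabilizer Co0 x) y₁).ncard = 352 ∧
      (MulAction.orbit ↥(MulAction.stabilizer Co0 u ⊓ MulAction.stabilizer Co0 x) y₂).ncard = 1100 ∧
      (MulAction.orbit ↥(MulAction.stabilizer Co0 u ⊓ MulAction.stabilizer Co0 x) y₃).ncard = 4125 ∧
      (MulAction.orbit ↥(MulAction.stabilizer Co0 u ⊓ MulAction.stabilizer Co0 x) y₄).ncard = 5600 ∧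
      shellOne u (-16) = {x} ∪ MulAction.orbit ↥(MulAction.stabilizer Co0 u ⊓ MulAction.stabilizer Co0 x) y₁ ∪
        MulAction.orbit ↥(MulAction.stabilizer Co0 u ⊓ MulAction.stabilizer Co0 x) y₂ ∪
        MulAction.orbit ↥(MulAction.stabilizer Co0 u ⊓ MulAction.stabilizer Co0 x) y₃ ∪
        MulAction.orbit ↥(MulAction.stabilizer Co0 u ⊓ MulAction.stabilizer Co0 x) y₄ := by
  obtain ⟨nA, tA⟩ := suborbit hu hx (d := -8) (std_two co3A_checks (by decide +kernel) (by decide +kernel))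
  obtain ⟨nB, tB⟩ := suborbit hu hx (d := 16) (std_two co3B_checks (by decide +kernel) (by decide +kernel))
  obtain ⟨nC, tC⟩ := suborbit hu hx (d := 0) (std_two co3C_checks (by decide +kernel) (by decide +kernel))
  obtain ⟨nD, tD⟩ := suborbit hu hx (d := 8) (std_two co3D_checks (by decide +kernel) (by decide +kernel))
  replace nA : (shellTwo u x (-16) (-8)).ncard = 352 := nA
  replace nB : (shellTwo u x (-16) 16).ncard = 1100 := nB
  replace nC : (shellTwo u x (-16) 0).ncard = 4125 := nC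
  replace nD : (shellTwo u x (-16) 8).ncard = 5600 := nD
  obtain ⟨a, ha⟩ := nonempty_of_ncard (n := 351) nA
  obtain ⟨b, hb⟩ := nonempty_of_ncard (n := 1099) nB
  obtain ⟨c, hc⟩ := nonempty_of_ncard (n := 4124) nC
  obtain ⟨d, hd⟩ := nonempty_of_ncard (n := 5599) nD
  have sub : ∀ {k : ℤ} {y : leechLattice}, y ∈ shellTwo u x (-16) k → y ∈ shellOne u (-16) :=
    fun h => ⟨h.1, h.2.1⟩
  refine ⟨a, sub ha, b, sub hb, c, sub hc, d, sub hd, ?_⟩
  rw [orbit_shellTwo ha tA, orbit_shellTwo hb tB, orbit_shellTwo hc tC, orbit_shellTwo hd tD]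
  refine ⟨nA, nB, nC, nD, Set.ext fun y => ?_⟩
  simp only [Set.mem_union, Set.mem_singleton_iff]
  constructor
  · intro hy
    have h := split_cover (S := shellOne u (-16)) (fun z hz => hz.1) hx {-8, 16, 0, 8} (by decide) ?_ hy
    · simp only [Finset.mem_insert, Finset.mem_singleton] at h
      rcases h with h | h | h | h | h
      · exact Or.inl (Or.inl (Or.inl (Or.inl h)))
      · exact Or.inl (Or.inl (Or.inl (Or.inr ⟨hy.1, hy.2, h⟩)))
      · exact Or.inl (Or.inl (Or.inr ⟨hy.1, hy.2, h⟩))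
      · exact Or.inl (Or.inr ⟨hy.1, hy.2, h⟩)
      · exact Or.inr ⟨hy.1, hy.2, h⟩
    · have e : ∀ k, {z ∈ shellOne u (-16) | dotInt (x : Vec) (z : Vec) = k} = shellTwo u x (-16) k := fun k => by
        ext z; simp [shellOne, shellTwo, and_assoc]
      rw [(members hu).1, Finset.sum_insert (by decide), Finset.sum_insert (by decide), Finset.sum_pair (by decide),
        e, e, e, e, nA, nB, nC, nD]; rfl
  · rintro ((((rfl | h) | h) | h) | h)
    · exact hx
    all_goals exact sub h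

end Cfsg.Agent.Spor.Leech.ThreeOrbits
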