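import Cfsg.Agent.Lib.Spor.Leech.TwoPairs
import Cfsg.Agent.Lib.Spor.Leech.CertG2025
import Cfsg.Agent.Lib.Spor.Leech.CertG330
import Cfsg.Agent.Lib.Spor.Leech.CertG462
import Cfsg.Agent.Lib.Spor.Leech.CertG1232

/-!
Pairs of vectors of norm 32 with product -8 and the 2025 vectors with products 0 and 16 with them.
-/

set_option autoImplicit false
set_option maxRecDepth 100000

namespace Cfsg.Agent.Spor.Leech.McLPairs

open Cfsg TwoPairs

/-- The standard partner. -/
def bW : leechLattice :=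
  mkL [0, 0, -2, 0, 0, 0, 0, 0, 0, 0, 0, 0, 2, 2, 0, 2, 0, 0, 2, 0, 2, 0, 2, -2] (by decide +kernel)

/-- The standard member of the 2025 vectors. -/
def bZ : leechLattice :=
  mkL [0, 0, -4, 0, 0, 0, 0, 0, 0, 0, 0, 0, 4, 0, 0, 0, 0, 0, 0, 0, 0, 0, 0, 0] (by decide +kernel)

theorem bW_mem : bW ∈ shellOne bV (-8) := ⟨by decide +kernel, by decide +kernel⟩

theorem bZ_mem : bZ ∈ shellTwo bV bW 0 16 := ⟨by decide +kernel, by decide +kernel, by decide +kernel⟩

theorem to_pair {v w : leechLattice} (hv : sqNorm (v : Vec) = 32) (hw : w ∈ shellOne v (-8)) :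
    ∃ h : Co0, h • v = bV ∧ h • w = bW := by
  obtain ⟨h, hh⟩ := exists_move32 hv bV_norm
  exact step_one hh (std_one co2t_checks (by decide +kernel)).2 hw bW_mem

theorem members {v w : leechLattice} (hv : sqNorm (v : Vec) = 32) (hw : w ∈ shellOne v (-8)) :
    (shellTwo v w 0 16).ncard = 2025 ∧ TransTwo v w (shellTwo v w 0 16) := by
  obtain ⟨h, h1, h2⟩ := to_pair hv hw
  have hs := std_two mcu_checks (by decide +kernel) (by decide +kernel)
  obtain ⟨hn, ht⟩ := get_two h1 h2 (c := 0) (d := 16) (show TransTwo bV bW (shellTwo bV bW 0 16) from hs.2)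
  exact ⟨hn.trans hs.1, ht⟩

theorem orbits {v w x : leechLattice} (hv : sqNorm (v : Vec) = 32) (hw : w ∈ shellOne v (-8))
    (hx : x ∈ shellTwo v w 0 16) : ∃ y₁ ∈ shellTwo v w 0 16, ∃ y₂ ∈ shellTwo v w 0 16, ∃ y₃ ∈ shellTwo v w 0 16,
      (MulAction.orbit ↥(MulAction.stabilizer Co0 v ⊓ MulAction.stabilizer Co0 w ⊓ MulAction.stabilizer Co0 x)
        y₁).ncard = 330 ∧
      (MulAction.orbit ↥(MulAction.stabilizer Co0 v ⊓ MulAction.stabilizer Co0 w ⊓ MulAction.stabilizer Co0 x)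
        y₂).ncard = 462 ∧
      (MulAction.orbit ↥(MulAction.stabilizer Co0 v ⊓ MulAction.stabilizer Co0 w ⊓ MulAction.stabilizer Co0 x)
        y₃).ncard = 1232 := by
  obtain ⟨h0, e1, e2⟩ := to_pair hv hw
  obtain ⟨h, h1, h2, h3⟩ := step_two e1 e2 (std_two mcu_checks (by decide +kernel) (by decide +kernel)).2 hx bZ_mem
  have main : ∀ {f : ℤ} {n : ℕ}, ((shellThree bV bW bZ 0 16 f).ncard = n + 1 ∧
      TransThree bV bW bZ (shellThree bV bW bZ 0 16 f)) → ∃ y ∈ shellTwo v w 0 16,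
      (MulAction.orbit ↥(MulAction.stabilizer Co0 v ⊓ MulAction.stabilizer Co0 w ⊓ MulAction.stabilizer Co0 x)
        y).ncard = n + 1 := by
    intro f n hs
    obtain ⟨hn, ht⟩ := get_three h1 h2 h3 (c := 0) (d := 16) (f := f) hs.2
    rw [hs.1] at hn
    obtain ⟨y, hy⟩ := nonempty_of_ncard hn
    exact ⟨y, ⟨hy.1, hy.2.1, hy.2.2.1⟩, by rw [orbit_shellThree hy ht, hn]⟩
  obtain ⟨a, ha, na⟩ := main (f := 0) (n := 329) (std_three mcuA_checks (by decide +kernel) (by decide +kernel) (by decide +kernel))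
  obtain ⟨b, hb, nb⟩ := main (f := 16) (n := 461) (std_three mcuB_checks (by decide +kernel) (by decide +kernel) (by decide +kernel))
  obtain ⟨c, hc, nc⟩ := main (f := 8) (n := 1231) (std_three mcuC_checks (by decide +kernel) (by decide +kernel) (by decide +kernel))
  exact ⟨a, ha, b, hb, c, hc, na, nb, nc⟩

end Cfsg.Agent.Spor.Leech.McLPairs
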