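import Cfsg.Prelude.Def_Sporadic
import Cfsg.Agent.Lib.Spor.Leech.McLPairs
import Cfsg.Agent.Lib.Spor.Leech.StabSimple
import Cfsg.Agent.Lib.Spor.Leech.TwoPointTriple

/-!
The stabiliser of two vectors of norm 32 with product -8 is simple of order 898128000.
-/

set_option autoImplicit false
set_option maxRecDepth 100000

namespace Cfsg.Agent.Spor.Leech.McLSimple

open Cfsg TwoPairs

/-- A partner constant away from two points. -/
def nW : leechLattice :=
  mkL [1, 1, 1, 1, 1, 1, 1, 1, 1, 1, 1, 1, 1, 1, 1, 1, 1, 1, 1, 1, 1, 1, 1, -3] (by decide +kernel)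

/-- A member of the 2025 vectors constant away from two points. -/
def nX : leechLattice :=
  mkL [4, 0, 0, 0, 0, 0, 0, 0, 0, 0, 0, 0, 0, 0, 0, 0, 0, 0, 0, 0, 0, 0, 0, -4] (by decide +kernel)

theorem nW_mem : nW ∈ shellOne bV (-8) := ⟨by decide +kernel, by decide +kernel⟩

theorem nX_mem : nX ∈ shellTwo bV nW 0 16 := ⟨by decide +kernel, by decide +kernel, by decide +kernel⟩

theorem combo : ((axis TwoPointTriple.Q : leechLattice) : Vec) = (bV : Vec) + (nX : Vec) ∧
    ((axis TwoPointTriple.P : leechLattice) : Vec) = (bV : Vec) - (nX : Vec) := by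
  constructor <;> funext i <;> revert i <;> decide +kernel

theorem nice : TwoPointTriple.Nice (bV : Vec) ∧ TwoPointTriple.Nice (nW : Vec) ∧ TwoPointTriple.Nice (nX : Vec) ∧
    ∀ i, (nW : Vec) i ≠ 0 := by
  unfold TwoPointTriple.Nice
  decide +kernel

theorem triple :
    IsSimpleGroup ↥(MulAction.stabilizer Co0 bV ⊓ MulAction.stabilizer Co0 nW ⊓ MulAction.stabilizer Co0 nX) ∧
      Nat.card ↥(MulAction.stabilizer Co0 bV ⊓ MulAction.stabilizer Co0 nW ⊓ MulAction.stabilizer Co0 nX) = 443520 := by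
  have e1 : axis TwoPointTriple.Q = bV + nX := Subtype.ext combo.1
  have e2 : axis TwoPointTriple.P = bV - nX := Subtype.ext combo.2
  exact TwoPointTriple.stab_facts nice.1 nice.2.1 nice.2.2.1
    (fun g a _ c => by rw [e2, co_sub, a, c])
    (fun g a _ c => by rw [e1, co_add, a, c]) (Or.inr (Or.inl rfl)) nice.2.2.2

theorem suborbit {v w x : leechLattice} (hv : sqNorm (v : Vec) = 32) (hw : w ∈ shellOne v (-8))
    (hx : x ∈ shellTwo v w 0 16) {f : ℤ} {n : ℕ}
    (hs : (shellThree bV McLPairs.bW McLPairs.bZ 0 16 f).ncard = n ∧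
      TransThree bV McLPairs.bW McLPairs.bZ (shellThree bV McLPairs.bW McLPairs.bZ 0 16 f)) :
    (shellThree v w x 0 16 f).ncard = n ∧ TransThree v w x (shellThree v w x 0 16 f) := by
  obtain ⟨h0, e1, e2⟩ := McLPairs.to_pair hv hw
  obtain ⟨h, h1, h2, h3⟩ :=
    step_two e1 e2 (std_two mcu_checks (by decide +kernel) (by decide +kernel)).2 hx McLPairs.bZ_mem
  obtain ⟨hn, ht⟩ := get_three h1 h2 h3 (c := 0) (d := 16) (f := f) hs.2
  exact ⟨hn.trans hs.1, ht⟩

theorem sylow_2025 {N : Type*} [Group N] [Finite N] (hN : Nat.card N = 2025) :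
    ∃ K : Subgroup N, K.Characteristic ∧ K ≠ ⊥ ∧ K ≠ ⊤ := by
  have : Fact (Nat.Prime 5) := ⟨by norm_num⟩
  refine SimpleOfStab.exists_char_of_sylow (p := 5) (e := 2) (m := 81) (by rw [hN]; rfl) (by norm_num) (by norm_num)
    (by norm_num) fun P => ?_
  have h1 : Nat.card (Sylow 5 N) ≡ 1 [MOD 5] := card_sylow_modEq_one 5 N
  have h2 : Nat.card (Sylow 5 N) ∣ 81 := by
    have h := Sylow.card_dvd_index P
    have h3 := (P : Subgroup N).card_mul_index
    have h4 : Nat.card P = 25 := by
      rw [P.card_eq_multiplicity, hN, Nat.factorization_def _ (by norm_num)]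
      rw [show padicValNat 5 2025 = 2 by
        rw [show (2025 : ℕ) = 5 ^ 2 * 81 by norm_num, padicValNat.mul (by norm_num) (by norm_num),
          padicValNat.prime_pow, padicValNat.eq_zero_of_not_dvd (by norm_num)]]
      norm_num
    rw [hN, h4] at h3
    rwa [show (P : Subgroup N).index = 81 by omega] at h
  obtain ⟨i, hi, he⟩ := (Nat.dvd_prime_pow (show Nat.Prime 3 by norm_num)).1 (show _ ∣ 3 ^ 4 from h2)
  unfold Nat.ModEq at h1
  interval_cases i <;> rw [he] at h1 ⊢ <;> norm_num at h1 <;> norm_num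

theorem facts : IsSimpleGroup ↥(MulAction.stabilizer Co0 bV ⊓ MulAction.stabilizer Co0 nW) ∧
    Nat.card ↥(MulAction.stabilizer Co0 bV ⊓ MulAction.stabilizer Co0 nW) = 898128000 := by
  obtain ⟨hn, ht⟩ := McLPairs.members bV_norm nW_mem
  obtain ⟨nA, tA⟩ := suborbit bV_norm nW_mem nX_mem (f := 0)
    (std_three mcuA_checks (by decide +kernel) (by decide +kernel) (by decide +kernel))
  obtain ⟨nB, tB⟩ := suborbit bV_norm nW_mem nX_mem (f := 16)
    (std_three mcuB_checks (by decide +kernel) (by decide +kernel) (by decide +kernel))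
  obtain ⟨nC, tC⟩ := suborbit bV_norm nW_mem nX_mem (f := 8)
    (std_three mcuC_checks (by decide +kernel) (by decide +kernel) (by decide +kernel))
  replace nA : (shellThree bV nW nX 0 16 0).ncard = 330 := nA
  replace nB : (shellThree bV nW nX 0 16 16).ncard = 462 := nB
  replace nC : (shellThree bV nW nX 0 16 8).ncard = 1232 := nC
  obtain ⟨hS, hH⟩ := triple
  have horb := orbit_shellTwo nX_mem ht
  have hcard := StabSimple.card_eq _ nX 2025 443520 (by rw [horb, hn]) hH
  refine ⟨?_, by rw [hcard]⟩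
  refine StabSimple.simple _ nX hH (by norm_num) (n := 2025) (by rw [horb, hn]) (by norm_num) hS
    [shellThree bV nW nX 0 16 0, shellThree bV nW nX 0 16 16, shellThree bV nW nX 0 16 8] ?_ ?_ ?_ ?_ ?_ ?_ ?_
    fun N hN _ => sylow_2025 hN
  · simp only [List.pairwise_cons, List.mem_cons, List.not_mem_nil, or_false, forall_eq_or_imp, forall_eq,
      List.Pairwise.nil, and_true, false_implies, implies_true]
    refine ⟨⟨?_, ?_⟩, ?_⟩ <;>
      exact Set.disjoint_left.2 fun y h h' => by have := h.2.2.2; have := h'.2.2.2; omega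
  · intro O hO y hy z hz
    simp only [List.mem_cons, List.not_mem_nil, or_false] at hO
    rcases hO with rfl | rfl | rfl
    · obtain ⟨g, a, b, c, d⟩ := tA y hy z hz; exact ⟨g, ⟨a, b⟩, c, d⟩
    · obtain ⟨g, a, b, c, d⟩ := tB y hy z hz; exact ⟨g, ⟨a, b⟩, c, d⟩
    · obtain ⟨g, a, b, c, d⟩ := tC y hy z hz; exact ⟨g, ⟨a, b⟩, c, d⟩
  · intro O hO
    simp only [List.mem_cons, List.not_mem_nil, or_false] at hO
    rw [horb]
    rcases hO with rfl | rfl | rfl <;> exact fun y hy => ⟨hy.1, hy.2.1, hy.2.2.1⟩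
  · intro O hO
    simp only [List.mem_cons, List.not_mem_nil, or_false] at hO
    rcases hO with rfl | rfl | rfl <;>
      exact fun h => by have := h.2.2.2; rw [dot_self, nX_mem.1] at this; omega
  · intro y hy
    rw [horb] at hy
    refine or_iff_not_imp_left.2 fun hne => ?_
    have h := split_cover (S := shellTwo bV nW 0 16) (fun z hz => hz.1) nX_mem {0, 16, 8} (by decide) ?_ hy
    · simp only [hne, false_or, Finset.mem_insert, Finset.mem_singleton] at h
      rcases h with h | h | h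
      · exact ⟨_, List.mem_cons_self, hy.1, hy.2.1, hy.2.2, h⟩
      · exact ⟨_, List.mem_cons_of_mem _ List.mem_cons_self, hy.1, hy.2.1, hy.2.2, h⟩
      · exact ⟨_, List.mem_cons_of_mem _ (List.mem_cons_of_mem _ List.mem_cons_self), hy.1, hy.2.1, hy.2.2, h⟩
    · have e : ∀ k, {z ∈ shellTwo bV nW 0 16 | dotInt (nX : Vec) (z : Vec) = k} = shellThree bV nW nX 0 16 k :=
        fun k => by ext z; simp [shellTwo, shellThree, and_assoc]
      rw [hn, Finset.sum_insert (by decide), Finset.sum_pair (by decide), e, e, e, nA, nB, nC]; rfl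
  · exact ⟨_, List.mem_cons_self, by rw [nA]; norm_num⟩
  · simp only [List.map_cons, List.map_nil, nA, nB, nC]
    decide +kernel

theorem isMcL {v w : leechLattice} (hv : sqNorm (v : Vec) = 32) (hw : w ∈ shellOne v (-8)) :
    IsMcL ↥(MulAction.stabilizer Co0 v ⊓ MulAction.stabilizer Co0 w) := by
  obtain ⟨k, k1, k2⟩ := McLPairs.to_pair hv hw
  obtain ⟨l, l1, l2⟩ := McLPairs.to_pair bV_norm nW_mem
  have e := (StabSimple.pairEquiv k k1 k2).trans (StabSimple.pairEquiv l l1 l2).symm
  exact ⟨e.isSimpleGroup_congr.2 facts.1, (Nat.card_congr e.toEquiv).trans facts.2⟩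

end Cfsg.Agent.Spor.Leech.McLSimple
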