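import Cfsg.Agent.Lib.Spor.Leech.Frame
import Cfsg.Agent.Lib.Spor.Leech.CertP552
import Cfsg.Agent.Lib.Spor.Leech.CertM275
import Cfsg.Agent.Lib.Spor.Leech.CertM112
import Cfsg.Agent.Lib.Spor.Leech.CertM162

/-!
A vector `u` of norm 48, the 552 vectors `v` of norm 32 with product 24 with it, and the 275 further vectors attached to
such a pair.
-/

set_option autoImplicit false
set_option maxRecDepth 100000

namespace Cfsg.Agent.Spor.Leech.ThreePairs

open Cfsg

/-- The standard vector of norm 48. -/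
def bU : leechLattice :=
  mkL [1, 1, 1, 1, 1, 1, 1, 1, 1, 1, 1, 1, 1, 1, 1, 1, 1, 1, 1, 1, 1, 1, 1, 5] (by decide +kernel)

/-- The standard partner. -/
def bP : leechLattice :=
  mkL [4, 0, 0, 0, 0, 0, 0, 0, 0, 0, 0, 0, 0, 0, 0, 0, 0, 0, 0, 0, 0, 0, 0, 4] (by decide +kernel)

/-- The standard third vector. -/
def bE : leechLattice :=
  mkL [0, 4, 0, 0, 0, 0, 0, 0, 0, 0, 0, 0, 0, 0, 0, 0, 0, 0, 0, 0, 0, 0, 0, 4] (by decide +kernel)

theorem bU_norm : sqNorm (bU : Vec) = 48 := by decide +kernel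

theorem bP_mem : bP ∈ shellOne bU 24 := ⟨by decide +kernel, by decide +kernel⟩

theorem bE_mem : bE ∈ shellTwo bU bP 24 16 := ⟨by decide +kernel, by decide +kernel, by decide +kernel⟩

theorem pair_iff {u v : leechLattice} (hu : sqNorm (u : Vec) = 48) :
    sqNorm (v : Vec) = 32 ∧ sqNorm ((u : Vec) - (v : Vec)) = 32 ↔ v ∈ shellOne u 24 := by
  simp only [shellOne, Set.mem_setOf_eq, sqNorm_sub, hu]
  constructor <;> rintro ⟨h1, h2⟩ <;> exact ⟨h1, by omega⟩

theorem partners {u : leechLattice} (hu : sqNorm (u : Vec) = 48) :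
    (shellOne u 24).ncard = 552 ∧ TransOne u (shellOne u 24) := by
  obtain ⟨h, hh⟩ := exists_move48 hu bU_norm
  have hs := std_one co3p_checks (by decide +kernel)
  obtain ⟨hn, ht⟩ := get_one hh (c := 24) (show TransOne bU (shellOne bU 24) from hs.2)
  exact ⟨hn.trans hs.1, ht⟩

theorem to_pair {u v : leechLattice} (hu : sqNorm (u : Vec) = 48) (hv : v ∈ shellOne u 24) :
    ∃ h : Co0, h • u = bU ∧ h • v = bP := by
  obtain ⟨h, hh⟩ := exists_move48 hu bU_norm
  exact step_one hh (std_one co3p_checks (by decide +kernel)).2 hv bP_mem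

theorem thirds {u v : leechLattice} (hu : sqNorm (u : Vec) = 48) (hv : v ∈ shellOne u 24) :
    (shellTwo u v 24 16).ncard = 275 ∧ TransTwo u v (shellTwo u v 24 16) := by
  obtain ⟨h, h1, h2⟩ := to_pair hu hv
  have hs := std_two mcl_checks (by decide +kernel) (by decide +kernel)
  obtain ⟨hn, ht⟩ := get_two h1 h2 (c := 24) (d := 16) (show TransTwo bU bP (shellTwo bU bP 24 16) from hs.2)
  exact ⟨hn.trans hs.1, ht⟩

theorem suborbits {u v x : leechLattice} (hu : sqNorm (u : Vec) = 48) (hv : v ∈ shellOne u 24)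
    (hx : x ∈ shellTwo u v 24 16) :
    (shellThree u v x 24 16 8).ncard = 112 ∧ (shellThree u v x 24 16 16).ncard = 162 ∧
      TransThree u v x (shellThree u v x 24 16 8) ∧ TransThree u v x (shellThree u v x 24 16 16) := by
  obtain ⟨h0, e1, e2⟩ := to_pair hu hv
  obtain ⟨h, h1, h2, h3⟩ := step_two e1 e2 (std_two mcl_checks (by decide +kernel) (by decide +kernel)).2 hx bE_mem
  have hA := std_three mclA_checks (by decide +kernel) (by decide +kernel) (by decide +kernel)
  have hB := std_three mclB_checks (by decide +kernel) (by decide +kernel) (by decide +kernel)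
  obtain ⟨hnA, htA⟩ := get_three h1 h2 h3 (c := 24) (d := 16) (f := 8)
    (show TransThree bU bP bE (shellThree bU bP bE 24 16 8) from hA.2)
  obtain ⟨hnB, htB⟩ := get_three h1 h2 h3 (c := 24) (d := 16) (f := 16)
    (show TransThree bU bP bE (shellThree bU bP bE 24 16 16) from hB.2)
  exact ⟨hnA.trans hA.1, hnB.trans hB.1, htA, htB⟩

theorem dot_cases {u v x y : leechLattice} (hu : sqNorm (u : Vec) = 48) (hv : v ∈ shellOne u 24)
    (hx : x ∈ shellTwo u v 24 16) (hy : y ∈ shellTwo u v 24 16) (hne : y ≠ x) :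
    dotInt (x : Vec) (y : Vec) = 8 ∨ dotInt (x : Vec) (y : Vec) = 16 := by
  obtain ⟨hA, hB, -, -⟩ := suborbits hu hv hx
  have h := split_cover (S := shellTwo u v 24 16) (fun z hz => hz.1) hx {8, 16} (by decide) ?_ hy
  · simpa [hne] using h
  · have e : ∀ c, {z ∈ shellTwo u v 24 16 | dotInt (x : Vec) (z : Vec) = c} = shellThree u v x 24 16 c := fun c => by
      ext z; simp [shellTwo, shellThree, and_assoc]
    rw [(thirds hu hv).1, Finset.sum_pair (by decide), e, e, hA, hB]; rfl

end Cfsg.Agent.Spor.Leech.ThreePairs
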