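import Cfsg.Agent.Lib.Spor.Leech.Enum

/-!
Certificates that the automorphisms fixing given vectors of the rank 24 lattice are transitive on the vectors of norm 32
with prescribed products with them.
-/

set_option autoImplicit false
set_option maxRecDepth 100000

namespace Cfsg.Agent.Spor.Leech

open Cfsg

/-- Trees with numbers at the leaves. -/
inductive Tree where
  | leaf (E : ℕ)
  | node (l r : Tree)

/-- The leaf at index `k` of a tree of height `h`. -/
def Tree.get : Tree → ℕ → ℕ → ℕ
  | .leaf E, _, _ => E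
  | .node _ _, 0, _ => 0
  | .node l r, h + 1, k => if k.testBit h then r.get h k else l.get h k

/-- A certificate: generators, a tree of packed vectors with their parents, and where the enumerated vectors are. -/
structure Cert where
  gens : List (List (ℕ × ℕ))
  tree : Tree
  ht : ℕ
  n : ℕ
  wit : List ℕ
  spec : Spec

namespace Cert

/-- The packed vector at an index. -/
def X (C : Cert) (k : ℕ) : ℕ := C.tree.get C.ht k >>> 32

/-- The index of the parent. -/
def par (C : Cert) (k : ℕ) : ℕ := (C.tree.get C.ht k >>> 16) % 65536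

/-- The generator leading from the parent. -/
def gen (C : Cert) (k : ℕ) : ℕ := (C.tree.get C.ht k >>> 8) % 256

/-- The depth. -/
def depth (C : Cert) (k : ℕ) : ℕ := C.tree.get C.ht k % 256

end Cert

/-- One vector and one number from several. -/
def combU : List (List ℤ × ℤ) → List ℤ
  | [] => []
  | bc :: L => (List.range 24).map fun i => bc.1.getD i 0 + 1000 * (combU L).getD i 0

/-- The combined product. -/
def combC : List (List ℤ × ℤ) → ℤ
  | [] => 0
  | bc :: L => bc.2 + 1000 * combC L

theorem dot_comb (v : Vec) : ∀ {L : List (List ℤ × ℤ)}, (∀ bc ∈ L, dotInt (ofList bc.1) v = bc.2) →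
    dotInt (ofList (combU L)) v = combC L
  | [], _ => by simp [combU, combC, dotInt, ofList]
  | bc :: L, h => by
    have hrec := dot_comb v (L := L) fun q hq => h q (List.mem_cons_of_mem _ hq)
    rw [combC, ← hrec, ← h bc List.mem_cons_self]
    simp only [dotInt, Finset.mul_sum, ← Finset.sum_add_distrib]
    refine Finset.sum_congr rfl fun p _ => ?_
    have e : ofList (combU (bc :: L)) p = ofList bc.1 p + 1000 * ofList (combU L) p := by
      simp [ofList, combU, List.getD_eq_getElem?_getD, Golay.idx_lt]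
    rw [e]; ring

/-- The vectors fixed by the generators are the given ones. -/
def chkGens (L : List (List ℤ × ℤ)) (gens : List (List (ℕ × ℕ))) : Bool :=
  (L.all fun bc => inL (ofList bc.1) && decide (sqNorm (ofList bc.1) ≤ 64)) &&
    gens.all fun g => g.all opOk && L.all fun bc => appW g (encV (ofList bc.1)) == encV (ofList bc.1)

/-- The root has the prescribed norm and products. -/
def chkRoot (L : List (List ℤ × ℤ)) (x0 : List ℤ) : Bool :=
  inL (ofList x0) && decide (sqNorm (ofList x0) = 32) &&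
    L.all fun bc => decide (dotInt (ofList bc.1) (ofList x0) = bc.2)

/-- One entry of the tree is correct. -/
def chkNode (C : Cert) (X0 k : ℕ) : Bool :=
  forceN (C.tree.get C.ht k) fun E =>
    (Nat.ble C.n (Nat.add k 1) || Nat.blt (E >>> 32) (C.X (Nat.add k 1))) &&
      Bool.rec
        (forceN ((E >>> 16) % 65536) fun p => forceN (C.tree.get C.ht p) fun F =>
          forceN ((E >>> 8) % 256) fun g =>
            Nat.blt ((E >>> 16) % 65536) C.n && Nat.blt (F % 256) (E % 256) && Nat.blt g C.gens.length &&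
              Nat.beq (appWF (C.gens.getD g []) (F >>> 32)) (E >>> 32))
        (Nat.beq (E >>> 32) X0) (Nat.beq (E % 256) 0)

/-- A block of entries is correct. -/
def chkRange (C : Cert) (X0 j : ℕ) : Bool :=
  (List.range 256).all fun i => forceN (Nat.add (Nat.mul 256 j) i) fun k => Nat.ble C.n k || chkNode C X0 k

/-- The listed vectors are at the listed indices of the tree. -/
def chkMatch (C : Cert) : List ℕ → List ℕ → Bool
  | [], _ => true
  | _ :: _, [] => false
  | x :: xs, k :: ks => Nat.blt k C.n && Nat.beq (C.X k) x && chkMatch C xs ks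

theorem mem_chkMatch {C : Cert} : ∀ {xs ks : List ℕ}, chkMatch C xs ks = true → ∀ x ∈ xs, ∃ k, k < C.n ∧ C.X k = x
  | [], _, _, _, hx => by simp at hx
  | _ :: _, [], h, _, _ => by simp [chkMatch] at h
  | x :: xs, k :: ks, h, y, hy => by
    simp only [chkMatch, Bool.and_eq_true, Nat.blt_eq, Nat.beq_eq] at h
    rcases List.mem_cons.1 hy with rfl | hy
    · exact ⟨k, h.1.1, h.1.2⟩
    · exact mem_chkMatch h.2 y hy

/-- The parts of a certificate. -/
structure Checks (L : List (List ℤ × ℤ)) (x0 : List ℤ) (C : Cert) (X0 : ℕ) : Prop where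
  gens : chkGens L C.gens = true
  root : chkRoot L x0 = true
  start : encV (ofList x0) = X0
  spec : chkSpec (combU L) (combC L) C.spec = true
  range : ∀ j, 256 * j < C.n → chkRange C X0 j = true
  odd : ∀ i < 16, ∃ w, chkMatch C (oddPart C.spec i) w = true
  oct : ∀ i < 3, ∃ w, chkMatch C (octPart C.spec i) w = true
  pair : ∃ w, chkMatch C (pairList C.spec) w = true

/-- The conclusion of `chkNode`. -/
theorem node_spec {C : Cert} {X0 : ℕ} {k : ℕ} (hk : k < C.n) (h : ∀ j, 256 * j < C.n → chkRange C X0 j = true) :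
    (k + 1 < C.n → C.X k < C.X (k + 1)) ∧
      (C.depth k = 0 ∧ C.X k = X0 ∨ C.par k < C.n ∧ C.depth (C.par k) < C.depth k ∧ C.gen k < C.gens.length ∧
        appW (C.gens.getD (C.gen k) []) (C.X (C.par k)) = C.X k) := by
  have h1 := h (k / 256) (by omega)
  simp only [chkRange, List.all_eq_true, List.mem_range] at h1
  have h2 := h1 (k % 256) (Nat.mod_lt _ (by norm_num))
  rw [forceN_eq, Nat.add_eq, Nat.mul_eq, Nat.div_add_mod, Bool.or_eq_true, Nat.ble_eq] at h2
  replace h2 := h2.resolve_left (by omega)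
  simp only [chkNode, forceN_eq, appWF_eq, Bool.and_eq_true, Bool.or_eq_true, Nat.ble_eq, Nat.blt_eq,
    Nat.add_eq] at h2
  refine ⟨fun hk1 => h2.1.resolve_left (by omega), ?_⟩
  replace h2 := h2.2
  cases hd : Nat.beq (C.tree.get C.ht k % 256) 0
  · rw [hd] at h2
    simp only [Bool.and_eq_true, Nat.blt_eq, Nat.beq_eq] at h2
    exact Or.inr ⟨h2.1.1.1, h2.1.1.2, h2.1.2, h2.2⟩
  · rw [hd] at h2
    simp only [Nat.beq_eq] at h2 hd
    exact Or.inl ⟨hd, h2⟩

/-- The vectors of norm 32 with the prescribed products. -/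
def shortSet (L : List (List ℤ × ℤ)) : Set leechLattice :=
  {v | sqNorm (v : Vec) = 32 ∧ ∀ bc ∈ L, dotInt (ofList bc.1) (v : Vec) = bc.2}

/-- An automorphism fixes the given vectors. -/
def Fixes (L : List (List ℤ × ℤ)) (g : Co0) : Prop :=
  ∀ bc ∈ L, ∀ w : leechLattice, (w : Vec) = ofList bc.1 → g • w = w

theorem Fixes.mul {L : List (List ℤ × ℤ)} {g h : Co0} (hg : Fixes L g) (hh : Fixes L h) : Fixes L (g * h) :=
  fun bc hbc w hw => by rw [mul_smul, hh bc hbc w hw, hg bc hbc w hw]

theorem Fixes.inv {L : List (List ℤ × ℤ)} {g : Co0} (hg : Fixes L g) : Fixes L g⁻¹ :=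
  fun bc hbc w hw => by rw [inv_smul_eq_iff, hg bc hbc w hw]

theorem fixes_of_chk {L : List (List ℤ × ℤ)} {gens : List (List (ℕ × ℕ))} (h : chkGens L gens = true) {w : List (ℕ × ℕ)}
    (hw : w ∈ gens) : w.all opOk = true ∧ Fixes L (wordG w) := by
  simp only [chkGens, Bool.and_eq_true, List.all_eq_true, decide_eq_true_eq, beq_iff_eq] at h
  obtain ⟨h1, h2⟩ := h.2 w hw
  refine ⟨List.all_eq_true.2 h1, fun bc hbc v hv => Subtype.ext ?_⟩
  have hn : sqNorm (v : Vec) ≤ 64 := hv ▸ (h.1 bc hbc).2
  have := appW_spec (List.all_eq_true.2 h1) v hn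
  rw [hv, h2 bc hbc, ← hv] at this
  exact (encV_inj (small_of_norm hn) (small_of_norm ((co_norm _ _).trans_le hn)) this).symm

theorem reach {L : List (List ℤ × ℤ)} {C : Cert} {x0 : leechLattice} (hn : sqNorm (x0 : Vec) = 32) {X0 : ℕ}
    (h0 : encV (x0 : Vec) = X0) (hg : chkGens L C.gens = true) (hc : ∀ j, 256 * j < C.n → chkRange C X0 j = true) :
    ∀ d k, k < C.n → C.depth k = d → ∃ g, Fixes L g ∧ encV ((g • x0 : leechLattice) : Vec) = C.X k := by
  intro d
  induction d using Nat.strong_induction_on with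
  | _ d ih =>
    intro k hk hd
    rcases (node_spec hk hc).2 with ⟨-, he⟩ | ⟨hp, hdp, hgen, happ⟩
    · exact ⟨1, fun _ _ w _ => one_smul _ w, by rw [one_smul, h0, he]⟩
    · obtain ⟨g, hgf, hgx⟩ := ih _ (hd ▸ hdp) _ hp rfl
      set w := C.gens.getD (C.gen k) [] with hw
      have hmem : w ∈ C.gens := by
        rw [hw, List.getD_eq_getElem _ _ hgen]; exact List.getElem_mem _
      obtain ⟨hop, hwf⟩ := fixes_of_chk hg hmem
      refine ⟨wordG w * g, hwf.mul hgf, ?_⟩
      rw [mul_smul, ← appW_spec hop _ (by rw [co_norm, hn]; norm_num), hgx, happ]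

theorem strictMono_X {C : Cert} {X0 : ℕ} (hc : ∀ j, 256 * j < C.n → chkRange C X0 j = true) {i j : ℕ} (hij : i < j)
    (hj : j < C.n) : C.X i < C.X j := by
  induction hij with
  | refl => exact (node_spec (Nat.lt_of_succ_lt hj) hc).1 hj
  | @step m _ ih => exact (ih (by omega)).trans ((node_spec (show m < C.n by omega) hc).1 hj)

theorem cert_main {L : List (List ℤ × ℤ)} {x0 : List ℤ} {C : Cert} {X0 : ℕ} (h : Checks L x0 C X0) :
    (∀ x ∈ shortSet L, ∀ y ∈ shortSet L, ∃ g, Fixes L g ∧ g • x = y) ∧ (shortSet L).ncard = C.n := by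
  classical
  obtain ⟨hg, hroot, hstart, hspec, hnodes, hodd, hoct, hpair⟩ := h
  simp only [chkRoot, Bool.and_eq_true, decide_eq_true_eq, List.all_eq_true] at hroot
  let r : leechLattice := ⟨ofList x0, mem_of_inL hroot.1.1⟩
  have hr : sqNorm (r : Vec) = 32 := hroot.1.2
  have hbase : ∀ bc ∈ L, ∃ w : leechLattice, (w : Vec) = ofList bc.1 := fun bc hbc => by
    have hg' := hg
    simp only [chkGens, Bool.and_eq_true, List.all_eq_true] at hg'
    exact ⟨⟨_, mem_of_inL (hg'.1 bc hbc).1⟩, rfl⟩
  have hinv : ∀ g, Fixes L g → g • r ∈ shortSet L := fun g hgf => by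
    refine ⟨(co_norm g r).trans hr, fun bc hbc => ?_⟩
    obtain ⟨w, hw⟩ := hbase bc hbc
    have := co_dot g w r
    rw [hgf bc hbc w hw, hw] at this
    exact this.trans (hroot.2 bc hbc)
  choose f hff hfx using fun k : Fin C.n =>
    reach (x0 := r) hr hstart hg hnodes _ k.1 k.2 rfl
  have hsmall : ∀ v ∈ shortSet L, Small ((v : leechLattice) : Vec) := fun v hv => small_of_norm (by rw [hv.1]; norm_num)
  have hrange : shortSet L = Set.range fun k => f k • r := by
    refine Set.Subset.antisymm (fun v hv => ?_) (Set.range_subset_iff.2 fun k => hinv _ (hff k))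
    have hm := mem_shortList (fits_of_chk hspec) v.2 hv.1 (dot_comb (v : Vec) hv.2)
    obtain ⟨k, hk, hX⟩ : ∃ k, k < C.n ∧ C.X k = encV (v : Vec) := by
      rcases shortList_parts hm with ⟨i, hi, hx⟩ | ⟨i, hi, hx⟩ | hx
      · obtain ⟨w, hw⟩ := hodd i hi; exact mem_chkMatch hw _ hx
      · obtain ⟨w, hw⟩ := hoct i hi; exact mem_chkMatch hw _ hx
      · obtain ⟨w, hw⟩ := hpair; exact mem_chkMatch hw _ hx
    refine ⟨⟨_, hk⟩, Subtype.ext (encV_inj (hsmall _ (hinv _ (hff _))) (hsmall v hv) ?_)⟩
    rw [hfx]; exact hX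
  have hinj : Function.Injective fun k => f k • r := fun i j e => by
    have hij : C.X i.1 = C.X j.1 := by
      rw [← hfx i, ← hfx j]; exact congrArg (fun v : leechLattice => encV (v : Vec)) e
    rcases lt_trichotomy i.1 j.1 with hl | hl | hl
    · exact absurd hij (strictMono_X hnodes hl j.2).ne
    · exact Fin.ext hl
    · exact absurd hij (strictMono_X hnodes hl i.2).ne'
  refine ⟨fun x hx y hy => ?_, ?_⟩
  · rw [hrange] at hx hy
    obtain ⟨i, rfl⟩ := hx
    obtain ⟨j, rfl⟩ := hy
    exact ⟨f j * (f i)⁻¹, (hff j).mul (hff i).inv, by rw [mul_smul, inv_smul_smul]⟩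
  · rw [hrange, ← Set.image_univ, Set.ncard_image_of_injective _ hinj, Set.ncard_univ, Nat.card_fin]

end Cfsg.Agent.Spor.Leech
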