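import Cfsg.Agent.Lib.Spor.Leech.Count

/-!
The numbers of members of the three smallest nonzero norms.
-/

set_option autoImplicit false
set_option maxRecDepth 100000

namespace Cfsg.Agent.Spor.Leech

open Cfsg

theorem finite_norm (N : ℤ) : {x : Vec | sqNorm x = N}.Finite := by
  refine Set.Finite.subset (Set.Finite.pi' fun _ => Set.finite_Icc (-N) N) fun x hx i => ?_
  have h := Finset.single_le_sum (f := fun j => x j ^ 2) (fun j _ => sq_nonneg (x j)) (Finset.mem_univ i)
  have hN : sqNorm x = N := hx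
  unfold sqNorm at hN
  have h1 : x i ≤ x i ^ 2 := Int.le_self_sq _
  have h2 : -x i ≤ (-x i) ^ 2 := Int.le_self_sq _
  rw [neg_sq] at h2
  exact Set.mem_Icc.2 ⟨by omega, by omega⟩

theorem norm_split {N : ℤ} {k j : ℕ} (hk : k ≤ 16) (hj : j ≤ 5) (h1 : N = 4 * (k : ℤ)) (h2 : N = 24 + 8 * (j : ℤ)) :
    {x : Vec | x ∈ leechLattice ∧ sqNorm x = N} = evenSet evenVals k ∪ oddSet oddVals j := by
  ext x
  rw [Set.mem_union, evenSet_iff hk, oddSet_iff hj, Set.mem_setOf_eq, ← h1, ← h2]
  constructor
  · rintro ⟨a, b⟩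
    rcases Int.emod_two_eq_zero_or_one (x none) with h | h
    · exact Or.inl ⟨a, b, h⟩
    · exact Or.inr ⟨a, b, h⟩
  · rintro (⟨a, b, -⟩ | ⟨a, b, -⟩) <;> exact ⟨a, b⟩

theorem ncard_norm {N : ℤ} {k j : ℕ} (hk : k ≤ 16) (hj : j ≤ 5) (h1 : N = 4 * (k : ℤ)) (h2 : N = 24 + 8 * (j : ℤ)) :
    {x : Vec | x ∈ leechLattice ∧ sqNorm x = N}.ncard =
      (evenSet evenVals k).ncard + (oddSet oddVals j).ncard := by
  have hs := norm_split hk hj h1 h2
  have hfin : ∀ {S : Set Vec}, S ⊆ {x : Vec | x ∈ leechLattice ∧ sqNorm x = N} → S.Finite := fun h =>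
    ((finite_norm N).subset fun x hx => hx.2).subset h
  have hd : Disjoint (evenSet evenVals k) (oddSet oddVals j) := by
    rw [Set.disjoint_left]
    intro x hx hx'
    have a := ((evenSet_iff hk).1 hx).2.2
    have b := ((oddSet_iff hj).1 hx').2.2
    omega
  rw [hs, Set.ncard_union_eq hd (hfin (hs ▸ Set.subset_union_left)) (hfin (hs ▸ Set.subset_union_right))]

theorem evenVals_nodup : ∀ b, (evenVals b).Nodup := by decide

theorem evenVals_parity : ∀ b, ∀ v ∈ evenVals b, v % 2 = if b then 1 else 0 := by decide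

/-- Sums over the code by weight. -/
theorem sum_by_weight (F : ℕ → ℕ) : (Golay.codeList.map fun m => F (Golay.pop m)).sum =
    1 * F 0 + 759 * F 8 + 2576 * F 12 + 759 * F 16 + 1 * F 24 := by
  have key : ∀ l : List ℕ, (∀ m ∈ l, Golay.pop m = 0 ∨ Golay.pop m = 8 ∨ Golay.pop m = 12 ∨ Golay.pop m = 16 ∨
      Golay.pop m = 24) → (l.map fun m => F (Golay.pop m)).sum =
        l.countP (fun m => Golay.pop m == 0) * F 0 + l.countP (fun m => Golay.pop m == 8) * F 8 +
          l.countP (fun m => Golay.pop m == 12) * F 12 + l.countP (fun m => Golay.pop m == 16) * F 16 +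
          l.countP (fun m => Golay.pop m == 24) * F 24 := by
    intro l
    induction l with
    | nil => simp
    | cons m l ih =>
      intro h
      simp only [List.map_cons, List.sum_cons, List.countP_cons, ih fun x hx => h x (List.mem_cons_of_mem _ hx)]
      rcases h m (List.mem_cons_self ..) with e | e | e | e | e <;> simp [e] <;> ring
  rw [key _ fun m hm => Golay.pop_code hm]
  have hc : [Golay.codeList.countP (fun m => Golay.pop m == 0), Golay.codeList.countP (fun m => Golay.pop m == 8),
      Golay.codeList.countP (fun m => Golay.pop m == 12), Golay.codeList.countP (fun m => Golay.pop m == 16),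
      Golay.codeList.countP (fun m => Golay.pop m == 24)] = [1, 759, 2576, 759, 1] := by decide +kernel
  simp only [List.cons.injEq, and_true] at hc
  rw [hc.1, hc.2.1, hc.2.2.1, hc.2.2.2.1, hc.2.2.2.2]

theorem ncard_evenSet_weights (V : Bool → List ℤ) (hV : ∀ b, (V b).Nodup)
    (hp : ∀ b, ∀ v ∈ V b, v % 2 = if b then 1 else 0) (k : ℕ) :
    (evenSet V k).ncard = 1 * (tab sq k (byWeight V 0)).getD (4 * k) 0 +
      759 * (tab sq k (byWeight V 8)).getD (4 * k) 0 + 2576 * (tab sq k (byWeight V 12)).getD (4 * k) 0 +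
      759 * (tab sq k (byWeight V 16)).getD (4 * k) 0 + 1 * (tab sq k (byWeight V 24)).getD (4 * k) 0 := by
  rw [ncard_evenSet V hV hp]
  exact sum_by_weight fun p => (tab sq k (byWeight V p)).getD (4 * k) 0

theorem ncard_32 : {x : Vec | x ∈ leechLattice ∧ sqNorm x = 32}.ncard = 196560 := by
  rw [ncard_norm (k := 8) (j := 1) (by norm_num) (by norm_num) (by norm_num) (by norm_num),
    ncard_evenSet_weights evenVals evenVals_nodup evenVals_parity, ncard_oddSet oddVals (by decide)]
  decide +kernel

theorem ncard_48 : {x : Vec | x ∈ leechLattice ∧ sqNorm x = 48}.ncard = 16773120 := by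
  rw [ncard_norm (k := 12) (j := 3) (by norm_num) (by norm_num) (by norm_num) (by norm_num),
    ncard_evenSet_weights evenVals evenVals_nodup evenVals_parity, ncard_oddSet oddVals (by decide)]
  decide +kernel

theorem ncard_64 : {x : Vec | x ∈ leechLattice ∧ sqNorm x = 64}.ncard = 398034000 := by
  rw [ncard_norm (k := 16) (j := 5) (by norm_num) (by norm_num) (by norm_num) (by norm_num),
    ncard_evenSet_weights evenVals evenVals_nodup evenVals_parity, ncard_oddSet oddVals (by decide)]
  decide +kernel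

end Cfsg.Agent.Spor.Leech
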