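import Cfsg.Agent.Lib.Spor.Leech.Packed
import Cfsg.Agent.Lib.Spor.Leech.Shapes
import Cfsg.Agent.Lib.Spor.Leech.CodeLit

/-!
An enumeration, suitable for evaluation, of the vectors of norm 32 with a prescribed product with a fixed vector.
-/

set_option autoImplicit false
set_option maxRecDepth 100000

namespace Cfsg.Agent.Spor.Leech

open Cfsg

/-- Whether bit `i` is set. -/
def bitB (m i : ℕ) : Bool := Nat.beq (Nat.land (Nat.shiftRight m i) 1) 1

/-- The data of one product condition: the coordinates raised by `K` with their positions, the values taken, and the sum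
of the coordinates and the prescribed product, both raised by `O`. -/
structure Spec where
  P : List (ℕ × ℕ)
  vals : List ℕ
  K : ℕ
  O : ℕ
  T : ℕ
  c : ℕ

/-- The sum over the points of a word. -/
def wsum (m : ℕ) (P : List (ℕ × ℕ)) : ℕ :=
  List.rec 0 (fun q _ acc => Bool.rec acc (Nat.add q.2 acc) (bitB m q.1)) P

/-- The packed odd vector of a code word and a position. -/
def oddX (m i : ℕ) : ℕ :=
  Golay.pack 24 fun j => if m.testBit j then (if j = i then 19 else 15) else (if j = i then 13 else 17)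

/-- Whether a value at a point of the word gives the product. -/
def hitIn (A B K v : ℕ) : Bool := Nat.beq (Nat.add A (Nat.mul 4 v)) (Nat.add B (Nat.mul 4 K))

/-- Whether a value at a point outside the word gives the product. -/
def hitOut (A B K v : ℕ) : Bool := Nat.beq (Nat.add A (Nat.mul 4 K)) (Nat.add B (Nat.mul 4 v))

/-- The odd vectors of one word with the prescribed product. -/
def oddOne (S : Spec) (m A B : ℕ) : List ℕ :=
  Bool.rec []
    (List.rec [] (fun q _ acc => Bool.rec acc (oddX m q.1 :: acc)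
      (Bool.rec (hitOut A B S.K q.2) (hitIn A B S.K q.2) (bitB m q.1))) S.P)
    (S.vals.any fun v => hitIn A B S.K v || hitOut A B S.K v)

/-- The odd vectors with the prescribed product. -/
def oddList (S : Spec) : List ℕ :=
  codeW.flatMap fun q =>
    oddOne S q.1 (Nat.add S.T (Nat.mul (Nat.mul 2 S.K) q.2)) (Nat.add S.c (Nat.mul 2 (wsum q.1 S.P)))

/-- The blocks of the code. -/
def codePart : ℕ → List (ℕ × ℕ)
  | 0 => codeW0 | 1 => codeW1 | 2 => codeW2 | 3 => codeW3 | 4 => codeW4 | 5 => codeW5 | 6 => codeW6 | 7 => codeW7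
  | 8 => codeW8 | 9 => codeW9 | 10 => codeW10 | 11 => codeW11 | 12 => codeW12 | 13 => codeW13 | 14 => codeW14
  | 15 => codeW15 | _ => []

/-- The odd vectors of one block. -/
def oddPart (S : Spec) (i : ℕ) : List ℕ :=
  (codePart i).flatMap fun q =>
    forceN (Nat.add S.T (Nat.mul (Nat.mul 2 S.K) q.2)) fun A =>
      forceN (Nat.add S.c (Nat.mul 2 (wsum q.1 S.P))) fun B => oddOne S q.1 A B

/-- The choices of signs on a list of positions. -/
def branch (L R K : ℕ) (Q : List (ℕ × ℕ)) : ℕ → ℕ → ℕ → List ℕ :=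
  List.rec (fun X N k => Bool.rec [] [X]
      (Nat.beq (Nat.mod k 2) 0 && Nat.beq (Nat.add L (Nat.mul 4 N)) (Nat.add R (Nat.mul 4 (Nat.mul k K)))))
    (fun q _ ih X N k => ih (Nat.add X (Nat.shiftLeft 18 (Nat.mul 5 q.1))) N k ++
      ih (Nat.add X (Nat.shiftLeft 14 (Nat.mul 5 q.1))) (Nat.add N q.2) (Nat.add k 1)) Q

/-- The vectors supported by an octad with the prescribed product. -/
def octList' (S : Spec) : List ℕ :=
  octW.flatMap fun m =>
    branch (Nat.add S.c (Nat.mul 16 S.K)) (Nat.add (Nat.mul 2 (wsum m S.P)) S.O) S.K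
      (List.rec [] (fun q _ acc => Bool.rec acc (q :: acc) (bitB m q.1)) S.P)
      (Golay.pack 24 fun j => if m.testBit j then 0 else 16) 0 0

/-- The blocks of the octads. -/
def octPartL : ℕ → List ℕ
  | 0 => octW0 | 1 => octW1 | 2 => octW2 | _ => []

/-- The vectors supported by the octads of one block. -/
def octPart (S : Spec) (i : ℕ) : List ℕ :=
  (octPartL i).flatMap fun m =>
    forceN (Nat.add S.c (Nat.mul 16 S.K)) fun L => forceN (Nat.add (Nat.mul 2 (wsum m S.P)) S.O) fun R =>
      branch L R S.K (List.rec [] (fun q _ acc => Bool.rec acc (q :: acc) (bitB m q.1)) S.P)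
        (Golay.pack 24 fun j => if m.testBit j then 0 else 16) 0 0

/-- The packed vector with two nonzero entries. -/
def pairX (i j a b : ℕ) : ℕ := Golay.pack 24 fun k => if k = i then a else if k = j then b else 16

/-- The vectors with two nonzero entries and the prescribed product. -/
def pairList (S : Spec) : List ℕ :=
  S.P.flatMap fun p => S.P.flatMap fun q =>
    Bool.rec []
      ((Bool.rec [] [pairX p.1 q.1 20 20]
          (Nat.beq (Nat.add (Nat.mul 4 (Nat.add p.2 q.2)) S.O) (Nat.add S.c (Nat.mul 8 S.K)))) ++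
        (Bool.rec [] [pairX p.1 q.1 20 12]
          (Nat.beq (Nat.add (Nat.mul 4 p.2) S.O) (Nat.add S.c (Nat.mul 4 q.2)))) ++
        (Bool.rec [] [pairX p.1 q.1 12 20]
          (Nat.beq (Nat.add (Nat.mul 4 q.2) S.O) (Nat.add S.c (Nat.mul 4 p.2)))) ++
        (Bool.rec [] [pairX p.1 q.1 12 12]
          (Nat.beq (Nat.add S.O (Nat.mul 8 S.K)) (Nat.add S.c (Nat.mul 4 (Nat.add p.2 q.2))))))
      (Nat.blt p.1 q.1)

/-- All the vectors with the prescribed product. -/
def shortList (S : Spec) : List ℕ := oddList S ++ octList' S ++ pairList S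

/-- The data agree with a list of coordinates and a product. -/
def chkSpec (U : List ℤ) (c : ℤ) (S : Spec) : Bool :=
  ((List.range 24).map (fun i => (i, (U.getD i 0 + (S.K : ℤ)).toNat)) == S.P) &&
    ((List.range 24).all fun i => decide (0 ≤ U.getD i 0 + (S.K : ℤ))) &&
    (S.P.all fun q => S.vals.contains q.2) &&
    decide ((S.T : ℤ) = ((List.range 24).map fun i => U.getD i 0).sum + (S.O : ℤ)) &&
    decide ((S.c : ℤ) = c + (S.O : ℤ))

theorem sum_range_idx {M : Type*} [AddCommMonoid M] (f : ℕ → M) :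
    ((List.range 24).map f).sum = ∑ p : GolayPt, f (Golay.idx p) := by
  rw [← List.sum_toFinset _ List.nodup_range, List.toFinset_range]
  exact (Finset.sum_bij (fun p _ => Golay.idx p) (fun p _ => Finset.mem_range.2 (Golay.idx_lt p))
    (fun p _ q _ h => Golay.idx_injective h)
    (fun i hi => ⟨Golay.pt i, Finset.mem_univ _, Golay.idx_pt (Finset.mem_range.1 hi)⟩) fun p _ => rfl).symm

/-- The data are those of a vector and a product. -/
structure Fits (U : Vec) (c : ℤ) (S : Spec) : Prop where
  pair : ∃ f : ℕ → ℕ, S.P = (List.range 24).map (fun i => (i, f i)) ∧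
    (∀ p, (f (Golay.idx p) : ℤ) = U p + (S.K : ℤ))
  val : ∀ q ∈ S.P, q.2 ∈ S.vals
  tot : (S.T : ℤ) = ∑ p, U p + (S.O : ℤ)
  prod : (S.c : ℤ) = c + (S.O : ℤ)

theorem fits_of_chk {U : List ℤ} {c : ℤ} {S : Spec} (h : chkSpec U c S = true) : Fits (ofList U) c S := by
  simp only [chkSpec, Bool.and_eq_true, beq_iff_eq, List.all_eq_true, List.mem_range, decide_eq_true_eq,
    List.contains_iff_mem] at h
  obtain ⟨⟨⟨⟨hP, hpos⟩, hv⟩, hT⟩, hc⟩ := h
  refine ⟨⟨_, hP.symm, fun p => Int.toNat_of_nonneg (hpos _ (Golay.idx_lt p))⟩, hv, ?_, hc⟩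
  rw [hT, sum_range_idx]
  rfl

theorem bitB_eq (m i : ℕ) : bitB m i = m.testBit i := by
  have e : bitB m i = Nat.beq ((m >>> i) &&& 1) 1 := rfl
  rw [e, Nat.and_one_is_mod, Nat.testBit_eq_decide_div_mod_eq, Nat.shiftRight_eq_div_pow]
  rcases Nat.mod_two_eq_zero_or_one (m / 2 ^ i) with h | h <;> rw [h] <;> rfl

theorem wsum_eq (m : ℕ) : ∀ P : List (ℕ × ℕ), wsum m P = (P.map fun q => if m.testBit q.1 then q.2 else 0).sum
  | [] => rfl
  | q :: P => by
    have e : wsum m (q :: P) = Bool.rec (wsum m P) (q.2 + wsum m P) (bitB m q.1) := rfl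
    rw [e, bitB_eq, List.map_cons, List.sum_cons, ← wsum_eq m P]
    cases m.testBit q.1 <;> simp

theorem mem_sel {α β : Type} (p : α → Bool) (g : α → β) : ∀ (l : List α) (a : α), a ∈ l → p a = true →
    g a ∈ (List.rec (motive := fun _ => List β) [] (fun q _ acc => Bool.rec acc (g q :: acc) (p q)) l : List β)
  | [], _, h, _ => by simp at h
  | b :: l, a, h, hp => by
    rcases List.mem_cons.1 h with rfl | h
    · simp [hp]
    · have := mem_sel p g l a h hp
      cases hb : p b <;> simp [hb, this]

theorem filter_rec (m : ℕ) : ∀ l : List (ℕ × ℕ),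
    (List.rec (motive := fun _ => List (ℕ × ℕ)) [] (fun q _ acc => Bool.rec acc (q :: acc) (bitB m q.1)) l :
      List (ℕ × ℕ)) = l.filter fun q => m.testBit q.1
  | [] => rfl
  | q :: l => by
    rw [List.filter_cons, ← filter_rec m l]
    cases h : bitB m q.1 <;> simp [h, ← bitB_eq]

theorem wsum_cast {U : Vec} {c : ℤ} {S : Spec} (hS : Fits U c S) (m : ℕ) :
    (wsum m S.P : ℤ) = (∑ p, if p ∈ Golay.pts m then U p else 0) + (S.K : ℤ) * (Golay.pop m : ℤ) := by
  obtain ⟨f, hP, hf⟩ := hS.pair
  rw [wsum_eq, hP, List.map_map, sum_range_idx, ← Golay.card_pts, Finset.card_eq_sum_ones, Nat.cast_sum, Nat.cast_sum,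
    Finset.mul_sum, ← Finset.sum_ite_mem_eq (Golay.pts m), ← Finset.sum_add_distrib]
  refine Finset.sum_congr rfl fun p _ => ?_
  simp only [Function.comp_def, Golay.mem_pts]
  split_ifs <;> simp [hf]

theorem mem_oddOne (S : Spec) {m A B : ℕ} {q : ℕ × ℕ} (hq : q ∈ S.P) (hv : q.2 ∈ S.vals)
    (h : (Bool.rec (hitOut A B S.K q.2) (hitIn A B S.K q.2) (bitB m q.1) : Bool) = true) :
    oddX m q.1 ∈ oddOne S m A B := by
  have hany : (S.vals.any fun v => hitIn A B S.K v || hitOut A B S.K v) = true := by
    refine List.any_eq_true.2 ⟨_, hv, ?_⟩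
    revert h
    cases bitB m q.1 <;> intro h <;> simp [h]
  unfold oddOne
  rw [hany]
  exact mem_sel (fun q : ℕ × ℕ => (Bool.rec (hitOut A B S.K q.2) (hitIn A B S.K q.2) (bitB m q.1) : Bool))
    (fun q => oddX m q.1) S.P q hq h

theorem mem_oddList {U : Vec} {c : ℤ} {S : Spec} (hS : Fits U c S) {v : Vec} (hv : v ∈ leechLattice)
    (hn : sqNorm v = 32) (h1 : v none % 2 = 1) (hd : dotInt U v = c) : encV v ∈ oddList S := by
  classical
  obtain ⟨s, hs, b, rfl, hk, -, hvals⟩ := (oddSet_iff (k := 1) (by norm_num)).2 ⟨hv, by rw [hn]; norm_num, h1⟩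
  obtain ⟨m, hm, rfl⟩ := Golay.mem_supports.1 hs
  have hv' : ∀ i, b i = 0 ∨ b i = -1 ∨ b i = 1 := fun i => by simpa [oddVals] using hvals i
  obtain ⟨p, hp⟩ : ∃ p, oddCost (b p) ≠ 0 := by
    by_contra h
    simp only [not_exists, not_not] at h
    simp [h] at hk
  have h1 := Finset.add_sum_erase Finset.univ (fun i => oddCost (b i)) (Finset.mem_univ p)
  rw [hk] at h1
  have hb : ∀ q, b q = if q = p then -1 else 0 := fun q => by
    split_ifs with h
    · subst h
      rcases hv' q with e | e | e <;> rw [e] at hp h1 <;> simp [oddCost] at hp h1 ⊢ <;>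
        first | exact e | omega
    · have hrest := Finset.single_le_sum (f := fun i => oddCost (b i)) (fun i _ => Nat.zero_le _)
        (Finset.mem_erase.2 ⟨h, Finset.mem_univ q⟩)
      have h0 : oddCost (b q) = 0 := by
        have := Nat.pos_of_ne_zero hp
        omega
      rcases hv' q with e | e | e <;> rw [e] at h0 <;> simp [oddCost] at h0
      exact e
  obtain ⟨f, hP, hf⟩ := hS.pair
  have hmem : (Golay.idx p, f (Golay.idx p)) ∈ S.P := hP ▸ List.mem_map.2 ⟨_, List.mem_range.2 (Golay.idx_lt p), rfl⟩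
  rw [oddList, List.mem_flatMap]
  refine ⟨_, mem_codeW hm, ?_⟩
  set x : Vec := flip (Golay.pts m) fun i => 1 + 4 * b i with hx
  have hdot : dotInt U x = (∑ q, U q) - 2 * (∑ q, if q ∈ Golay.pts m then U q else 0) +
      (if p ∈ Golay.pts m then 4 * U p else -(4 * U p)) := by
    rw [← Fintype.sum_ite_eq' p (fun q => if q ∈ Golay.pts m then 4 * U q else -(4 * U q)), Finset.mul_sum,
      ← Finset.sum_sub_distrib, ← Finset.sum_add_distrib, dotInt]
    refine Finset.sum_congr rfl fun q _ => ?_
    simp only [hx, flip, hb q]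
    split_ifs <;> ring
  rw [hd] at hdot
  have hw := wsum_cast hS m
  have hT := hS.tot
  have hC := hS.prod
  have hfp := hf p
  have hhit : (Bool.rec (hitOut (S.T + 2 * S.K * Golay.pop m) (S.c + 2 * wsum m S.P) S.K (f (Golay.idx p)))
      (hitIn (S.T + 2 * S.K * Golay.pop m) (S.c + 2 * wsum m S.P) S.K (f (Golay.idx p)))
        (bitB m (Golay.idx p)) : Bool) = true := by
    rw [bitB_eq]
    cases hbit : m.testBit (Golay.idx p)
    · rw [if_neg (by simp [Golay.mem_pts, hbit])] at hdot
      simp only [hitOut, Nat.beq_eq, Nat.add_eq, Nat.mul_eq]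
      zify
      linarith
    · rw [if_pos (by simp [Golay.mem_pts, hbit])] at hdot
      simp only [hitIn, Nat.beq_eq, Nat.add_eq, Nat.mul_eq]
      zify
      linarith
  have hx' : encV x = oddX m (Golay.idx p) := by
    refine pack_congr 24 _ _ fun j hj => ?_
    have e : j = Golay.idx p ↔ Golay.pt j = p := by
      constructor
      · rintro rfl; exact Golay.pt_idx p
      · rintro rfl; exact (Golay.idx_pt hj).symm
    simp only [hx, flip, hb, Golay.mem_pts, Golay.idx_pt hj, e]
    split_ifs <;> rfl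
  rw [hx']
  dsimp only
  generalize Golay.pop m = w at hhit ⊢
  generalize wsum m S.P = W at hhit ⊢
  simp only [Nat.add_eq, Nat.mul_eq]
  exact mem_oddOne S (q := (Golay.idx p, f (Golay.idx p))) hmem (hS.val _ hmem) hhit

theorem mem_pairList {U : Vec} {c : ℤ} {S : Spec} (hS : Fits U c S) {v : Vec} {i j : GolayPt}
    (hij : Golay.idx i < Golay.idx j) (hi : v i = 4 ∨ v i = -4) (hj : v j = 4 ∨ v j = -4)
    (h0 : ∀ q, q ≠ i → q ≠ j → v q = 0) (hd : dotInt U v = c) : encV v ∈ pairList S := by
  have hne : i ≠ j := fun e => by rw [e] at hij; omega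
  have hdot : dotInt U v = U i * v i + U j * v j := by
    rw [dotInt, ← Finset.sum_subset (Finset.subset_univ {i, j}) fun q _ hq => by
      rw [Finset.mem_insert, Finset.mem_singleton, not_or] at hq
      rw [h0 q hq.1 hq.2, mul_zero], Finset.sum_pair hne]
  rw [hd] at hdot
  obtain ⟨f, hP, hf⟩ := hS.pair
  have hmem : ∀ p : GolayPt, (Golay.idx p, f (Golay.idx p)) ∈ S.P := fun p =>
    hP ▸ List.mem_map.2 ⟨_, List.mem_range.2 (Golay.idx_lt p), rfl⟩
  have he : encV v = pairX (Golay.idx i) (Golay.idx j) (v i + 16).toNat (v j + 16).toNat := by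
    refine pack_congr 24 _ _ fun k hk => ?_
    split_ifs with h h'
    · subst h; rw [Golay.pt_idx]
    · subst h'; rw [Golay.pt_idx]
    · rw [h0 (Golay.pt k) (fun e => h (by rw [← e, Golay.idx_pt hk]))
        (fun e => h' (by rw [← e, Golay.idx_pt hk]))]
      rfl
  simp only [pairList, List.mem_flatMap]
  refine ⟨_, hmem i, _, hmem j, ?_⟩
  have hC := hS.prod
  have hlt : Nat.blt (Golay.idx i) (Golay.idx j) = true := by
    simp only [Nat.blt_eq]; exact hij
  rw [hlt, he]
  have key : ∀ {a b : ℕ} {X : ℕ}, a = b → X ∈ (Bool.rec [] [X] (Nat.beq a b) : List ℕ) := fun {a b X} h => by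
    subst h; simp [Nat.beq_refl]
  have hfi := hf i
  have hfj := hf j
  simp only [List.mem_append]
  rcases hi with h | h <;> rcases hj with h' | h' <;> rw [h, h'] at hdot <;> rw [h, h']
  · left; left; left
    refine key ?_
    simp only [Nat.add_eq, Nat.mul_eq]; zify; linarith
  · left; left; right
    refine key ?_
    simp only [Nat.add_eq, Nat.mul_eq]; zify; linarith
  · left; right
    refine key ?_
    simp only [Nat.add_eq, Nat.mul_eq]; zify; linarith
  · right
    refine key ?_
    simp only [Nat.add_eq, Nat.mul_eq]; zify; linarith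

theorem mem_branch (L R K : ℕ) (f : ℕ → Bool) : ∀ (Q : List (ℕ × ℕ)) (X N k : ℕ),
    (k + (Q.map fun q => if f q.1 then 1 else 0).sum) % 2 = 0 →
    L + 4 * (N + (Q.map fun q => if f q.1 then q.2 else 0).sum) =
      R + 4 * ((k + (Q.map fun q => if f q.1 then 1 else 0).sum) * K) →
    X + (Q.map fun q => (if f q.1 then 14 else 18) * 32 ^ q.1).sum ∈ branch L R K Q X N k
  | [], X, N, k, h, h' => by
    simp only [List.map_nil, List.sum_nil, add_zero] at h h' ⊢
    simp [branch, show Nat.mod k 2 = k % 2 from rfl, h, h']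
  | q :: Q, X, N, k, h, h' => by
    simp only [List.map_cons, List.sum_cons] at h h' ⊢
    have e : ∀ o : ℕ, Nat.shiftLeft o (Nat.mul 5 q.1) = o * 32 ^ q.1 := fun o => by
      show o <<< (5 * q.1) = _
      rw [Nat.shiftLeft_eq, pow_mul]; norm_num
    have er : branch L R K (q :: Q) X N k = branch L R K Q (X + Nat.shiftLeft 18 (Nat.mul 5 q.1)) N k ++
        branch L R K Q (X + Nat.shiftLeft 14 (Nat.mul 5 q.1)) (N + q.2) (k + 1) := rfl
    rw [er, List.mem_append, e, e]
    cases hj : f q.1 <;> simp only [hj, Bool.false_eq_true, if_false, if_true, zero_add] at h h' ⊢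
    · left; rw [← add_assoc]
      exact mem_branch L R K f Q _ _ _ h h'
    · right; rw [← add_assoc]
      exact mem_branch L R K f Q _ _ _ (by rwa [← add_assoc] at h) (by simpa [add_assoc] using h')

theorem pack_eq_sum : ∀ (n : ℕ) (f : ℕ → ℕ), Golay.pack n f = ∑ i ∈ Finset.range n, f i * 32 ^ i
  | 0, f => rfl
  | n + 1, f => by
    rw [Golay.pack, pack_eq_sum n, Finset.sum_range_succ', Finset.mul_sum]
    simp only [pow_succ, pow_zero, mul_one]
    rw [add_comm]
    congr 1
    exact Finset.sum_congr rfl fun i _ => by ring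

theorem sum_filter_map {α M : Type*} [AddCommMonoid M] (p : α → Bool) (g : α → M) :
    ∀ l : List α, ((l.filter p).map g).sum = (l.map fun a => if p a then g a else 0).sum
  | [] => rfl
  | a :: l => by
    cases h : p a <;> simp [h, sum_filter_map p g l]

theorem pack_eq_univ (f : ℕ → ℕ) : Golay.pack 24 f = ∑ p : GolayPt, f (Golay.idx p) * 32 ^ Golay.idx p := by
  rw [pack_eq_sum, ← sum_range_idx fun i => f i * 32 ^ i, ← List.sum_toFinset _ List.nodup_range,
    List.toFinset_range]

theorem mem_octList {U : Vec} {c : ℤ} {S : Spec} (hS : Fits U c S) {a : Vec} {m : ℕ} (hm : m ∈ Golay.codeList)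
    (hpop : Golay.pop m = 8) (ha : ∀ p, if p ∈ Golay.pts m then a p = 1 ∨ a p = -1 else a p = 0)
    (h4 : (4 : ℤ) ∣ ∑ p, a p) (hd : dotInt U (fun p => 2 * a p) = c) :
    encV (fun p => 2 * a p) ∈ octList' S := by
  classical
  simp only [Golay.mem_pts] at ha
  let g : ℕ → Bool := fun i => decide (a (Golay.pt i) = -1)
  have hg : ∀ p, g (Golay.idx p) = decide (a p = -1) := fun p => by simp only [g, Golay.pt_idx]
  obtain ⟨f, hP, hf⟩ := hS.pair
  have hQ : ∀ G : ℕ × ℕ → ℕ, ((S.P.filter fun q => m.testBit q.1).map G).sum =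
      ∑ p : GolayPt, if m.testBit (Golay.idx p) then G (Golay.idx p, f (Golay.idx p)) else 0 := fun G => by
    rw [sum_filter_map, hP, List.map_map, sum_range_idx]
    rfl
  set ind : GolayPt → ℕ := fun p => if m.testBit (Golay.idx p) then (if g (Golay.idx p) then 1 else 0) else 0
    with hind
  have hdot : c = 2 * (∑ p, if p ∈ Golay.pts m then U p else 0) - 4 * ∑ p, U p * (ind p : ℤ) := by
    rw [← hd, dotInt, Finset.mul_sum, Finset.mul_sum, ← Finset.sum_sub_distrib]
    refine Finset.sum_congr rfl fun p _ => ?_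
    have := ha p
    simp only [hind, hg, decide_eq_true_eq, Golay.mem_pts]
    split_ifs at this ⊢ with h1 h2
    · rw [h2]; push_cast; ring
    · rw [this.resolve_right h2]; push_cast; ring
    · rw [this]; push_cast; ring
  rw [octList', List.mem_flatMap]
  refine ⟨m, mem_octW hm hpop, ?_⟩
  rw [filter_rec]
  have key := mem_branch (Nat.add S.c (Nat.mul 16 S.K)) (Nat.add (Nat.mul 2 (wsum m S.P)) S.O) S.K g
    (S.P.filter fun q => m.testBit q.1) (Golay.pack 24 fun j => if m.testBit j then 0 else 16) 0 0 ?_ ?_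
  · convert key using 1
    rw [hQ, encV, pack_eq_univ, pack_eq_univ, ← Finset.sum_add_distrib]
    refine Finset.sum_congr rfl fun p _ => ?_
    have := ha p
    simp only [hg, decide_eq_true_eq, Golay.pt_idx]
    split_ifs at this ⊢ with h1 h2
    · rw [h2]; norm_num; rfl
    · rw [this.resolve_right h2]; norm_num; rfl
    · rw [this]; norm_num; rfl
  · rw [zero_add, hQ]
    dsimp only
    rw [show (∑ p : GolayPt, if m.testBit (Golay.idx p) then (if g (Golay.idx p) then 1 else 0) else 0) =
      ∑ p, ind p from rfl]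
    have hs : ∑ p, a p = ∑ p : GolayPt, ((if p ∈ Golay.pts m then (1 : ℤ) else 0) - 2 * (ind p : ℤ)) := by
      refine Finset.sum_congr rfl fun p _ => ?_
      have := ha p
      simp only [hind, hg, decide_eq_true_eq, Golay.mem_pts]
      split_ifs at this ⊢ with h1 h2
      · rw [h2]; norm_num
      · rw [this.resolve_right h2]; norm_num
      · rw [this]; norm_num
    rw [Finset.sum_sub_distrib, ← Finset.mul_sum, ← Nat.cast_sum] at hs
    have h8 : (∑ p : GolayPt, if p ∈ Golay.pts m then (1 : ℤ) else 0) = 8 := by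
      simp [Golay.card_pts, hpop]
    omega
  · rw [zero_add, zero_add, hQ, hQ]
    dsimp only
    have hw := wsum_cast hS m
    rw [hpop] at hw
    push_cast at hw
    have hC := hS.prod
    have e1 : ((∑ p : GolayPt, if m.testBit (Golay.idx p) then (if g (Golay.idx p) then f (Golay.idx p) else 0)
        else 0 : ℕ) : ℤ) = ∑ p, U p * (ind p : ℤ) + (S.K : ℤ) * ∑ p, (ind p : ℤ) := by
      rw [Nat.cast_sum, Finset.mul_sum, ← Finset.sum_add_distrib]
      refine Finset.sum_congr rfl fun p _ => ?_
      simp only [hind]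
      split_ifs <;> simp [hf]
    rw [show (∑ p : GolayPt, if m.testBit (Golay.idx p) then (if g (Golay.idx p) then 1 else 0) else 0) =
      ∑ p, ind p from rfl]
    simp only [Nat.add_eq, Nat.mul_eq]
    zify at e1 ⊢
    linarith

theorem mem_shortList {U : Vec} {c : ℤ} {S : Spec} (hS : Fits U c S) {v : Vec} (hv : v ∈ leechLattice)
    (hn : sqNorm v = 32) (hd : dotInt U v = c) : encV v ∈ shortList S := by
  classical
  simp only [shortList, List.mem_append]
  rcases Int.emod_two_eq_zero_or_one (v none) with h | h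
  swap
  · exact Or.inl (Or.inl (mem_oddList hS hv hn h hd))
  obtain ⟨a, hva, hca, h4, hk, hvals⟩ := (evenSet_iff (k := 8) (by norm_num)).2 ⟨hv, by rw [hn]; norm_num, h⟩
  obtain rfl : v = fun p => 2 * a p := funext hva
  obtain ⟨m, hm, he⟩ := Golay.mem_golayCode.1 hca
  rw [he, Golay.support_vec] at hvals
  have hpar : ∀ p, p ∈ Golay.pts m → a p % 2 = 1 := fun p hp =>
    evenVals_parity true _ (by simpa [hp] using hvals p)
  have hle : ∀ p, (if p ∈ Golay.pts m then 1 else 0) ≤ a p * a p := fun p => by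
    split_ifs with hp
    · rcases lt_trichotomy (a p) 0 with h | h | h
      · nlinarith
      · have := hpar p hp; omega
      · nlinarith
    · exact mul_self_nonneg _
  have hcard : ((Golay.pts m).card : ℤ) = ∑ p, if p ∈ Golay.pts m then (1 : ℤ) else 0 := by simp
  rcases Nat.eq_zero_or_pos (Golay.pop m) with h0 | hpos
  · right
    have hev : ∀ p, a p = 2 * (a p / 2) := fun p => by
      have hp : p ∉ Golay.pts m := fun hp => by
        have := Finset.card_pos.2 ⟨p, hp⟩; rw [Golay.card_pts] at this; omega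
      have := evenVals_parity false _ (by simpa [hp] using hvals p)
      simp only [Bool.false_eq_true, if_false] at this
      omega
    have h2 : ∑ p, a p / 2 * (a p / 2) = 2 := by
      have : ∑ p, a p * a p = 4 * ∑ p, a p / 2 * (a p / 2) := by
        rw [Finset.mul_sum]
        refine Finset.sum_congr rfl fun p _ => ?_
        conv_lhs => rw [hev p]
        ring
      omega
    have hb : ∀ p, a p / 2 = 0 ∨ a p / 2 = 1 ∨ a p / 2 = -1 := fun p => by
      have := Finset.single_le_sum (f := fun q => a q / 2 * (a q / 2)) (fun q _ => mul_self_nonneg _)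
        (Finset.mem_univ p)
      rw [h2] at this
      have h1 : -1 ≤ a p / 2 := by nlinarith
      have h2 : a p / 2 ≤ 1 := by nlinarith
      omega
    have hc2 : (Finset.univ.filter fun p => a p / 2 ≠ 0).card = 2 := by
      have : ((Finset.univ.filter fun p => a p / 2 ≠ 0).card : ℤ) = 2 := by
        refine Eq.trans ?_ h2
        rw [Finset.card_filter, Nat.cast_sum]
        refine Finset.sum_congr rfl fun p _ => ?_
        rcases hb p with e | e | e <;> simp [e]
      exact_mod_cast this
    obtain ⟨i, j, hij, hS'⟩ := Finset.card_eq_two.1 hc2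
    have hval : ∀ p, (p = i ∨ p = j) → 2 * a p = 4 ∨ 2 * a p = -4 := fun p hp => by
      have hne : a p / 2 ≠ 0 := by
        have : p ∈ Finset.univ.filter fun p => a p / 2 ≠ 0 := by rw [hS']; simpa using hp
        simpa using this
      have := hev p
      rcases (hb p).resolve_left hne with e | e <;> omega
    have hz : ∀ q, q ≠ i → q ≠ j → 2 * a q = 0 := fun q h1 h2 => by
      have : q ∉ Finset.univ.filter fun p => a p / 2 ≠ 0 := by rw [hS']; simp [h1, h2]
      have h0 : a q / 2 = 0 := by simpa using this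
      have := hev q
      omega
    rcases lt_trichotomy (Golay.idx i) (Golay.idx j) with hl | hl | hl
    · exact mem_pairList hS (i := i) (j := j) hl (hval i (Or.inl rfl)) (hval j (Or.inr rfl)) hz hd
    · exact absurd (Golay.idx_injective hl) hij
    · exact mem_pairList hS (i := j) (j := i) hl (hval j (Or.inr rfl)) (hval i (Or.inl rfl))
        (fun q a b => hz q b a) hd
  · left; right
    have hp8 : Golay.pop m = 8 := by
      have hle8 : ((Golay.pts m).card : ℤ) ≤ 8 := by
        rw [hcard, show (8 : ℤ) = ∑ p, a p * a p by rw [hk]; norm_num]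
        exact Finset.sum_le_sum fun p _ => hle p
      rw [Golay.card_pts] at hle8
      rcases Golay.pop_code hm with e | e | e | e | e <;> omega
    have heq : ∀ p, (if p ∈ Golay.pts m then (1 : ℤ) else 0) = a p * a p := fun p =>
      (Finset.sum_eq_sum_iff_of_le fun q _ => hle q).1
        (by rw [← hcard, Golay.card_pts, hp8, hk]) p (Finset.mem_univ p)
    refine mem_octList hS hm hp8 (fun p => ?_) h4 hd
    have := heq p
    split_ifs at this ⊢ with hp
    · exact mul_self_eq_one_iff.1 this.symm
    · exact mul_self_eq_zero.1 this.symm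

theorem shortList_parts {S : Spec} {x : ℕ} (h : x ∈ shortList S) :
    (∃ i < 16, x ∈ oddPart S i) ∨ (∃ i < 3, x ∈ octPart S i) ∨ x ∈ pairList S := by
  simp only [shortList, List.mem_append] at h
  rcases h with (h | h) | h
  · left
    simp only [oddList, List.mem_flatMap, codeW, List.mem_append] at h
    obtain ⟨q, hq, hx⟩ := h
    have key : ∀ i < 16, q ∈ codePart i → ∃ i < 16, x ∈ oddPart S i := fun i hi hi' =>
      ⟨i, hi, List.mem_flatMap.2 ⟨q, hi', by rw [forceN_eq, forceN_eq]; exact hx⟩⟩
    rcases hq with e | e | e | e | e | e | e | e | e | e | e | e | e | e | e | e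
    exacts [key 0 (by norm_num) e, key 1 (by norm_num) e, key 2 (by norm_num) e, key 3 (by norm_num) e,
      key 4 (by norm_num) e, key 5 (by norm_num) e, key 6 (by norm_num) e, key 7 (by norm_num) e,
      key 8 (by norm_num) e, key 9 (by norm_num) e, key 10 (by norm_num) e, key 11 (by norm_num) e,
      key 12 (by norm_num) e, key 13 (by norm_num) e, key 14 (by norm_num) e, key 15 (by norm_num) e]
  · right; left
    simp only [octList', List.mem_flatMap, octW, List.mem_append] at h
    obtain ⟨m, hm, hx⟩ := h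
    have key : ∀ i < 3, m ∈ octPartL i → ∃ i < 3, x ∈ octPart S i := fun i hi hi' =>
      ⟨i, hi, List.mem_flatMap.2 ⟨m, hi', by rw [forceN_eq, forceN_eq]; exact hx⟩⟩
    rcases hm with e | e | e
    exacts [key 0 (by norm_num) e, key 1 (by norm_num) e, key 2 (by norm_num) e]
  · exact Or.inr (Or.inr h)

end Cfsg.Agent.Spor.Leech
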