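import Cfsg.Agent.Lib.Spor.Leech.Basic
import Cfsg.Agent.Lib.Spor.Golay.Words

/-!
Generators of the rank 24 lattice, its index in the integer vectors, and the index of its doubled copy.
-/

set_option autoImplicit false
set_option maxRecDepth 100000

namespace Cfsg.Agent.Spor.Leech

open Cfsg

/-- The two-valued vector of a mask. -/
def twos (b : ℕ) : Vec := fun p => if b.testBit (Golay.idx p) then 2 else 0

/-- The odd generator. -/
def oddGen : Vec := fun p => if p = none then -3 else 1

/-- A generator with two nonzero entries, one at the extra point. -/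
def fours (i : ZMod 23) (s : ℤ) : Vec := Pi.single (some i) 4 + Pi.single none s

theorem oddGen_good : Good oddGen := by
  refine ⟨1, fun p => if p = none then -2 else 0, Or.inr rfl, fun p => ?_, ?_, by decide⟩
  · unfold oddGen; dsimp only; split_ifs <;> rfl
  · have h : par (fun p => if p = none then -2 else 0) = 0 := by decide
    rw [h]; exact Submodule.zero_mem _

theorem fours_good (i : ZMod 23) {s : ℤ} (hs : s = 4 ∨ s = -4) : Good (fours i s) := by
  refine ⟨0, Pi.single (some i) 2 + Pi.single none (s / 2), Or.inl rfl, fun p => ?_, ?_, ?_⟩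
  · simp only [fours, Pi.add_apply, Pi.single_apply]
    rcases hs with rfl | rfl <;> split_ifs <;> norm_num
  · have h : par (Pi.single (some i) 2 + Pi.single none (s / 2)) = 0 := by
      funext p
      simp only [par, Pi.add_apply, Pi.single_apply, Pi.zero_apply]
      rcases hs with rfl | rfl <;> split_ifs <;> decide
    rw [h]; exact Submodule.zero_mem _
  · simp only [fours, Pi.add_apply, Finset.sum_add_distrib, Finset.sum_pi_single', Finset.mem_univ, if_true]
    rcases hs with rfl | rfl <;> decide

theorem twos_good {b : ℕ} (hb : b ∈ Golay.octList) : Good (twos b) := by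
  obtain ⟨hc, h8⟩ := Golay.mem_weightList.1 hb
  refine ⟨0, fun p => if b.testBit (Golay.idx p) then 1 else 0, Or.inl rfl, fun p => ?_, ?_, ?_⟩
  · unfold twos; dsimp only; cases b.testBit (Golay.idx p) <;> rfl
  · have h : par (fun p => if b.testBit (Golay.idx p) then 1 else 0) = Golay.vec b := by
      funext p; unfold par Golay.vec; dsimp only; cases b.testBit (Golay.idx p) <;> rfl
    rw [h]; exact Golay.mem_golayCode.2 ⟨b, hc, rfl⟩
  · have h : ∑ p, twos b p = 2 * ((Golay.pts b).card : ℤ) := by
      rw [Golay.pts, Finset.card_filter, Nat.cast_sum, Finset.mul_sum]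
      exact Finset.sum_congr rfl fun p _ => by unfold twos; cases b.testBit (Golay.idx p) <;> rfl
    rw [h, Golay.card_pts, h8]; decide

theorem le_of_gens {H : AddSubgroup Vec} (hb : ∀ b ∈ Golay.basis, twos b ∈ H)
    (h4 : ∀ (i : ZMod 23) (s : ℤ), s = 4 ∨ s = -4 → fours i s ∈ H) (ho : oddGen ∈ H) : leechLattice ≤ H := by
  have hcode : ∀ s ∈ supports (golayCode : Set (GolayPt → ZMod 2)),
      ∃ c : Vec, 2 • c ∈ H ∧ Good (2 • c) ∧ support₂ (par c) = s := by
    intro s hs
    refine Golay.supports_induction (P := fun s => ∃ c : Vec, 2 • c ∈ H ∧ Good (2 • c) ∧ support₂ (par c) = s)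
      ?_ ?_ ?_ hs
    · exact ⟨0, by simp, by simpa using Good.zero, by simp [support₂, par]⟩
    · rintro s t ⟨c, hc, gc, rfl⟩ ⟨d, hd, gd, rfl⟩
      exact ⟨c + d, by rw [smul_add]; exact add_mem hc hd, by rw [smul_add]; exact gc.add gd,
        by rw [par_add, Golay.support_add]⟩
    · intro b hbm
      have h : (2 • fun p : GolayPt => if b.testBit (Golay.idx p) then (1 : ℤ) else 0) = twos b := by
        funext p; unfold twos; rw [Pi.smul_apply]; cases b.testBit (Golay.idx p) <;> rfl
      refine ⟨_, h ▸ hb b hbm, h ▸ twos_good (Golay.basis_octad b hbm), ?_⟩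
      ext p
      unfold par support₂ Golay.pts
      rw [Finset.mem_filter, Finset.mem_filter]
      dsimp only
      cases b.testBit (Golay.idx p) <;> simp
  have heven : ∀ x : Vec, ∀ a : Vec, x = 2 • a → Good x → x ∈ H := by
    intro x a hxa hx
    obtain ⟨m, a', hm, hxa', hca, hs⟩ := hx
    have hm0 : m = 0 := by
      have h1 := hxa' none
      rw [hxa, Pi.smul_apply, two_nsmul] at h1
      omega
    subst hm0
    obtain ⟨c, hc, gc, hcs⟩ := hcode _ ⟨_, hca, rfl⟩
    have hd : ∀ i, (a' i - c i) % 2 = 0 := fun i => by
      have h1 := congrFun (Golay.eq_of_support hcs) i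
      simp only [par] at h1
      rw [ZMod.intCast_eq_intCast_iff_dvd_sub] at h1
      omega
    obtain ⟨mc, ac, _, hcc, _, hsc⟩ := gc
    have hmc : ∑ i, (2 • c) i ≡ 0 [ZMOD 8] := by
      have h1 := hcc none
      rw [Pi.smul_apply, two_nsmul] at h1
      have : mc = 0 ∨ mc = 1 := by assumption
      rcases this with rfl | rfl
      · simpa using hsc
      · omega
    set b : Vec := fun i => (a' i - c i) / 2 with hbdef
    have hxb : x = 2 • c + fun i => 4 * b i := by
      funext i
      rw [hxa', Pi.add_apply, Pi.smul_apply, two_nsmul, hbdef]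
      have := hd i
      dsimp only
      omega
    have hbs : (∑ i, b i) % 2 = 0 := by
      rw [hxb] at hs
      simp only [Pi.add_apply, Finset.sum_add_distrib, ← Finset.mul_sum] at hs
      rw [Int.ModEq] at hs hmc
      omega
    rw [hxb]
    refine add_mem hc ?_
    have h8 : Pi.single (none : GolayPt) (8 : ℤ) ∈ H := by
      have h1 := sub_mem (h4 0 4 (Or.inl rfl)) (h4 0 (-4) (Or.inr rfl))
      have e : fours 0 4 - fours 0 (-4) = Pi.single none 8 := by
        funext p; simp only [fours, Pi.sub_apply, Pi.add_apply, Pi.single_apply]; split_ifs <;> norm_num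
      rwa [e] at h1
    have e : (fun i => 4 * b i) = (∑ i : ZMod 23, b (some i) • fours i (-4)) + ((∑ i, b i) / 2) • Pi.single none (8 : ℤ) := by
      funext p
      rw [Pi.add_apply, Finset.sum_apply]
      simp only [Pi.smul_apply, fours, Pi.add_apply, smul_eq_mul, nsmul_eq_mul, Nat.cast_ofNat]
      rcases p with _ | j
      · have e1 : ∀ i : ZMod 23, (Pi.single (some i) (4 : ℤ) : Vec) none = 0 := fun i =>
          Pi.single_eq_of_ne (by simp) _
        simp only [e1, Pi.single_eq_same, zero_add, ← Finset.sum_mul]
        rw [Fintype.sum_option] at hbs ⊢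
        omega
      · have e1 : ∀ z : ℤ, (Pi.single none z : Vec) (some j) = 0 := fun z => Pi.single_eq_of_ne (by simp) _
        simp only [e1, add_zero, mul_zero, Pi.single_apply, Option.some.injEq]
        simp [mul_comm]
    rw [e]
    exact add_mem (sum_mem fun i _ => zsmul_mem (h4 i _ (Or.inr rfl)) _) (zsmul_mem h8 _)
  intro x hx
  obtain ⟨m, a, hm, hxa, hca, hs⟩ := mem_lattice.1 hx
  rcases hm with rfl | rfl
  · exact heven x a (funext fun i => by rw [hxa, Pi.smul_apply, two_nsmul]; ring) (mem_lattice.1 hx)
  · have h1 : x - oddGen ∈ H := by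
      refine heven (x - oddGen) (fun i => a i + if i = none then 2 else 0) (funext fun i => ?_)
        (mem_lattice.1 (sub_mem hx (mem_lattice.2 oddGen_good)))
      rw [Pi.sub_apply, hxa, Pi.smul_apply, two_nsmul, oddGen]
      split_ifs <;> ring
    simpa using add_mem h1 ho

theorem fours_norm (i : ZMod 23) {s : ℤ} (hs : s = 4 ∨ s = -4) : sqNorm (fours i s) = 32 := by
  rw [sqNorm, Fintype.sum_option]
  simp only [fours, Pi.add_apply, Pi.single_eq_same]
  rw [Finset.sum_eq_single i]
  · rcases hs with rfl | rfl <;> simp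
  · intro j _ hj
    simp [Pi.single_apply, hj]
  · simp

/-- Reduction modulo two. -/
def red : Vec →+ (GolayPt → ZMod 2) where
  toFun := par
  map_zero' := by funext i; simp [par]
  map_add' := par_add

theorem red_surjective : Function.Surjective red := fun w =>
  ⟨fun i => ((w i).val : ℤ), funext fun i => by
    show (((w i).val : ℤ) : ZMod 2) = w i
    rw [Int.cast_natCast, ZMod.natCast_zmod_val]⟩

/-- Doubling. -/
abbrev dbl : Vec →+ Vec := nsmulAddMonoidHom 2

theorem dbl_injective : Function.Injective dbl := by
  intro a b h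
  funext i
  have := congrFun h i
  simp only [dbl, nsmulAddMonoidHom_apply, Pi.smul_apply, two_nsmul] at this
  omega

theorem card_words : Nat.card (GolayPt → ZMod 2) = 2 ^ 24 := by
  rw [Nat.card_fun, Nat.card_zmod, Nat.card_eq_fintype_card, Golay.card_golayPt]

theorem index_range_dbl : dbl.range.index = 2 ^ 24 := by
  have h : dbl.range = red.ker := by
    ext x
    constructor
    · rintro ⟨a, rfl⟩
      rw [AddMonoidHom.mem_ker]
      show red (2 • a) = 0
      rw [map_nsmul]
      funext i
      simp [CharTwo.two_eq_zero, two_nsmul, CharTwo.add_self_eq_zero]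
    · intro hx
      refine ⟨fun i => x i / 2, funext fun i => ?_⟩
      have h1 : ((x i : ℤ) : ZMod 2) = 0 := congrFun hx i
      rw [ZMod.intCast_zmod_eq_zero_iff_dvd] at h1
      show (2 • fun i => x i / 2) i = x i
      rw [Pi.smul_apply, two_nsmul]
      omega
  rw [h, AddSubgroup.index_ker, AddMonoidHom.range_eq_top.2 red_surjective, AddSubgroup.card_top, card_words]

theorem index_map_dbl (A : AddSubgroup Vec) : (A.map dbl).index = A.index * 2 ^ 24 := by
  rw [AddSubgroup.index_map_of_injective _ dbl_injective, index_range_dbl]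

theorem index_code : (AddSubgroup.comap red golayCode.toAddSubgroup).index = 2 ^ 12 := by
  rw [AddSubgroup.index_comap_of_surjective _ red_surjective]
  have h := AddSubgroup.index_mul_card golayCode.toAddSubgroup
  rw [card_words, show Nat.card golayCode.toAddSubgroup = 4096 from Golay.card_golayCode] at h
  omega

theorem index_of_half {H K : AddSubgroup Vec} (hHK : H ≤ K) (a : Vec) (ha : a ∈ K) (hna : a ∉ H)
    (h : ∀ b ∈ K, b ∈ H ∨ b + a ∈ H) : 2 * K.index = H.index := by
  rw [← AddSubgroup.relIndex_mul_index hHK]
  have h2 : H.relIndex K = 2 := by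
    rw [AddSubgroup.relIndex, AddSubgroup.index_eq_two_iff]
    refine ⟨⟨a, ha⟩, fun b => ?_⟩
    simp only [AddSubgroup.mem_addSubgroupOf, AddSubgroup.coe_add]
    rcases h b b.2 with hb | hb
    · exact Or.inr ⟨hb, fun hc => hna (by simpa using sub_mem hc hb)⟩
    · exact Or.inl ⟨hb, fun hc => hna (by simpa using sub_mem hb hc)⟩
  rw [h2]

/-- The halves of the even members. -/
def halves : AddSubgroup Vec where
  carrier := {a | par a ∈ golayCode ∧ (4 : ℤ) ∣ ∑ i, a i}
  zero_mem' := ⟨by rw [show par (0 : Vec) = 0 from map_zero red]; exact Submodule.zero_mem _, by simp⟩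
  add_mem' := fun {a b} ha hb => ⟨by rw [par_add]; exact Submodule.add_mem _ ha.1 hb.1, by
    simp only [Pi.add_apply, Finset.sum_add_distrib]; exact dvd_add ha.2 hb.2⟩
  neg_mem' := fun {a} ha => ⟨by rw [show par (-a) = -par a from map_neg red a]; exact Submodule.neg_mem _ ha.1, by
    simp only [Pi.neg_apply, Finset.sum_neg_distrib]; exact ha.2.neg_right⟩

theorem index_halves : halves.index = 2 ^ 13 := by
  rw [← index_of_half (H := halves) (K := AddSubgroup.comap red golayCode.toAddSubgroup) (fun a ha => ha.1)
    (Pi.single none 2)]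
  · rw [index_code]; norm_num
  · show par (Pi.single none 2) ∈ golayCode
    rw [show par (Pi.single none 2) = 0 by decide]
    exact Submodule.zero_mem _
  · rintro ⟨-, h⟩
    rw [Finset.sum_pi_single', if_pos (Finset.mem_univ _)] at h
    omega
  · intro b (hb : par b ∈ golayCode)
    have h2 : (∑ i, b i) % 2 = 0 := by
      rw [Finset.sum_int_mod, sum_emod_two]
      rcases code_weight hb with h | h | h | h | h <;> rw [h] <;> norm_num
    by_cases h4 : (4 : ℤ) ∣ ∑ i, b i
    · exact Or.inl ⟨hb, h4⟩
    · refine Or.inr ⟨?_, ?_⟩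
      · rw [par_add, show par (Pi.single none 2) = 0 by decide, add_zero]; exact hb
      · simp only [Pi.add_apply, Finset.sum_add_distrib, Finset.sum_pi_single', Finset.mem_univ, if_true]
        omega

theorem index_leech : leechLattice.index = 2 ^ 36 := by
  have h : 2 * leechLattice.index = (halves.map dbl).index := by
    refine index_of_half ?_ oddGen (mem_lattice.2 oddGen_good) ?_ ?_
    · rintro _ ⟨a, ⟨hc, h4⟩, rfl⟩
      refine mem_lattice.2 ⟨0, a, Or.inl rfl, fun i => ?_, hc, ?_⟩
      · show (2 • a) i = _
        rw [Pi.smul_apply, two_nsmul]; ring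
      · show ∑ i, (2 • a) i ≡ _ [ZMOD 8]
        simp only [Pi.smul_apply, two_nsmul, Int.ModEq, Finset.sum_add_distrib]
        omega
    · rintro ⟨a, -, he⟩
      have h1 : 2 • a none = (-3 : ℤ) := congrFun he none
      rw [two_nsmul] at h1; omega
    · intro x hx
      have key : ∀ y : Vec, Good y → y none % 2 = 0 → y ∈ halves.map dbl := by
        rintro y ⟨m, a, hm, hya, hca, hs⟩ h0
        have hm0 : m = 0 := by have := hya none; omega
        subst hm0
        refine ⟨a, ⟨hca, ?_⟩, funext fun i => ?_⟩
        · simp only [hya, zero_add, ← Finset.mul_sum, Int.ModEq] at hs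
          omega
        · show (2 • a) i = y i
          rw [Pi.smul_apply, two_nsmul, hya]; ring
      have hx' := mem_lattice.1 hx
      rcases Int.emod_two_eq_zero_or_one (x none) with h0 | h0
      · exact Or.inl (key x hx' h0)
      · refine Or.inr (key _ (hx'.add oddGen_good) ?_)
        rw [Pi.add_apply, show oddGen none = -3 from rfl]; omega
  rw [index_map_dbl, index_halves] at h
  omega

theorem index_twice : (leechLattice.map dbl).relIndex leechLattice = 2 ^ 24 := by
  have hle : leechLattice.map dbl ≤ leechLattice := by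
    rintro _ ⟨a, ha, rfl⟩; exact nsmul_mem ha 2
  have h := AddSubgroup.relIndex_mul_index hle
  rw [index_map_dbl, index_leech] at h
  exact Nat.eq_of_mul_eq_mul_right (by norm_num) (h.trans (mul_comm _ _))

end Cfsg.Agent.Spor.Leech
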