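import Cfsg.Agent.Lib.Spor.Leech.OnePairs
import Cfsg.Agent.Lib.Spor.Leech.TwoPairs

/-!
The quotient of the automorphism group of the lattice by its centre is simple, given that the stabiliser of a vector of
norm 32 is simple of order 42305421312000.
-/

set_option autoImplicit false
set_option maxRecDepth 100000

namespace Cfsg.Agent.Spor.Leech.OneSimple

open Cfsg OnePairs TwoPairs
open scoped Pointwise

variable (hS : IsSimpleGroup ↥(MulAction.stabilizer Co0 bV))
  (hcard : Nat.card ↥(MulAction.stabilizer Co0 bV) = 42305421312000)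

/-- The base pair. -/
def base : Pair := pair bV bV_norm

theorem exists_moving : ∃ g : Co0, g • bV = bV ∧ rep g ≠ 1 := by
  obtain ⟨hn, ht⟩ := partners16 bV_norm
  obtain ⟨y, hy, z, hz, hne⟩ :=
    (Set.one_lt_ncard (Set.finite_of_ncard_pos (by rw [hn]; norm_num))).1 (show 1 < (shellOne bV (-16)).ncard by omega)
  obtain ⟨g, hg, e⟩ := ht y hy z hz
  refine ⟨g, hg, fun h => ?_⟩
  have h' := Equiv.congr_fun h (pair y hy.1)
  rw [rep_apply, smul_pair, Equiv.Perm.one_apply] at h'
  rcases pair_eq h' with h' | h'
  · exact hne (h'.symm.trans e)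
  · rw [e] at h'
    have := hz.2
    rw [h', dot_neg, hy.2] at this
    omega

include hS in
theorem stab_ker {g : Co0} (hg : g • bV = bV) (hk : g ∈ rep.ker) : g = 1 := by
  let H := MulAction.stabilizer Co0 bV
  have hn : (rep.ker.subgroupOf H).Normal := (MonoidHom.normal_ker rep).comap _
  rcases hS.eq_bot_or_eq_top_of_normal (rep.ker.subgroupOf H) hn with h | h
  · have : (⟨g, hg⟩ : H) ∈ rep.ker.subgroupOf H := hk
    rw [h, Subgroup.mem_bot] at this
    exact congrArg Subtype.val this
  · obtain ⟨k, hk', hne⟩ := exists_moving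
    have : (⟨k, hk'⟩ : H) ∈ rep.ker.subgroupOf H := by rw [h]; exact Subgroup.mem_top _
    exact absurd this hne

include hS in
theorem ker_eq : rep.ker = Subgroup.center Co0 := by
  refine le_antisymm (fun g hg => ?_) fun g hg => ?_
  · have h := Equiv.congr_fun (MonoidHom.mem_ker.1 hg) base
    rw [rep_apply, base, smul_pair, Equiv.Perm.one_apply] at h
    rw [mem_center_iff]
    rcases pair_eq h with h | h
    · exact Or.inl (stab_ker hS h hg)
    · right
      have h1 := stab_ker hS (g := negCo * g) (by rw [mul_smul, h, negCo_apply, neg_neg])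
        (mul_mem negCo_ker hg)
      have h2 : negCo * negCo = 1 := ext_axis fun i => by rw [mul_smul, negCo_apply, negCo_apply, neg_neg, one_smul]
      rw [← one_mul g, ← h2, mul_assoc, h1, mul_one]
  · rcases mem_center_iff.1 hg with rfl | rfl
    · exact one_mem _
    · exact negCo_ker

instance : MulAction.IsPretransitive ↥rep.range Pair := ⟨fun s t => by
  obtain ⟨v, hv, rfl⟩ := exists_pair s
  obtain ⟨w, hw, rfl⟩ := exists_pair t
  obtain ⟨g, hg⟩ := exists_move32 hv hw
  refine ⟨⟨rep g, g, rfl⟩, ?_⟩
  show rep g (pair v hv) = _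
  rw [rep_apply, smul_pair]
  subst hg; rfl⟩

instance : Finite Pair := by
  have : Finite {v : leechLattice // sqNorm (v : Vec) = 32} := finite_shell.to_subtype
  exact Finite.of_surjective (fun v : {v : leechLattice // sqNorm (v : Vec) = 32} => pair v.1 v.2)
    fun s => by obtain ⟨v, hv, rfl⟩ := exists_pair s; exact ⟨⟨v, hv⟩, rfl⟩

/-- The stabiliser of the base vector onto that of the base pair. -/
noncomputable def toPairStab : ↥(MulAction.stabilizer Co0 bV) →* ↥(MulAction.stabilizer ↥rep.range base) where
  toFun g := ⟨⟨rep g.1, g.1, rfl⟩, by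
    show rep g.1 base = base
    rw [rep_apply, base, smul_pair]
    exact Subtype.ext (by
      show ({g.1 • bV, -(g.1 • bV)} : Set leechLattice) = {bV, -bV}
      rw [show g.1 • bV = bV from g.2])⟩
  map_one' := Subtype.ext (Subtype.ext (map_one rep))
  map_mul' g h := Subtype.ext (Subtype.ext (map_mul rep g.1 h.1))

include hS in
theorem toPairStab_bijective : Function.Bijective toPairStab := by
  constructor
  · refine (injective_iff_map_eq_one toPairStab).2 fun g hg => Subtype.ext ?_
    exact stab_ker hS g.2 (MonoidHom.mem_ker.2 (congrArg Subtype.val (congrArg Subtype.val hg)))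
  · rintro ⟨⟨_, g, rfl⟩, hg⟩
    have h : rep g base = base := hg
    rw [rep_apply, base, smul_pair] at h
    rcases pair_eq h with h | h
    · exact ⟨⟨g, h⟩, rfl⟩
    · refine ⟨⟨negCo * g, ?_⟩, Subtype.ext (Subtype.ext ?_)⟩
      · rw [MulAction.mem_stabilizer_iff, mul_smul, h, negCo_apply, neg_neg]
      · show rep (negCo * g) = rep g
        rw [map_mul, MonoidHom.mem_ker.1 negCo_ker, one_mul]

include hS in
/-- The quotient by the centre as a group of permutations of the pairs. -/
noncomputable def quotEquiv : ↥Co0 ⧸ Subgroup.center ↥Co0 ≃* ↥rep.range :=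
  (QuotientGroup.quotientMulEquivOfEq (ker_eq hS).symm).trans (QuotientGroup.quotientKerEquivRange rep)

theorem card_quot : Nat.card (↥Co0 ⧸ Subgroup.center ↥Co0) = 4157776806543360000 := by
  have h := Subgroup.card_eq_card_quotient_mul_card_subgroup (Subgroup.center ↥Co0)
  rw [card_Co0, card_center] at h
  omega

include hS hcard in
theorem card_pair : Nat.card Pair = 98280 := by
  have h := (MulAction.stabilizer ↥rep.range base).card_mul_index
  rw [MulAction.index_stabilizer_of_transitive ↥rep.range base,
    ← Nat.card_congr (MulEquiv.ofBijective toPairStab (toPairStab_bijective hS)).toEquiv, hcard,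
    ← Nat.card_congr (quotEquiv hS).toEquiv, card_quot] at h
  omega

include hS in
theorem cls_trans {c : ℤ} (hc : c ∈ [(-16 : ℤ), -8, 0]) {s t : Pair} (hs : s ∈ cls' bV c) (ht : t ∈ cls' bV c) :
    ∃ γ ∈ MulAction.stabilizer ↥rep.range base, γ • s = t := by
  obtain ⟨y, hy, rfl⟩ := hs
  obtain ⟨z, hz, rfl⟩ := ht
  obtain ⟨g, hg, he⟩ : ∃ g : Co0, g • bV = bV ∧ (g • y = z ∨ g • y = -z) := by
    simp only [List.mem_cons, List.not_mem_nil, or_false] at hc
    rcases hc with rfl | rfl | rfl
    · obtain ⟨g, a, b⟩ := (partners16 bV_norm).2 y hy z hz; exact ⟨g, a, Or.inl b⟩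
    · obtain ⟨g, a, b⟩ := (partners8 bV_norm).2 y hy z hz; exact ⟨g, a, Or.inl b⟩
    · exact Cfsg.Agent.S1576.result bV y z bV_norm hy.1 hz.1 hy.2 hz.2
  refine ⟨(toPairStab ⟨g, hg⟩).1, (toPairStab ⟨g, hg⟩).2, ?_⟩
  show rep g (pair y hy.1) = _
  rw [rep_apply, smul_pair]
  rcases he with e | e
  · exact Subtype.ext (by show ({g • y, -(g • y)} : Set leechLattice) = {z, -z}; rw [e])
  · exact Subtype.ext (by show ({g • y, -(g • y)} : Set leechLattice) = {z, -z}; rw [e, neg_neg, Set.pair_comm])

include hS hcard in
theorem suborbit_sizes : (cls' bV (-16)).ncard = 4600 ∧ (cls' bV (-8)).ncard = 47104 ∧ (cls' bV 0).ncard = 46575 := by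
  have a := cls_ncard bV (c := -16) (by norm_num) (partners16 bV_norm).1
  have b := cls_ncard bV (c := -8) (by norm_num) (partners8 bV_norm).1
  refine ⟨a, b, ?_⟩
  have huniv : (Set.univ : Set Pair) = insert base (cls' bV (-16) ∪ cls' bV (-8) ∪ cls' bV 0) := by
    refine (Set.eq_univ_of_forall fun s => ?_).symm
    rcases cover bV bV_norm s with h | ⟨c, hc, h⟩
    · exact Or.inl h
    · right
      simp only [List.mem_cons, List.not_mem_nil, or_false] at hc
      rcases hc with rfl | rfl | rfl
      · exact Or.inl (Or.inl h)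
      · exact Or.inl (Or.inr h)
      · exact Or.inr h
  have hu := congrArg Set.ncard huniv
  rw [Set.ncard_univ, card_pair hS hcard, Set.ncard_insert_of_notMem (by
      simp only [Set.mem_union, not_or]
      exact ⟨⟨base_notMem bV bV_norm (by norm_num) (by norm_num), base_notMem bV bV_norm (by norm_num) (by norm_num)⟩,
        base_notMem bV bV_norm (by norm_num) (by norm_num)⟩),
    Set.ncard_union_eq (Set.disjoint_union_left.2 ⟨cls_disjoint bV (by norm_num) (by norm_num),
      cls_disjoint bV (by norm_num) (by norm_num)⟩),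
    Set.ncard_union_eq (cls_disjoint bV (by norm_num) (by norm_num)), a, b] at hu
  omega

include hS hcard in
theorem simple_range : IsSimpleGroup ↥rep.range := by
  classical
  obtain ⟨nA, nB, nC⟩ := suborbit_sizes hS hcard
  have hH : IsSimpleGroup ↥(MulAction.stabilizer ↥rep.range base) :=
    (MulEquiv.ofBijective toPairStab (toPairStab_bijective hS)).isSimpleGroup_congr.1 hS
  have hHc : Nat.card ↥(MulAction.stabilizer ↥rep.range base) = 42305421312000 := by
    rw [← Nat.card_congr (MulEquiv.ofBijective toPairStab (toPairStab_bijective hS)).toEquiv, hcard]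
  have hG : Nat.card ↥rep.range = 4157776806543360000 := by
    rw [← Nat.card_congr (quotEquiv hS).toEquiv, card_quot]
  have : Finite ↥rep.range := Nat.finite_of_card_ne_zero (by rw [hG]; norm_num)
  have : Nontrivial ↥rep.range := Finite.one_lt_card_iff_nontrivial.1 (by rw [hG]; norm_num)
  refine SimpleOfStab.isSimpleGroup_of base hH (fun M hM => ?_) fun N hN hNc => ?_
  · refine SimpleOfStab.primitive_of_suborbits base [cls' bV (-16), cls' bV (-8), cls' bV 0] ?_ ?_ ?_ ?_ ?_ M hM
    · simp only [List.pairwise_cons, List.mem_cons, List.not_mem_nil, or_false, forall_eq_or_imp, forall_eq,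
        List.Pairwise.nil, and_true, false_implies, implies_true]
      refine ⟨⟨?_, ?_⟩, ?_⟩ <;> exact cls_disjoint bV (by norm_num) (by norm_num)
    · intro O hO s hs t ht
      simp only [List.mem_cons, List.not_mem_nil, or_false] at hO
      rcases hO with rfl | rfl | rfl <;> exact cls_trans hS (by simp) hs ht
    · intro s
      rcases cover bV bV_norm s with h | ⟨c, hc, h⟩
      · exact Or.inl h
      · simp only [List.mem_cons, List.not_mem_nil, or_false] at hc
        rcases hc with rfl | rfl | rfl <;> exact Or.inr ⟨_, by simp, h⟩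
    · intro O hO
      simp only [List.mem_cons, List.not_mem_nil, or_false] at hO
      rcases hO with rfl | rfl | rfl <;> exact base_notMem bV bV_norm (by norm_num) (by norm_num)
    · simp only [List.map_cons, List.map_nil, nA, nB, nC, card_pair hS hcard]
      decide +kernel
  · exfalso
    rw [card_pair hS hcard] at hNc
    set H := MulAction.stabilizer ↥rep.range base with hHdef
    have hbot : N.subgroupOf H = ⊥ := by
      rcases hH.eq_bot_or_eq_top_of_normal _ (hN.comap _) with h | h
      · exact h
      · have := Subgroup.card_dvd_of_le (Subgroup.subgroupOf_eq_top.1 h)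
        rw [hNc, hHc] at this
        exact absurd (Nat.le_of_dvd (by norm_num) this) (by norm_num)
    have hinj : Function.Injective fun n : ↥N => (n : ↥rep.range) • base := fun m n e => by
      have hmem : (n : ↥rep.range)⁻¹ * m ∈ H := by
        rw [hHdef, MulAction.mem_stabilizer_iff, mul_smul]
        exact inv_smul_eq_iff.2 e
      have : (⟨_, hmem⟩ : H) ∈ N.subgroupOf H := Subgroup.mem_subgroupOf.2 (N.mul_mem (N.inv_mem n.2) m.2)
      rw [hbot, Subgroup.mem_bot] at this
      exact Subtype.ext (inv_mul_eq_one.1 (congrArg Subtype.val this)).symm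
    have key : ∀ O ∈ [cls' bV (-16), cls' bV (-8), cls' bV 0], ∀ m n : ↥N, (m : ↥rep.range) • base ∈ O →
        (n : ↥rep.range) • base ∈ O → orderOf m = orderOf n := by
      intro O hO m n hm hn
      obtain ⟨γ, hγ, e⟩ : ∃ γ ∈ H, γ • ((m : ↥rep.range) • base) = (n : ↥rep.range) • base := by
        simp only [List.mem_cons, List.not_mem_nil, or_false] at hO
        rcases hO with rfl | rfl | rfl <;> exact cls_trans hS (by simp) hm hn
      have e2 : (⟨γ * m * γ⁻¹, hN.conj_mem _ m.2 γ⟩ : ↥N) = n := hinj (by
        show (γ * (m : ↥rep.range) * γ⁻¹) • base = _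
        rw [mul_smul, mul_smul, MulAction.mem_stabilizer_iff.1 (H.inv_mem hγ), e])
      rw [← Subgroup.orderOf_coe m, ← Subgroup.orderOf_coe n, ← e2]
      exact (MulEquiv.orderOf_eq (MulAut.conj γ) (m : ↥rep.range)).symm
    have hp : ∀ p ∈ ({2, 3, 5, 7} : Finset ℕ), ∃ n : ↥N, orderOf n = p := fun p hp => by
      have : Fact p.Prime := ⟨by fin_cases hp <;> norm_num⟩
      refine exists_prime_orderOf_dvd_card' p ?_
      rw [hNc]
      fin_cases hp <;> norm_num
    choose f hf using hp
    have hclass : ∀ p : ({2, 3, 5, 7} : Finset ℕ), ∃ i : Fin 3,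
        (f p.1 p.2 : ↥rep.range) • base ∈ [cls' bV (-16), cls' bV (-8), cls' bV 0].get i := by
      intro p
      rcases cover bV bV_norm ((f p.1 p.2 : ↥rep.range) • base) with h | ⟨c, hc, h⟩
      · exfalso
        have h1 : f p.1 p.2 = 1 := hinj (by
          show (f p.1 p.2 : ↥rep.range) • base = ((1 : ↥N) : ↥rep.range) • base
          rw [OneMemClass.coe_one, one_smul]; exact h)
        have := hf p.1 p.2
        rw [h1, orderOf_one] at this
        obtain ⟨q, hq⟩ := p
        simp only at this
        subst this
        simp at hq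
      · simp only [List.mem_cons, List.not_mem_nil, or_false] at hc
        rcases hc with rfl | rfl | rfl
        · exact ⟨0, h⟩
        · exact ⟨1, h⟩
        · exact ⟨2, h⟩
    choose i hi using hclass
    have hij : Function.Injective i := fun p q e => by
      refine Subtype.ext ?_
      have := key _ (List.get_mem _ _) _ _ (hi p) (e ▸ hi q)
      rwa [hf p.1 p.2, hf q.1 q.2] at this
    have := Fintype.card_le_of_injective i hij
    rw [Fintype.card_coe, Fintype.card_fin] at this
    simp at this

include hS hcard in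
theorem isCo1 : IsCo1 (↥Co0 ⧸ Subgroup.center ↥Co0) :=
  ⟨(quotEquiv hS).isSimpleGroup_congr.2 (simple_range hS hcard), card_quot⟩

end Cfsg.Agent.Spor.Leech.OneSimple
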