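import Cfsg.Agent.Lib.Spor.Leech.Cert

/-!
Moving questions about stabilisers of tuples of lattice vectors to standard tuples.
-/

set_option autoImplicit false
set_option maxRecDepth 100000

namespace Cfsg.Agent.Spor.Leech

open Cfsg

/-- The vector of a checked list. -/
def mkL (l : List ℤ) (h : inL (ofList l) = true) : leechLattice := ⟨ofList l, mem_of_inL h⟩

theorem mkL_val (l : List ℤ) (h : inL (ofList l) = true) : ((mkL l h : leechLattice) : Vec) = ofList l := rfl

theorem dot_comm (x y : Vec) : dotInt x y = dotInt y x := Finset.sum_congr rfl fun i _ => mul_comm _ _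

theorem dot_self (x : Vec) : dotInt x x = sqNorm x := Finset.sum_congr rfl fun i _ => by ring

theorem sqNorm_sub (x y : Vec) : sqNorm (x - y) = sqNorm x + sqNorm y - 2 * dotInt x y := by
  simp only [sqNorm, dotInt, Pi.sub_apply, Finset.mul_sum, ← Finset.sum_add_distrib, ← Finset.sum_sub_distrib]
  exact Finset.sum_congr rfl fun i _ => by ring

theorem eq_of_sqNorm_sub {x y : leechLattice} (h : sqNorm ((x : Vec) - (y : Vec)) = 0) : x = y := by
  refine Subtype.ext (funext fun i => ?_)
  have := (Finset.sum_eq_zero_iff_of_nonneg fun j _ => sq_nonneg _).1 h i (Finset.mem_univ i)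
  rw [sq_eq_zero_iff, Pi.sub_apply, sub_eq_zero] at this
  exact this

theorem eq_of_dot_32 {x y : leechLattice} (hx : sqNorm (x : Vec) = 32) (hy : sqNorm (y : Vec) = 32)
    (h : dotInt (x : Vec) (y : Vec) = 32) : x = y :=
  eq_of_sqNorm_sub (by rw [sqNorm_sub, hx, hy, h]; norm_num)

theorem finite_shell : {x : leechLattice | sqNorm (x : Vec) = 32}.Finite :=
  Set.Finite.preimage (Subtype.val_injective.injOn) (finite_norm 32)

theorem shell_trans {n : ℤ} {x y : leechLattice} {p : Vec}
    (orb : ∀ {z : Vec}, z ∈ leechLattice → sqNorm z = n → Conn z p) (hx : sqNorm (x : Vec) = n)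
    (hy : sqNorm (y : Vec) = n) : ∃ g : Co0, g • x = y := by
  obtain ⟨g, v, hv, he⟩ := (orb x.2 hx).trans (orb y.2 hy).symm
  obtain rfl : v = x := Subtype.ext hv
  exact ⟨g, Subtype.ext he⟩

theorem exists_move32 {x y : leechLattice} (hx : sqNorm (x : Vec) = 32) (hy : sqNorm (y : Vec) = 32) :
    ∃ g : Co0, g • x = y :=
  shell_trans (fun hz hn => orbit_32 hz hn) hx hy

theorem exists_move48 {x y : leechLattice} (hx : sqNorm (x : Vec) = 48) (hy : sqNorm (y : Vec) = 48) :
    ∃ g : Co0, g • x = y :=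
  shell_trans (fun hz hn => orbit_48 hz hn) hx hy

/-- A condition stated with products is preserved. -/
theorem dot_move (h : Co0) (u x : leechLattice) {u' : leechLattice} (hu : h • u = u') :
    dotInt (u' : Vec) ((h • x : leechLattice) : Vec) = dotInt (u : Vec) (x : Vec) := by
  rw [← hu]; exact co_dot h u x

theorem ncard_move (h : Co0) {S T : Set leechLattice} (e : ∀ x, x ∈ S ↔ h • x ∈ T) : S.ncard = T.ncard := by
  have : S = (fun x => h⁻¹ • x) '' T := by
    ext x
    rw [Set.mem_image, e]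
    exact ⟨fun hx => ⟨_, hx, inv_smul_smul _ _⟩, fun ⟨y, hy, hxy⟩ => by rw [← hxy, smul_inv_smul]; exact hy⟩
  rw [this, Set.ncard_image_of_injective _ (MulAction.injective _)]

theorem fix_move {h g : Co0} {u u' : leechLattice} (hu : h • u = u') (hg : g • u' = u') :
    (h⁻¹ * g * h) • u = u := by
  rw [mul_smul, mul_smul, hu, hg, ← hu, inv_smul_smul]

theorem map_move {h g : Co0} {x y : leechLattice} (hg : g • (h • x) = h • y) : (h⁻¹ * g * h) • x = y := by
  rw [mul_smul, mul_smul, hg, inv_smul_smul]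

/-- A set partitioned by the products with one of its members. -/
theorem split_cover {S : Set leechLattice} (hS : ∀ y ∈ S, sqNorm (y : Vec) = 32) {x : leechLattice} (hx : x ∈ S)
    (cs : Finset ℤ) (h32 : (32 : ℤ) ∉ cs)
    (hcard : S.ncard = 1 + ∑ c ∈ cs, {y ∈ S | dotInt (x : Vec) (y : Vec) = c}.ncard) {y : leechLattice} (hy : y ∈ S) :
    y = x ∨ dotInt (x : Vec) (y : Vec) ∈ cs := by
  classical
  have hfin : S.Finite := finite_shell.subset fun y hy => hS y hy
  let T := hfin.toFinset
  have hxT : x ∈ T := hfin.mem_toFinset.2 hx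
  have hsub : insert x (cs.biUnion fun c => T.filter fun y : leechLattice => dotInt (x : Vec) (y : Vec) = c) ⊆ T := by
    intro z hz
    rw [Finset.mem_insert, Finset.mem_biUnion] at hz
    rcases hz with rfl | ⟨c, -, hz⟩
    · exact hxT
    · exact (Finset.mem_filter.1 hz).1
  have heq := Finset.eq_of_subset_of_card_le hsub (by
    rw [← Set.ncard_eq_toFinset_card S hfin, hcard, Finset.card_insert_of_notMem (by
      simp only [Finset.mem_biUnion, Finset.mem_filter, not_exists, not_and]
      intro c hc _ h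
      rw [dot_self, hS x hx] at h
      exact h32 (h ▸ hc)), Finset.card_biUnion fun c _ d _ hne => Finset.disjoint_filter.2 fun _ _ h h' =>
        hne (h.symm.trans h'), add_comm]
    refine Nat.add_le_add_right (Finset.sum_le_sum fun c _ => le_of_eq ?_) 1
    rw [← Set.ncard_coe_finset]
    congr 1
    ext z
    simp [T])
  have hyT : y ∈ insert x (cs.biUnion fun c => T.filter fun y : leechLattice => dotInt (x : Vec) (y : Vec) = c) :=
    heq.symm ▸ hfin.mem_toFinset.2 hy
  rw [Finset.mem_insert, Finset.mem_biUnion] at hyT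
  rcases hyT with h | ⟨c, hc, h⟩
  · exact Or.inl h
  · exact Or.inr ((Finset.mem_filter.1 h).2 ▸ hc)

/-- An orbit of a subgroup given by invariance and transitivity. -/
theorem orbit_eq {H : Subgroup Co0} {T : Set leechLattice} {y : leechLattice} (hy : y ∈ T)
    (hinv : ∀ g ∈ H, ∀ z ∈ T, g • z ∈ T) (htr : ∀ z ∈ T, ∃ g ∈ H, g • y = z) : MulAction.orbit H y = T := by
  ext z
  rw [MulAction.mem_orbit_iff]
  exact ⟨fun ⟨g, hg⟩ => hg ▸ hinv g.1 g.2 y hy, fun hz => by
    obtain ⟨g, hg, e⟩ := htr z hz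
    exact ⟨⟨g, hg⟩, e⟩⟩

theorem nonempty_of_ncard {α : Type*} {T : Set α} {n : ℕ} (h : T.ncard = n + 1) : T.Nonempty :=
  Set.nonempty_of_ncard_ne_zero (by omega)

/-- The vectors of norm 32 with a prescribed product with one vector. -/
def shellOne (a : leechLattice) (c : ℤ) : Set leechLattice :=
  {x | sqNorm (x : Vec) = 32 ∧ dotInt (a : Vec) (x : Vec) = c}

/-- The vectors of norm 32 with prescribed products with two vectors. -/
def shellTwo (a b : leechLattice) (c d : ℤ) : Set leechLattice :=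
  {x | sqNorm (x : Vec) = 32 ∧ dotInt (a : Vec) (x : Vec) = c ∧ dotInt (b : Vec) (x : Vec) = d}

/-- The vectors of norm 32 with prescribed products with three vectors. -/
def shellThree (a b e : leechLattice) (c d f : ℤ) : Set leechLattice :=
  {x | sqNorm (x : Vec) = 32 ∧ dotInt (a : Vec) (x : Vec) = c ∧ dotInt (b : Vec) (x : Vec) = d ∧
    dotInt (e : Vec) (x : Vec) = f}

/-- The automorphisms fixing a vector act transitively on a set. -/
def TransOne (a : leechLattice) (T : Set leechLattice) : Prop :=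
  ∀ x ∈ T, ∀ y ∈ T, ∃ g : Co0, g • a = a ∧ g • x = y

/-- The automorphisms fixing two vectors act transitively on a set. -/
def TransTwo (a b : leechLattice) (T : Set leechLattice) : Prop :=
  ∀ x ∈ T, ∀ y ∈ T, ∃ g : Co0, g • a = a ∧ g • b = b ∧ g • x = y

/-- The automorphisms fixing three vectors act transitively on a set. -/
def TransThree (a b e : leechLattice) (T : Set leechLattice) : Prop :=
  ∀ x ∈ T, ∀ y ∈ T, ∃ g : Co0, g • a = a ∧ g • b = b ∧ g • e = e ∧ g • x = y

variable {l m r : List ℤ} {c d f : ℤ} {x0 : List ℤ} {C : Cert} {X0 : ℕ}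

theorem std_one (h : Checks [(l, c)] x0 C X0) (hl : inL (ofList l) = true) :
    (shellOne (mkL l hl) c).ncard = C.n ∧ TransOne (mkL l hl) (shellOne (mkL l hl) c) := by
  have e : shortSet [(l, c)] = shellOne (mkL l hl) c := by ext x; simp [shortSet, shellOne, mkL_val]
  obtain ⟨htr, hn⟩ := cert_main h
  rw [e] at htr hn
  refine ⟨hn, fun x hx y hy => ?_⟩
  obtain ⟨g, hg, he⟩ := htr x hx y hy
  exact ⟨g, hg _ List.mem_cons_self (mkL l hl) rfl, he⟩

theorem std_two (h : Checks [(l, c), (m, d)] x0 C X0) (hl : inL (ofList l) = true) (hm : inL (ofList m) = true) :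
    (shellTwo (mkL l hl) (mkL m hm) c d).ncard = C.n ∧
      TransTwo (mkL l hl) (mkL m hm) (shellTwo (mkL l hl) (mkL m hm) c d) := by
  have e : shortSet [(l, c), (m, d)] = shellTwo (mkL l hl) (mkL m hm) c d := by
    ext x; simp [shortSet, shellTwo, mkL_val]
  obtain ⟨htr, hn⟩ := cert_main h
  rw [e] at htr hn
  refine ⟨hn, fun x hx y hy => ?_⟩
  obtain ⟨g, hg, he⟩ := htr x hx y hy
  exact ⟨g, hg _ List.mem_cons_self (mkL l hl) rfl,
    hg _ (List.mem_cons_of_mem _ List.mem_cons_self) (mkL m hm) rfl, he⟩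

theorem std_three (h : Checks [(l, c), (m, d), (r, f)] x0 C X0) (hl : inL (ofList l) = true)
    (hm : inL (ofList m) = true) (hr : inL (ofList r) = true) :
    (shellThree (mkL l hl) (mkL m hm) (mkL r hr) c d f).ncard = C.n ∧
      TransThree (mkL l hl) (mkL m hm) (mkL r hr) (shellThree (mkL l hl) (mkL m hm) (mkL r hr) c d f) := by
  have e : shortSet [(l, c), (m, d), (r, f)] = shellThree (mkL l hl) (mkL m hm) (mkL r hr) c d f := by
    ext x; simp [shortSet, shellThree, mkL_val]
  obtain ⟨htr, hn⟩ := cert_main h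
  rw [e] at htr hn
  refine ⟨hn, fun x hx y hy => ?_⟩
  obtain ⟨g, hg, he⟩ := htr x hx y hy
  exact ⟨g, hg _ List.mem_cons_self (mkL l hl) rfl,
    hg _ (List.mem_cons_of_mem _ List.mem_cons_self) (mkL m hm) rfl,
    hg _ (List.mem_cons_of_mem _ (List.mem_cons_of_mem _ List.mem_cons_self)) (mkL r hr) rfl, he⟩

variable {a a' b b' e e' : leechLattice} {h : Co0}

theorem smul_mem_shellOne (ha : h • a = a') {x : leechLattice} : h • x ∈ shellOne a' c ↔ x ∈ shellOne a c := by
  simp only [shellOne, Set.mem_setOf_eq, co_norm, dot_move h a x ha]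

theorem smul_mem_shellTwo (ha : h • a = a') (hb : h • b = b') {x : leechLattice} :
    h • x ∈ shellTwo a' b' c d ↔ x ∈ shellTwo a b c d := by
  simp only [shellTwo, Set.mem_setOf_eq, co_norm, dot_move h a x ha, dot_move h b x hb]

theorem smul_mem_shellThree (ha : h • a = a') (hb : h • b = b') (he : h • e = e') {x : leechLattice} :
    h • x ∈ shellThree a' b' e' c d f ↔ x ∈ shellThree a b e c d f := by
  simp only [shellThree, Set.mem_setOf_eq, co_norm, dot_move h a x ha, dot_move h b x hb, dot_move h e x he]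

theorem get_one (ha : h • a = a') (hs : TransOne a' (shellOne a' c)) :
    (shellOne a c).ncard = (shellOne a' c).ncard ∧ TransOne a (shellOne a c) := by
  refine ⟨ncard_move h fun x => (smul_mem_shellOne ha).symm, fun x hx y hy => ?_⟩
  obtain ⟨g, hga, hg⟩ := hs _ ((smul_mem_shellOne ha).2 hx) _ ((smul_mem_shellOne ha).2 hy)
  exact ⟨h⁻¹ * g * h, fix_move ha hga, map_move hg⟩

theorem get_two (ha : h • a = a') (hb : h • b = b') (hs : TransTwo a' b' (shellTwo a' b' c d)) :
    (shellTwo a b c d).ncard = (shellTwo a' b' c d).ncard ∧ TransTwo a b (shellTwo a b c d) := by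
  refine ⟨ncard_move h fun x => (smul_mem_shellTwo ha hb).symm, fun x hx y hy => ?_⟩
  obtain ⟨g, hga, hgb, hg⟩ := hs _ ((smul_mem_shellTwo ha hb).2 hx) _ ((smul_mem_shellTwo ha hb).2 hy)
  exact ⟨h⁻¹ * g * h, fix_move ha hga, fix_move hb hgb, map_move hg⟩

theorem get_three (ha : h • a = a') (hb : h • b = b') (he : h • e = e')
    (hs : TransThree a' b' e' (shellThree a' b' e' c d f)) :
    (shellThree a b e c d f).ncard = (shellThree a' b' e' c d f).ncard ∧ TransThree a b e (shellThree a b e c d f) := by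
  refine ⟨ncard_move h fun x => (smul_mem_shellThree ha hb he).symm, fun x hx y hy => ?_⟩
  obtain ⟨g, hga, hgb, hge, hg⟩ :=
    hs _ ((smul_mem_shellThree ha hb he).2 hx) _ ((smul_mem_shellThree ha hb he).2 hy)
  exact ⟨h⁻¹ * g * h, fix_move ha hga, fix_move hb hgb, fix_move he hge, map_move hg⟩

theorem step_one (ha : h • a = a') (hs : TransOne a' (shellOne a' c)) {x p : leechLattice} (hx : x ∈ shellOne a c)
    (hp : p ∈ shellOne a' c) : ∃ k : Co0, k • a = a' ∧ k • x = p := by
  obtain ⟨g, hga, hg⟩ := hs _ ((smul_mem_shellOne ha).2 hx) _ hp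
  exact ⟨g * h, by rw [mul_smul, ha, hga], by rw [mul_smul, hg]⟩

theorem step_two (ha : h • a = a') (hb : h • b = b') (hs : TransTwo a' b' (shellTwo a' b' c d)) {x p : leechLattice}
    (hx : x ∈ shellTwo a b c d) (hp : p ∈ shellTwo a' b' c d) : ∃ k : Co0, k • a = a' ∧ k • b = b' ∧ k • x = p := by
  obtain ⟨g, hga, hgb, hg⟩ := hs _ ((smul_mem_shellTwo ha hb).2 hx) _ hp
  exact ⟨g * h, by rw [mul_smul, ha, hga], by rw [mul_smul, hb, hgb], by rw [mul_smul, hg]⟩

theorem orbit_shellTwo {x y : leechLattice} (hy : y ∈ shellTwo a x c d) (hs : TransTwo a x (shellTwo a x c d)) :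
    MulAction.orbit ↥(MulAction.stabilizer Co0 a ⊓ MulAction.stabilizer Co0 x) y = shellTwo a x c d :=
  orbit_eq hy (fun _ hg _ hz => (smul_mem_shellTwo hg.1 hg.2).2 hz) fun z hz => by
    obtain ⟨g, hga, hgx, he⟩ := hs y hy z hz
    exact ⟨g, ⟨hga, hgx⟩, he⟩

theorem orbit_shellThree {x y : leechLattice} (hy : y ∈ shellThree a b x c d f)
    (hs : TransThree a b x (shellThree a b x c d f)) :
    MulAction.orbit ↥(MulAction.stabilizer Co0 a ⊓ MulAction.stabilizer Co0 b ⊓ MulAction.stabilizer Co0 x) y =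
      shellThree a b x c d f :=
  orbit_eq hy (fun _ hg _ hz => (smul_mem_shellThree hg.1.1 hg.1.2 hg.2).2 hz) fun z hz => by
    obtain ⟨g, hga, hgb, hgx, he⟩ := hs y hy z hz
    exact ⟨g, ⟨⟨hga, hgb⟩, hgx⟩, he⟩

end Cfsg.Agent.Spor.Leech
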