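import Cfsg.Agent.Lib.Spor.Leech.HSSimple
import Cfsg.Agent.Lib.Spor.Leech.ThreeOrbits

/-!
The stabiliser of a vector of norm 48 is simple of order 495766656000.
-/

set_option autoImplicit false
set_option maxRecDepth 100000

namespace Cfsg.Agent.Spor.Leech.ThreeSimple

open Cfsg ThreeOrbits

theorem pair_eq (u x : leechLattice) : MulAction.stabilizer Co0 u ⊓ MulAction.stabilizer Co0 x =
    MulAction.stabilizer Co0 u ⊓ MulAction.stabilizer Co0 (-u - x) := by
  ext g
  simp only [Subgroup.mem_inf, MulAction.mem_stabilizer_iff]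
  refine and_congr_right fun hu => ?_
  rw [co_sub, co_neg, hu]
  exact ⟨fun h => by rw [h], fun h => sub_right_injective h⟩

theorem isHS_pair {u x : leechLattice} (hu : sqNorm (u : Vec) = 48) (hx : x ∈ shellOne u (-16)) :
    IsHS ↥(MulAction.stabilizer Co0 u ⊓ MulAction.stabilizer Co0 x) := by
  rw [pair_eq]
  have e : ((-u - x : leechLattice) : Vec) = -(u : Vec) - (x : Vec) := rfl
  refine HSSimple.isHS hu ?_ ?_
  · rw [e, sqNorm_sub]
    have h1 : sqNorm (-(u : Vec)) = sqNorm (u : Vec) := Finset.sum_congr rfl fun i _ => neg_sq _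
    have h2 : dotInt (-(u : Vec)) (x : Vec) = -dotInt (u : Vec) (x : Vec) := by
      simp [dotInt, Finset.sum_neg_distrib]
    rw [h1, h2, hu, hx.1, hx.2]; norm_num
  · rw [e]
    have h2 : dotInt (u : Vec) (-(u : Vec) - (x : Vec)) = -sqNorm (u : Vec) - dotInt (u : Vec) (x : Vec) := by
      simp only [dotInt, sqNorm, Pi.sub_apply, Pi.neg_apply, ← Finset.sum_neg_distrib, ← Finset.sum_sub_distrib]
      exact Finset.sum_congr rfl fun i _ => by ring
    rw [h2, hu, hx.2]; norm_num

theorem facts : IsSimpleGroup ↥(MulAction.stabilizer Co0 bU) ∧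
    Nat.card ↥(MulAction.stabilizer Co0 bU) = 495766656000 := by
  obtain ⟨hn, ht⟩ := members bU_norm
  obtain ⟨nA, tA⟩ := suborbit bU_norm bS_mem (d := -8) (std_two co3A_checks (by decide +kernel) (by decide +kernel))
  obtain ⟨nB, tB⟩ := suborbit bU_norm bS_mem (d := 16) (std_two co3B_checks (by decide +kernel) (by decide +kernel))
  obtain ⟨nC, tC⟩ := suborbit bU_norm bS_mem (d := 0) (std_two co3C_checks (by decide +kernel) (by decide +kernel))
  obtain ⟨nD, tD⟩ := suborbit bU_norm bS_mem (d := 8) (std_two co3D_checks (by decide +kernel) (by decide +kernel))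
  replace nA : (shellTwo bU bS (-16) (-8)).ncard = 352 := nA
  replace nB : (shellTwo bU bS (-16) 16).ncard = 1100 := nB
  replace nC : (shellTwo bU bS (-16) 0).ncard = 4125 := nC
  replace nD : (shellTwo bU bS (-16) 8).ncard = 5600 := nD
  obtain ⟨hS, hH⟩ := isHS_pair bU_norm bS_mem
  have horb : MulAction.orbit ↥(MulAction.stabilizer Co0 bU) bS = shellOne bU (-16) :=
    orbit_eq bS_mem (fun _ hg _ hz => (smul_mem_shellOne hg).2 hz) fun z hz => by
      obtain ⟨g, hga, he⟩ := ht bS bS_mem z hz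
      exact ⟨g, hga, he⟩
  have hcard := StabSimple.card_eq _ bS 11178 44352000 (by rw [horb, hn]) hH
  refine ⟨?_, by rw [hcard]⟩
  refine StabSimple.simple _ bS hH (by norm_num) (n := 11178) (by rw [horb, hn]) (by norm_num) hS
    [shellTwo bU bS (-16) (-8), shellTwo bU bS (-16) 16, shellTwo bU bS (-16) 0, shellTwo bU bS (-16) 8]
    ?_ ?_ ?_ ?_ ?_ ?_ ?_ fun N hN _ => SimpleOfStab.exists_char_two (m := 5589) hN ⟨2794, rfl⟩ (by norm_num)
  · simp only [List.pairwise_cons, List.mem_cons, List.not_mem_nil, or_false, forall_eq_or_imp, forall_eq,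
      List.Pairwise.nil, and_true, false_implies, implies_true]
    refine ⟨⟨?_, ?_, ?_⟩, ⟨?_, ?_⟩, ?_⟩ <;>
      exact Set.disjoint_left.2 fun y h h' => by have := h.2.2; have := h'.2.2; omega
  · intro O hO y hy z hz
    simp only [List.mem_cons, List.not_mem_nil, or_false] at hO
    rcases hO with rfl | rfl | rfl | rfl
    · obtain ⟨g, a, b, c⟩ := tA y hy z hz; exact ⟨g, a, b, c⟩
    · obtain ⟨g, a, b, c⟩ := tB y hy z hz; exact ⟨g, a, b, c⟩
    · obtain ⟨g, a, b, c⟩ := tC y hy z hz; exact ⟨g, a, b, c⟩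
    · obtain ⟨g, a, b, c⟩ := tD y hy z hz; exact ⟨g, a, b, c⟩
  · intro O hO
    simp only [List.mem_cons, List.not_mem_nil, or_false] at hO
    rw [horb]
    rcases hO with rfl | rfl | rfl | rfl <;> exact fun y hy => ⟨hy.1, hy.2.1⟩
  · intro O hO
    simp only [List.mem_cons, List.not_mem_nil, or_false] at hO
    rcases hO with rfl | rfl | rfl | rfl <;>
      exact fun h => by have := h.2.2; rw [dot_self, bS_mem.1] at this; omega
  · intro y hy
    rw [horb] at hy
    refine or_iff_not_imp_left.2 fun hne => ?_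
    have h := split_cover (S := shellOne bU (-16)) (fun z hz => hz.1) bS_mem {-8, 16, 0, 8} (by decide) ?_ hy
    · simp only [hne, false_or, Finset.mem_insert, Finset.mem_singleton] at h
      rcases h with h | h | h | h
      · exact ⟨_, List.mem_cons_self, hy.1, hy.2, h⟩
      · exact ⟨_, List.mem_cons_of_mem _ List.mem_cons_self, hy.1, hy.2, h⟩
      · exact ⟨_, List.mem_cons_of_mem _ (List.mem_cons_of_mem _ List.mem_cons_self), hy.1, hy.2, h⟩
      · exact ⟨_, List.mem_cons_of_mem _ (List.mem_cons_of_mem _ (List.mem_cons_of_mem _ List.mem_cons_self)),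
          hy.1, hy.2, h⟩
    · have e : ∀ k, {z ∈ shellOne bU (-16) | dotInt (bS : Vec) (z : Vec) = k} = shellTwo bU bS (-16) k := fun k => by
        ext z; simp [shellOne, shellTwo, and_assoc]
      rw [hn, Finset.sum_insert (by decide), Finset.sum_insert (by decide), Finset.sum_pair (by decide),
        e, e, e, e, nA, nB, nC, nD]; rfl
  · exact ⟨_, List.mem_cons_self, by rw [nA]; norm_num⟩
  · simp only [List.map_cons, List.map_nil, nA, nB, nC, nD]
    decide +kernel

theorem isCo3 {v : leechLattice} (hv : sqNorm (v : Vec) = 48) : IsCo3 ↥(MulAction.stabilizer Co0 v) := by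
  obtain ⟨k, hk⟩ := exists_move48 hv bU_norm
  have e := StabSimple.oneEquiv k hk
  exact ⟨e.isSimpleGroup_congr.2 facts.1, (Nat.card_congr e.toEquiv).trans facts.2⟩

end Cfsg.Agent.Spor.Leech.ThreeSimple
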