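import Cfsg.Agent.Lib.Spor.Leech.MonsterStab
import Cfsg.Agent.Lib.Spor.Leech.Frame
import Cfsg.Prelude.Def_MonsterType

/-!
Lattice facts about the classes fixed by all sign changes modulo the class of an axis, and a witness
that the stabiliser of a short vector moves some orthogonal class.
-/

set_option autoImplicit false
set_option maxRecDepth 100000

namespace Cfsg.Agent.Spor.Leech.Baby

open Cfsg

theorem oct_pair : ∀ i j : GolayPt, i = j ∨ ∃ o ∈ Golay.octList, i ∈ Golay.pts o ∧ j ∈ Golay.pts o := by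
  decide +kernel

theorem cls_axis (i j : GolayPt) : cls (axis i) = cls (axis j) := by
  have h : axis i ∈ crossOf (axis j) := by
    rw [crossOf_axis]; exact mem_stdL.2 ⟨i, Or.inl rfl⟩
  exact h.2

theorem support_par (a : Vec) (i : GolayPt) : i ∈ support₂ (par a) ↔ a i % 2 = 1 := by
  rw [support₂, Finset.mem_filter]
  simp only [Finset.mem_univ, true_and]
  exact intCast_zmod2_ne_zero

theorem code_inter_univ {s : Finset GolayPt} (hs : s ∈ supports (golayCode : Set (GolayPt → ZMod 2))) :
    s.card = 0 ∨ 8 ≤ s.card := by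
  obtain ⟨w, hw, rfl⟩ := hs
  rcases code_weight hw with h | h | h | h | h <;> omega

/-- A short vector fixed by the sign changes modulo an axis class has all entries divisible by four. -/
theorem four_dvd {x : leechLattice} (hn : sqNorm (x : Vec) ≤ 64)
    (h : ∀ (c : Finset GolayPt) (hc : c ∈ supports (golayCode : Set (GolayPt → ZMod 2))),
      cls (mono (one_mem M24) hc • x) = cls x ∨ cls (mono (one_mem M24) hc • x) = cls (x + axis none)) :
    ∀ i, (4 : ℤ) ∣ (x : Vec) i := by
  classical
  obtain ⟨m, a, hm, hx, hca, -⟩ := mem_lattice.1 x.2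
  -- the restriction to a code word, up to half an axis, is in the lattice
  have key : ∀ (c : Finset GolayPt), c ∈ supports (golayCode : Set (GolayPt → ZMod 2)) →
      ∃ z ∈ leechLattice, ∃ e : ℤ, (e = 0 ∨ e = 1) ∧
        ∀ i, z i = -(if i ∈ c then (x : Vec) i else 0) - e * (if i = none then 4 else 0) := by
    intro c hc
    rcases h c hc with e | e <;> obtain ⟨z, hz, ez⟩ := cls_eq.1 e
    · refine ⟨z, hz, 0, Or.inl rfl, fun i => ?_⟩
      have := congrFun ez i
      simp only [Pi.sub_apply, mono_apply, signedPerm, Equiv.Perm.one_def, Equiv.refl_symm, Equiv.refl_apply,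
        Pi.smul_apply, nsmul_eq_mul, Nat.cast_ofNat] at this
      split_ifs at this ⊢ <;> omega
    · refine ⟨z, hz, 1, Or.inr rfl, fun i => ?_⟩
      have := congrFun ez i
      simp only [AddSubgroup.coe_add, axis_val, Pi.sub_apply, Pi.add_apply, Pi.single_apply, mono_apply, signedPerm,
        Equiv.Perm.one_def, Equiv.refl_symm, Equiv.refl_apply, Pi.smul_apply, nsmul_eq_mul, Nat.cast_ofNat] at this
      split_ifs at this ⊢ <;> omega
  -- the entries are even
  have hm0 : m = 0 := by
    rcases hm with hm | hm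
    · exact hm
    exfalso
    obtain ⟨c, hc, hi, hj⟩ := exists_code_sep (i := none) (j := some 0) (by simp)
    obtain ⟨z, hz, e, he, hze⟩ := key c hc
    obtain ⟨n, b, -, hzb, -, -⟩ := mem_lattice.1 hz
    have h1 := hze none
    have h2 := hze (some 0)
    have hx1 := hx none
    rw [hzb, if_pos hi, if_pos rfl] at h1
    rw [hzb, if_neg hj, if_neg (by simp)] at h2
    omega
  subst hm0
  -- the pattern meets each code word in a code word
  set d := support₂ (par a) with hd
  have hmeet : ∀ c ∈ supports (golayCode : Set (GolayPt → ZMod 2)),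
      d ∩ c ∈ supports (golayCode : Set (GolayPt → ZMod 2)) := by
    intro c hc
    obtain ⟨z, hz, e, he, hze⟩ := key c hc
    obtain ⟨n, b, hn', hzb, hcb, -⟩ := mem_lattice.1 hz
    have hn0 : n = 0 := by
      have h1 := hze none
      have hx1 := hx none
      rw [hzb] at h1
      split_ifs at h1 <;> omega
    have e' : d ∩ c = support₂ (par b) := by
      ext i
      rw [Finset.mem_inter, hd, support_par, support_par]
      have h1 := hze i
      have hx1 := hx i
      rw [hzb] at h1
      constructor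
      · rintro ⟨h2, h3⟩
        rw [if_pos h3] at h1
        split_ifs at h1 <;> omega
      · intro h2
        by_cases h3 : i ∈ c
        · rw [if_pos h3] at h1
          exact ⟨by split_ifs at h1 <;> omega, h3⟩
        · rw [if_neg h3] at h1
          split_ifs at h1 <;> omega
    rw [e']
    exact supports_iff.2 hcb
  have hdz : d = ∅ := by
    by_contra hne
    obtain ⟨i, hi⟩ := Finset.nonempty_iff_ne_empty.2 hne
    by_cases hu : ∃ j, j ∉ d
    · obtain ⟨j, hj⟩ := hu
      obtain ⟨o, ho, hio, hjo⟩ := (oct_pair i j).resolve_left fun e => hj (e ▸ hi)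
      have hsup : Golay.pts o ∈ Cfsg.octads := Golay.mem_octads.2 ⟨o, ho, rfl⟩
      have hcard : (Golay.pts o).card = 8 := hsup.2
      have hlt : (d ∩ Golay.pts o).card < 8 := by
        rw [← hcard]
        exact Finset.card_lt_card ⟨Finset.inter_subset_right, fun hsub => hj (Finset.mem_inter.1 (hsub hjo)).1⟩
      have hpos : 0 < (d ∩ Golay.pts o).card := Finset.card_pos.2 ⟨i, Finset.mem_inter.2 ⟨hi, hio⟩⟩
      rcases code_inter_univ (hmeet _ hsup.1) with h' | h' <;> omega
    · simp only [not_exists, not_not] at hu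
      have h1 : ∀ i, (4 : ℤ) ≤ ((x : Vec) i) ^ 2 := fun i => by
        have h2 := (support_par a i).1 (hu i)
        have hx1 := hx i
        have h3 : (x : Vec) i ≤ -2 ∨ 2 ≤ (x : Vec) i := by omega
        rcases h3 with h3 | h3 <;> nlinarith
      have h2 : (24 : ℤ) * 4 ≤ sqNorm (x : Vec) := by
        calc (24 : ℤ) * 4 = ∑ _i : GolayPt, (4 : ℤ) := by simp
          _ ≤ _ := Finset.sum_le_sum fun i _ => h1 i
      omega
  intro i
  have h1 : a i % 2 ≠ 1 := fun h2 => by
    have h3 := (support_par a i).2 h2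
    rw [← hd, hdz] at h3
    simp at h3
  have hx1 := hx i
  omega

/-- The entries of a vector of norm 64 with entries divisible by four, outside the axis class. -/
theorem tetrad {x : leechLattice} (hn : sqNorm (x : Vec) = 64) (h4 : ∀ i, (4 : ℤ) ∣ (x : Vec) i)
    (hax : cls x ≠ cls (axis none)) :
    (Finset.univ.filter fun i => (x : Vec) i ≠ 0).card = 4 ∧ ∀ i, (x : Vec) i ≠ 0 → (x : Vec) i = 4 ∨ (x : Vec) i = -4 := by
  classical
  choose a ha using h4
  have hsum : ∑ i, (a i) ^ 2 = 4 := by
    have : sqNorm (x : Vec) = 16 * ∑ i, (a i) ^ 2 := by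
      rw [sqNorm, Finset.mul_sum]
      exact Finset.sum_congr rfl fun i _ => by rw [ha i]; ring
    omega
  have hone : ∀ i, a i = 0 ∨ a i = 1 ∨ a i = -1 := by
    intro i
    by_contra hc
    have h2 : a i ≤ -2 ∨ 2 ≤ a i := by omega
    have h4' : (4 : ℤ) ≤ a i ^ 2 := by rcases h2 with h2 | h2 <;> nlinarith
    have hs := Finset.sum_erase_add Finset.univ (fun j => a j ^ 2) (Finset.mem_univ i)
    have hnn : 0 ≤ ∑ j ∈ Finset.univ.erase i, a j ^ 2 := Finset.sum_nonneg fun j _ => sq_nonneg _
    have hz : ∀ j, j ≠ i → a j = 0 := fun j hj => by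
      have := (Finset.sum_eq_zero_iff_of_nonneg fun k _ => sq_nonneg (a k)).1
        (show ∑ j ∈ Finset.univ.erase i, a j ^ 2 = 0 by omega) j (by simp [hj])
      simpa using this
    have hi4 : a i ^ 2 = 4 := by omega
    have hi2 : a i = 2 ∨ a i = -2 := by
      rcases h2 with h2 | h2
      · right; nlinarith
      · left; nlinarith
    refine hax ?_
    rw [← cls_axis i none]
    rcases hi2 with e | e
    · exact congrArg cls (Subtype.ext (funext fun j => by
        rw [ha j, axis_val]
        rcases eq_or_ne j i with rfl | hj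
        · rw [e, Pi.single_eq_same]; norm_num
        · rw [hz j hj, Pi.single_eq_of_ne hj]; norm_num))
    · rw [show x = -axis i from Subtype.ext (funext fun j => by
        rw [ha j, AddSubgroup.coe_neg, Pi.neg_apply, axis_val]
        rcases eq_or_ne j i with rfl | hj
        · rw [e, Pi.single_eq_same]; norm_num
        · rw [hz j hj, Pi.single_eq_of_ne hj]; norm_num)]
      exact cls_eq.2 ⟨(-axis i : leechLattice), (-axis i : leechLattice).2, by
        simp only [AddSubgroup.coe_neg]; rw [two_nsmul]; abel⟩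
  refine ⟨?_, fun i hi => ?_⟩
  · have e : ∀ i, a i ^ 2 = if (x : Vec) i ≠ 0 then 1 else 0 := fun i => by
      rw [ha i]
      rcases hone i with e | e | e <;> rw [e] <;> norm_num
    rw [Finset.sum_congr rfl fun i _ => e i, Finset.sum_boole] at hsum
    exact_mod_cast hsum
  · rw [ha i] at hi ⊢
    rcases hone i with e | e | e <;> rw [e] at hi ⊢ <;> norm_num at hi <;> norm_num

/-- A family closed under differences and coordinate permutations that holds a tetrad vector holds a
short one. -/
theorem exists_short_diff {P : leechLattice → Prop} (hsub : ∀ x y, P x → P y → P (x - y))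
    (hperm : ∀ (σ : Equiv.Perm GolayPt) (hσ : σ ∈ M24) (x : leechLattice), P x → P (mono hσ empty_code • x))
    {x : leechLattice} (hx : P x) (hcard : (Finset.univ.filter fun i => (x : Vec) i ≠ 0).card = 4)
    (hval : ∀ i, (x : Vec) i ≠ 0 → (x : Vec) i = 4 ∨ (x : Vec) i = -4) :
    ∃ u, P u ∧ sqNorm (u : Vec) = 32 := by
  classical
  obtain ⟨a, b, c, d, hab, hac, had, hbc, hbd, hcd, hS⟩ := Finset.card_eq_four.1 hcard
  have hmem : ∀ i, (x : Vec) i ≠ 0 ↔ i = a ∨ i = b ∨ i = c ∨ i = d := fun i => by
    have := Finset.ext_iff.1 hS i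
    simpa using this
  obtain ⟨e, he⟩ : ∃ e : GolayPt, e ∉ ({a, b, c, d} : Finset GolayPt) := by
    by_contra hcon
    simp only [not_exists, not_not] at hcon
    have h1 := Finset.card_le_card (fun i _ => hcon i : (Finset.univ : Finset GolayPt) ⊆ {a, b, c, d})
    rw [Finset.card_univ, Golay.card_golayPt] at h1
    have := h1.trans (Finset.card_le_four)
    omega
  simp only [Finset.mem_insert, Finset.mem_singleton, not_or] at he
  obtain ⟨σ, hσ, hs, -⟩ := exists_move [a, b, c, d] (by simp [hab, hac, had, hbc, hbd, hcd]) (by simp)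
  obtain ⟨τ, hτ, ht, -⟩ := exists_move [a, b, c, e]
    (by simp [hab, hac, hbc, Ne.symm he.1, Ne.symm he.2.1, Ne.symm he.2.2.1]) (by simp)
  have hρ : τ * σ⁻¹ ∈ M24 := M24.mul_mem hτ (M24.inv_mem hσ)
  have hρv : ∀ i : Fin 5, i.val < 4 → (τ * σ⁻¹) (σ (Golay.base5 i)) = τ (Golay.base5 i) := fun i _ => by
    rw [Equiv.Perm.mul_apply, Equiv.Perm.inv_def, Equiv.symm_apply_apply]
  have ra : (τ * σ⁻¹) a = a := by
    have := hρv 0 (by decide); rw [hs 0 (by simp), ht 0 (by simp)] at this; simpa using this
  have rb : (τ * σ⁻¹) b = b := by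
    have := hρv 1 (by decide); rw [hs 1 (by simp), ht 1 (by simp)] at this; simpa using this
  have rc : (τ * σ⁻¹) c = c := by
    have := hρv 2 (by decide); rw [hs 2 (by simp), ht 2 (by simp)] at this; simpa using this
  have rd : (τ * σ⁻¹) d = e := by
    have := hρv 3 (by decide); rw [hs 3 (by simp), ht 3 (by simp)] at this; simpa using this
  generalize τ * σ⁻¹ = ρ at hρ ra rb rc rd
  have hy : ∀ i, ((mono hρ empty_code • x : leechLattice) : Vec) i = (x : Vec) (ρ.symm i) := fun i => by
    rw [mono_apply, signedPerm, if_neg (Finset.notMem_empty i)]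
  refine ⟨x - mono hρ empty_code • x, hsub _ _ hx (hperm ρ hρ x hx), ?_⟩
  have hval' : ∀ i, i ≠ d → i ≠ e → (x : Vec) i = (x : Vec) (ρ.symm i) := by
    intro i hid hie
    by_cases h3 : i = a ∨ i = b ∨ i = c
    · rcases h3 with rfl | rfl | rfl
      · rw [ρ.symm_apply_eq.2 ra.symm]
      · rw [ρ.symm_apply_eq.2 rb.symm]
      · rw [ρ.symm_apply_eq.2 rc.symm]
    · have h0 : (x : Vec) i = 0 := by
        by_contra h'
        rcases (hmem i).1 h' with h'' | h'' | h'' | h'' <;> simp_all
      have h1 : (x : Vec) (ρ.symm i) = 0 := by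
        by_contra h'
        rcases (hmem _).1 h' with h'' | h'' | h'' | h'' <;> rw [Equiv.symm_apply_eq] at h'' <;> simp_all
      rw [h0, h1]
  have hxe : (x : Vec) e = 0 := by
    by_contra h'
    rcases (hmem e).1 h' with h'' | h'' | h'' | h'' <;> simp_all
  have hye : (x : Vec) (ρ.symm e) = (x : Vec) d := by rw [ρ.symm_apply_eq.2 rd.symm]
  have hyd : (x : Vec) (ρ.symm d) = 0 := by
    by_contra h'
    rcases (hmem _).1 h' with h'' | h'' | h'' | h'' <;> rw [Equiv.symm_apply_eq] at h''
    · exact had.symm (h''.trans ra)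
    · exact hbd.symm (h''.trans rb)
    · exact hcd.symm (h''.trans rc)
    · exact he.2.2.2 (h''.trans rd).symm
  have hde : d ≠ e := Ne.symm he.2.2.2
  rw [sqNorm, Finset.sum_eq_add d e hde (fun i _ hi => by
      rw [AddSubgroup.coe_sub, Pi.sub_apply, hy, ← hval' i hi.1 hi.2]; ring) (by simp) (by simp),
    AddSubgroup.coe_sub, Pi.sub_apply, Pi.sub_apply, hy, hy, hyd, hye, hxe]
  rcases hval d ((hmem d).2 (Or.inr (Or.inr (Or.inr rfl)))) with e' | e' <;> rw [e'] <;> norm_num

theorem move_pts : ∃ m ∈ Golay.codeList, ∃ i j : GolayPt, i ∈ Golay.pts m ∧ j ∉ Golay.pts m ∧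
    none ∉ Golay.pts m ∧ (some 0 : GolayPt) ∉ Golay.pts m ∧ j ≠ none ∧ j ≠ some 0 := by
  decide +kernel

/-- An element fixing the short vector moves an orthogonal class modulo that vector. -/
theorem exists_moved : ∃ (g : Co0) (x : leechLattice), g • Cfsg.Spor.leechU = Cfsg.Spor.leechU ∧
    (16 : ℤ) ∣ dotInt (x : Vec) Cfsg.Spor.vecU ∧ cls (g • x) ≠ cls x ∧ cls (g • x) ≠ cls (x + Cfsg.Spor.leechU) := by
  obtain ⟨m, hm, i, j, hi, hj, hn, h0, hjn, hj0⟩ := move_pts
  have hc : Golay.pts m ∈ supports (golayCode : Set (GolayPt → ZMod 2)) := Golay.mem_supports.2 ⟨m, hm, rfl⟩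
  have hij : i ≠ j := fun e => hj (e ▸ hi)
  have hin : i ≠ none := fun e => hn (e ▸ hi)
  have hi0 : i ≠ some 0 := fun e => h0 (e ▸ hi)
  let g : Co0 := mono (one_mem M24) hc
  let x : leechLattice := ⟨Pi.single i 4 + Pi.single j 4, pair_mem i j (Or.inl rfl) (Or.inl rfl)⟩
  have hfix : g • Cfsg.Spor.leechU = Cfsg.Spor.leechU := Subtype.ext (funext fun p => by
    show ((mono (one_mem M24) hc • Cfsg.Spor.leechU : leechLattice) : Vec) p = Cfsg.Spor.vecU p
    rw [mono_apply, signedPerm]
    simp only [Equiv.Perm.one_def, Equiv.refl_symm, Equiv.refl_apply]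
    show (if p ∈ Golay.pts m then -Cfsg.Spor.vecU p else Cfsg.Spor.vecU p) = _
    by_cases hp : p ∈ Golay.pts m
    · have : Cfsg.Spor.vecU p = 0 := if_neg (by rintro (rfl | rfl) <;> contradiction)
      rw [if_pos hp, this, neg_zero]
    · rw [if_neg hp])
  have hdiff : cls (g • x) = cls (x + axis none) := by
    rw [cls_eq]
    have h1 : Congr2 (axis i : Vec) (axis none : Vec) := cls_eq.1 (cls_axis i none)
    obtain ⟨w, hw, ew⟩ := h1
    refine ⟨w - (axis i : Vec), sub_mem hw (axis i).2, funext fun p => ?_⟩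
    have ew' := congrFun ew p
    simp only [Pi.sub_apply, Pi.smul_apply, nsmul_eq_mul, Nat.cast_ofNat, AddSubgroup.coe_add, Pi.add_apply,
      axis_val] at ew' ⊢
    show (((mono (one_mem M24) hc • x : leechLattice)) : Vec) p - _ = _
    rw [mono_apply, signedPerm]
    simp only [Equiv.Perm.one_def, Equiv.refl_symm, Equiv.refl_apply, x, Pi.add_apply]
    by_cases hp : p ∈ Golay.pts m
    · have hpj : p ≠ j := fun e => hj (e ▸ hp)
      rw [if_pos hp, Pi.single_eq_of_ne hpj]
      rcases eq_or_ne p i with rfl | hpi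
      · simp only [Pi.single_eq_same] at ew' ⊢; omega
      · simp only [Pi.single_eq_of_ne hpi] at ew' ⊢; omega
    · have hpi : p ≠ i := fun e => hp (e ▸ hi)
      rw [if_neg hp]
      simp only [Pi.single_eq_of_ne hpi] at ew' ⊢
      omega
  refine ⟨g, x, hfix, ?_, ?_, ?_⟩
  · have : dotInt (x : Vec) Cfsg.Spor.vecU = 0 := by
      refine Finset.sum_eq_zero fun p _ => ?_
      by_cases hp : p = none ∨ p = some 0
      · have h1 : (x : Vec) p = 0 := by
          show (Pi.single i 4 + Pi.single j 4 : Vec) p = 0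
          rcases hp with rfl | rfl
          · rw [Pi.add_apply, Pi.single_eq_of_ne hin.symm, Pi.single_eq_of_ne hjn.symm, add_zero]
          · rw [Pi.add_apply, Pi.single_eq_of_ne hi0.symm, Pi.single_eq_of_ne hj0.symm, add_zero]
        rw [h1, zero_mul]
      · show _ * (if p = none ∨ p = some 0 then (4 : ℤ) else 0) = 0
        rw [if_neg hp, mul_zero]
    rw [this]; exact dvd_zero _
  · intro e
    rw [hdiff, cls_eq] at e
    obtain ⟨w, hw, ew⟩ := e
    have hc2 : Congr2 (axis none : Vec) ((0 : leechLattice) : Vec) := ⟨w, hw, by rw [← ew]; simp⟩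
    rcases congr_short (axis none).2 (0 : leechLattice).2 (axis_norm none).le (by simp [sqNorm]) hc2 with h | h | h
    · have := axis_norm none; rw [h] at this; simp [sqNorm] at this
    · have := axis_norm none; rw [h] at this; simp [sqNorm] at this
    · simp [sqNorm] at h
  · intro e
    rw [hdiff, cls_eq] at e
    obtain ⟨w, hw, ew⟩ := e
    have hc2 : Congr2 (axis none : Vec) (Cfsg.Spor.leechU : Vec) := ⟨w, hw, by rw [← ew]; simp⟩
    have hu : sqNorm (Cfsg.Spor.leechU : Vec) = 32 := by
      show sqNorm Cfsg.Spor.vecU = 32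
      decide +kernel
    have ha := axis_norm none
    rcases congr_short (axis none).2 Cfsg.Spor.leechU.2 ha.le (by omega) hc2 with h | h | ⟨-, h, -⟩
    · rw [h] at ha; omega
    · rw [h, norm_neg] at ha; omega
    · omega

end Cfsg.Agent.Spor.Leech.Baby
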