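import Cfsg.Agent.Lib.Spor.Leech.MonsterPair
import Cfsg.Agent.Lib.Spor.Leech.BabyShape
import Cfsg.Agent.Lib.Spor.Leech.TwoSimple
import Cfsg.Agent.Lib.Fus.Co1Centre.Centraliser

/-!
In a group of Monster type the centraliser of an involution of the extraspecial group outside the class
of the centre is, modulo that involution, a group of Baby Monster type.
-/

set_option autoImplicit false
set_option maxRecDepth 100000
set_option linter.style.haveILetI false

noncomputable section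

namespace Cfsg.Agent.Spor.Leech.Baby

open Cfsg
open scoped Pointwise

variable {G : Type*} [Group G] {z : G} {Q : Subgroup (Subgroup.centralizer ({z} : Set G))} [hQn : Q.Normal]
  {e : (Subgroup.centralizer ({z} : Set G)) ⧸ Q ≃* Cfsg.Spor.Co1} {ψ : leechLattice → Q ⧸ Subgroup.center Q}
  [Finite G]

theorem cls_neg (v : leechLattice) : cls (-v) = cls v := cls_iff_double.2 ⟨-v, by abel⟩

theorem sqv_eq (h : MT z Q e ψ) {v : leechLattice} {x : G} (hx : Rep ψ v x) :
    MT.sqv x = ((sqNorm (v : Vec) / 16 : ℤ) : ZMod 2) := by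
  classical
  have hp := h.sq_parity hx
  unfold MT.sqv
  by_cases hc : x * x = 1
  · rw [if_pos hc, eq_comm, ZMod.intCast_zmod_eq_zero_iff_dvd]
    have := hp.1 hc
    omega
  · rw [if_neg hc]
    have h1 : sqNorm (v : Vec) / 16 % 2 = 1 := by
      rcases Int.emod_two_eq_zero_or_one (sqNorm (v : Vec) / 16) with h2 | h2
      · exact absurd (hp.2 h2) hc
      · exact h2
    rw [show sqNorm (v : Vec) / 16 = 2 * (sqNorm (v : Vec) / 16 / 2) + 1 by omega, Int.cast_add, Int.cast_mul,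
      show ((2 : ℤ) : ZMod 2) = 0 from rfl, zero_mul, zero_add, Int.cast_one]

/-- Two members commute exactly when the product of their vectors is divisible by 16. -/
theorem comm_iff (h : MT z Q e ψ) {v w : leechLattice} {x y : G} (hv : Rep ψ v x) (hw : Rep ψ w y) :
    x * y = y * x ↔ (16 : ℤ) ∣ dotInt (v : Vec) (w : Vec) := by
  classical
  have h1 := h.sqv_mul (MT.rep_mem hv) (MT.rep_mem hw)
  rw [sqv_eq h (h.rep_add hv hw), sqv_eq h hv, sqv_eq h hw] at h1
  obtain ⟨p, hp⟩ := norm_dvd v.2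
  obtain ⟨q, hq⟩ := norm_dvd w.2
  obtain ⟨r, hr⟩ := norm_dvd (v + w).2
  have hs : sqNorm ((v + w : leechLattice) : Vec) = sqNorm (v : Vec) + sqNorm (w : Vec) + 2 * dotInt (v : Vec) (w : Vec) := by
    simp only [sqNorm, dotInt, AddSubgroup.coe_add, Pi.add_apply, Finset.mul_sum, ← Finset.sum_add_distrib]
    exact Finset.sum_congr rfl fun i _ => by ring
  rw [hp, hq, hr, Int.mul_ediv_cancel_left _ (by norm_num), Int.mul_ediv_cancel_left _ (by norm_num),
    Int.mul_ediv_cancel_left _ (by norm_num)] at h1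
  rw [hp, hq, hr] at hs
  have hd : dotInt (v : Vec) (w : Vec) = 8 * (r - p - q) := by omega
  rw [hd]
  have h2 : MT.beta y x = ((r - p - q : ℤ) : ZMod 2) := by
    rw [Int.cast_sub, Int.cast_sub, h1]; ring
  unfold MT.beta at h2
  constructor
  · intro hc
    rw [if_pos hc.symm, eq_comm, ZMod.intCast_zmod_eq_zero_iff_dvd] at h2
    obtain ⟨k, hk⟩ := h2
    exact ⟨k, by push_cast at hk; omega⟩
  · rintro ⟨k, hk⟩
    by_contra hc
    rw [if_neg fun e' => hc e'.symm] at h2
    have h3 : ((r - p - q : ℤ) : ZMod 2) = 0 := by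
      rw [ZMod.intCast_zmod_eq_zero_iff_dvd]; exact ⟨k, by push_cast; omega⟩
    exact one_ne_zero (h2.trans h3)

theorem not_conj32 (h : MT z Q e ψ) {g : G} (hx : g * z * g⁻¹ ∈ QG Q) (hne : g * z * g⁻¹ ≠ z) {u : leechLattice}
    {y : G} (hy : Rep ψ u y) (hu : sqNorm (u : Vec) = 32) : ¬ IsConj z y := fun hc => by
  obtain ⟨-, -, hyz⟩ := h.rep_involution hy (Or.inl hu)
  obtain ⟨w, hw, hr⟩ := (h.conj_iff hx hne (MT.rep_mem hy)).1 ⟨hc, hyz⟩
  rcases congr_short w.2 u.2 (by omega) (by omega) (cls_eq.1 (h.rep_cls hr hy)) with e' | e' | ⟨-, e', -⟩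
  · rw [e'] at hw; omega
  · rw [e', norm_neg] at hw; omega
  · omega

variable {g : G}

/-- The common part of two extraspecial groups holds an involution outside the class of the centre. -/
theorem exists_inter32 (h : MT z Q e ψ) (hx : g * z * g⁻¹ ∈ QG Q) (hne : g * z * g⁻¹ ≠ z) :
    ∃ y ∈ QG Q ⊓ PG Q g, ∃ u : leechLattice, sqNorm (u : Vec) = 32 ∧ Rep ψ u y := by
  classical
  obtain ⟨v, -, hr, hv, hD, hE, -, -⟩ := h.pair hx hne
  set s := g * z * g⁻¹ with hs
  have hs1 : s ≠ 1 := fun e' => h.z_ne (conj_eq_one_iff.1 e')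
  have hX := h.lift_imageX hr hs1 hne
  obtain ⟨t, ht⟩ := exists_to_axis v hv
  have hle : lift e (imageE Q g) ≤ stabC v := fun k hk => hX ▸ mem_lift.2 (h.imageE_le (mem_lift.1 hk))
  have hn : ∀ a ∈ stabC v, ∀ b ∈ lift e (imageE Q g), a * b * a⁻¹ ∈ lift e (imageE Q g) := by
    intro a ha b hb
    rw [← hX, mem_lift] at ha
    rw [mem_lift] at hb ⊢
    simpa using h.imageE_norm _ ha _ hb
  have hp : IsPGroup 2 (lift e (imageE Q g)) :=
    IsPGroup.of_card (n := 12) (by rw [card_lift, hE]; norm_num)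
  haveI : Finite signs := Nat.finite_of_card_ne_zero (by rw [card_signs]; norm_num)
  have hsig : (lift e (imageE Q g)).map (MulAut.conj t).toMonoidHom = signs :=
    Subgroup.eq_of_le_of_card_ge (two_group_64 ht hp hle hn) (by
      rw [Subgroup.card_map_of_injective (MulAut.conj t).injective, card_lift, hE, card_signs]; norm_num)
  let P : leechLattice → Prop := fun w => ∃ y ∈ QG Q ⊓ PG Q g, Rep ψ (t⁻¹ • w) y
  have hneg : ∀ (k : Co0) (w : leechLattice), k • (-w) = -(k • w) := fun k w => co_neg k w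
  have hadd : ∀ (k : Co0) (a b : leechLattice), k • (a + b) = k • a + k • b := fun k a b => co_add k a b
  have hsub : ∀ x y, P x → P y → P (x - y) := by
    rintro x y ⟨a, ha, hra⟩ ⟨b, hb, hrb⟩
    refine ⟨a * b, mul_mem ha hb, ?_⟩
    rw [sub_eq_add_neg, hadd, hneg]
    exact h.rep_add hra (h.rep_congr hrb (cls_neg _).symm)
  have hperm : ∀ (σ : Equiv.Perm GolayPt) (hσ : σ ∈ M24) (x : leechLattice), P x → P (mono hσ empty_code • x) := by
    rintro σ hσ x ⟨a, ⟨haQ, haP⟩, hra⟩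
    have hk : t⁻¹ * mono hσ empty_code * t ∈ stabC v := by
      have h1 : mono hσ empty_code ∈ (stabC v).map (MulAut.conj t).toMonoidHom := by
        rw [← stabC_conj ht, stabC_eq_crossStab]; exact mono_mem hσ empty_code
      obtain ⟨k, hk, ek⟩ := h1
      rw [← ek]
      show t⁻¹ * (t * k * t⁻¹) * t ∈ _
      rwa [show t⁻¹ * (t * k * t⁻¹) * t = k by group]
    rw [← hX, mem_lift, mem_imageX] at hk
    obtain ⟨c, hc, hce⟩ := hk
    have hce' : (QuotientGroup.mk (t⁻¹ * mono hσ empty_code * t) : Cfsg.Spor.Co1) = e (QuotientGroup.mk c) := by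
      rw [hce, MulEquiv.apply_symm_apply]
    refine ⟨(c : G) * a * (c : G)⁻¹,
      ⟨h.ext.norm _ (Subgroup.mem_centralizer_singleton_iff.1 c.2) _ haQ, (h.ext' g).norm _ hc _ haP⟩, ?_⟩
    have h1 := h.rep_conj hce' hra
    rwa [mul_smul, mul_smul, smul_inv_smul] at h1
  have hshort : ∀ (x : leechLattice), P x → sqNorm (x : Vec) ≤ 64 → ∀ i, (4 : ℤ) ∣ (x : Vec) i := by
    rintro x ⟨a, ⟨haQ, haP⟩, hra⟩ hxn
    refine four_dvd hxn fun c hc => ?_
    have hm : t⁻¹ * mono (one_mem M24) hc * t ∈ lift e (imageE Q g) := by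
      have h1 : mono (one_mem M24) hc ∈ signs := mem_signs.2 ⟨c, hc, rfl⟩
      rw [← hsig] at h1
      obtain ⟨k, hk, ek⟩ := h1
      rw [← ek]
      show t⁻¹ * (t * k * t⁻¹) * t ∈ _
      rwa [show t⁻¹ * (t * k * t⁻¹) * t = k by group]
    rw [mem_lift, mem_imageE] at hm
    obtain ⟨d, hd, hde⟩ := hm
    have hde' : (QuotientGroup.mk (t⁻¹ * mono (one_mem M24) hc * t) : Cfsg.Spor.Co1) = e (QuotientGroup.mk d) := by
      rw [hde, MulEquiv.apply_symm_apply]
    have h1 := h.rep_conj hde' hra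
    rw [mul_smul, mul_smul, smul_inv_smul] at h1
    rcases (h.ext' g).conj_eq haP hd with e' | e'
    · rw [e'] at h1
      have h2 := congr_smul (g := t) (h.rep_cls h1 hra)
      rw [smul_inv_smul, smul_inv_smul] at h2
      exact Or.inl h2
    · rw [e'] at h1
      have h2 := congr_smul (g := t) (h.rep_cls h1 (h.rep_add hra hr))
      rw [hadd, smul_inv_smul, smul_inv_smul, ht] at h2
      refine Or.inr (h2.trans ?_)
      obtain ⟨w, hw⟩ := cls_iff_double.1 (cls_axis (Golay.base5 0) none)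
      exact cls_iff_double.2 ⟨w, by rw [← hw]; abel⟩
  obtain ⟨y, hy, hy1, hyz, hys, hysz⟩ : ∃ y ∈ QG Q ⊓ PG Q g, y ≠ 1 ∧ y ≠ z ∧ y ≠ s ∧ y ≠ s * z := by
    by_contra hcon
    simp only [not_exists, not_and, not_not] at hcon
    have hsub' : ((QG Q ⊓ PG Q g : Subgroup G) : Set G) ⊆ {1, z, s, s * z} := fun y hy => by
      simp only [Set.mem_insert_iff, Set.mem_singleton_iff]
      by_contra h'
      simp only [not_or] at h'
      exact h'.2.2.2 (hcon y hy h'.1 h'.2.1 h'.2.2.1)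
    have h1 := Set.ncard_le_ncard hsub' (Set.toFinite _)
    have h4 : ({1, z, s, s * z} : Set G).ncard ≤ 4 :=
      (Set.ncard_insert_le _ _).trans (by
        have := Set.ncard_insert_le z ({s, s * z} : Set G)
        have := Set.ncard_insert_le s ({s * z} : Set G)
        rw [Set.ncard_singleton] at this
        omega)
    rw [← Nat.card_coe_set_eq, SetLike.coe_sort_coe, hD] at h1
    omega
  obtain ⟨w, hw, hwn⟩ := h.exists_short_rep hy.1 (h.inter_sq hne y hy) hy1 hyz
  rcases hwn with hwn | hwn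
  · exact ⟨y, hy, w, hwn, hw⟩
  set x := t • w with hxw
  have hPx : P x := ⟨y, hy, by rw [hxw, inv_smul_smul]; exact hw⟩
  have hxn : sqNorm (x : Vec) = 64 := by rw [hxw, co_norm, hwn]
  have hax : cls x ≠ cls (axis none) := fun e' => by
    have h2 := congr_smul (g := t⁻¹) (e'.trans (cls_axis none (Golay.base5 0)))
    rw [hxw, ← ht, inv_smul_smul, inv_smul_smul] at h2
    rcases h.rep_unique hr (h.rep_congr hw h2) with e'' | e''
    · exact hys e''
    · exact hysz e''
  obtain ⟨hcard, hval⟩ := tetrad hxn (hshort x hPx hxn.le) hax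
  obtain ⟨u, ⟨b, hb, hrb⟩, hu⟩ := exists_short_diff hsub hperm hPx hcard hval
  exact ⟨b, hb, t⁻¹ • u, by rw [co_norm, hu], hrb⟩

/-- A member outside the class of the centre is centralised by an element moving the centre inside. -/
theorem exists_swap (h : MT z Q e ψ) (hx : g * z * g⁻¹ ∈ QG Q) (hne : g * z * g⁻¹ ≠ z) {t : G} (htQ : t ∈ QG Q)
    (ht2 : orderOf t = 2) (ht : ¬ IsConj z t) : ∃ k : G, k * z * k⁻¹ ∈ QG Q ∧ k * z * k⁻¹ ≠ z ∧ k * t = t * k := by
  obtain ⟨y, ⟨hyQ, hyP⟩, u, hu, hyr⟩ := exists_inter32 h hx hne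
  obtain ⟨hy2, hy1, hyz⟩ := h.rep_involution hyr (Or.inl hu)
  haveI : Fact (Nat.Prime 2) := ⟨Nat.prime_two⟩
  obtain ⟨c₀, hc₀, e₀⟩ := h.conj_others hx hne hyQ htQ (orderOf_eq_prime (by rw [pow_two]; exact hy2) hy1) ht2
    (not_conj32 h hx hne hyr hu) ht
  obtain ⟨q, hq, eq⟩ := hyP
  have eq' : g * q * g⁻¹ = y := eq
  have htq : (c₀ * g) * q * (c₀ * g)⁻¹ = t := by
    rw [← e₀, ← eq']; group
  have hq2 : orderOf q = 2 := by
    rw [← ht2, ← htq, ← MulAut.conj_apply, MulEquiv.orderOf_eq]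
  have hqz : ¬ IsConj z q := fun hc => ht (hc.trans (isConj_iff.2 ⟨_, htq⟩))
  obtain ⟨c₁, hc₁, e₁⟩ := h.conj_others hx hne htQ hq ht2 hq2 ht hqz
  have hz₁ : c₁ * z * c₁⁻¹ = z := by rw [Subgroup.mem_centralizer_singleton_iff.1 hc₁, mul_inv_cancel_right]
  have hz₀ : c₀ * z * c₀⁻¹ = z := by rw [Subgroup.mem_centralizer_singleton_iff.1 hc₀, mul_inv_cancel_right]
  have e2 : c₀ * g * c₁ * z * (c₀ * g * c₁)⁻¹ = c₀ * (g * z * g⁻¹) * c₀⁻¹ := by
    calc c₀ * g * c₁ * z * (c₀ * g * c₁)⁻¹ = c₀ * g * (c₁ * z * c₁⁻¹) * g⁻¹ * c₀⁻¹ := by group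
      _ = _ := by rw [hz₁]; group
  refine ⟨c₀ * g * c₁, ?_, ?_, ?_⟩
  · rw [e2]; exact h.ext.norm _ (Subgroup.mem_centralizer_singleton_iff.1 hc₀) _ hx
  · rw [e2]
    intro e'
    refine hne ?_
    calc g * z * g⁻¹ = c₀⁻¹ * (c₀ * (g * z * g⁻¹) * c₀⁻¹) * c₀ := by group
      _ = c₀⁻¹ * (c₀ * z * c₀⁻¹) * c₀ := by rw [e', hz₀]
      _ = z := by group
  · calc c₀ * g * c₁ * t = (c₀ * g) * (c₁ * t * c₁⁻¹) * (c₀ * g)⁻¹ * (c₀ * g * c₁) := by group
      _ = t * (c₀ * g * c₁) := by rw [e₁, htq]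

/-- The data of the reduction. -/
structure Setup (z : G) (Q : Subgroup (Subgroup.centralizer ({z} : Set G))) [Q.Normal]
    (e : (Subgroup.centralizer ({z} : Set G)) ⧸ Q ≃* Cfsg.Spor.Co1) (ψ : leechLattice → Q ⧸ Subgroup.center Q)
    (t : G) (v : leechLattice) (a : Co0) : Prop where
  mt : MT z Q e ψ
  swap : ∃ k : G, k * z * k⁻¹ ∈ QG Q ∧ k * z * k⁻¹ ≠ z ∧ k * t = t * k
  mem : t ∈ QG Q
  ord : orderOf t = 2
  nconj : ¬ IsConj z t
  rep : Rep ψ v t
  move : a • v = Cfsg.Spor.leechU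

namespace Setup

variable {t : G} {v : leechLattice} {a : Co0}

theorem t_sq (S : Setup z Q e ψ t v a) : t * t = 1 := by rw [← pow_two, ← S.ord, pow_orderOf_eq_one]

theorem t_ne (S : Setup z Q e ψ t v a) : t ≠ 1 := fun e' => by
  have := S.ord; rw [e', orderOf_one] at this; omega

theorem t_ne_z (S : Setup z Q e ψ t v a) : t ≠ z := fun e' => S.nconj (e' ▸ IsConj.refl z)

theorem z_t (S : Setup z Q e ψ t v a) : z * t = t * z := (S.mt.ext.central t S.mem).symm

theorem norm_u : sqNorm (Cfsg.Spor.leechU : Vec) = 32 := by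
  show sqNorm Cfsg.Spor.vecU = 32
  decide +kernel

theorem norm_v (S : Setup z Q e ψ t v a) : sqNorm (v : Vec) = 32 := by
  rw [← co_norm a v, S.move]; exact norm_u

theorem nconj_mul (S : Setup z Q e ψ t v a) : ¬ IsConj z (t * z) := fun hc => by
  obtain ⟨q, hq, hqt⟩ := S.mt.noncentral S.mem S.t_ne S.t_ne_z
  have e1 := ((S.mt.ext.conj_cases S.mem hq).resolve_left hqt).2
  exact S.nconj (hc.trans (isConj_iff.2 ⟨q⁻¹, by rw [← e1]; group⟩))

/-- The subgroup divided out. -/
abbrev NT (t : G) : Subgroup (Subgroup.centralizer ({t} : Set G)) :=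
  (Subgroup.zpowers t).subgroupOf (Subgroup.centralizer ({t} : Set G))

theorem mem_NT (S : Setup z Q e ψ t v a) {x : Subgroup.centralizer ({t} : Set G)} :
    x ∈ NT t ↔ (x : G) = 1 ∨ (x : G) = t := by
  rw [NT, Subgroup.mem_subgroupOf]
  constructor
  · intro hx
    obtain ⟨n, hn⟩ := (isOfFinOrder_of_finite t).mem_powers_iff_mem_zpowers.2 hx
    have e1 : t ^ (n % 2) = t ^ n := by rw [← S.ord, pow_mod_orderOf]
    rw [← hn, show (fun k => t ^ k) n = t ^ n from rfl, ← e1]
    rcases Nat.mod_two_eq_zero_or_one n with h | h <;> rw [h]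
    · exact Or.inl (pow_zero t)
    · exact Or.inr (pow_one t)
  · rintro (h | h) <;> rw [h]
    · exact one_mem _
    · exact Subgroup.mem_zpowers t

variable [hn : (NT t).Normal]

/-- The centre in the centraliser. -/
def zc (S : Setup z Q e ψ t v a) : Subgroup.centralizer ({t} : Set G) :=
  ⟨z, Subgroup.mem_centralizer_singleton_iff.2 S.z_t⟩

/-- The new central involution. -/
def zb (S : Setup z Q e ψ t v a) : (Subgroup.centralizer ({t} : Set G)) ⧸ NT t :=
  QuotientGroup.mk' (NT t) S.zc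

theorem zb_order (S : Setup z Q e ψ t v a) : orderOf S.zb = 2 := by
  haveI : Fact (Nat.Prime 2) := ⟨Nat.prime_two⟩
  refine orderOf_eq_prime ?_ ?_
  · rw [pow_two, zb, ← map_mul, show S.zc * S.zc = 1 from Subtype.ext S.mt.z_sq, map_one]
  · rw [zb, QuotientGroup.mk'_apply, Ne, QuotientGroup.eq_one_iff, S.mem_NT]
    rintro (h | h)
    · exact S.mt.z_ne h
    · exact S.t_ne_z h.symm

/-- The preimage of the centraliser. -/
abbrev Cz (S : Setup z Q e ψ t v a) : Subgroup (Subgroup.centralizer ({t} : Set G)) :=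
  Subgroup.centralizer ({S.zc} : Set (Subgroup.centralizer ({t} : Set G)))

theorem comm_z (S : Setup z Q e ψ t v a) (c : S.Cz) :
    ((c : Subgroup.centralizer ({t} : Set G)) : G) * z = z * ((c : Subgroup.centralizer ({t} : Set G)) : G) :=
  congrArg Subtype.val (Subgroup.mem_centralizer_singleton_iff.1 c.2)

theorem comm_t (S : Setup z Q e ψ t v a) (c : S.Cz) :
    ((c : Subgroup.centralizer ({t} : Set G)) : G) * t = t * ((c : Subgroup.centralizer ({t} : Set G)) : G) :=
  Subgroup.mem_centralizer_singleton_iff.1 c.1.2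

/-- The new centraliser. -/
abbrev Dz (S : Setup z Q e ψ t v a) : Subgroup ((Subgroup.centralizer ({t} : Set G)) ⧸ NT t) :=
  Subgroup.centralizer ({S.zb} : Set ((Subgroup.centralizer ({t} : Set G)) ⧸ NT t))

theorem mem_Dz (S : Setup z Q e ψ t v a) (c : S.Cz) : QuotientGroup.mk' (NT t) (c : Subgroup.centralizer ({t} : Set G)) ∈ S.Dz := by
  rw [Subgroup.mem_centralizer_singleton_iff, zb, ← map_mul, ← map_mul, Subgroup.mem_centralizer_singleton_iff.1 c.2]

/-- The map onto the new centraliser. -/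
def rho (S : Setup z Q e ψ t v a) : S.Cz →* S.Dz :=
  ((QuotientGroup.mk' (NT t)).comp S.Cz.subtype).codRestrict _ S.mem_Dz

theorem rho_surjective (S : Setup z Q e ψ t v a) : Function.Surjective S.rho := by
  rintro ⟨y, hy⟩
  obtain ⟨x, rfl⟩ := QuotientGroup.mk'_surjective (NT t) y
  rw [Subgroup.mem_centralizer_singleton_iff, zb, ← map_mul, ← map_mul, QuotientGroup.mk'_apply,
    QuotientGroup.mk'_apply, eq_comm, QuotientGroup.eq, S.mem_NT] at hy
  have hy' : ((x : G) * z = z * x) ∨ ((x : G) * z = z * x * t) := by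
    simp only [zc, Subgroup.coe_mul, Subgroup.coe_inv] at hy
    rcases hy with h | h
    · exact Or.inl (inv_mul_eq_one.1 h).symm
    · exact Or.inr (inv_mul_eq_iff_eq_mul.1 h)
  rcases hy' with h | h
  · exact ⟨⟨x, Subgroup.mem_centralizer_singleton_iff.2 (Subtype.ext h)⟩, Subtype.ext rfl⟩
  · exfalso
    refine S.nconj_mul (isConj_iff.2 ⟨(x : G), ?_⟩)
    have hxt : (x : G) * t = t * x := Subgroup.mem_centralizer_singleton_iff.1 x.2
    calc (x : G) * z * (x : G)⁻¹ = z * ((x : G) * t) * (x : G)⁻¹ := by rw [h]; group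
      _ = z * t := by rw [hxt]; group
      _ = t * z := S.z_t

theorem rho_eq_one (S : Setup z Q e ψ t v a) {c : S.Cz} :
    S.rho c = 1 ↔ ((c : Subgroup.centralizer ({t} : Set G)) : G) = 1 ∨ ((c : Subgroup.centralizer ({t} : Set G)) : G) = t := by
  rw [← Subtype.val_inj, OneMemClass.coe_one,
    show ((S.rho c : S.Dz) : (Subgroup.centralizer ({t} : Set G)) ⧸ NT t) =
      QuotientGroup.mk' (NT t) (c : Subgroup.centralizer ({t} : Set G)) from rfl,
    QuotientGroup.mk'_apply, QuotientGroup.eq_one_iff, S.mem_NT]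

/-- The extraspecial part of the preimage. -/
abbrev Qt (S : Setup z Q e ψ t v a) : Subgroup S.Cz :=
  (QG Q).comap ((Subgroup.centralizer ({t} : Set G)).subtype.comp S.Cz.subtype)

theorem mem_Qt (S : Setup z Q e ψ t v a) {c : S.Cz} :
    c ∈ S.Qt ↔ ((c : Subgroup.centralizer ({t} : Set G)) : G) ∈ QG Q := Iff.rfl

/-- A member of the extraspecial group commuting with the involution. -/
def mkC (S : Setup z Q e ψ t v a) (x : G) (hx : x ∈ QG Q) (hc : x * t = t * x) : S.Cz :=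
  ⟨⟨x, Subgroup.mem_centralizer_singleton_iff.2 hc⟩,
    Subgroup.mem_centralizer_singleton_iff.2 (Subtype.ext (S.mt.ext.central x hx))⟩

theorem mkC_mem (S : Setup z Q e ψ t v a) {x : G} (hx : x ∈ QG Q) (hc : x * t = t * x) : S.mkC x hx hc ∈ S.Qt := hx

theorem card_Qt (S : Setup z Q e ψ t v a) : Nat.card S.Qt = 2 ^ 24 := by
  have e1 : Nat.card S.Qt = Nat.card ↥(QG Q ⊓ Subgroup.centralizer ({t} : Set G)) := by
    refine Nat.card_congr
      { toFun := fun c => ⟨((c.1 : Subgroup.centralizer ({t} : Set G)) : G), c.2, c.1.1.2⟩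
        invFun := fun x => ⟨S.mkC x x.2.1 (Subgroup.mem_centralizer_singleton_iff.1 x.2.2), x.2.1⟩
        left_inv := fun _ => rfl
        right_inv := fun _ => rfl }
  rw [e1]
  have h1 := S.mt.ext.card_le_centralizing S.mem
  rw [card_QG S.mt] at h1
  obtain ⟨j, hj, he⟩ := (Nat.dvd_prime_pow Nat.prime_two).1
    (card_QG S.mt ▸ Subgroup.card_dvd_of_le (inf_le_left : QG Q ⊓ Subgroup.centralizer ({t} : Set G) ≤ QG Q))
  have hj25 : j ≠ 25 := fun e' => by
    obtain ⟨q, hq, hqt⟩ := S.mt.noncentral S.mem S.t_ne S.t_ne_z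
    have e2 : QG Q ⊓ Subgroup.centralizer ({t} : Set G) = QG Q :=
      Subgroup.eq_of_le_of_card_ge inf_le_left (by rw [he, e', card_QG S.mt])
    rw [← e2] at hq
    exact hqt (Subgroup.mem_centralizer_singleton_iff.1 hq.2)
  have hj24 : 24 ≤ j := by
    by_contra hlt
    have := Nat.pow_le_pow_right (show 0 < 2 by norm_num) (show j ≤ 23 by omega)
    rw [he] at h1; omega
  rw [he, show j = 24 by omega]

/-- The new extraspecial group. -/
abbrev R (S : Setup z Q e ψ t v a) : Subgroup S.Dz := S.Qt.map S.rho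

theorem R_normal (S : Setup z Q e ψ t v a) : S.R.Normal := by
  refine Subgroup.Normal.map ⟨fun q hq c => ?_⟩ _ S.rho_surjective
  rw [S.mem_Qt] at hq ⊢
  simp only [Subgroup.coe_mul, Subgroup.coe_inv]
  exact S.mt.ext.norm _ (S.comm_z c) _ hq

/-- A member as a member of the new group. -/
def toR (S : Setup z Q e ψ t v a) (x : G) (hx : x ∈ QG Q) (hc : x * t = t * x) : S.R :=
  ⟨S.rho (S.mkC x hx hc), S.mkC x hx hc, S.mkC_mem hx hc, rfl⟩

theorem exists_toR (S : Setup z Q e ψ t v a) (r : S.R) : ∃ (x : G) (hx : x ∈ QG Q) (hc : x * t = t * x),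
    S.toR x hx hc = r := by
  obtain ⟨r, c, hc, rfl⟩ := r
  exact ⟨((c : Subgroup.centralizer ({t} : Set G)) : G), hc, S.comm_t c, rfl⟩

theorem toR_mul (S : Setup z Q e ψ t v a) {x y : G} {hx : x ∈ QG Q} {hc : x * t = t * x} {hy : y ∈ QG Q}
    {hd : y * t = t * y} {hxy : x * y ∈ QG Q} {hcd : x * y * t = t * (x * y)} :
    S.toR (x * y) hxy hcd = S.toR x hx hc * S.toR y hy hd := by
  refine Subtype.ext ?_
  show S.rho (S.mkC (x * y) hxy hcd) = S.rho (S.mkC x hx hc) * S.rho (S.mkC y hy hd)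
  rw [← map_mul]
  rfl

theorem toR_eq_iff (S : Setup z Q e ψ t v a) {x y : G} {hx : x ∈ QG Q} {hc : x * t = t * x} {hy : y ∈ QG Q}
    {hd : y * t = t * y} : S.toR x hx hc = S.toR y hy hd ↔ y = x ∨ y = x * t := by
  rw [← Subtype.val_inj, show ((S.toR x hx hc : S.R) : S.Dz) = S.rho (S.mkC x hx hc) from rfl,
    show ((S.toR y hy hd : S.R) : S.Dz) = S.rho (S.mkC y hy hd) from rfl, ← inv_mul_eq_one, ← map_inv, ← map_mul,
    S.rho_eq_one]
  simp only [mkC, Subgroup.coe_mul, Subgroup.coe_inv, inv_mul_eq_iff_eq_mul, mul_one]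

theorem card_R (S : Setup z Q e ψ t v a) : Nat.card S.R = 2 ^ 23 := by
  have h1 := card_eq_ker_mul_map S.rho S.Qt
  rw [S.card_Qt] at h1
  have hk : Nat.card ↥(S.Qt ⊓ S.rho.ker) = 2 := by
    have hset : ((S.Qt ⊓ S.rho.ker : Subgroup S.Cz) : Set S.Cz) = {1, S.mkC t S.mem rfl} := by
      ext c
      simp only [Subgroup.coe_inf, Set.mem_inter_iff, SetLike.mem_coe, MonoidHom.mem_ker, S.rho_eq_one,
        Set.mem_insert_iff, Set.mem_singleton_iff]
      constructor
      · rintro ⟨-, h | h⟩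
        · exact Or.inl (Subtype.ext (Subtype.ext h))
        · exact Or.inr (Subtype.ext (Subtype.ext h))
      · rintro (rfl | rfl)
        · exact ⟨one_mem _, Or.inl rfl⟩
        · exact ⟨S.mkC_mem S.mem rfl, Or.inr rfl⟩
    rw [← SetLike.coe_sort_coe, Nat.card_coe_set_eq, hset]
    exact Set.ncard_pair fun h => S.t_ne (congrArg (fun c : S.Cz => ((c : Subgroup.centralizer ({t} : Set G)) : G)) h).symm
  rw [hk] at h1
  have : Nat.card S.R = Nat.card (S.Qt.map S.rho) := rfl
  omega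

theorem central_cases (S : Setup z Q e ψ t v a) {x : G} (hx : x ∈ QG Q)
    (hc : ∀ y ∈ QG Q, y * t = t * y → y * x = x * y) : x = 1 ∨ x = z ∨ x = t ∨ x = t * z := by
  classical
  have h1 := S.mt.ext.double_centralizer {t} (by simpa using S.mem) x hx (fun y hy hys => hc y hy (hys t (by simp)))
  rw [Finset.coe_singleton] at h1
  have key : ∀ x ∈ Subgroup.closure ({z, t} : Set G), ∃ i j : ℕ, x = t ^ i * z ^ j := by
    have hcz : Commute z t := S.z_t
    intro x hx'
    induction hx' using Subgroup.closure_induction with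
    | mem x hx' =>
      rcases hx' with rfl | rfl
      · exact ⟨0, 1, by simp⟩
      · exact ⟨1, 0, by simp⟩
    | one => exact ⟨0, 0, by simp⟩
    | mul x y _ _ ix iy =>
      obtain ⟨i, j, rfl⟩ := ix; obtain ⟨k, l, rfl⟩ := iy
      exact ⟨i + k, j + l, by rw [pow_add, pow_add, (hcz.pow_pow j k).mul_mul_mul_comm]⟩
    | inv x _ ix =>
      obtain ⟨i, j, rfl⟩ := ix
      refine ⟨i, j, ?_⟩
      rw [mul_inv_rev, inv_eq_of_mul_eq_one_right (a := t ^ i) (b := t ^ i) (by
        rw [← (Commute.refl t).mul_pow, S.t_sq, one_pow]), inv_eq_of_mul_eq_one_right (a := z ^ j) (b := z ^ j) (by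
        rw [← (Commute.refl z).mul_pow, S.mt.z_sq, one_pow]), (hcz.pow_pow j i).eq]
  obtain ⟨i, j, rfl⟩ := key x h1
  have ht : t ^ i = 1 ∨ t ^ i = t := by
    rw [← pow_mod_orderOf, S.ord]
    rcases Nat.mod_two_eq_zero_or_one i with h | h <;> rw [h]
    · exact Or.inl (pow_zero t)
    · exact Or.inr (pow_one t)
  have hz : z ^ j = 1 ∨ z ^ j = z := by
    rw [← pow_mod_orderOf, S.mt.ord]
    rcases Nat.mod_two_eq_zero_or_one j with h | h <;> rw [h]
    · exact Or.inl (pow_zero z)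
    · exact Or.inr (pow_one z)
  rcases ht with h | h <;> rcases hz with h' | h' <;> rw [h, h'] <;> simp

/-- The image of the centre. -/
def zR (S : Setup z Q e ψ t v a) : S.R := S.toR z S.mt.z_mem S.z_t

theorem zR_ne (S : Setup z Q e ψ t v a) : S.zR ≠ 1 := fun h => by
  have h1 : S.toR z S.mt.z_mem S.z_t = S.toR 1 (one_mem _) (by simp) :=
    h.trans (Subtype.ext (by rw [OneMemClass.coe_one]; exact (map_one S.rho).symm))
  rcases S.toR_eq_iff.1 h1 with h | h
  · exact S.mt.z_ne h.symm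
  · exact S.t_ne_z ((eq_inv_of_mul_eq_one_right h.symm).trans (inv_eq_of_mul_eq_one_right S.mt.z_sq))

theorem toR_one (S : Setup z Q e ψ t v a) {hx : (1 : G) ∈ QG Q} {hc : (1 : G) * t = t * 1} : S.toR 1 hx hc = 1 :=
  Subtype.ext (map_one S.rho)

theorem toR_t (S : Setup z Q e ψ t v a) {hx : t ∈ QG Q} {hc : t * t = t * t} : S.toR t hx hc = 1 :=
  Subtype.ext (S.rho_eq_one.2 (Or.inr rfl))

theorem center_R (S : Setup z Q e ψ t v a) (r : S.R) : r ∈ Subgroup.center S.R ↔ r = 1 ∨ r = S.zR := by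
  constructor
  · intro hr
    obtain ⟨x, hx, hc, rfl⟩ := S.exists_toR r
    have h4 : x = 1 ∨ x = z ∨ x = t ∨ x = t * z := by
      refine S.central_cases hx fun y hy hyt => ?_
      have h1 := Subgroup.mem_center_iff.1 hr (S.toR y hy hyt)
      rw [← S.toR_mul (hxy := mul_mem hy hx) (hcd := by rw [mul_assoc, hc, ← mul_assoc, hyt, mul_assoc]),
        ← S.toR_mul (hxy := mul_mem hx hy) (hcd := by rw [mul_assoc, hyt, ← mul_assoc, hc, mul_assoc])] at h1
      rcases S.toR_eq_iff.1 h1 with h | h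
      · exact h.symm
      · exfalso
        rcases S.mt.ext.conj_eq hx hy with e' | e'
        · refine S.t_ne ?_
          have : x * y = y * x := by
            calc x * y = y * x * y⁻¹ * y := by rw [e']
              _ = y * x := by group
          rw [this] at h
          exact mul_eq_left.1 h.symm
        · refine S.t_ne_z ?_
          have : y * x = x * y * z := by
            calc y * x = y * x * y⁻¹ * y := by group
              _ = x * (z * y) := by rw [e']; group
              _ = x * y * z := by rw [← S.mt.ext.central y hy]; group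
          rw [this] at h
          have h2 : z * t = 1 := by
            refine mul_left_cancel (a := x * y) ?_
            rw [mul_one, ← mul_assoc]; exact h.symm
          exact (eq_inv_of_mul_eq_one_right h2).trans (inv_eq_of_mul_eq_one_right S.mt.z_sq)
    rcases h4 with rfl | rfl | rfl | rfl
    · exact Or.inl S.toR_one
    · exact Or.inr rfl
    · exact Or.inl S.toR_t
    · exact Or.inr (S.toR_eq_iff.2 (Or.inr (by
        rw [← S.z_t, mul_assoc, S.t_sq, mul_one])))
  · rintro (rfl | rfl)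
    · exact one_mem _
    · refine Subgroup.mem_center_iff.2 fun r => ?_
      obtain ⟨x, hx, hc, rfl⟩ := S.exists_toR r
      refine Subtype.ext (Subtype.ext ?_)
      show QuotientGroup.mk' (NT t) _ * QuotientGroup.mk' (NT t) _ = _
      rw [← map_mul]
      refine Eq.trans ?_ (map_mul _ _ _)
      exact congrArg _ (Subtype.ext (S.mt.ext.central x hx))

theorem extraspecial_R (S : Setup z Q e ψ t v a) : Cfsg.IsExtraspecial 2 S.R := by
  refine Fus.Co1Centre.extraspecial_of_squares (n := 23) S.card_R (by norm_num) ?_ fun r => (S.center_R _).2 ?_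
  · rw [← SetLike.coe_sort_coe, Nat.card_coe_set_eq,
      show (Subgroup.center S.R : Set S.R) = {1, S.zR} from Set.ext fun r => (S.center_R r).trans (by simp)]
    exact Set.ncard_pair S.zR_ne.symm
  · obtain ⟨x, hx, hc, rfl⟩ := S.exists_toR r
    rw [pow_two, ← S.toR_mul (hxy := mul_mem hx hx) (hcd := by rw [mul_assoc, hc, ← mul_assoc, hc, mul_assoc])]
    rcases S.mt.ext.sq x hx with h | h
    · left; simp only [h]; exact S.toR_one
    · right; simp only [h]; rfl

/-- The stabiliser of the short vector. -/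
abbrev S2 : Subgroup Co0 := MulAction.stabilizer Co0 Cfsg.Spor.leechU

/-- The second Conway group as that stabiliser. -/
def eqv : ↥Cfsg.Spor.Co2 ≃* ↥S2 where
  toFun y := ⟨⟨y.1, y.2.1⟩, y.2.2⟩
  invFun y := ⟨y.1.1, ⟨y.1.2, y.2⟩⟩
  left_inv _ := rfl
  right_inv _ := rfl
  map_mul' _ _ := rfl

/-- The stabiliser as automorphisms modulo negation. -/
def chi (a : Co0) : ↥S2 →* Cfsg.Spor.Co1 :=
  (QuotientGroup.mk' (Subgroup.center Co0)).comp ((MulAut.conj a⁻¹).toMonoidHom.comp S2.subtype)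

theorem chi_apply (a : Co0) (k : ↥S2) : chi a k = QuotientGroup.mk (a⁻¹ * (k : Co0) * a) := by
  show QuotientGroup.mk (a⁻¹ * (k : Co0) * a⁻¹⁻¹) = _
  rw [inv_inv]

theorem chi_injective (a : Co0) : Function.Injective (chi a) := by
  refine (injective_iff_map_eq_one _).2 fun k hk => ?_
  rw [chi_apply, QuotientGroup.eq_one_iff, mem_center_iff] at hk
  rcases hk with h | h
  · refine Subtype.ext ?_
    calc (k : Co0) = a * (a⁻¹ * (k : Co0) * a) * a⁻¹ := by group
      _ = 1 := by rw [h]; group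
  · exfalso
    have hk' : (k : Co0) = negCo := by
      calc (k : Co0) = a * (a⁻¹ * (k : Co0) * a) * a⁻¹ := by group
        _ = negCo := by
          rw [h, Subgroup.mem_center_iff.1 (mem_center_iff.2 (Or.inr rfl)) a, mul_inv_cancel_right]
    have h2 : (k : Co0) • Cfsg.Spor.leechU = Cfsg.Spor.leechU := k.2
    rw [hk', negCo_apply] at h2
    have h3 := congrArg (fun w : leechLattice => (w : Vec) none) h2
    simp [Cfsg.Spor.leechU, Cfsg.Spor.vecU] at h3

/-- The image in the larger Conway group. -/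
def toCo1 (S : Setup z Q e ψ t v a) : S.Cz →* Cfsg.Spor.Co1 :=
  MonoidHom.mk' (fun c => e (QuotientGroup.mk ⟨((c : Subgroup.centralizer ({t} : Set G)) : G),
      Subgroup.mem_centralizer_singleton_iff.2 (S.comm_z c)⟩)) fun c d => by
    show e (QuotientGroup.mk _) = _
    rw [← map_mul, ← QuotientGroup.mk_mul]
    rfl

theorem toCo1_mem (S : Setup z Q e ψ t v a) (c : S.Cz) : S.toCo1 c ∈ (chi a).range := by
  obtain ⟨k, hk⟩ := QuotientGroup.mk_surjective (S.toCo1 c)
  have h1 := S.mt.rep_conj (g := k) hk S.rep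
  simp only [S.comm_t c, mul_inv_cancel_right] at h1
  have hfix : ∀ j : Co0, j • v = v → a * j * a⁻¹ ∈ S2 := fun j hj => by
    show (a * j * a⁻¹) • Cfsg.Spor.leechU = Cfsg.Spor.leechU
    rw [← S.move, mul_smul, mul_smul, inv_smul_smul, hj]
  rcases stabC_32 S.norm_v (mem_stabC.2 (S.mt.rep_cls h1 S.rep)) with h | h
  · exact ⟨⟨_, hfix k h⟩, by rw [chi_apply, ← hk]; congr 1; group⟩
  · refine ⟨⟨_, hfix (negCo * k) (by rw [mul_smul, h, negCo_apply, neg_neg])⟩, ?_⟩
    rw [chi_apply, ← hk, QuotientGroup.eq, mem_center_iff]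
    right
    have hc := Subgroup.mem_center_iff.1 (mem_center_iff.2 (Or.inr rfl) : negCo ∈ Subgroup.center Co0)
    calc (a⁻¹ * (a * (negCo * k) * a⁻¹) * a)⁻¹ * k = k⁻¹ * negCo⁻¹ * k := by group
      _ = negCo⁻¹ := by rw [mul_assoc, ← (Commute.inv_right (show Commute k negCo from hc k)).eq, inv_mul_cancel_left]
      _ = negCo := inv_eq_of_mul_eq_one_right (ext_axis fun i => by rw [mul_smul, negCo_apply, negCo_apply, neg_neg, one_smul])

/-- The map to the stabiliser. -/
def phi (S : Setup z Q e ψ t v a) : S.Cz →* ↥S2 :=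
  (MonoidHom.ofInjective (chi_injective a)).symm.toMonoidHom.comp (S.toCo1.codRestrict _ S.toCo1_mem)

theorem chi_phi (S : Setup z Q e ψ t v a) (c : S.Cz) : chi a (S.phi c) = S.toCo1 c :=
  congrArg Subtype.val ((MonoidHom.ofInjective (chi_injective a)).apply_symm_apply ⟨S.toCo1 c, S.toCo1_mem c⟩)

theorem phi_surjective (S : Setup z Q e ψ t v a) : Function.Surjective S.phi := fun k => by
  have hk : a⁻¹ * (k : Co0) * a ∈ stabC v := by
    refine mem_stabC_of_fix ?_
    have h2 : (k : Co0) • Cfsg.Spor.leechU = Cfsg.Spor.leechU := k.2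
    rw [mul_smul, mul_smul, S.move, h2, ← S.move, inv_smul_smul]
  rw [← S.mt.lift_imageX S.rep S.t_ne S.t_ne_z, mem_lift, mem_imageX] at hk
  obtain ⟨c, hc, hce⟩ := hk
  refine ⟨⟨⟨c, Subgroup.mem_centralizer_singleton_iff.2 hc⟩, Subgroup.mem_centralizer_singleton_iff.2
    (Subtype.ext (Subgroup.mem_centralizer_singleton_iff.1 c.2))⟩, chi_injective a ?_⟩
  rw [chi_phi, chi_apply]
  show e (QuotientGroup.mk c) = _
  rw [hce, MulEquiv.apply_symm_apply]

theorem ker_phi (S : Setup z Q e ψ t v a) : S.phi.ker = S.Qt := by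
  ext c
  have h1 : S.phi c = 1 ↔ S.toCo1 c = 1 := by
    rw [← chi_phi]
    exact ⟨fun h => by rw [h, map_one], fun h => chi_injective a (h.trans (map_one _).symm)⟩
  rw [MonoidHom.mem_ker, h1, mem_Qt]
  show e (QuotientGroup.mk _) = 1 ↔ _
  rw [MulEquiv.map_eq_one_iff, QuotientGroup.eq_one_iff]
  constructor
  · exact fun h => ⟨_, h, rfl⟩
  · rintro ⟨q, hq, eq⟩
    have e' : (⟨((c : Subgroup.centralizer ({t} : Set G)) : G), Subgroup.mem_centralizer_singleton_iff.2 (S.comm_z c)⟩ :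
        Subgroup.centralizer ({z} : Set G)) = q := Subtype.ext eq.symm
    rw [e']; exact hq

theorem ker_rho_le (S : Setup z Q e ψ t v a) : S.rho.ker ≤ S.phi.ker := fun c hc => by
  rw [S.ker_phi, S.mem_Qt]
  rcases S.rho_eq_one.1 (MonoidHom.mem_ker.1 hc) with h | h <;> rw [h]
  exacts [one_mem _, S.mem]

/-- The map of the new centraliser to the stabiliser. -/
def phiD (S : Setup z Q e ψ t v a) : S.Dz →* ↥S2 :=
  S.rho.liftOfSurjective S.rho_surjective ⟨S.phi, S.ker_rho_le⟩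

theorem phiD_rho (S : Setup z Q e ψ t v a) (c : S.Cz) : S.phiD (S.rho c) = S.phi c :=
  MonoidHom.liftOfRightInverse_comp_apply ..

theorem phiD_surjective (S : Setup z Q e ψ t v a) : Function.Surjective S.phiD := fun k => by
  obtain ⟨c, rfl⟩ := S.phi_surjective k
  exact ⟨S.rho c, S.phiD_rho c⟩

theorem ker_phiD (S : Setup z Q e ψ t v a) : S.phiD.ker = S.R := by
  ext d
  obtain ⟨c, rfl⟩ := S.rho_surjective d
  rw [MonoidHom.mem_ker, S.phiD_rho, ← MonoidHom.mem_ker, S.ker_phi]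
  refine ⟨fun h => ⟨c, h, rfl⟩, ?_⟩
  rintro ⟨c', hc', e'⟩
  have h1 : c'⁻¹ * c ∈ S.rho.ker := by rw [MonoidHom.mem_ker, map_mul, map_inv, e', inv_mul_cancel]
  have h2 := S.ker_rho_le h1
  rw [S.ker_phi] at h2
  simpa using mul_mem hc' h2

/-- A representative commuting with the involution. -/
theorem exists_rep_perp (S : Setup z Q e ψ t v a) (x : leechLattice) (hx : (16 : ℤ) ∣ dotInt (x : Vec) Cfsg.Spor.vecU) :
    ∃ y, Rep ψ (a⁻¹ • x) y ∧ y * t = t * y := by
  obtain ⟨y, hy⟩ := S.mt.exists_rep (a⁻¹ • x)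
  refine ⟨y, hy, (comm_iff S.mt hy S.rep).2 ?_⟩
  have e1 := co_dot a (a⁻¹ • x) v
  rw [smul_inv_smul, S.move] at e1
  rw [← e1]
  exact hx

theorem perp_dvd (S : Setup z Q e ψ t v a) (x : leechLattice) {y : G} (hy : Rep ψ (a⁻¹ • x) y) (hc : y * t = t * y) :
    (16 : ℤ) ∣ dotInt (x : Vec) Cfsg.Spor.vecU := by
  have e1 := co_dot a (a⁻¹ • x) v
  rw [smul_inv_smul, S.move] at e1
  have h := (comm_iff S.mt hy S.rep).1 hc
  rw [← e1] at h
  exact h

/-- The module map. -/
def psi (S : Setup z Q e ψ t v a) (x : leechPerpU) : S.R ⧸ Subgroup.center S.R :=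
  QuotientGroup.mk (S.toR _ (MT.rep_mem (S.exists_rep_perp x x.2).choose_spec.1)
    (S.exists_rep_perp x x.2).choose_spec.2)

theorem psi_eq (S : Setup z Q e ψ t v a) (x : leechPerpU) {y : G} (hy : Rep ψ (a⁻¹ • (x : leechLattice)) y)
    (hm : y ∈ QG Q) (hc : y * t = t * y) : S.psi x = QuotientGroup.mk (S.toR y hm hc) := by
  rcases S.mt.rep_unique (S.exists_rep_perp x x.2).choose_spec.1 hy with e' | e'
  · subst e'; rfl
  · subst e'
    rw [psi, QuotientGroup.eq,
      S.toR_mul (hx := MT.rep_mem (S.exists_rep_perp x x.2).choose_spec.1)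
        (hc := (S.exists_rep_perp x x.2).choose_spec.2) (hy := S.mt.z_mem) (hd := S.z_t), inv_mul_cancel_left]
    exact (S.center_R _).2 (Or.inr rfl)

theorem psi_add (S : Setup z Q e ψ t v a) (x y : leechPerpU) : S.psi (x + y) = S.psi x * S.psi y := by
  obtain ⟨p, hp, hpc⟩ := S.exists_rep_perp x x.2
  obtain ⟨q, hq, hqc⟩ := S.exists_rep_perp y y.2
  have hr : Rep ψ (a⁻¹ • ((x + y : leechPerpU) : leechLattice)) (p * q) := by
    rw [AddSubgroup.coe_add, co_add]; exact S.mt.rep_add hp hq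
  rw [S.psi_eq (x + y) hr (MT.rep_mem hr) (by rw [mul_assoc, hqc, ← mul_assoc, hpc, mul_assoc]),
    S.psi_eq x hp (MT.rep_mem hp) hpc, S.psi_eq y hq (MT.rep_mem hq) hqc, ← QuotientGroup.mk_mul]
  exact congrArg _ S.toR_mul

theorem psi_surjective (S : Setup z Q e ψ t v a) : Function.Surjective S.psi := fun r => by
  obtain ⟨r, rfl⟩ := QuotientGroup.mk_surjective r
  obtain ⟨p, hp, hpc, rfl⟩ := S.exists_toR r
  obtain ⟨w, hw⟩ := S.mt.exists_vec hp
  have hw' : Rep ψ (a⁻¹ • (a • w)) p := by rwa [inv_smul_smul]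
  exact ⟨⟨a • w, S.perp_dvd _ hw' hpc⟩, S.psi_eq _ hw' hp hpc⟩

theorem psi_eq_one (S : Setup z Q e ψ t v a) (x : leechPerpU) : S.psi x = 1 ↔
    (∃ w : leechLattice, (x : leechLattice) = w + w) ∨
      ∃ w : leechLattice, (x : leechLattice) = Cfsg.Spor.leechU + (w + w) := by
  obtain ⟨p, hp, hpc⟩ := S.exists_rep_perp x x.2
  have hm := MT.rep_mem hp
  rw [S.psi_eq x hp hm hpc, QuotientGroup.eq_one_iff, S.center_R]
  have h1 : (S.toR p hm hpc = 1 ∨ S.toR p hm hpc = S.zR) ↔ ((p = 1 ∨ p = z) ∨ (p = t ∨ p = t * z)) := by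
    rw [← S.toR_one (hx := one_mem _) (hc := by simp), zR, S.toR_eq_iff, S.toR_eq_iff]
    have e1 : (1 : G) = p * t ↔ p = t :=
      ⟨fun h => (eq_inv_of_mul_eq_one_left h.symm).trans (inv_eq_of_mul_eq_one_right S.t_sq),
        fun h => by rw [h, S.t_sq]⟩
    have e2 : z = p * t ↔ p = t * z :=
      ⟨fun h => by rw [← S.z_t, h, mul_assoc, S.t_sq, mul_one],
        fun h => by rw [h, ← S.z_t, mul_assoc, S.t_sq, mul_one]⟩
    rw [e1, e2, eq_comm (a := (1 : G)), eq_comm (a := z) (b := p)]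
    tauto
  have h2 : (p = t ∨ p = t * z) ↔ cls (a⁻¹ • (x : leechLattice)) = cls v := by
    constructor
    · rintro (rfl | rfl)
      · exact S.mt.rep_cls hp S.rep
      · exact S.mt.rep_cls hp (S.mt.rep_mul_z S.rep)
    · intro hc; exact S.mt.rep_unique S.rep (S.mt.rep_congr hp hc)
  rw [h1, ← S.mt.rep_zero_iff hp, h2]
  have hmv : ∀ w : leechLattice, cls (a⁻¹ • (x : leechLattice)) = cls w ↔ cls (x : leechLattice) = cls (a • w) := fun w =>
    ⟨fun h => by have := congr_smul (g := a) h; rwa [smul_inv_smul] at this,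
      fun h => by have := congr_smul (g := a⁻¹) h; rwa [inv_smul_smul] at this⟩
  rw [hmv, hmv, S.move, show a • (0 : leechLattice) = 0 by
    have := co_add a 0 0; rw [add_zero] at this; exact left_eq_add.1 this, cls_iff_double, cls_iff_double]
  simp only [sub_zero, sub_eq_iff_eq_add, add_comm Cfsg.Spor.leechU]

/-- The identification of the new quotient. -/
def iso (S : Setup z Q e ψ t v a) : haveI := S.R_normal; S.Dz ⧸ S.R ≃* ↥Cfsg.Spor.Co2 :=
  haveI := S.R_normal
  ((QuotientGroup.quotientMulEquivOfEq S.ker_phiD.symm).trans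
    (QuotientGroup.quotientKerEquivOfSurjective S.phiD S.phiD_surjective)).trans eqv.symm

theorem iso_mk (S : Setup z Q e ψ t v a) (c : S.Cz) :
    haveI := S.R_normal
    eqv (S.iso (QuotientGroup.mk (S.rho c))) = S.phi c := by
  haveI := S.R_normal
  rw [← S.phiD_rho]
  exact eqv.apply_symm_apply _

theorem simple_S2 : IsSimpleGroup ↥S2 ∧ Nat.card ↥S2 = 42305421312000 := TwoSimple.isCo2 norm_u

theorem centralizer_R_le (S : Setup z Q e ψ t v a) : Subgroup.centralizer (S.R : Set S.Dz) ≤ S.R := by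
  haveI := simple_S2.1
  haveI := S.R_normal
  have hN : (Subgroup.centralizer (S.R : Set S.Dz)).Normal := inferInstance
  rcases (hN.map S.phiD S.phiD_surjective).eq_bot_or_eq_top with h | h
  · intro x hx
    rw [← S.ker_phiD, MonoidHom.mem_ker, ← Subgroup.mem_bot, ← h]
    exact ⟨x, hx, rfl⟩
  · exfalso
    obtain ⟨g₀, x₀, hg, hx, hne1, hne2⟩ := exists_moved
    obtain ⟨d, hd, hdg⟩ : (⟨g₀, hg⟩ : ↥S2) ∈ (Subgroup.centralizer (S.R : Set S.Dz)).map S.phiD := h ▸ Subgroup.mem_top _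
    obtain ⟨c, rfl⟩ := S.rho_surjective d
    rw [S.phiD_rho] at hdg
    obtain ⟨p, hp, hpc⟩ := S.exists_rep_perp x₀ hx
    have hk : (QuotientGroup.mk (a⁻¹ * g₀ * a) : Cfsg.Spor.Co1) = S.toCo1 c := by
      rw [← S.chi_phi, hdg, chi_apply]
    have hr := S.mt.rep_conj hk hp
    rw [mul_smul, mul_smul, smul_inv_smul] at hr
    have h1 : S.rho (S.mkC p (MT.rep_mem hp) hpc) * S.rho c = S.rho c * S.rho (S.mkC p (MT.rep_mem hp) hpc) :=
      Subgroup.mem_centralizer_iff.1 hd _ (S.toR p (MT.rep_mem hp) hpc).2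
    have h2 : S.rho (c * S.mkC p (MT.rep_mem hp) hpc * c⁻¹) = S.rho (S.mkC p (MT.rep_mem hp) hpc) := by
      rw [map_mul, map_mul, map_inv, ← h1, mul_inv_cancel_right]
    rw [← inv_mul_eq_one, ← map_inv, ← map_mul, S.rho_eq_one] at h2
    simp only [mkC, Subgroup.coe_mul, Subgroup.coe_inv] at h2
    generalize hq : ((c : Subgroup.centralizer ({t} : Set G)) : G) * p * ((c : Subgroup.centralizer ({t} : Set G)) : G)⁻¹ = q at hr h2
    rcases h2 with h2 | h2
    · rw [inv_mul_eq_one.1 h2] at hr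
      have h3 := congr_smul (g := a) (S.mt.rep_cls hr hp)
      rw [smul_inv_smul, smul_inv_smul] at h3
      exact hne1 h3
    · have hqt : q = p * t := by
        rw [inv_mul_eq_iff_eq_mul] at h2
        calc q = q * (t * t) := by rw [S.t_sq, mul_one]
          _ = q * t * t := (mul_assoc _ _ _).symm
          _ = p * t := by rw [← h2]
      rw [hqt] at hr
      have h3 := congr_smul (g := a) (S.mt.rep_cls hr (S.mt.rep_add hp S.rep))
      rw [co_add, smul_inv_smul, smul_inv_smul, S.move] at h3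
      exact hne2 h3

theorem gfit (S : Setup z Q e ψ t v a) : Cfsg.generalizedFittingSubgroup S.Dz = S.R := by
  haveI := S.R_normal
  haveI : Fact (Nat.Prime 2) := ⟨Nat.prime_two⟩
  have hle : S.R ≤ Cfsg.pCore 2 S.Dz := le_sSup ⟨inferInstance, IsPGroup.of_card S.card_R⟩
  have hge : Cfsg.pCore 2 S.Dz ≤ S.R := by
    rw [← S.ker_phiD]
    haveI := simple_S2.1
    have hN : ((Cfsg.pCore 2 S.Dz).map S.phiD).Normal :=
      (Grp.pCore_isNormal : (Cfsg.pCore 2 S.Dz).Normal).map _ S.phiD_surjective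
    rcases hN.eq_bot_or_eq_top with h | h
    · intro x hx
      have hm : S.phiD x ∈ (Cfsg.pCore 2 S.Dz).map S.phiD := ⟨x, hx, rfl⟩
      rw [h, Subgroup.mem_bot] at hm
      exact hm
    · exfalso
      obtain ⟨k, hk⟩ := ((Grp.pCore_isPGroup (p := 2) (G := S.Dz)).map S.phiD).exists_card_eq
      rw [h, Subgroup.card_top, simple_S2.2] at hk
      have h3 : 3 ∣ 2 ^ k := hk ▸ by norm_num
      exact absurd ((Nat.Prime.dvd_of_dvd_pow (by norm_num) h3)) (by norm_num)
  have he : Cfsg.pCore 2 S.Dz = S.R := le_antisymm hge hle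
  rw [Fus.generalizedFittingSubgroup_eq_of_charP (p := 2) (by
    show Subgroup.centralizer (Cfsg.pCore 2 S.Dz : Set S.Dz) ≤ Cfsg.pCore 2 S.Dz
    rw [he]; exact S.centralizer_R_le), he]

theorem not_weakly_closed (S : Setup z Q e ψ t v a) :
    ∃ g : (Subgroup.centralizer ({t} : Set G)) ⧸ NT t, (∃ hq : g * S.zb * g⁻¹ ∈ S.Dz,
      (⟨g * S.zb * g⁻¹, hq⟩ : S.Dz) ∈ S.R) ∧ g * S.zb * g⁻¹ ≠ S.zb := by
  obtain ⟨k, hk, hkz, hkt⟩ := S.swap
  have hst : k * z * k⁻¹ * t = t * (k * z * k⁻¹) := by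
    have h1 : k⁻¹ * t = t * k⁻¹ := (show Commute k t from hkt).inv_left
    calc k * z * k⁻¹ * t = k * z * (k⁻¹ * t) := by group
      _ = k * (z * t) * k⁻¹ := by rw [h1]; group
      _ = (k * t) * z * k⁻¹ := by rw [S.z_t]; group
      _ = t * (k * z * k⁻¹) := by rw [hkt]; group
  let kc : Subgroup.centralizer ({t} : Set G) := ⟨k, Subgroup.mem_centralizer_singleton_iff.2 hkt⟩
  have key : QuotientGroup.mk' (NT t) kc * S.zb * (QuotientGroup.mk' (NT t) kc)⁻¹ =
      ((S.rho (S.mkC _ hk hst) : S.Dz) : (Subgroup.centralizer ({t} : Set G)) ⧸ NT t) := by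
    rw [zb, ← map_mul, ← map_inv, ← map_mul]
    rfl
  refine ⟨QuotientGroup.mk' (NT t) kc, ⟨key ▸ (S.rho (S.mkC _ hk hst)).2, ?_⟩, ?_⟩
  · exact ⟨S.mkC _ hk hst, S.mkC_mem hk hst, Subtype.ext key.symm⟩
  · rw [key, zb]
    intro h
    have h' : QuotientGroup.mk' (NT t) (S.mkC _ hk hst : Subgroup.centralizer ({t} : Set G)) =
      QuotientGroup.mk' (NT t) S.zc := h
    rw [QuotientGroup.mk'_apply, QuotientGroup.mk'_apply, QuotientGroup.eq, S.mem_NT] at h'
    simp only [mkC, zc, Subgroup.coe_mul, Subgroup.coe_inv] at h'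
    rcases h' with h' | h'
    · exact hkz (inv_mul_eq_one.1 h')
    · refine S.nconj_mul (isConj_iff.2 ⟨k, ?_⟩)
      rw [inv_mul_eq_iff_eq_mul] at h'
      calc k * z * k⁻¹ = k * z * k⁻¹ * (t * t) := by rw [S.t_sq, mul_one]
        _ = z * t := by rw [← mul_assoc, ← h']
        _ = t * z := S.z_t

theorem babyType (S : Setup z Q e ψ t v a) :
    Cfsg.IsOfBabyMonsterType ((Subgroup.centralizer ({t} : Set G)) ⧸ NT t) := by
  haveI := S.R_normal
  refine ⟨S.zb, S.R, inferInstance, ⟨S.zb_order, S.gfit, S.extraspecial_R, S.card_R, S.not_weakly_closed⟩,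
    S.iso, S.psi, S.psi_add, S.psi_surjective, S.psi_eq_one, ?_⟩
  intro d g hdg x y hxy r hr
  obtain ⟨c, rfl⟩ := S.rho_surjective d
  obtain ⟨p, hp, hpc⟩ := S.exists_rep_perp x x.2
  have hphi : S.phi c = eqv g := by rw [← hdg, S.iso_mk]
  have hk : (QuotientGroup.mk (a⁻¹ * (eqv g : Co0) * a) : Cfsg.Spor.Co1) = S.toCo1 c := by
    rw [← S.chi_phi, hphi, chi_apply]
  have hr' := S.mt.rep_conj hk hp
  rw [mul_smul, mul_smul, smul_inv_smul] at hr'
  have hy' : (eqv g : Co0) • (x : leechLattice) = (y : leechLattice) := hxy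
  rw [hy'] at hr'
  have hc' : ((c : Subgroup.centralizer ({t} : Set G)) : G) * p * ((c : Subgroup.centralizer ({t} : Set G)) : G)⁻¹ * t =
      t * (((c : Subgroup.centralizer ({t} : Set G)) : G) * p * ((c : Subgroup.centralizer ({t} : Set G)) : G)⁻¹) := by
    exact ((show Commute _ t from S.comm_t c).mul_left (show Commute p t from hpc)).mul_left
      (show Commute _ t from S.comm_t c).inv_left
  rw [S.psi_eq x hp (MT.rep_mem hp) hpc, QuotientGroup.eq] at hr
  rw [S.psi_eq y hr' (MT.rep_mem hr') hc', QuotientGroup.eq]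
  obtain h1 | h1 := (S.center_R _).1 hr
  all_goals
    have h2 := eq_mul_of_inv_mul_eq h1
    subst h2
    refine (S.center_R _).2 ?_
  · left
    rw [inv_mul_eq_one]
    refine Subtype.ext ?_
    show S.rho _ = S.rho c * (_ * _) * (S.rho c)⁻¹
    simp only [mul_one, OneMemClass.coe_one]
    show S.rho (S.mkC _ _ _) = S.rho c * S.rho (S.mkC p (MT.rep_mem hp) hpc) * (S.rho c)⁻¹
    rw [← map_inv, ← map_mul, ← map_mul]
    exact congrArg _ (Subtype.ext (Subtype.ext rfl))
  · right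
    rw [inv_mul_eq_iff_eq_mul]
    refine Subtype.ext ?_
    show S.rho c * (S.rho (S.mkC p (MT.rep_mem hp) hpc) * S.rho (S.mkC z S.mt.z_mem S.z_t)) * (S.rho c)⁻¹ =
      S.rho (S.mkC _ _ _) * S.rho (S.mkC z S.mt.z_mem S.z_t)
    rw [← map_inv, ← map_mul, ← map_mul, ← map_mul, ← map_mul]
    refine congrArg _ (Subtype.ext (Subtype.ext ?_))
    show ((c : Subgroup.centralizer ({t} : Set G)) : G) * (p * z) * ((c : Subgroup.centralizer ({t} : Set G)) : G)⁻¹ =
      ((c : Subgroup.centralizer ({t} : Set G)) : G) * p * ((c : Subgroup.centralizer ({t} : Set G)) : G)⁻¹ * z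
    have hz := S.comm_z c
    generalize ((c : Subgroup.centralizer ({t} : Set G)) : G) = b at hz
    have hb : b⁻¹ * z = z * b⁻¹ := (show Commute b z from hz).inv_left
    calc b * (p * z) * b⁻¹ = b * p * (z * b⁻¹) := by group
      _ = b * p * b⁻¹ * z := by rw [← hb]; group

end Setup

/-- The section at an involution outside the class of the centre. -/
theorem baby_type (hM : IsOfMonsterType z Q) {t : G} (htQ : t ∈ QG Q) (ht2 : orderOf t = 2) (ht : ¬ IsConj z t)
    [(Setup.NT t).Normal] : Cfsg.IsOfBabyMonsterType ((Subgroup.centralizer ({t} : Set G)) ⧸ Setup.NT t) := by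
  obtain ⟨e, ψ, hψ⟩ := hM.2
  have h := MT.of_type hM hψ
  obtain ⟨g, ⟨hq, hm⟩, hne⟩ := hM.1.2.2.2.2
  have hx : g * z * g⁻¹ ∈ QG Q := ⟨_, hm, rfl⟩
  have ht1 : t ≠ 1 := fun e' => by rw [e', orderOf_one] at ht2; omega
  have htz : t ≠ z := fun e' => ht (e' ▸ IsConj.refl z)
  obtain ⟨v, hr, hv⟩ := h.exists_short_rep htQ (by rw [← pow_two, ← ht2, pow_orderOf_eq_one]) ht1 htz
  have hv32 : sqNorm (v : Vec) = 32 := hv.resolve_right fun hv' => ht ((h.conj_iff hx hne htQ).2 ⟨v, hv', hr⟩).1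
  obtain ⟨a, ha⟩ := exists_move32 hv32 Setup.norm_u
  exact Setup.babyType ⟨h, exists_swap h hx hne htQ ht2 ht, htQ, ht2, ht, hr, ha⟩

end Cfsg.Agent.Spor.Leech.Baby

end
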