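import Mathlib
import Cfsg.Prelude.Def_Sporadic_a
import Cfsg.Prelude.Def_SporadicCombinatorics
import Cfsg.Agent.Lib.Spor.Golay.Basic

/-!
The rank 24 lattice: a description of its members, divisibility and minimum of the norm, congruences modulo twice
the lattice.
-/

set_option autoImplicit false
set_option maxRecDepth 100000

namespace Cfsg.Agent.Spor.Leech

open Cfsg
open scoped Pointwise

/-- Integer vectors on the points. -/
abbrev Vec : Type := GolayPt → ℤ

/-- The parities of a vector. -/
def par (a : Vec) : GolayPt → ZMod 2 := fun i => (a i : ZMod 2)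

theorem par_add (a b : Vec) : par (a + b) = par a + par b := by
  funext i; simp [par]

theorem code_one : (1 : GolayPt → ZMod 2) ∈ golayCode := Submodule.subset_span (Set.mem_union_right _ rfl)

theorem supports_iff {w : GolayPt → ZMod 2} :
    support₂ w ∈ supports (golayCode : Set (GolayPt → ZMod 2)) ↔ w ∈ golayCode := by
  constructor
  · rintro ⟨v, hv, e⟩; rwa [← Golay.eq_of_support e]
  · exact fun h => ⟨w, h, rfl⟩

theorem code_weight {w : GolayPt → ZMod 2} (h : w ∈ golayCode) :
    (support₂ w).card = 0 ∨ (support₂ w).card = 8 ∨ (support₂ w).card = 12 ∨ (support₂ w).card = 16 ∨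
      (support₂ w).card = 24 := by
  obtain ⟨m, hm, rfl⟩ := Golay.mem_golayCode.1 h
  rw [Golay.support_vec, Golay.card_pts]
  exact Golay.pop_code hm

/-- The vectors of the lattice, described by parities. -/
def Good (x : Vec) : Prop :=
  ∃ (m : ℤ) (a : Vec), (m = 0 ∨ m = 1) ∧ (∀ i, x i = m + 2 * a i) ∧ par a ∈ golayCode ∧
    ∑ i, x i ≡ 4 * m [ZMOD 8]

theorem intCast_zmod2_ne_zero {a : ℤ} : ((a : ℤ) : ZMod 2) ≠ 0 ↔ a % 2 = 1 := by
  rw [Ne, ZMod.intCast_zmod_eq_zero_iff_dvd]; omega

theorem zmod2_add_ne_zero {u v : ZMod 2} : u + v ≠ 0 ↔ u ≠ v := by revert u v; decide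

theorem filter_mod_four {x a : Vec} {m : ℤ} (hx : ∀ i, x i = m + 2 * a i) {k e : ℤ} (hk : k = m + 2 * e) :
    (Finset.univ.filter fun i => x i ≡ k [ZMOD 4]) = support₂ (par a + fun _ => ((e + 1 : ℤ) : ZMod 2)) := by
  ext i
  rw [Finset.mem_filter, support₂, Finset.mem_filter]
  simp only [Finset.mem_univ, true_and, Pi.add_apply, par, ← Int.cast_add, intCast_zmod2_ne_zero]
  rw [Int.ModEq, hx i, hk]
  omega

theorem code_const (e : ℤ) : (fun _ : GolayPt => (e : ZMod 2)) ∈ golayCode := by
  have h : (fun _ : GolayPt => (e : ZMod 2)) = (e : ZMod 2) • (1 : GolayPt → ZMod 2) := by funext i; simp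
  rw [h]; exact Submodule.smul_mem _ _ code_one

theorem good_iff {x : Vec} : Good x ↔ x ∈ leechSet := by
  constructor
  · rintro ⟨m, a, hm, hx, hc, hs⟩
    refine ⟨m, fun i => by show x i ≡ m [ZMOD 2]; rw [hx i]; exact Int.modEq_iff_dvd.2 ⟨-a i, by ring⟩, hs, fun k => ?_⟩
    rcases Int.emod_two_eq_zero_or_one (k - m) with h | h
    · rw [filter_mod_four hx (e := (k - m) / 2) (by omega)]
      exact supports_iff.2 (Submodule.add_mem _ hc (code_const _))
    · rw [Finset.filter_false_of_mem fun i _ => by rw [Int.ModEq, hx i]; omega]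
      exact ⟨0, Submodule.zero_mem _, by simp [support₂]⟩
  · rintro ⟨m, hp, hs, hk⟩
    have ha : ∀ i, x i = m % 2 + 2 * ((x i - m % 2) / 2) := fun i => by
      have := hp i; unfold Int.ModEq at this; omega
    refine ⟨m % 2, fun i => (x i - m % 2) / 2, Int.emod_two_eq_zero_or_one m, ha, ?_, ?_⟩
    · have h := hk (m % 2)
      rw [filter_mod_four ha (e := 0) (by omega), supports_iff] at h
      have h2 := Submodule.sub_mem _ h (code_const (0 + 1))
      rwa [add_sub_cancel_right] at h2
    · rw [Int.ModEq] at hs ⊢; omega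

theorem Good.add {x y : Vec} (hx : Good x) (hy : Good y) : Good (x + y) := by
  obtain ⟨m, a, hm, hxa, hca, hsa⟩ := hx
  obtain ⟨n, b, hn, hyb, hcb, hsb⟩ := hy
  refine ⟨(m + n) % 2, fun i => a i + b i + (m + n) / 2, Int.emod_two_eq_zero_or_one _, fun i => ?_, ?_, ?_⟩
  · rw [Pi.add_apply, hxa, hyb]; dsimp only; omega
  · have e : par (fun i => a i + b i + (m + n) / 2) = par a + par b + fun _ => (((m + n) / 2 : ℤ) : ZMod 2) := by
      funext i; simp [par]
    rw [e]
    exact Submodule.add_mem _ (Submodule.add_mem _ hca hcb) (code_const _)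
  · simp only [Pi.add_apply, Finset.sum_add_distrib]
    rw [Int.ModEq] at hsa hsb ⊢
    omega

theorem Good.neg {x : Vec} (hx : Good x) : Good (-x) := by
  obtain ⟨m, a, hm, hxa, hca, hsa⟩ := hx
  refine ⟨m, fun i => -a i - m, hm, fun i => ?_, ?_, ?_⟩
  · rw [Pi.neg_apply, hxa]; ring
  · have e : par (fun i => -a i - m) = par a + fun _ => (m : ZMod 2) := by
      funext i
      simp only [par, Pi.add_apply, Int.cast_sub, Int.cast_neg, ZMod.neg_eq_self_mod_two, CharTwo.sub_eq_add]
    rw [e]
    exact Submodule.add_mem _ hca (code_const _)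
  · simp only [Pi.neg_apply, Finset.sum_neg_distrib]
    rw [Int.ModEq] at hsa ⊢
    omega

theorem Good.zero : Good 0 :=
  ⟨0, 0, Or.inl rfl, fun i => by simp, by
    have : par (0 : Vec) = 0 := by funext i; simp [par]
    rw [this]; exact Submodule.zero_mem _, by simp⟩

theorem mem_lattice {x : Vec} : x ∈ leechLattice ↔ Good x := by
  refine ⟨fun h => ?_, fun h => AddSubgroup.subset_closure (good_iff.1 h)⟩
  exact AddSubgroup.closure_induction (p := fun y _ => Good y) (fun y hy => good_iff.2 hy) Good.zero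
    (fun _ _ _ _ => Good.add) (fun _ _ => Good.neg) h

theorem coe_leech : (leechLattice : Set Vec) = leechSet := Set.ext fun _ => mem_lattice.trans good_iff

/-- The number of odd entries. -/
theorem sum_emod_two (a : Vec) : ∑ i, a i % 2 = ((support₂ (par a)).card : ℤ) := by
  rw [support₂, Finset.card_filter, Nat.cast_sum]
  refine Finset.sum_congr rfl fun i _ => ?_
  have h := intCast_zmod2_ne_zero (a := a i)
  simp only [par]
  split_ifs with h' <;> simp_all

theorem sq_emod_four (a : ℤ) : a * a % 4 = a % 2 := by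
  rcases Int.even_or_odd a with ⟨k, rfl⟩ | ⟨k, rfl⟩
  · rw [show (k + k) * (k + k) = 4 * (k * k) by ring]; omega
  · rw [show (2 * k + 1) * (2 * k + 1) = 4 * (k * k + k) + 1 by ring]; omega

theorem norm_dvd {x : Vec} (hx : x ∈ leechLattice) : (16 : ℤ) ∣ sqNorm x := by
  obtain ⟨m, a, hm, hxa, hca, hs⟩ := mem_lattice.1 hx
  have e : sqNorm x = 24 * m * m + 4 * (m * ∑ i, a i) + 4 * ∑ i, a i * a i := by
    simp only [sqNorm, hxa, Finset.mul_sum]
    rw [show (24 : ℤ) * m * m = ∑ _i : GolayPt, m * m by simp; ring, ← Finset.sum_add_distrib,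
      ← Finset.sum_add_distrib]
    exact Finset.sum_congr rfl fun i _ => by ring
  have hsum : ∑ i, x i = 24 * m + 2 * ∑ i, a i := by
    simp only [hxa, Finset.sum_add_distrib, ← Finset.mul_sum, Finset.sum_const, Finset.card_univ,
      Golay.card_golayPt]
    ring
  have h4 : (∑ i, a i * a i) % 4 = 0 := by
    rw [Finset.sum_int_mod]
    simp only [sq_emod_four, sum_emod_two]
    rcases code_weight hca with h | h | h | h | h <;> rw [h] <;> norm_num
  rw [Int.ModEq, hsum] at hs
  rcases hm with rfl | rfl <;> omega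

theorem sq_le_sum {a : Vec} : ((support₂ (par a)).card : ℤ) ≤ ∑ i, a i * a i := by
  rw [← sum_emod_two]
  refine Finset.sum_le_sum fun i _ => ?_
  rw [← sq_emod_four]
  have := mul_self_nonneg (a i)
  omega

theorem norm_ge {x : Vec} (hx : x ∈ leechLattice) (h0 : x ≠ 0) : 32 ≤ sqNorm x := by
  obtain ⟨k, hk⟩ := norm_dvd hx
  obtain ⟨m, a, hm, hxa, hca, hs⟩ := mem_lattice.1 hx
  rcases hm with rfl | rfl
  · have e : sqNorm x = 4 * ∑ i, a i * a i := by
      simp only [sqNorm, hxa, Finset.mul_sum]
      exact Finset.sum_congr rfl fun i _ => by ring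
    rcases code_weight hca with h | h
    · -- all entries divisible by four
      have hev : ∀ i, a i % 2 = 0 := fun i => by
        have h1 : i ∉ support₂ (par a) := by rw [Finset.card_eq_zero.1 h]; simp
        simp only [support₂, Finset.mem_filter, Finset.mem_univ, true_and, par, intCast_zmod2_ne_zero] at h1
        omega
      have hb : ∀ i, a i = 2 * (a i / 2) := fun i => by have := hev i; omega
      obtain ⟨i, hi⟩ : ∃ i, a i ≠ 0 := by
        by_contra hcon
        simp only [not_exists, not_not] at hcon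
        exact h0 (funext fun i => by simp [hxa, hcon i])
      have e2 : ∑ i, a i * a i = 4 * ∑ i, (a i / 2) * (a i / 2) := by
        rw [Finset.mul_sum]; exact Finset.sum_congr rfl fun i _ => by
          linear_combination (a i + 2 * (a i / 2)) * (hb i)
      have h1 : 1 ≤ ∑ i, (a i / 2) * (a i / 2) := by
        refine le_trans ?_ (Finset.single_le_sum (f := fun j => (a j / 2) * (a j / 2)) (fun j _ => mul_self_nonneg (a j / 2)) (Finset.mem_univ i))
        have : a i / 2 ≠ 0 := fun h' => hi (by rw [hb i, h']; rfl)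
        have := mul_self_pos.2 this; omega
      have h3 : (∑ i, (a i / 2) * (a i / 2)) % 2 = (∑ i, a i / 2) % 2 := by
        rw [Finset.sum_int_mod, Finset.sum_int_mod (f := fun i => a i / 2)]
        refine congrArg (· % 2) (Finset.sum_congr rfl fun i _ => ?_)
        have := sq_emod_four (a i / 2)
        omega
      have h4 : ∑ i, x i = 4 * ∑ i, a i / 2 := by
        rw [Finset.mul_sum]
        exact Finset.sum_congr rfl fun i _ => by rw [hxa]; have := hb i; omega
      rw [Int.ModEq, h4] at hs
      omega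
    · have h2 := sq_le_sum (a := a)
      omega
  · have h1 : 24 ≤ sqNorm x := by
      have : ∀ i ∈ (Finset.univ : Finset GolayPt), (1 : ℤ) ≤ x i ^ 2 := fun i _ => by
        have hne : x i ≠ 0 := by rw [hxa]; omega
        have := sq_pos_iff.2 hne; omega
      simpa [sqNorm] using Finset.sum_le_sum this
    omega

theorem dotInt_comm (x y : Vec) : dotInt x y = dotInt y x := by simp [dotInt, mul_comm]

theorem norm_add (x y : Vec) : sqNorm (x + y) = sqNorm x + sqNorm y + 2 * dotInt x y := by
  simp only [sqNorm, dotInt, Finset.mul_sum, ← Finset.sum_add_distrib, Pi.add_apply]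
  exact Finset.sum_congr rfl fun i _ => by ring

theorem norm_sub (x y : Vec) : sqNorm (x - y) = sqNorm x + sqNorm y - 2 * dotInt x y := by
  simp only [sqNorm, dotInt, Finset.mul_sum, ← Finset.sum_add_distrib, ← Finset.sum_sub_distrib, Pi.sub_apply]
  exact Finset.sum_congr rfl fun i _ => by ring

theorem norm_two_smul (x : Vec) : sqNorm (2 • x) = 4 * sqNorm x := by
  simp only [sqNorm, Finset.mul_sum]
  exact Finset.sum_congr rfl fun i _ => by simp; ring

theorem norm_neg (x : Vec) : sqNorm (-x) = sqNorm x := by simp [sqNorm]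

theorem norm_nonneg (x : Vec) : 0 ≤ sqNorm x := Finset.sum_nonneg fun i _ => sq_nonneg (x i)

theorem norm_eq_zero {x : Vec} (h : sqNorm x = 0) : x = 0 := by
  funext i
  have := (Finset.sum_eq_zero_iff_of_nonneg fun i _ => sq_nonneg (x i)).1 h i (Finset.mem_univ i)
  exact pow_eq_zero_iff two_ne_zero |>.1 this

theorem dot_dvd {x y : Vec} (hx : x ∈ leechLattice) (hy : y ∈ leechLattice) : (8 : ℤ) ∣ dotInt x y := by
  have h := norm_dvd (add_mem hx hy)
  rw [norm_add] at h
  have h1 := norm_dvd hx
  have h2 := norm_dvd hy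
  omega

/-- Two congruent short vectors. -/
theorem congr_short {x y : Vec} (hx : x ∈ leechLattice) (hy : y ∈ leechLattice) (hxn : sqNorm x ≤ 64)
    (hyn : sqNorm y ≤ 64) (hc : ∃ z ∈ leechLattice, x - y = 2 • z) :
    x = y ∨ x = -y ∨ (sqNorm x = 64 ∧ sqNorm y = 64 ∧ dotInt x y = 0) := by
  obtain ⟨z, hz, e⟩ := hc
  by_cases h1 : z = 0
  · exact Or.inl (sub_eq_zero.1 (by rw [e, h1, smul_zero]))
  have e2 : x + y = 2 • (z + y) := by rw [smul_add, ← e]; abel
  by_cases h2 : z + y = 0
  · exact Or.inr (Or.inl (add_eq_zero_iff_eq_neg.1 (by rw [e2, h2, smul_zero])))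
  refine Or.inr (Or.inr ?_)
  have a1 := norm_ge hz h1
  have a2 := norm_ge (add_mem hz hy) h2
  have b1 := congrArg sqNorm e
  have b2 := congrArg sqNorm e2
  rw [norm_sub, norm_two_smul] at b1
  rw [norm_add, norm_two_smul] at b2
  refine ⟨?_, ?_, ?_⟩ <;> omega

/-- A permutation of the code's group preserves the lattice. -/
theorem perm_mem {σ : Equiv.Perm GolayPt} (hσ : σ ∈ M24) {x : Vec} (hx : x ∈ leechLattice) :
    (fun i => x (σ i)) ∈ leechLattice := by
  obtain ⟨m, a, hm, hxa, hca, hs⟩ := mem_lattice.1 hx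
  refine mem_lattice.2 ⟨m, fun i => a (σ i), hm, fun i => hxa (σ i), ?_, ?_⟩
  · have h : σ⁻¹ • supports (golayCode : Set (GolayPt → ZMod 2)) = supports (golayCode : Set (GolayPt → ZMod 2)) :=
      MulAction.mem_stabilizer_iff.1 (inv_mem hσ)
    have h2 : σ⁻¹ • support₂ (par a) ∈ supports (golayCode : Set (GolayPt → ZMod 2)) := by
      rw [← h]; exact Set.smul_mem_smul_set (supports_iff.2 hca)
    have e : σ⁻¹ • support₂ (par a) = support₂ (par fun i => a (σ i)) := by
      ext i
      rw [Finset.mem_inv_smul_finset_iff, support₂, Finset.mem_filter, support₂, Finset.mem_filter]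
      simp only [Finset.mem_univ, true_and, Equiv.Perm.smul_def, par]
    rw [e, supports_iff] at h2
    exact h2
  · rwa [show ∑ i, x (σ i) = ∑ i, x i from Equiv.sum_comp σ x]

/-- Changing the signs on a code word preserves the lattice. -/
theorem sign_mem {c : Finset GolayPt} (hc : c ∈ supports (golayCode : Set (GolayPt → ZMod 2))) {x : Vec}
    (hx : x ∈ leechLattice) : (fun i => if i ∈ c then -x i else x i) ∈ leechLattice := by
  obtain ⟨w, hw, rfl⟩ := hc
  obtain ⟨m, a, hm, hxa, hca, hs⟩ := mem_lattice.1 hx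
  refine mem_lattice.2 ⟨m, fun i => if i ∈ support₂ w then -a i - m else a i, hm, fun i => ?_, ?_, ?_⟩
  · dsimp only
    split_ifs
    · rw [hxa]; ring
    · exact hxa i
  · have e : par (fun i => if i ∈ support₂ w then -a i - m else a i) = par a + (m : ZMod 2) • w := by
      funext i
      simp only [par, support₂, Finset.mem_filter, Finset.mem_univ, true_and, Pi.add_apply, Pi.smul_apply,
        smul_eq_mul]
      rcases (show w i = 0 ∨ w i = 1 by generalize w i = u; revert u; decide) with h | h
      · simp [h]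
      · simp only [h, ne_eq, one_ne_zero, not_false_iff, if_true, Int.cast_sub, Int.cast_neg,
          ZMod.neg_eq_self_mod_two, CharTwo.sub_eq_add, mul_one]
    rw [e]
    exact Submodule.add_mem _ hca (Submodule.smul_mem _ _ hw)
  · set c := support₂ w with hcdef
    have h1 : ∑ i, (if i ∈ c then -x i else x i) = ∑ i, x i - 2 * ∑ i ∈ c, x i := by
      have e : ∀ i, (if i ∈ c then -x i else x i) = x i - 2 * (if i ∈ c then x i else 0) := fun i => by
        split_ifs <;> ring
      simp only [e, Finset.sum_sub_distrib, ← Finset.mul_sum, Finset.sum_ite_mem, Finset.univ_inter]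
    have h2 : (∑ i ∈ c, x i) % 4 = 0 := by
      have h3 : ∑ i ∈ c, x i = m * (c.card : ℤ) + 2 * ∑ i ∈ c, a i := by
        simp [hxa, Finset.sum_add_distrib, Finset.mul_sum, mul_comm]
      have h4 : (∑ i ∈ c, a i) % 2 = 0 := by
        obtain ⟨p, hp, hpe⟩ := Golay.mem_golayCode.1 hw
        obtain ⟨q, hq, hqe⟩ := Golay.mem_golayCode.1 hca
        have h5 : ((∑ i ∈ c, a i : ℤ) : ZMod 2) = (Golay.pop (p &&& q) : ZMod 2) := by
          rw [← Golay.dot_vec, ← hpe, ← hqe, Int.cast_sum, hcdef, support₂, Finset.sum_filter]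
          refine Finset.sum_congr rfl fun i _ => ?_
          simp only [par]
          rcases (show w i = 0 ∨ w i = 1 by generalize w i = u; revert u; decide) with h | h <;> simp [h]
        have h6 : (Golay.pop (p &&& q) : ZMod 2) = 0 :=
          (ZMod.natCast_eq_zero_iff_even ..).2 (Nat.even_iff.2 (Golay.even_inter hp hq))
        rw [h6, ZMod.intCast_zmod_eq_zero_iff_dvd] at h5
        omega
      rw [h3]
      have hcc : (c.card : ℤ) % 4 = 0 := by
        have : c.card % 4 = 0 := by
          rcases code_weight hw with h | h | h | h | h <;> simp only [hcdef, h]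
        omega
      rcases hm with rfl | rfl <;> omega
    rw [Int.ModEq] at hs ⊢
    rw [h1]; omega

end Cfsg.Agent.Spor.Leech
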