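import Cfsg.Agent.Lib.Spor.Leech.Cert

/-!
Certificate: the automorphisms fixing 3 given vector(s) are transitive on 22 short vectors.
-/

set_option autoImplicit false
set_option maxRecDepth 100000
set_option maxHeartbeats 1000000

namespace Cfsg.Agent.Spor.Leech

def hsAT0 : Tree := .node (.node (.node (.node (.node (.leaf 3108436129124220083695994795358502257882891009) (.leaf 3130039976035296624864357522435130358090629123)) (.node (.leaf 3130715096251267766775868857656274986223338753) (.leaf 3130736193758016864960603586881935755851988994))) (.node (.node (.leaf 3130736853055102774278876547170237654902767618) (.leaf 3130736873658136708945072577179247089248108802)) (.node (.leaf 3130736874301981519403391203117028634071401730) (.leaf 3130736874322101669730213660177584307346932995)))) (.node (.node (.node (.leaf 3130736874322730424427926861960726672136995842) (.leaf 3130736874322750073012230399516449871036809474)) (.node (.leaf 3130736874322750687030489885065066221002425346) (.leaf 3130736874322750706218560493988460481937932290))) (.node (.node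 (.leaf 3130736874322750706818187700517316552593572353) (.leaf 3130736874322750706836926050721343304801321218)) (.node (.leaf 3130736874322750706837511624165219140808015873) (.leaf 3130736874322750706837529923335340260682760962))))) (.node (.node (.node (.node (.leaf 3130736874322750706837530495184406545678926339) (.leaf 3130736874322750706837530513054689867085250562)) (.node (.leaf 3130736874322750706837530513613136220879388929) (.leaf 3130736874322750706837530513630587669434204418))) (.node (.node (.leaf 3130736874322750706837530513631133027201451266) (.leaf 3130736874322750706837530513631150069631680512)) (.leaf 0))) (.leaf 0))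

def hsAW0 : List ℕ := [21, 20, 19, 18, 17, 16, 15, 14, 13, 12, 11, 10, 9, 8, 7, 6, 5, 4, 3, 2, 1, 0]

def hsAW1 : List ℕ := []

def hsAW2 : List ℕ := []

def hsAW3 : List ℕ := []

def hsAW4 : List ℕ := []

def hsAW5 : List ℕ := []

def hsAW6 : List ℕ := []

def hsAW7 : List ℕ := []

def hsAW8 : List ℕ := []

def hsAW9 : List ℕ := []

def hsAW10 : List ℕ := []

def hsAW11 : List ℕ := []

def hsAW12 : List ℕ := []

def hsAW13 : List ℕ := []

def hsAW14 : List ℕ := []

def hsAW15 : List ℕ := []

def hsAW16 : List ℕ := []

def hsAW17 : List ℕ := []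

def hsAW18 : List ℕ := []

def hsAW19 : List ℕ := []

/-- The fixed vectors with the products. -/
def hsAL : List (List ℤ × ℤ) := [([1, 1, 1, 1, 1, 1, 1, 1, 1, 1, 1, 1, 1, 1, 1, 1, 1, 1, 1, 1, 1, 1, 1, 5], 24), ([-5, -1, -1, -1, -1, -1, -1, -1, -1, -1, -1, -1, -1, -1, -1, -1, -1, -1, -1, -1, -1, -1, -1, -1], -24), ([4, 0, 0, 0, 0, 0, 0, 0, 0, 0, 0, 0, 0, 0, 0, 0, 0, 0, 0, 0, 0, 0, 0, 4], 8)]

def hsAX0 : List ℤ := [1, -3, 1, 1, 1, 1, 1, 1, 1, 1, 1, 1, 1, 1, 1, 1, 1, 1, 1, 1, 1, 1, 1, 1]

def hsAC : Cert where
  gens := [[(976941885732961358922930233628761632, 0)],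
    [(984401977014261895511266911080566208, 0)],
    [(965988599502325054581006972082509120, 0)],
    [(957419897965394240106754171887600224, 0)],
    [(973786512119879078418510958688908672, 0)],
    [(966336516547857126488508259870562432, 0)]]
  tree := hsAT0
  ht := 5
  n := 22
  wit := []
  spec := ⟨[(0, 3996000), (1, 0), (2, 0), (3, 0), (4, 0), (5, 0), (6, 0), (7, 0), (8, 0), (9, 0), (10, 0), (11, 0), (12, 0), (13, 0), (14, 0), (15, 0), (16, 0), (17, 0), (18, 0), (19, 0), (20, 0), (21, 0), (22, 0), (23, 4000004)], [0, 3996000, 4000004], 999, 15984, 7988012, 7992008⟩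

theorem hsA_range0 : chkRange hsAC 728931481559469994818216774992446897 0 = true := by decide +kernel

theorem hsA_odd0 : chkMatch hsAC (oddPart hsAC.spec 0) hsAW0 = true := by decide +kernel

theorem hsA_odd1 : chkMatch hsAC (oddPart hsAC.spec 1) hsAW1 = true := by decide +kernel

theorem hsA_odd2 : chkMatch hsAC (oddPart hsAC.spec 2) hsAW2 = true := by decide +kernel

theorem hsA_odd3 : chkMatch hsAC (oddPart hsAC.spec 3) hsAW3 = true := by decide +kernel

theorem hsA_odd4 : chkMatch hsAC (oddPart hsAC.spec 4) hsAW4 = true := by decide +kernel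

theorem hsA_odd5 : chkMatch hsAC (oddPart hsAC.spec 5) hsAW5 = true := by decide +kernel

theorem hsA_odd6 : chkMatch hsAC (oddPart hsAC.spec 6) hsAW6 = true := by decide +kernel

theorem hsA_odd7 : chkMatch hsAC (oddPart hsAC.spec 7) hsAW7 = true := by decide +kernel

theorem hsA_odd8 : chkMatch hsAC (oddPart hsAC.spec 8) hsAW8 = true := by decide +kernel

theorem hsA_odd9 : chkMatch hsAC (oddPart hsAC.spec 9) hsAW9 = true := by decide +kernel

theorem hsA_odd10 : chkMatch hsAC (oddPart hsAC.spec 10) hsAW10 = true := by decide +kernel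

theorem hsA_odd11 : chkMatch hsAC (oddPart hsAC.spec 11) hsAW11 = true := by decide +kernel

theorem hsA_odd12 : chkMatch hsAC (oddPart hsAC.spec 12) hsAW12 = true := by decide +kernel

theorem hsA_odd13 : chkMatch hsAC (oddPart hsAC.spec 13) hsAW13 = true := by decide +kernel

theorem hsA_odd14 : chkMatch hsAC (oddPart hsAC.spec 14) hsAW14 = true := by decide +kernel

theorem hsA_odd15 : chkMatch hsAC (oddPart hsAC.spec 15) hsAW15 = true := by decide +kernel

theorem hsA_oct0 : chkMatch hsAC (octPart hsAC.spec 0) hsAW16 = true := by decide +kernel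

theorem hsA_oct1 : chkMatch hsAC (octPart hsAC.spec 1) hsAW17 = true := by decide +kernel

theorem hsA_oct2 : chkMatch hsAC (octPart hsAC.spec 2) hsAW18 = true := by decide +kernel

theorem hsA_pair : chkMatch hsAC (pairList hsAC.spec) hsAW19 = true := by decide +kernel

theorem hsA_checks : Checks hsAL hsAX0 hsAC 728931481559469994818216774992446897 where
  gens := by decide +kernel
  root := by decide +kernel
  start := by decide +kernel
  spec := by decide +kernel
  range := by
    intro j hj
    have hj' : j < 1 := by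
      have : (hsAC).n = 22 := rfl
      omega
    interval_cases j
    · exact hsA_range0
  odd := by
    intro i hi
    interval_cases i
    · exact ⟨_, hsA_odd0⟩
    · exact ⟨_, hsA_odd1⟩
    · exact ⟨_, hsA_odd2⟩
    · exact ⟨_, hsA_odd3⟩
    · exact ⟨_, hsA_odd4⟩
    · exact ⟨_, hsA_odd5⟩
    · exact ⟨_, hsA_odd6⟩
    · exact ⟨_, hsA_odd7⟩
    · exact ⟨_, hsA_odd8⟩
    · exact ⟨_, hsA_odd9⟩
    · exact ⟨_, hsA_odd10⟩
    · exact ⟨_, hsA_odd11⟩
    · exact ⟨_, hsA_odd12⟩
    · exact ⟨_, hsA_odd13⟩
    · exact ⟨_, hsA_odd14⟩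
    · exact ⟨_, hsA_odd15⟩
  oct := by
    intro i hi
    interval_cases i
    · exact ⟨_, hsA_oct0⟩
    · exact ⟨_, hsA_oct1⟩
    · exact ⟨_, hsA_oct2⟩
  pair := ⟨_, hsA_pair⟩

end Cfsg.Agent.Spor.Leech
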