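import Cfsg.Agent.Lib.Spor.Leech.Cert

/-!
Certificate: the automorphisms fixing 3 given vector(s) are transitive on 77 short vectors.
-/

set_option autoImplicit false
set_option maxRecDepth 100000
set_option maxHeartbeats 1000000

namespace Cfsg.Agent.Spor.Leech

def hsBT0 : Tree := .node (.node (.node (.node (.node (.node (.leaf 3303387804892020047607286048737631356707209219) (.leaf 3303387804892020364210460540409637779804062210)) (.node (.leaf 3303387804892030198715910410790452253441524739) (.leaf 3303387804892344565841797789743642771178259203))) (.node (.node (.leaf 3303387804892344883063923411592424895573984259) (.leaf 3303387804902414782219682250368820560649585923)) (.node (.leaf 3303387804902729486375339752350856964861592834) (.leaf 3303387804902739301073144549702524348993437700)))) (.node (.node (.node (.leaf 3303387805224327056138181146035027978771825667) (.leaf 3303387805224337187439160417188435507024757250)) (.node (.leaf 3303387805224337504661304928520582966372859906) (.leaf 3303387805234711956864078608038621570492793859))) (.node (.node (.leaf 3303387805235036158514758079614752467608797956) (.leaf 3303387815525844023780471374906569406652678146))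 (.node (.leaf 3303387815525844340383626977707118952224391938) (.leaf 3303387815525854471685210729640054166514500355))))) (.node (.node (.node (.node (.leaf 3303387815526168542034307058007226933289484803) (.leaf 3303387815536228607284828787929358907631992834)) (.node (.leaf 3303387815858151012523668657328175899677032964) (.leaf 3303388145174387285149217076439441721474155267))) (.node (.node (.leaf 3303388145174711486780553753906928979295929091) (.leaf 3303388145174721637888573653067411602182046723)) (.node (.leaf 3303388145184771571856854462598609154278621955) (.leaf 3303388145506693977076352108603504635878899715)))) (.node (.node (.node (.leaf 3303388145517078561199678950972628557837107971) (.leaf 3303388155808221076020207200536507358097178627)) (.node (.leaf 3303388155818595528222999178666220728296210435) (.leaf 3303388156140842768918457521453900330384163843))) (.node (.node (.leaf 3303398693927761517628757441206680344329781763) (.leaf 3303398693927771985339932943149698664039187459)) (.node (.leaf 3303398693928086035882592515564801580497044227) (.leaf 3303398693938146120939550429589954162589500674)))))) (.node (.node (.node (.node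 (.node (.leaf 3303398693938156252241134163670602861797770242) (.leaf 3303398694260393045031853170171541227972591874)) (.node (.leaf 3303398704561920143356757131351887488969867777) (.leaf 3303398704571970394547163562749318614013641731))) (.node (.node (.leaf 3303398704893892482544516697439518084827579650) (.leaf 3303399034210128438566908924031430112414466563)) (.node (.leaf 3303399034210128755170083416279351380290240772) (.leaf 3303399034542445578418126124042248903528153090)))) (.node (.node (.node (.leaf 3303736254035747088275027794633927843788816899) (.leaf 3303736254035747405497153417058590728104116227)) (.node (.leaf 3303736254035757239383047712799583301993825539) (.leaf 3303736254046131692204791392955121616061662467))) (.node (.node (.leaf 3303736254368054414046786864560031144809071361) (.leaf 3303736254368388746979707865827516708240360194)) (.node (.leaf 3303736264669581195768516334068353940276118787) (.leaf 3303736264680280166824771183939300780045632772))))) (.node (.node (.node (.node (.leaf 3303736265001878053809757088938167804746073348) (.leaf 3303736594318114009213179886182654695825802499)) (.node (.leaf 3303736594318438528086003869649379406081556994)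 (.leaf 3303736594328509061047701119961273224082293251))) (.node (.node (.leaf 3303747143071488558315218648417532857341903875) (.leaf 3303747143071813393771855439440711559768572930)) (.node (.leaf 3303747143414180150968855014640177565358752260) (.leaf 3303747493987679455427159938767208563957826051)))) (.node (.node (.node (.leaf 3314538177491285368762720323149165235068928259) (.leaf 3314538177491295500063699612190852891049066754)) (.node (.leaf 3314538177491620335539679198439567940352016899) (.leaf 3314538177501669952885461592074958678785131779))) (.node (.node (.leaf 3314538177501670269488617194298502664044152067) (.leaf 3314538177823592358124283161727194348407226369)) (.node (.leaf 3314538177823916876358794330884156520309784579) (.leaf 3314538188125433844001670133217570590521098243))))))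

def hsBT1 : Tree := .node (.node (.node (.node (.node (.node (.leaf 3314538188467811068909845228806798439769702400) (.leaf 3314538517773652606923016335734792137698575362)) (.node (.leaf 3314538517773662421002474447372764103840104963) (.leaf 3314538528407476246086359335137346245462786307))) (.node (.node (.leaf 3314549066527026838802929475544445014702359298) (.leaf 3314549066859334144748909566701000115079677187)) (.node (.leaf 3314549077160850795169055302704572013693894913) (.leaf 3314549406820102862098920150468869603364831746)))) (.node (.node (.node (.leaf 3314886626635336928302662718583192262697157891) (.leaf 3314886626645396993572527280065338877837443842)) (.node (.leaf 3314886637268836683037470757741762932690977539) (.leaf 3314886967249686319730176409470881929877061890))) (.node (.node (.leaf 3314897515670764011390601641217088812659179523) (.leaf 0)) (.leaf 0)))) (.leaf 0)) (.leaf 0)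

def hsBW0 : List ℕ := []

def hsBW1 : List ℕ := []

def hsBW2 : List ℕ := []

def hsBW3 : List ℕ := []

def hsBW4 : List ℕ := []

def hsBW5 : List ℕ := []

def hsBW6 : List ℕ := []

def hsBW7 : List ℕ := []

def hsBW8 : List ℕ := []

def hsBW9 : List ℕ := []

def hsBW10 : List ℕ := []

def hsBW11 : List ℕ := []

def hsBW12 : List ℕ := []

def hsBW13 : List ℕ := []

def hsBW14 : List ℕ := []

def hsBW15 : List ℕ := []

def hsBW16 : List ℕ := [64, 27, 51, 72, 21, 60, 47, 9, 75, 14, 31, 53, 70, 71, 29, 36, 49, 57, 11, 54, 34, 38, 62, 26, 42, 74, 23, 3, 55, 69, 32, 15, 8]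

def hsBW17 : List ℕ := [20, 45, 17, 56, 6, 66, 40, 44, 67, 46, 12, 58, 22, 39, 52, 16, 68, 1, 5, 30, 73, 19, 18, 76]

def hsBW18 : List ℕ := [37, 33, 65, 7, 48, 4, 43, 25, 13, 10, 59, 24, 63, 41, 28, 35, 0, 61, 50, 2]

def hsBW19 : List ℕ := []

/-- The fixed vectors with the products. -/
def hsBL : List (List ℤ × ℤ) := [([1, 1, 1, 1, 1, 1, 1, 1, 1, 1, 1, 1, 1, 1, 1, 1, 1, 1, 1, 1, 1, 1, 1, 5], 24), ([-5, -1, -1, -1, -1, -1, -1, -1, -1, -1, -1, -1, -1, -1, -1, -1, -1, -1, -1, -1, -1, -1, -1, -1], -24), ([4, 0, 0, 0, 0, 0, 0, 0, 0, 0, 0, 0, 0, 0, 0, 0, 0, 0, 0, 0, 0, 0, 0, 4], 16)]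

def hsBX0 : List ℤ := [2, 0, 0, 0, 0, 0, 0, 0, 0, 0, 0, 0, 2, 0, 2, 0, 2, 2, 2, 0, 0, 0, 2, 2]

def hsBC : Cert where
  gens := [[(976941885732961358922930233628761632, 0)],
    [(984401977014261895511266911080566208, 0)],
    [(965988599502325054581006972082509120, 0)],
    [(957419897965394240106754171887600224, 0)],
    [(973786512119879078418510958688908672, 0)],
    [(966336516547857126488508259870562432, 0)]]
  tree := (.node hsBT0 hsBT1)
  ht := 7
  n := 77
  wit := []
  spec := ⟨[(0, 3996000), (1, 0), (2, 0), (3, 0), (4, 0), (5, 0), (6, 0), (7, 0), (8, 0), (9, 0), (10, 0), (11, 0), (12, 0), (13, 0), (14, 0), (15, 0), (16, 0), (17, 0), (18, 0), (19, 0), (20, 0), (21, 0), (22, 0), (23, 4000004)], [0, 3996000, 4000004], 999, 15984, 7988012, 15992008⟩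

theorem hsB_range0 : chkRange hsBC 771726059836291491265838320554885650 0 = true := by decide +kernel

theorem hsB_odd0 : chkMatch hsBC (oddPart hsBC.spec 0) hsBW0 = true := by decide +kernel

theorem hsB_odd1 : chkMatch hsBC (oddPart hsBC.spec 1) hsBW1 = true := by decide +kernel

theorem hsB_odd2 : chkMatch hsBC (oddPart hsBC.spec 2) hsBW2 = true := by decide +kernel

theorem hsB_odd3 : chkMatch hsBC (oddPart hsBC.spec 3) hsBW3 = true := by decide +kernel

theorem hsB_odd4 : chkMatch hsBC (oddPart hsBC.spec 4) hsBW4 = true := by decide +kernel

theorem hsB_odd5 : chkMatch hsBC (oddPart hsBC.spec 5) hsBW5 = true := by decide +kernel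

theorem hsB_odd6 : chkMatch hsBC (oddPart hsBC.spec 6) hsBW6 = true := by decide +kernel

theorem hsB_odd7 : chkMatch hsBC (oddPart hsBC.spec 7) hsBW7 = true := by decide +kernel

theorem hsB_odd8 : chkMatch hsBC (oddPart hsBC.spec 8) hsBW8 = true := by decide +kernel

theorem hsB_odd9 : chkMatch hsBC (oddPart hsBC.spec 9) hsBW9 = true := by decide +kernel

theorem hsB_odd10 : chkMatch hsBC (oddPart hsBC.spec 10) hsBW10 = true := by decide +kernel

theorem hsB_odd11 : chkMatch hsBC (oddPart hsBC.spec 11) hsBW11 = true := by decide +kernel

theorem hsB_odd12 : chkMatch hsBC (oddPart hsBC.spec 12) hsBW12 = true := by decide +kernel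

theorem hsB_odd13 : chkMatch hsBC (oddPart hsBC.spec 13) hsBW13 = true := by decide +kernel

theorem hsB_odd14 : chkMatch hsBC (oddPart hsBC.spec 14) hsBW14 = true := by decide +kernel

theorem hsB_odd15 : chkMatch hsBC (oddPart hsBC.spec 15) hsBW15 = true := by decide +kernel

theorem hsB_oct0 : chkMatch hsBC (octPart hsBC.spec 0) hsBW16 = true := by decide +kernel

theorem hsB_oct1 : chkMatch hsBC (octPart hsBC.spec 1) hsBW17 = true := by decide +kernel

theorem hsB_oct2 : chkMatch hsBC (octPart hsBC.spec 2) hsBW18 = true := by decide +kernel

theorem hsB_pair : chkMatch hsBC (pairList hsBC.spec) hsBW19 = true := by decide +kernel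

theorem hsB_checks : Checks hsBL hsBX0 hsBC 771726059836291491265838320554885650 where
  gens := by decide +kernel
  root := by decide +kernel
  start := by decide +kernel
  spec := by decide +kernel
  range := by
    intro j hj
    have hj' : j < 1 := by
      have : (hsBC).n = 77 := rfl
      omega
    interval_cases j
    · exact hsB_range0
  odd := by
    intro i hi
    interval_cases i
    · exact ⟨_, hsB_odd0⟩
    · exact ⟨_, hsB_odd1⟩
    · exact ⟨_, hsB_odd2⟩
    · exact ⟨_, hsB_odd3⟩
    · exact ⟨_, hsB_odd4⟩
    · exact ⟨_, hsB_odd5⟩
    · exact ⟨_, hsB_odd6⟩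
    · exact ⟨_, hsB_odd7⟩
    · exact ⟨_, hsB_odd8⟩
    · exact ⟨_, hsB_odd9⟩
    · exact ⟨_, hsB_odd10⟩
    · exact ⟨_, hsB_odd11⟩
    · exact ⟨_, hsB_odd12⟩
    · exact ⟨_, hsB_odd13⟩
    · exact ⟨_, hsB_odd14⟩
    · exact ⟨_, hsB_odd15⟩
  oct := by
    intro i hi
    interval_cases i
    · exact ⟨_, hsB_oct0⟩
    · exact ⟨_, hsB_oct1⟩
    · exact ⟨_, hsB_oct2⟩
  pair := ⟨_, hsB_pair⟩

end Cfsg.Agent.Spor.Leech
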