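import Cfsg.Agent.Lib.Spor.Leech.CertT47104Data

/-! Blocks of the certificate for 47104 short vectors. -/

set_option autoImplicit false
set_option maxRecDepth 100000
set_option maxHeartbeats 1000000

namespace Cfsg.Agent.Spor.Leech

theorem co2t_range0 : chkRange co2tC 605575095584661629984560680234662416 0 = true := by decide +kernel

theorem co2t_range1 : chkRange co2tC 605575095584661629984560680234662416 1 = true := by decide +kernel

theorem co2t_range2 : chkRange co2tC 605575095584661629984560680234662416 2 = true := by decide +kernel

theorem co2t_range3 : chkRange co2tC 605575095584661629984560680234662416 3 = true := by decide +kernel

theorem co2t_range4 : chkRange co2tC 605575095584661629984560680234662416 4 = true := by decide +kernel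

theorem co2t_range5 : chkRange co2tC 605575095584661629984560680234662416 5 = true := by decide +kernel

theorem co2t_range6 : chkRange co2tC 605575095584661629984560680234662416 6 = true := by decide +kernel

theorem co2t_range7 : chkRange co2tC 605575095584661629984560680234662416 7 = true := by decide +kernel

theorem co2t_range8 : chkRange co2tC 605575095584661629984560680234662416 8 = true := by decide +kernel

theorem co2t_range9 : chkRange co2tC 605575095584661629984560680234662416 9 = true := by decide +kernel

theorem co2t_range10 : chkRange co2tC 605575095584661629984560680234662416 10 = true := by decide +kernel

theorem co2t_range11 : chkRange co2tC 605575095584661629984560680234662416 11 = true := by decide +kernel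

theorem co2t_range12 : chkRange co2tC 605575095584661629984560680234662416 12 = true := by decide +kernel

theorem co2t_range13 : chkRange co2tC 605575095584661629984560680234662416 13 = true := by decide +kernel

theorem co2t_range14 : chkRange co2tC 605575095584661629984560680234662416 14 = true := by decide +kernel

theorem co2t_range15 : chkRange co2tC 605575095584661629984560680234662416 15 = true := by decide +kernel

theorem co2t_range16 : chkRange co2tC 605575095584661629984560680234662416 16 = true := by decide +kernel

theorem co2t_range17 : chkRange co2tC 605575095584661629984560680234662416 17 = true := by decide +kernel

theorem co2t_range18 : chkRange co2tC 605575095584661629984560680234662416 18 = true := by decide +kernel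

theorem co2t_range19 : chkRange co2tC 605575095584661629984560680234662416 19 = true := by decide +kernel

theorem co2t_range20 : chkRange co2tC 605575095584661629984560680234662416 20 = true := by decide +kernel

theorem co2t_range21 : chkRange co2tC 605575095584661629984560680234662416 21 = true := by decide +kernel

theorem co2t_range22 : chkRange co2tC 605575095584661629984560680234662416 22 = true := by decide +kernel

theorem co2t_range23 : chkRange co2tC 605575095584661629984560680234662416 23 = true := by decide +kernel

theorem co2t_range24 : chkRange co2tC 605575095584661629984560680234662416 24 = true := by decide +kernel

theorem co2t_range25 : chkRange co2tC 605575095584661629984560680234662416 25 = true := by decide +kernel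

theorem co2t_range26 : chkRange co2tC 605575095584661629984560680234662416 26 = true := by decide +kernel

theorem co2t_range27 : chkRange co2tC 605575095584661629984560680234662416 27 = true := by decide +kernel

theorem co2t_range28 : chkRange co2tC 605575095584661629984560680234662416 28 = true := by decide +kernel

theorem co2t_range29 : chkRange co2tC 605575095584661629984560680234662416 29 = true := by decide +kernel

theorem co2t_range30 : chkRange co2tC 605575095584661629984560680234662416 30 = true := by decide +kernel

theorem co2t_range31 : chkRange co2tC 605575095584661629984560680234662416 31 = true := by decide +kernel

theorem co2t_range32 : chkRange co2tC 605575095584661629984560680234662416 32 = true := by decide +kernel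

theorem co2t_range33 : chkRange co2tC 605575095584661629984560680234662416 33 = true := by decide +kernel

theorem co2t_range34 : chkRange co2tC 605575095584661629984560680234662416 34 = true := by decide +kernel

theorem co2t_range35 : chkRange co2tC 605575095584661629984560680234662416 35 = true := by decide +kernel

theorem co2t_range36 : chkRange co2tC 605575095584661629984560680234662416 36 = true := by decide +kernel

theorem co2t_range37 : chkRange co2tC 605575095584661629984560680234662416 37 = true := by decide +kernel

theorem co2t_range38 : chkRange co2tC 605575095584661629984560680234662416 38 = true := by decide +kernel

theorem co2t_range39 : chkRange co2tC 605575095584661629984560680234662416 39 = true := by decide +kernel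

theorem co2t_range40 : chkRange co2tC 605575095584661629984560680234662416 40 = true := by decide +kernel

theorem co2t_range41 : chkRange co2tC 605575095584661629984560680234662416 41 = true := by decide +kernel

theorem co2t_range42 : chkRange co2tC 605575095584661629984560680234662416 42 = true := by decide +kernel

theorem co2t_range43 : chkRange co2tC 605575095584661629984560680234662416 43 = true := by decide +kernel

theorem co2t_range44 : chkRange co2tC 605575095584661629984560680234662416 44 = true := by decide +kernel

theorem co2t_range45 : chkRange co2tC 605575095584661629984560680234662416 45 = true := by decide +kernel

end Cfsg.Agent.Spor.Leech
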