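import Cfsg.Agent.Lib.Spor.Leech.CertU15400Data

/-! Blocks of the certificate for a large set of short vectors. -/

set_option autoImplicit false
set_option maxRecDepth 100000
set_option maxHeartbeats 1000000

namespace Cfsg.Agent.Spor.Leech

theorem mclS_range0 : chkRange mclSC 686055694495858120261503905033636366 0 = true := by decide +kernel

theorem mclS_range1 : chkRange mclSC 686055694495858120261503905033636366 1 = true := by decide +kernel

theorem mclS_range2 : chkRange mclSC 686055694495858120261503905033636366 2 = true := by decide +kernel

theorem mclS_range3 : chkRange mclSC 686055694495858120261503905033636366 3 = true := by decide +kernel

theorem mclS_range4 : chkRange mclSC 686055694495858120261503905033636366 4 = true := by decide +kernel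

theorem mclS_range5 : chkRange mclSC 686055694495858120261503905033636366 5 = true := by decide +kernel

theorem mclS_range6 : chkRange mclSC 686055694495858120261503905033636366 6 = true := by decide +kernel

theorem mclS_range7 : chkRange mclSC 686055694495858120261503905033636366 7 = true := by decide +kernel

theorem mclS_range8 : chkRange mclSC 686055694495858120261503905033636366 8 = true := by decide +kernel

theorem mclS_range9 : chkRange mclSC 686055694495858120261503905033636366 9 = true := by decide +kernel

theorem mclS_range10 : chkRange mclSC 686055694495858120261503905033636366 10 = true := by decide +kernel

theorem mclS_range11 : chkRange mclSC 686055694495858120261503905033636366 11 = true := by decide +kernel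

theorem mclS_range12 : chkRange mclSC 686055694495858120261503905033636366 12 = true := by decide +kernel

theorem mclS_range13 : chkRange mclSC 686055694495858120261503905033636366 13 = true := by decide +kernel

theorem mclS_range14 : chkRange mclSC 686055694495858120261503905033636366 14 = true := by decide +kernel

theorem mclS_range15 : chkRange mclSC 686055694495858120261503905033636366 15 = true := by decide +kernel

end Cfsg.Agent.Spor.Leech
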