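import Cfsg.Agent.Lib.Spor.Leech.CertU22275Data

/-! Blocks of the certificate for a large set of short vectors. -/

set_option autoImplicit false
set_option maxRecDepth 100000
set_option maxHeartbeats 1000000

namespace Cfsg.Agent.Spor.Leech

theorem mclT_range0 : chkRange mclTC 605575095584510362071470243484027408 0 = true := by decide +kernel

theorem mclT_range1 : chkRange mclTC 605575095584510362071470243484027408 1 = true := by decide +kernel

theorem mclT_range2 : chkRange mclTC 605575095584510362071470243484027408 2 = true := by decide +kernel

theorem mclT_range3 : chkRange mclTC 605575095584510362071470243484027408 3 = true := by decide +kernel

theorem mclT_range4 : chkRange mclTC 605575095584510362071470243484027408 4 = true := by decide +kernel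

theorem mclT_range5 : chkRange mclTC 605575095584510362071470243484027408 5 = true := by decide +kernel

theorem mclT_range6 : chkRange mclTC 605575095584510362071470243484027408 6 = true := by decide +kernel

theorem mclT_range7 : chkRange mclTC 605575095584510362071470243484027408 7 = true := by decide +kernel

theorem mclT_range8 : chkRange mclTC 605575095584510362071470243484027408 8 = true := by decide +kernel

theorem mclT_range9 : chkRange mclTC 605575095584510362071470243484027408 9 = true := by decide +kernel

theorem mclT_range10 : chkRange mclTC 605575095584510362071470243484027408 10 = true := by decide +kernel

theorem mclT_range11 : chkRange mclTC 605575095584510362071470243484027408 11 = true := by decide +kernel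

theorem mclT_range12 : chkRange mclTC 605575095584510362071470243484027408 12 = true := by decide +kernel

theorem mclT_range13 : chkRange mclTC 605575095584510362071470243484027408 13 = true := by decide +kernel

theorem mclT_range14 : chkRange mclTC 605575095584510362071470243484027408 14 = true := by decide +kernel

theorem mclT_range15 : chkRange mclTC 605575095584510362071470243484027408 15 = true := by decide +kernel

theorem mclT_range16 : chkRange mclTC 605575095584510362071470243484027408 16 = true := by decide +kernel

theorem mclT_range17 : chkRange mclTC 605575095584510362071470243484027408 17 = true := by decide +kernel

theorem mclT_range18 : chkRange mclTC 605575095584510362071470243484027408 18 = true := by decide +kernel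

theorem mclT_range19 : chkRange mclTC 605575095584510362071470243484027408 19 = true := by decide +kernel

theorem mclT_range20 : chkRange mclTC 605575095584510362071470243484027408 20 = true := by decide +kernel

theorem mclT_range21 : chkRange mclTC 605575095584510362071470243484027408 21 = true := by decide +kernel

end Cfsg.Agent.Spor.Leech
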