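import Cfsg.Agent.Lib.Spor.Leech.Count
import Cfsg.Agent.Lib.Spor.Golay.M24Facts
import Cfsg.Prelude.Def_SporadicCombinatorics

/-!
Members of the automorphism group of the rank 24 lattice: signed permutations from the code and one map
built from a sextet.
-/

set_option autoImplicit false
set_option maxRecDepth 100000

namespace Cfsg.Agent.Spor.Leech

open Cfsg
open scoped Pointwise

/-- An automorphism from a pair of mutually inverse maps of integer vectors. -/
def mkCo (F G : Vec → Vec) (hF : ∀ x ∈ leechLattice, F x ∈ leechLattice) (hG : ∀ x ∈ leechLattice, G x ∈ leechLattice)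
    (hGF : ∀ x ∈ leechLattice, G (F x) = x) (hFG : ∀ x ∈ leechLattice, F (G x) = x)
    (hadd : ∀ x ∈ leechLattice, ∀ y ∈ leechLattice, F (x + y) = F x + F y)
    (hn : ∀ x ∈ leechLattice, sqNorm (F x) = sqNorm x) : Co0 :=
  ⟨{ toFun := fun v => ⟨F v, hF v v.2⟩
     invFun := fun v => ⟨G v, hG v v.2⟩
     left_inv := fun v => Subtype.ext (hGF v v.2)
     right_inv := fun v => Subtype.ext (hFG v v.2) },
    fun v w => Subtype.ext (hadd v v.2 w w.2), fun v => hn v v.2⟩

theorem smul_val (g : Co0) (v : leechLattice) : g • v = (g : Equiv.Perm leechLattice) v := rfl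

theorem co_add (g : Co0) (v w : leechLattice) : g • (v + w) = g • v + g • w := g.2.1 v w

theorem co_norm (g : Co0) (v : leechLattice) :
    sqNorm ((g • v : leechLattice) : Vec) = sqNorm (v : Vec) := g.2.2 v

/-- The action of a member as an additive map. -/
def coHom (g : Co0) : leechLattice →+ leechLattice := AddMonoidHom.mk' (fun v => g • v) (co_add g)

theorem co_neg (g : Co0) (v : leechLattice) : g • (-v) = -(g • v) := map_neg (coHom g) v

theorem co_sub (g : Co0) (v w : leechLattice) : g • (v - w) = g • v - g • w := map_sub (coHom g) v w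

theorem co_zero (g : Co0) : g • (0 : leechLattice) = 0 := map_zero (coHom g)

theorem co_zsmul (g : Co0) (n : ℤ) (v : leechLattice) : g • (n • v) = n • (g • v) := map_zsmul (coHom g) n v

theorem co_nsmul (g : Co0) (n : ℕ) (v : leechLattice) : g • (n • v) = n • (g • v) := map_nsmul (coHom g) n v

theorem co_sum (g : Co0) {ι : Type*} (s : Finset ι) (f : ι → leechLattice) :
    g • (∑ i ∈ s, f i) = ∑ i ∈ s, g • f i := map_sum (coHom g) f s

theorem co_dot (g : Co0) (v w : leechLattice) :
    dotInt ((g • v : leechLattice) : Vec) ((g • w : leechLattice) : Vec) = dotInt (v : Vec) (w : Vec) := by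
  have h := co_norm g (v + w)
  rw [co_add, AddSubgroup.coe_add, AddSubgroup.coe_add, norm_add, norm_add, co_norm, co_norm] at h
  omega

theorem mem_symm {σ : Equiv.Perm GolayPt} (hσ : σ ∈ M24) : σ.symm ∈ M24 := inv_mem hσ

theorem signedPerm_eq (σ : Equiv.Perm GolayPt) (c : Finset GolayPt) (x : Vec) :
    signedPerm σ c x = flip c (fun i => x (σ.symm i)) := rfl

/-- A signed permutation as an automorphism. -/
def mono {σ : Equiv.Perm GolayPt} (hσ : σ ∈ M24) {c : Finset GolayPt}
    (hc : c ∈ supports (golayCode : Set (GolayPt → ZMod 2))) : Co0 :=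
  mkCo (signedPerm σ c) (fun x i => flip c x (σ i))
    (fun x hx => sign_mem hc (perm_mem (mem_symm hσ) hx))
    (fun x hx => perm_mem hσ (sign_mem hc hx))
    (fun x _ => funext fun i => by rw [signedPerm_eq, flip_flip]; simp)
    (fun x _ => by rw [signedPerm_eq]; simp only [Equiv.apply_symm_apply]; exact flip_flip c x)
    (fun x _ y _ => funext fun i => by
      simp only [signedPerm, Pi.add_apply]; split_ifs
      · rw [neg_add]
      · rfl)
    (fun x _ => by
      rw [signedPerm_eq, norm_flip]
      exact Equiv.sum_comp σ.symm fun i => x i ^ 2)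

theorem mono_apply {σ : Equiv.Perm GolayPt} (hσ : σ ∈ M24) {c : Finset GolayPt}
    (hc : c ∈ supports (golayCode : Set (GolayPt → ZMod 2))) (v : leechLattice) :
    ((mono hσ hc • v : leechLattice) : Vec) = signedPerm σ c (v : Vec) := rfl

theorem univ_code : (Finset.univ : Finset GolayPt) ∈ supports (golayCode : Set (GolayPt → ZMod 2)) :=
  ⟨1, code_one, by ext p; simp [support₂]⟩

theorem empty_code : (∅ : Finset GolayPt) ∈ supports (golayCode : Set (GolayPt → ZMod 2)) :=
  Golay.zero_mem_supports

/-- Negation. -/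
def negCo : Co0 := mono (one_mem M24) univ_code

theorem negCo_apply (v : leechLattice) : negCo • v = -v := by
  refine Subtype.ext ?_
  rw [negCo, mono_apply]
  funext i
  simp [signedPerm]
  rfl

/-- The sextet of the extra map, three bits for each point. -/
def tet (i : GolayPt) : ℕ := (1560358618942177361920 >>> (3 * Golay.idx i)) % 8

/-- The extra map. -/
def xiFun (x : Vec) : Vec := fun i =>
  (if tet i = 0 then -1 else 1) * ((∑ j, if tet j = tet i then x j else 0) / 2 - x i)

/-- Vectors with even sums on the tetrads. -/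
def EvenTet (x : Vec) : Prop := ∀ i, (2 : ℤ) ∣ ∑ j, if tet j = tet i then x j else 0

theorem tet_card : ∀ i, (Finset.univ.filter fun j => tet j = tet i).card = 4 := by decide +kernel

theorem evenTet_of_mem {x : Vec} (hx : x ∈ leechLattice) : EvenTet x := by
  obtain ⟨m, a, hm, hxa, hca, hs⟩ := mem_lattice.1 hx
  intro i
  refine ⟨2 * m + ∑ j, if tet j = tet i then a j else 0, ?_⟩
  rw [← Finset.sum_filter, ← Finset.sum_filter]
  simp only [hxa, Finset.sum_add_distrib, ← Finset.mul_sum, Finset.sum_const, tet_card, nsmul_eq_mul]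
  push_cast; ring

theorem sum_ite_add (x y : Vec) (i : GolayPt) : (∑ j, if tet j = tet i then (x + y) j else 0) =
    (∑ j, if tet j = tet i then x j else 0) + ∑ j, if tet j = tet i then y j else 0 := by
  rw [← Finset.sum_add_distrib]
  exact Finset.sum_congr rfl fun j _ => by split_ifs <;> simp

theorem xiFun_add {x y : Vec} (hx : EvenTet x) (hy : EvenTet y) : xiFun (x + y) = xiFun x + xiFun y := by
  funext i
  unfold xiFun
  rw [Pi.add_apply, Pi.add_apply, sum_ite_add, Int.add_ediv_of_dvd_left (hx i)]
  ring

theorem xiFun_neg {x : Vec} (hx : EvenTet x) : xiFun (-x) = -xiFun x := by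
  have hn : EvenTet (-x) := fun i => by
    have e : (∑ j, if tet j = tet i then (-x) j else 0) = -∑ j, if tet j = tet i then x j else 0 := by
      rw [← Finset.sum_neg_distrib]
      exact Finset.sum_congr rfl fun j _ => by split_ifs <;> simp
    rw [e]; exact (hx i).neg_right
  have h := xiFun_add hx hn
  have h0 : xiFun 0 = 0 := by funext i; simp [xiFun]
  rw [add_neg_cancel, h0] at h
  exact eq_neg_of_add_eq_zero_right h.symm

/-- Whether the extra map sends a vector into the lattice, decided on the halves. -/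
def chk (x : Vec) : Bool :=
  decide (∀ i, (xiFun x i - xiFun x none) % 2 = 0) &&
  decide ((∑ i, xiFun x i) % 8 = 4 * (xiFun x none % 2)) &&
  Golay.isCode ((List.range 24).foldl
    (fun acc i => if (xiFun x (Golay.pt i) - xiFun x none % 2) / 2 % 2 = 1 then acc ||| 2 ^ i else acc) 0)

theorem testBit_fold (P : ℕ → Prop) [DecidablePred P] (j : ℕ) : ∀ (n acc : ℕ),
    ((List.range n).foldl (fun acc i => if P i then acc ||| 2 ^ i else acc) acc).testBit j =
      (acc.testBit j || (decide (j < n) && decide (P j)))
  | 0, acc => by simp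
  | n + 1, acc => by
    rw [List.range_succ, List.foldl_append, List.foldl_cons, List.foldl_nil]
    split_ifs with h
    · rw [Nat.testBit_or, testBit_fold P j n acc, Nat.testBit_two_pow]
      rcases Nat.lt_trichotomy j n with h' | h' | h'
      · simp [h', h'.ne', show j < n + 1 by omega]
      · subst h'; simp [h]
      · simp [show ¬ j < n by omega, show ¬ j < n + 1 by omega, h'.ne]
    · rw [testBit_fold P j n acc]
      rcases Nat.lt_trichotomy j n with h' | h' | h'
      · simp [h', show j < n + 1 by omega]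
      · subst h'; simp [h]
      · simp [show ¬ j < n by omega, show ¬ j < n + 1 by omega]

theorem mem_of_chk {x : Vec} (h : chk x = true) : xiFun x ∈ leechLattice := by
  simp only [chk, Bool.and_eq_true, decide_eq_true_eq] at h
  obtain ⟨⟨hp, hs⟩, hc⟩ := h
  refine mem_lattice.2 ⟨xiFun x none % 2, fun i => (xiFun x i - xiFun x none % 2) / 2,
    Int.emod_two_eq_zero_or_one _, fun i => by dsimp only; have := hp i; omega, ?_, by rw [Int.ModEq]; omega⟩
  set m := (List.range 24).foldl
    (fun acc i => if (xiFun x (Golay.pt i) - xiFun x none % 2) / 2 % 2 = 1 then acc ||| 2 ^ i else acc) 0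
  have e : par (fun i => (xiFun x i - xiFun x none % 2) / 2) = Golay.vec m := by
    refine Golay.eq_of_support ?_
    ext p
    rw [Golay.support_vec, Golay.mem_pts, testBit_fold, support₂, Finset.mem_filter]
    simp [Golay.pt_idx, Golay.idx_lt, par, intCast_zmod2_ne_zero]
  rw [e]; exact Golay.mem_golayCode.2 ⟨m, Golay.mem_codeList.2 hc, rfl⟩

theorem chk_gens : (Golay.basis.all fun b => chk (twos b)) = true ∧
    (∀ i : ZMod 23, chk (fours i 4) = true ∧ chk (fours i (-4)) = true) ∧ chk oddGen = true := by decide +kernel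

theorem xiFun_mem {x : Vec} (hx : x ∈ leechLattice) : xiFun x ∈ leechLattice := by
  let H : AddSubgroup Vec :=
    { carrier := {y | y ∈ leechLattice ∧ xiFun y ∈ leechLattice}
      zero_mem' := ⟨zero_mem _, by
        have h0 : xiFun 0 = 0 := by funext i; simp [xiFun]
        rw [h0]; exact zero_mem _⟩
      add_mem' := fun {a b} ha hb => ⟨add_mem ha.1 hb.1, by
        rw [xiFun_add (evenTet_of_mem ha.1) (evenTet_of_mem hb.1)]; exact add_mem ha.2 hb.2⟩
      neg_mem' := fun {a} ha => ⟨neg_mem ha.1, by
        rw [xiFun_neg (evenTet_of_mem ha.1)]; exact neg_mem ha.2⟩ }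
  have h : leechLattice ≤ H := le_of_gens
    (fun b hb => ⟨mem_lattice.2 (twos_good (Golay.basis_octad b hb)),
      mem_of_chk (List.all_eq_true.1 chk_gens.1 b hb)⟩)
    (fun i s hs => ⟨mem_lattice.2 (fours_good i hs), by
      rcases hs with rfl | rfl
      · exact mem_of_chk (chk_gens.2.1 i).1
      · exact mem_of_chk (chk_gens.2.1 i).2⟩)
    ⟨mem_lattice.2 oddGen_good, mem_of_chk chk_gens.2.2⟩
  exact (h hx).2

theorem xiFun_tet {x : Vec} (hx : EvenTet x) (i : GolayPt) :
    (∑ j, if tet j = tet i then xiFun x j else 0) =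
      (if tet i = 0 then -1 else 1) * (∑ j, if tet j = tet i then x j else 0) := by
  set ε : ℤ := if tet i = 0 then -1 else 1
  set s := ∑ j, if tet j = tet i then x j else 0 with hs
  have h2 : ∀ j, tet j = tet i → xiFun x j = ε * (s / 2 - x j) := fun j hj => by
    simp only [xiFun, hj, ε, hs]
  rw [← Finset.sum_filter, Finset.sum_congr rfl fun j hj => h2 j (Finset.mem_filter.1 hj).2, ← Finset.mul_sum,
    Finset.sum_sub_distrib, Finset.sum_const, tet_card, Finset.sum_filter, ← hs]
  have : (2 : ℤ) ∣ s := hx i
  congr 1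
  rw [nsmul_eq_mul]
  push_cast
  omega

theorem xiFun_xiFun {x : Vec} (hx : EvenTet x) : xiFun (xiFun x) = x := by
  funext i
  have h : xiFun (xiFun x) i =
      (if tet i = 0 then -1 else 1) * ((∑ j, if tet j = tet i then xiFun x j else 0) / 2 - xiFun x i) := rfl
  rw [h, xiFun_tet hx i]
  unfold xiFun
  have := hx i
  split_ifs <;> omega

theorem norm_xiFun {x : Vec} (hx : EvenTet x) : sqNorm (xiFun x) = sqNorm x := by
  have key : ∀ t : ℕ, ∑ i ∈ Finset.univ.filter (fun i => tet i = t), (xiFun x i ^ 2 - x i ^ 2) = 0 := by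
    intro t
    by_cases h : ∃ i, tet i = t
    · obtain ⟨i, rfl⟩ := h
      set s := ∑ j, if tet j = tet i then x j else 0 with hs
      obtain ⟨u, hu⟩ := hx i
      rw [← hs] at hu
      have h2 : ∀ j ∈ Finset.univ.filter (fun j => tet j = tet i), xiFun x j ^ 2 - x j ^ 2 = u * u - 2 * u * x j := by
        intro j hj
        have hj' := (Finset.mem_filter.1 hj).2
        simp only [xiFun, hj', ← hs, hu, Int.mul_ediv_cancel_left _ (show (2 : ℤ) ≠ 0 by norm_num)]
        split_ifs <;> ring
      rw [Finset.sum_congr rfl h2, Finset.sum_sub_distrib, Finset.sum_const, ← Finset.mul_sum, tet_card,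
        Finset.sum_filter, ← hs, hu, nsmul_eq_mul]
      push_cast; ring
    · refine Finset.sum_eq_zero fun i hi => absurd ⟨i, (Finset.mem_filter.1 hi).2⟩ h
  have h := Finset.sum_fiberwise_of_maps_to (s := Finset.univ) (t := Finset.univ.image tet)
    (fun i hi => Finset.mem_image_of_mem tet hi) fun i => xiFun x i ^ 2 - x i ^ 2
  rw [Finset.sum_eq_zero fun t _ => key t, Finset.sum_sub_distrib] at h
  simp only [sqNorm]
  omega

/-- The extra automorphism. -/
def xi : Co0 :=
  mkCo xiFun xiFun (fun _ h => xiFun_mem h) (fun _ h => xiFun_mem h) (fun _ h => xiFun_xiFun (evenTet_of_mem h))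
    (fun _ h => xiFun_xiFun (evenTet_of_mem h))
    (fun _ hx _ hy => xiFun_add (evenTet_of_mem hx) (evenTet_of_mem hy)) (fun _ h => norm_xiFun (evenTet_of_mem h))

theorem xi_apply (v : leechLattice) : ((xi • v : leechLattice) : Vec) = xiFun (v : Vec) := rfl

end Cfsg.Agent.Spor.Leech
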