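import Cfsg.Agent.Lib.Spor.Leech.Lattice

/-!
Counting the short members of the rank 24 lattice by a table over the coordinates.
-/

set_option autoImplicit false
set_option maxRecDepth 100000
set_option linter.constructorNameAsVariable false

namespace Cfsg.Agent.Spor.Leech

open Cfsg

/-- The number of choices of values from prescribed lists with total cost `k` and sum `r` modulo four. -/
def cnt {ι : Type*} [Fintype ι] [DecidableEq ι] (c : ℤ → ℕ) (S : ι → List ℤ) (k r : ℕ) : ℕ :=
  ((Fintype.piFinset fun i => (S i).toFinset).filter fun f =>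
    ∑ i, c (f i) = k ∧ (∑ i, f i) % 4 = (r : ℤ)).card

theorem cnt_congr {ι κ : Type*} [Fintype ι] [DecidableEq ι] [Fintype κ] [DecidableEq κ] (e : ι ≃ κ) (c : ℤ → ℕ)
    (S : κ → List ℤ) (k r : ℕ) : cnt c (fun i => S (e i)) k r = cnt c S k r := by
  refine Finset.card_nbij' (fun f j => f (e.symm j)) (fun f i => f (e i)) ?_ ?_ ?_ ?_
  · intro f hf
    simp only [Finset.mem_coe, Finset.mem_filter, Fintype.mem_piFinset] at hf ⊢
    refine ⟨fun j => by simpa using hf.1 (e.symm j), ?_, ?_⟩
    · rw [← hf.2.1]; exact Equiv.sum_comp e.symm fun i => c (f i)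
    · rw [← hf.2.2]; exact congrArg (· % 4) (Equiv.sum_comp e.symm f)
  · intro f hf
    simp only [Finset.mem_coe, Finset.mem_filter, Fintype.mem_piFinset] at hf ⊢
    refine ⟨fun i => hf.1 (e i), ?_, ?_⟩
    · rw [← hf.2.1]; exact Equiv.sum_comp e fun i => c (f i)
    · rw [← hf.2.2]; exact congrArg (· % 4) (Equiv.sum_comp e f)
  · intro f _; funext i; simp
  · intro f _; funext j; simp

theorem cnt_succ {n : ℕ} (c : ℤ → ℕ) (S : Fin (n + 1) → List ℤ) (hS : (S 0).Nodup) (k : ℕ) {r : ℕ} (hr : r < 4) :
    cnt c S k r = ((S 0).map fun v =>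
      if c v ≤ k then cnt c (fun i : Fin n => S i.succ) (k - c v) (((r : ℤ) - v) % 4).toNat else 0).sum := by
  rw [← List.sum_toFinset _ hS, cnt]
  rw [Finset.card_eq_sum_card_fiberwise (f := fun f => f 0) (t := (S 0).toFinset) fun f hf => by
    simp only [Finset.mem_coe, Finset.mem_filter, Fintype.mem_piFinset] at hf
    exact hf.1 0]
  refine Finset.sum_congr rfl fun v hv => ?_
  split_ifs with hck
  · refine Finset.card_nbij' (fun (f : Fin (n + 1) → ℤ) (i : Fin n) => f i.succ)
      (fun (g : Fin n → ℤ) => Fin.cons v g) ?_ ?_ ?_ ?_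
    · intro f hf
      simp only [Finset.mem_coe, Finset.mem_filter, Fintype.mem_piFinset, Fin.sum_univ_succ] at hf ⊢
      obtain ⟨⟨h1, h2, h3⟩, h4⟩ := hf
      rw [h4] at h2 h3
      refine ⟨fun i => h1 i.succ, by omega, ?_⟩
      have : 0 ≤ ((r : ℤ) - v) % 4 := Int.emod_nonneg _ (by norm_num)
      rw [Int.toNat_of_nonneg this]
      omega
    · intro g hg
      simp only [Finset.mem_coe, Finset.mem_filter, Fintype.mem_piFinset, Fin.sum_univ_succ, Fin.cons_zero,
        Fin.cons_succ] at hg ⊢
      obtain ⟨h1, h2, h3⟩ := hg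
      have : 0 ≤ ((r : ℤ) - v) % 4 := Int.emod_nonneg _ (by norm_num)
      rw [Int.toNat_of_nonneg this] at h3
      refine ⟨⟨fun i => ?_, by omega, ?_⟩, trivial⟩
      · cases i using Fin.cases with
        | zero => simpa using hv
        | succ j => simpa using h1 j
      · omega
    · intro f hf
      simp only [Finset.mem_coe, Finset.mem_filter] at hf
      rw [← hf.2]; exact Fin.cons_self_tail f
    · intro g _; funext i; simp
  · rw [Finset.card_eq_zero, Finset.filter_eq_empty_iff]
    intro f hf h4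
    simp only [Finset.mem_filter, Fin.sum_univ_succ] at hf
    have h2 := hf.2.1
    rw [h4] at h2
    omega

/-- The table of counts. -/
def tab (c : ℤ → ℕ) (K : ℕ) : List (List ℤ) → List ℕ
  | [] => (List.range (4 * (K + 1))).map fun j => if j = 0 then 1 else 0
  | l :: ls =>
    let t := tab c K ls
    (List.range (4 * (K + 1))).map fun j =>
      (l.map fun v =>
        if c v ≤ j / 4 then t.getD (4 * (j / 4 - c v) + ((((j % 4 : ℕ) : ℤ) - v) % 4).toNat) 0 else 0).sum

theorem getD_tab (c : ℤ → ℕ) (K : ℕ) : ∀ {n : ℕ} (S : Fin n → List ℤ), (∀ i, (S i).Nodup) →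
    ∀ k r, k ≤ K → r < 4 → cnt c S k r = (tab c K (List.ofFn S)).getD (4 * k + r) 0
  | 0, S, _, k, r, hk, hr => by
    rw [List.ofFn_zero, tab, List.getD_eq_getElem _ _ (by simp; omega), List.getElem_map, List.getElem_range]
    unfold cnt
    rw [Finset.card_filter]
    simp only [Finset.univ_eq_empty, Finset.sum_empty]
    rw [Finset.sum_eq_single (fun i : Fin 0 => (0 : ℤ))]
    · by_cases h : k = 0 ∧ r = 0
      · rw [if_pos, if_pos] <;> simp [h.1, h.2]
      · rw [if_neg, if_neg]
        · omega
        · rintro ⟨h1, h2⟩; exact h ⟨h1.symm, by omega⟩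
    · intro f _ hf; exact absurd (funext fun i => i.elim0) hf
    · intro h; exact absurd (Fintype.mem_piFinset.2 fun i => i.elim0) h
  | n + 1, S, hS, k, r, hk, hr => by
    rw [cnt_succ c S (hS 0) k hr, List.ofFn_succ, tab, List.getD_eq_getElem _ _ (by simp; omega), List.getElem_map,
      List.getElem_range, show (4 * k + r) / 4 = k by omega, show (4 * k + r) % 4 = r by omega]
    refine congrArg List.sum (List.map_congr_left fun v _ => ?_)
    split_ifs
    · refine getD_tab c K (fun i => S i.succ) (fun i => hS _) _ _ (by omega) ?_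
      have h1 : ((r : ℤ) - v) % 4 < 4 := Int.emod_lt_of_pos _ (by norm_num)
      omega
    · rfl

/-- Moving a set of points to an initial segment. -/
theorem exists_sort (s : Finset GolayPt) : ∃ e : Fin 24 ≃ GolayPt, ∀ j, e j ∈ s ↔ j.val < s.card := by
  let e0 : Fin 24 ≃ GolayPt := (Fintype.equivFinOfCardEq Golay.card_golayPt).symm
  let A : Finset (Fin 24) := Finset.univ.filter fun j => j.val < s.card
  have hA : (A.map e0.toEmbedding).card = s.card := by
    rw [Finset.card_map, Fin.card_filter_val_lt, min_eq_right]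
    exact le_trans (Finset.card_le_univ s) (le_of_eq Golay.card_golayPt)
  let f := Finset.equivOfCardEq hA
  refine ⟨e0.trans f.extendSubtype, fun j => ?_⟩
  have hmem : j.val < s.card ↔ e0 j ∈ A.map e0.toEmbedding := by simp [A]
  rw [hmem]
  constructor
  · intro h
    by_contra hn
    exact f.extendSubtype_not_mem (e0 j) hn h
  · exact fun h => f.extendSubtype_mem (e0 j) h

/-- The lists of values of an even member with parities from a word of given weight. -/
def byWeight (V : Bool → List ℤ) (p : ℕ) : List (List ℤ) := List.ofFn fun j : Fin 24 => V (decide (j.val < p))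

theorem cnt_word (c : ℤ → ℕ) (V : Bool → List ℤ) (hV : ∀ b, (V b).Nodup) (s : Finset GolayPt) {k K r : ℕ}
    (hk : k ≤ K) (hr : r < 4) :
    cnt c (fun i => V (decide (i ∈ s))) k r = (tab c K (byWeight V s.card)).getD (4 * k + r) 0 := by
  obtain ⟨e, he⟩ := exists_sort s
  rw [← cnt_congr e, byWeight, ← getD_tab c K _ (fun j => hV _) k r hk hr]
  congr 1
  funext j
  rw [decide_eq_decide.2 (he j)]

/-- Squaring. -/
def sq (v : ℤ) : ℕ := (v * v).toNat

theorem sum_sq (a : Vec) : ((∑ i, sq (a i) : ℕ) : ℤ) = ∑ i, a i * a i := by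
  rw [Nat.cast_sum]
  exact Finset.sum_congr rfl fun i _ => Int.toNat_of_nonneg (mul_self_nonneg _)

/-- Even members with values from prescribed lists. -/
def evenSet (V : Bool → List ℤ) (k : ℕ) : Set Vec :=
  {x | ∃ a : Vec, (∀ i, x i = 2 * a i) ∧ par a ∈ golayCode ∧ (4 : ℤ) ∣ ∑ i, a i ∧ ∑ i, a i * a i = (k : ℤ) ∧
    ∀ i, a i ∈ V (decide (i ∈ support₂ (par a)))}

theorem ncard_evenSet (V : Bool → List ℤ) (hV : ∀ b, (V b).Nodup)
    (hp : ∀ b, ∀ v ∈ V b, v % 2 = if b then 1 else 0) (k : ℕ) :
    (evenSet V k).ncard = (Golay.codeList.map fun m => (tab sq k (byWeight V (Golay.pop m))).getD (4 * k) 0).sum := by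
  classical
  let F : ℕ → Finset Vec := fun m =>
    ((Fintype.piFinset fun i => (V (decide (i ∈ Golay.pts m))).toFinset).filter fun f =>
      ∑ i, sq (f i) = k ∧ (∑ i, f i) % 4 = ((0 : ℕ) : ℤ)).image fun a i => 2 * a i
  have hpar : ∀ m, ∀ a : Vec, (∀ i, a i ∈ V (decide (i ∈ Golay.pts m))) → support₂ (par a) = Golay.pts m := by
    intro m a ha
    ext i
    rw [support₂, Finset.mem_filter, par, intCast_zmod2_ne_zero, hp _ _ (ha i)]
    by_cases h : i ∈ Golay.pts m <;> simp [h]
  have hset : evenSet V k = ↑(Golay.codeList.toFinset.biUnion F) := by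
    ext x
    simp only [Finset.coe_biUnion, Set.mem_iUnion, Finset.mem_coe, F, Finset.mem_image, Finset.mem_filter,
      Fintype.mem_piFinset, List.mem_toFinset, exists_prop]
    constructor
    · rintro ⟨a, hxa, hca, h4, hk, hv⟩
      obtain ⟨m, hm, he⟩ := Golay.mem_golayCode.1 hca
      rw [he, Golay.support_vec] at hv
      refine ⟨m, hm, a, ⟨hv, ?_, ?_⟩, funext fun i => (hxa i).symm⟩
      · exact_mod_cast (sum_sq a).trans hk
      · simpa using Int.emod_eq_zero_of_dvd h4
    · rintro ⟨m, hm, a, ⟨hv, hk, h4⟩, rfl⟩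
      have hs := hpar m a hv
      refine ⟨a, fun i => rfl, ?_, Int.dvd_of_emod_eq_zero (by simpa using h4), ?_, ?_⟩
      · exact supports_iff.1 (hs ▸ Golay.mem_supports.2 ⟨m, hm, rfl⟩)
      · rw [← sum_sq, hk]
      · rw [hs]; exact hv
  have hdisj : (Golay.codeList.toFinset : Set ℕ).PairwiseDisjoint F := by
    intro m hm m' hm' hne
    rw [Function.onFun, Finset.disjoint_left]
    intro x hx hx'
    simp only [F, Finset.mem_image, Finset.mem_filter, Fintype.mem_piFinset, List.mem_toFinset] at hx hx'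
    obtain ⟨a, ⟨ha, -, -⟩, rfl⟩ := hx
    obtain ⟨a', ⟨ha', -, -⟩, he⟩ := hx'
    have hEq : a' = a := funext fun i => mul_left_cancel₀ two_ne_zero (congrFun he i)
    subst hEq
    rw [Finset.mem_coe, List.mem_toFinset] at hm hm'
    exact hne (Golay.pts_injOn (Golay.codeList_lt hm) (Golay.codeList_lt hm')
      ((hpar m a' ha).symm.trans (hpar m' a' ha')))
  rw [hset, Set.ncard_coe_finset, Finset.card_biUnion hdisj, List.sum_toFinset _ Golay.codeList_nodup]
  refine congrArg List.sum (List.map_congr_left fun m _ => ?_)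
  simp only [F]
  rw [Finset.card_image_of_injective _ fun a b h => funext fun i => mul_left_cancel₀ two_ne_zero (congrFun h i)]
  have h := cnt_word sq V hV (Golay.pts m) (le_refl k) (r := 0) (by norm_num)
  rw [Golay.card_pts, add_zero] at h
  exact h

/-- The sign change on a set of points. -/
def flip (c : Finset GolayPt) (x : Vec) : Vec := fun i => if i ∈ c then -x i else x i

theorem flip_flip (c : Finset GolayPt) (x : Vec) : flip c (flip c x) = x := by
  funext i; unfold flip; split_ifs <;> simp

theorem norm_flip (c : Finset GolayPt) (x : Vec) : sqNorm (flip c x) = sqNorm x :=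
  Finset.sum_congr rfl fun i _ => by unfold flip; split_ifs <;> ring

/-- Cost of an odd entry. -/
def oddCost (v : ℤ) : ℕ := (v * (2 * v + 1)).toNat

theorem sum_oddCost (b : Vec) : sqNorm (fun i => 1 + 4 * b i) = 24 + 8 * ((∑ i, oddCost (b i) : ℕ) : ℤ) := by
  rw [sqNorm, Nat.cast_sum, Finset.mul_sum, show (24 : ℤ) = ∑ _i : GolayPt, 1 by simp, ← Finset.sum_add_distrib]
  refine Finset.sum_congr rfl fun i _ => ?_
  rw [oddCost, Int.toNat_of_nonneg ?_]
  · ring
  · rcases le_or_gt 0 (b i) with h | h
    · exact mul_nonneg h (by omega)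
    · exact mul_nonneg_of_nonpos_of_nonpos h.le (by omega)

/-- Odd members with values from a prescribed list. -/
def oddSet (l : List ℤ) (k : ℕ) : Set Vec :=
  {x | ∃ c ∈ supports (golayCode : Set (GolayPt → ZMod 2)), ∃ b : Vec,
    x = flip c (fun i => 1 + 4 * b i) ∧ ∑ i, oddCost (b i) = k ∧ (∑ i, b i) % 2 = 1 ∧ ∀ i, b i ∈ l}

set_option maxHeartbeats 1000000 in
theorem ncard_oddSet (l : List ℤ) (hl : l.Nodup) (k : ℕ) :
    (oddSet l k).ncard = 4096 * ((tab oddCost k (List.replicate 24 l)).getD (4 * k + 1) 0 +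
      (tab oddCost k (List.replicate 24 l)).getD (4 * k + 3) 0) := by
  let P : ℕ → Finset Vec := fun r => (Fintype.piFinset fun _ : GolayPt => l.toFinset).filter fun f =>
      ∑ i, oddCost (f i) = k ∧ (∑ i, f i) % 4 = ((r : ℕ) : ℤ)
  have hP : ∀ r < 4, (P r).card = (tab oddCost k (List.replicate 24 l)).getD (4 * k + r) 0 := fun r hr => by
    have h := cnt_word oddCost (fun _ => l) (fun _ => hl) ∅ (le_refl k) hr
    rw [byWeight, List.ofFn_const] at h
    rw [← h]
    rfl
  have hset : oddSet l k = ↑((Golay.codeList.toFinset ×ˢ (P 1 ∪ P 3)).image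
      fun q => flip (Golay.pts q.1) fun i => 1 + 4 * q.2 i) := by
    ext x
    simp only [Finset.coe_image, Set.mem_image, Finset.mem_coe, Finset.mem_product, List.mem_toFinset,
      Finset.mem_union, P, Finset.mem_filter, Fintype.mem_piFinset, Prod.exists]
    constructor
    · rintro ⟨c, hc, b, rfl, hk, h2, hv⟩
      obtain ⟨m, hm, rfl⟩ := Golay.mem_supports.1 hc
      refine ⟨m, b, ⟨hm, ?_⟩, rfl⟩
      rcases (show (∑ i, b i) % 4 = 1 ∨ (∑ i, b i) % 4 = 3 by omega) with h | h
      · exact Or.inl ⟨hv, hk, by simpa using h⟩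
      · exact Or.inr ⟨hv, hk, by simpa using h⟩
    · rintro ⟨m, b, ⟨hm, h⟩, rfl⟩
      refine ⟨_, Golay.mem_supports.2 ⟨m, hm, rfl⟩, b, rfl, ?_⟩
      rcases h with ⟨hv, hk, h4⟩ | ⟨hv, hk, h4⟩ <;> exact ⟨hk, by omega, hv⟩
  have hinj : Set.InjOn (fun q : ℕ × Vec => flip (Golay.pts q.1) fun i => 1 + 4 * q.2 i)
      ↑(Golay.codeList.toFinset ×ˢ (P 1 ∪ P 3)) := by
    rintro ⟨m, b⟩ hq ⟨m', b'⟩ hq' he
    simp only [Finset.coe_product, Set.mem_prod, Finset.mem_coe, List.mem_toFinset] at hq hq'
    have hp : Golay.pts m = Golay.pts m' := by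
      ext i
      have h := congrFun he i
      simp only [flip] at h
      split_ifs at h with h1 h2 h2
      · exact iff_of_true h1 h2
      · omega
      · omega
      · exact iff_of_false h1 h2
    have hm : m = m' := Golay.pts_injOn (Golay.codeList_lt hq.1) (Golay.codeList_lt hq'.1) hp
    subst hm
    have hb := congrArg (flip (Golay.pts m)) he
    simp only [flip_flip] at hb
    exact Prod.ext rfl (funext fun i => by have := congrFun hb i; dsimp only at this ⊢; omega)
  rw [hset, Set.ncard_coe_finset, Finset.card_image_of_injOn hinj, Finset.card_product,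
    List.toFinset_card_of_nodup Golay.codeList_nodup,
    Finset.card_union_of_disjoint (Finset.disjoint_filter.2 fun _ _ h h' => by omega), hP 1 (by norm_num),
    hP 3 (by norm_num)]
  simp [Golay.codeList]

/-- Values of an even member of norm at most 64, halved. -/
def evenVals : Bool → List ℤ
  | true => [1, -1, 3, -3]
  | false => [0, 2, -2, 4, -4]

theorem evenSet_iff {x : Vec} {k : ℕ} (hk : k ≤ 16) :
    x ∈ evenSet evenVals k ↔ x ∈ leechLattice ∧ sqNorm x = 4 * (k : ℤ) ∧ x none % 2 = 0 := by
  constructor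
  · rintro ⟨a, hxa, hca, h4, hn, -⟩
    refine ⟨mem_lattice.2 ⟨0, a, Or.inl rfl, fun i => by rw [hxa]; ring, hca, ?_⟩, ?_, by rw [hxa]; omega⟩
    · simp only [hxa, ← Finset.mul_sum, Int.ModEq]; omega
    · rw [sqNorm, ← hn, Finset.mul_sum]
      exact Finset.sum_congr rfl fun i _ => by rw [hxa]; ring
  · rintro ⟨hx, hn, h0⟩
    obtain ⟨m, a, hm, hxa, hca, hs⟩ := mem_lattice.1 hx
    have : m = 0 := by have := hxa none; omega
    subst this
    simp only [zero_add] at hxa
    have hsum : ∑ i, a i * a i = (k : ℤ) := by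
      have : sqNorm x = 4 * ∑ i, a i * a i := by
        rw [sqNorm, Finset.mul_sum]
        exact Finset.sum_congr rfl fun i _ => by rw [hxa]; ring
      omega
    refine ⟨a, hxa, hca, ?_, hsum, fun i => ?_⟩
    · simp only [hxa, ← Finset.mul_sum, Int.ModEq] at hs; omega
    · have hle : a i * a i ≤ 16 := by
        have := Finset.single_le_sum (f := fun j => a j * a j) (fun j _ => mul_self_nonneg (a j)) (Finset.mem_univ i)
        omega
      have hlo : -4 ≤ a i := by nlinarith
      have hhi : a i ≤ 4 := by nlinarith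
      rw [support₂]
      simp only [Finset.mem_filter, Finset.mem_univ, true_and, par, intCast_zmod2_ne_zero]
      generalize a i = v at *
      interval_cases v <;> decide

/-- Values of an odd member of norm at most 64. -/
def oddVals : List ℤ := [0, -1, 1]

theorem oddSet_iff {x : Vec} {k : ℕ} (hk : k ≤ 5) :
    x ∈ oddSet oddVals k ↔ x ∈ leechLattice ∧ sqNorm x = 24 + 8 * (k : ℤ) ∧ x none % 2 = 1 := by
  constructor
  · rintro ⟨c, hc, b, rfl, hn, h2, -⟩
    refine ⟨sign_mem hc (mem_lattice.2 ⟨1, fun i => 2 * b i, Or.inr rfl, fun i => by ring, ?_, ?_⟩), ?_, ?_⟩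
    · have : par (fun i => 2 * b i) = 0 := by funext i; simp [par, CharTwo.two_eq_zero]
      rw [this]; exact Submodule.zero_mem _
    · simp only [Finset.sum_add_distrib, ← Finset.mul_sum, Finset.sum_const, Finset.card_univ,
        Golay.card_golayPt, nsmul_eq_mul, Int.ModEq]
      omega
    · rw [norm_flip, sum_oddCost, hn]
    · unfold flip; dsimp only; split_ifs <;> omega
  · rintro ⟨hx, hn, h1⟩
    obtain ⟨w, hp, hs, hk4⟩ := (coe_leech ▸ hx : x ∈ leechSet)
    obtain ⟨d, hd, hde⟩ := hk4 3
    set c := support₂ d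
    have hc : c ∈ supports (golayCode : Set (GolayPt → ZMod 2)) := ⟨d, hd, rfl⟩
    have hodd : ∀ i, x i % 2 = 1 := fun i => by
      have := hp i; have := hp none; unfold Int.ModEq at *; omega
    have hmem : ∀ i, i ∈ c ↔ x i % 4 = 3 := fun i => by
      rw [hde, Finset.mem_filter]; simp [Int.ModEq]
    have hy : ∀ i, flip c x i = 1 + 4 * ((flip c x i - 1) / 4) := fun i => by
      have := hmem i; have := hodd i
      unfold flip; split_ifs with h <;> simp only [h, iff_true, iff_false, true_iff, false_iff] at * <;> omega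
    refine ⟨c, hc, fun i => (flip c x i - 1) / 4, ?_, ?_, ?_, fun i => ?_⟩
    · rw [← funext hy, flip_flip]
    · have := sum_oddCost fun i => (flip c x i - 1) / 4
      rw [← funext hy, norm_flip] at this
      dsimp only at *
      omega
    · obtain ⟨m, hm, hs', -⟩ := (coe_leech ▸ sign_mem hc hx : flip c x ∈ leechSet)
      have h1 := hm none
      have h2 := hy none
      rw [Finset.sum_congr rfl fun i _ => hy i, Finset.sum_add_distrib, ← Finset.mul_sum, Finset.sum_const,
        Finset.card_univ, Golay.card_golayPt] at hs'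
      unfold Int.ModEq at hs' h1
      simp only [nsmul_eq_mul, Nat.cast_ofNat] at hs'
      dsimp only
      omega
    · have h := sum_oddCost fun i => (flip c x i - 1) / 4
      rw [← funext hy, norm_flip] at h
      have hle := Finset.single_le_sum (f := fun j => oddCost ((flip c x j - 1) / 4)) (fun j _ => Nat.zero_le _)
        (Finset.mem_univ i)
      dsimp only at hle ⊢
      generalize (flip c x i - 1) / 4 = v at *
      have h5 : v * (2 * v + 1) ≤ 5 := by
        have h6 : oddCost v ≤ 5 := by omega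
        have := Int.self_le_toNat (v * (2 * v + 1)); unfold oddCost at h6; omega
      have hlo : -1 ≤ v := by nlinarith
      have hhi : v ≤ 1 := by nlinarith
      interval_cases v <;> decide

end Cfsg.Agent.Spor.Leech
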