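import Cfsg.Agent.Lib.Spor.Leech.CrossShapes
import Cfsg.Agent.Lib.Spor.Leech.TwoSimple

/-!
Signed permutations acting on the three shapes, with and without two fixed points; counts.
-/

set_option autoImplicit false
set_option maxRecDepth 100000

namespace Cfsg.Agent.Spor.Leech.CrossOrbits

open Cfsg Golay CrossShapes TwoPairs
open scoped Pointwise symmDiff

/-- The partner of the standard vector in a frame. -/
def nX : leechLattice :=
  mkL [4, 0, 0, 0, 0, 0, 0, 0, 0, 0, 0, 0, 0, 0, 0, 0, 0, 0, 0, 0, 0, 0, 0, -4] (by decide +kernel)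

theorem nX_norm : sqNorm (nX : Vec) = 32 := by decide +kernel

theorem bV_eq : (bV : Vec) = wv 0 4 {P, Q} ∅ := by funext i; revert i; decide +kernel

theorem nX_eq : (nX : Vec) = wv 0 4 {P, Q} {Q} := by funext i; revert i; decide +kernel

theorem bV_add_nX : bV + nX = axis P := Subtype.ext (by funext i; revert i; decide +kernel)

theorem bV_sub_nX : bV - nX = axis Q := Subtype.ext (by funext i; revert i; decide +kernel)

theorem dot_bV (x : Vec) : dotInt (bV : Vec) x = 4 * (x P + x Q) := by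
  rw [bV_eq]
  have e : ∀ i, wv 0 4 {P, Q} ∅ i * x i = if i ∈ ({P, Q} : Finset GolayPt) then 4 * x i else 0 := fun i => by
    by_cases h : i ∈ ({P, Q} : Finset GolayPt) <;> simp [wv, flip, h]
  simp only [dotInt, e, Finset.sum_ite_mem, Finset.univ_inter, Finset.sum_pair P_ne_Q]
  ring

theorem dot_nX (x : Vec) : dotInt (nX : Vec) x = 4 * (x P - x Q) := by
  rw [nX_eq]
  have e : ∀ i, wv 0 4 {P, Q} {Q} i * x i =
      if i ∈ ({P, Q} : Finset GolayPt) then (if i = Q then -4 else 4) * x i else 0 := fun i => by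
    by_cases h : i ∈ ({P, Q} : Finset GolayPt) <;> by_cases h' : i = Q <;> simp [wv, flip, h, h']
  simp only [dotInt, e, Finset.sum_ite_mem, Finset.univ_inter, Finset.sum_pair P_ne_Q, if_neg P_ne_Q, if_true]
  ring

/-- Shape with two nonzero entries. -/
def IsTwo (x : leechLattice) : Prop := ∃ S N, S.card = 2 ∧ (x : Vec) = wv 0 4 S N

/-- Shape supported by an octad. -/
def IsOct (x : leechLattice) : Prop := ∃ O N, O ∈ octads ∧ Even (N ∩ O).card ∧ (x : Vec) = wv 0 2 O N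

/-- Shape with odd entries. -/
def IsOdd (x : leechLattice) : Prop := ∃ i N, IsC N ∧ (x : Vec) = wv 1 (-4) {i} N

theorem sdiff_symm_inter {S A B C : Finset GolayPt} (h : C ∩ S = (A ∆ B) ∩ S) : (A ∆ C) ∩ S = B ∩ S := by
  ext i
  have := Finset.ext_iff.1 h i
  simp only [Finset.mem_inter, Finset.mem_symmDiff] at this ⊢
  tauto

theorem move_two {x : leechLattice} (h : IsTwo x) : ∃ g ∈ crossStab, g • x = bV := by
  obtain ⟨S, N, hS, hx⟩ := h
  obtain ⟨a, b, hab, rfl⟩ := Finset.card_eq_two.1 hS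
  obtain ⟨σ, hσ, hσi⟩ := exists_perm [a, b] [P, Q] (by simp [hab]) (by simp [P_ne_Q]) (by simp) rfl
  obtain ⟨C, hC, hCi⟩ := exists_flip [P, Q] (by simp [P_ne_Q]) (by simp) (σ • N)
  refine ⟨mono hσ hC, mono_mem hσ hC, Subtype.ext ?_⟩
  have hS' : σ • ({a, b} : Finset GolayPt) = {P, Q} := by
    rw [Finset.smul_finset_insert, Finset.smul_finset_singleton]
    congr 1
    · exact hσi 0 (by simp)
    · congr 1; exact hσi 1 (by simp)
  rw [smul_wv hσ hC hx, hS', bV_eq]
  refine wv_congr ?_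
  ext i
  simp only [Finset.mem_inter, Finset.mem_symmDiff, Finset.mem_insert, Finset.mem_singleton, Finset.notMem_empty,
    false_and, iff_false]
  rintro ⟨h, rfl | rfl⟩
  · have := hCi P (by simp); tauto
  · have := hCi Q (by simp); tauto

/-- The standard odd vector. -/
theorem oddBase_mem : inL (wv 1 (-4) {P} ∅) = true := by decide +kernel

/-- The standard odd vector as a member. -/
def oddBase : leechLattice := ⟨_, mem_of_inL oddBase_mem⟩

theorem move_odd {x : leechLattice} (h : IsOdd x) : ∃ g ∈ crossStab, g • x = oddBase := by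
  obtain ⟨i, N, hN, hx⟩ := h
  obtain ⟨σ, hσ, hσi⟩ := exists_perm [i] [P] (by simp) (by simp) (by simp) rfl
  refine ⟨mono hσ (smul_C hσ hN), mono_mem hσ _, Subtype.ext ?_⟩
  rw [smul_wv hσ _ hx, symmDiff_self, Finset.bot_eq_empty, Finset.smul_finset_singleton]
  have : σ • i = P := hσi 0 (by simp)
  rw [this]
  rfl

/-- The standard octad vector. -/
theorem octBase_mem : inL (wv 0 2 (pts 5279) ∅) = true := by decide +kernel

/-- The standard octad vector as a member. -/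
def octBase : leechLattice := ⟨_, mem_of_inL octBase_mem⟩

theorem move_oct {x : leechLattice} (h : IsOct x) : ∃ g ∈ crossStab, g • x = octBase := by
  obtain ⟨O, N, hO, he, hx⟩ := h
  obtain ⟨τ, hτ, hτO⟩ := exists_smul_octA hO
  have hσ : τ⁻¹ ∈ M24 := M24.inv_mem hτ
  have hO' : τ⁻¹ • O = pts 5279 := by rw [← hτO, inv_smul_smul]; rfl
  obtain ⟨C, hC, hCi, -⟩ := exists_even witA_ok (by decide +kernel) (by norm_num) (τ⁻¹ • N)
    (by rw [← hO', ← Finset.smul_finset_inter, Finset.card_smul_finset]; exact he)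
  refine ⟨mono hσ hC, mono_mem hσ hC, Subtype.ext ?_⟩
  rw [smul_wv hσ hC hx, hO']
  show _ = wv 0 2 (pts 5279) ∅
  refine wv_congr (sdiff_symm_inter ?_)
  rw [hCi, ← Finset.bot_eq_empty, symmDiff_bot]

theorem fix_pair {σ : Equiv.Perm GolayPt} (hσ : σ ∈ M24) {C : Finset GolayPt} (hC : IsC C) (h1 : σ P = P)
    (h2 : σ Q = Q) (h3 : P ∉ C) (h4 : Q ∉ C) : mono hσ hC • bV = bV ∧ mono hσ hC • nX = nX := by
  have hS : σ • ({P, Q} : Finset GolayPt) = {P, Q} := by
    rw [Finset.smul_finset_insert, Finset.smul_finset_singleton, show σ • P = P from h1, show σ • Q = Q from h2]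
  constructor <;> refine Subtype.ext ?_
  · rw [smul_wv hσ hC bV_eq, hS, bV_eq]
    refine wv_congr (Finset.ext fun i => ?_)
    simp only [Finset.smul_finset_empty, Finset.mem_inter, Finset.mem_symmDiff, Finset.mem_insert,
      Finset.mem_singleton, Finset.notMem_empty]
    refine ⟨?_, fun h => h.1.elim⟩
    rintro ⟨h, rfl | rfl⟩ <;> tauto
  · rw [smul_wv hσ hC nX_eq, hS, nX_eq]
    refine wv_congr (Finset.ext fun i => ?_)
    simp only [Finset.smul_finset_singleton, show σ • Q = Q from h2, Finset.mem_inter, Finset.mem_symmDiff,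
      Finset.mem_insert, Finset.mem_singleton]
    constructor
    · rintro ⟨h, rfl | rfl⟩ <;> tauto
    · rintro ⟨rfl, h⟩; exact ⟨Or.inl ⟨rfl, h4⟩, h⟩

/-- Orthogonal to both, two nonzero entries. -/
def ClA (x : leechLattice) : Prop := ∃ S N, S.card = 2 ∧ P ∉ S ∧ Q ∉ S ∧ (x : Vec) = wv 0 4 S N

/-- Orthogonal to both, octad shape. -/
def ClB (x : leechLattice) : Prop :=
  ∃ O N, O ∈ octads ∧ Even (N ∩ O).card ∧ P ∉ O ∧ Q ∉ O ∧ (x : Vec) = wv 0 2 O N

/-- Product 16 with the partner. -/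
def ClC (x : leechLattice) : Prop :=
  ∃ O N, O ∈ octads ∧ Even (N ∩ O).card ∧ P ∈ O ∧ Q ∈ O ∧ P ∉ N ∧ Q ∈ N ∧ (x : Vec) = wv 0 2 O N

/-- Product 8 with the partner. -/
def ClD (x : leechLattice) : Prop :=
  ∃ i N, IsC N ∧ i ≠ P ∧ i ≠ Q ∧ P ∉ N ∧ Q ∈ N ∧ (x : Vec) = wv 1 (-4) {i} N

/-- The automorphisms fixing the standard vector and its partner are transitive on a class. -/
def Trans (K : leechLattice → Prop) : Prop :=
  ∀ x y, K x → K y → ∃ g : Co0, g • bV = bV ∧ g • nX = nX ∧ g • x = y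

theorem trans_of_target {K : leechLattice → Prop} (t : Vec)
    (h : ∀ x, K x → ∃ g : Co0, g • bV = bV ∧ g • nX = nX ∧ ((g • x : leechLattice) : Vec) = t) : Trans K := by
  intro x y hx hy
  obtain ⟨g, g1, g2, g3⟩ := h x hx
  obtain ⟨k, k1, k2, k3⟩ := h y hy
  refine ⟨k⁻¹ * g, ?_, ?_, ?_⟩
  · rw [mul_smul, g1, inv_smul_eq_iff, k1]
  · rw [mul_smul, g2, inv_smul_eq_iff, k2]
  · rw [mul_smul, inv_smul_eq_iff]
    exact Subtype.ext (g3.trans k3.symm)

theorem trans_A : Trans ClA := by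
  refine trans_of_target (wv 0 4 {pt 1, pt 2} ∅) fun x hx => ?_
  obtain ⟨S, N, hS, hP, hQ, hx⟩ := hx
  obtain ⟨a, b, hab, rfl⟩ := Finset.card_eq_two.1 hS
  simp only [Finset.mem_insert, Finset.mem_singleton, not_or] at hP hQ
  obtain ⟨σ, hσ, hσi⟩ := exists_perm [P, Q, a, b] [P, Q, pt 1, pt 2]
    (by simp [hab, P_ne_Q, hP.1, hP.2, hQ.1, hQ.2]) (by decide +kernel) (by simp) rfl
  obtain ⟨C, hC, hCi⟩ := exists_flip [P, Q, pt 1, pt 2] (by decide +kernel) (by simp) ((σ • N) ∩ {pt 1, pt 2})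
  have hne : P ∉ ({pt 1, pt 2} : Finset GolayPt) ∧ Q ∉ ({pt 1, pt 2} : Finset GolayPt) := by decide +kernel
  have hP' : P ∉ C := fun h => hne.1 (Finset.mem_inter.1 ((hCi P (by simp)).1 h)).2
  have hQ' : Q ∉ C := fun h => hne.2 (Finset.mem_inter.1 ((hCi Q (by simp)).1 h)).2
  obtain ⟨f1, f2⟩ := fix_pair hσ hC (hσi 0 (by simp)) (hσi 1 (by simp)) hP' hQ'
  refine ⟨mono hσ hC, f1, f2, ?_⟩
  have hS' : σ • ({a, b} : Finset GolayPt) = {pt 1, pt 2} := by
    rw [Finset.smul_finset_insert, Finset.smul_finset_singleton]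
    congr 1
    · exact hσi 2 (by simp)
    · congr 1; exact hσi 3 (by simp)
  rw [smul_wv hσ hC hx, hS']
  refine wv_congr (sdiff_symm_inter ?_)
  rw [← Finset.bot_eq_empty, symmDiff_bot]
  ext i
  simp only [Finset.mem_inter, Finset.mem_insert, Finset.mem_singleton]
  constructor
  · rintro ⟨h, hi⟩
    have := (hCi i (by rcases hi with rfl | rfl <;> simp)).1 h
    exact ⟨(Finset.mem_inter.1 this).1, hi⟩
  · rintro ⟨h, hi⟩
    exact ⟨(hCi i (by rcases hi with rfl | rfl <;> simp)).2 (Finset.mem_inter.2 ⟨h, by simpa using hi⟩), hi⟩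

theorem trans_B : Trans ClB := by
  refine trans_of_target (wv 0 2 (pts 10558) ∅) fun x hx => ?_
  obtain ⟨O, N, hO, he, hP, hQ, hx⟩ := hx
  obtain ⟨σ, hσ, h1, h2, hO'⟩ := avoid_reach hO hP hQ
  obtain ⟨C, hC, hCi, hf⟩ := exists_even witB_ok (by decide +kernel) (by norm_num) (σ • N)
    (by rw [← hO', ← Finset.smul_finset_inter, Finset.card_smul_finset]; exact he)
  obtain ⟨hPf, hQf, -⟩ := pts_special
  obtain ⟨f1, f2⟩ := fix_pair hσ hC h1 h2 (fun h => Finset.notMem_empty P (hf ▸ Finset.mem_inter.2 ⟨h, hPf⟩))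
    (fun h => Finset.notMem_empty Q (hf ▸ Finset.mem_inter.2 ⟨h, hQf⟩))
  refine ⟨mono hσ hC, f1, f2, ?_⟩
  rw [smul_wv hσ hC hx, hO']
  refine wv_congr (sdiff_symm_inter ?_)
  rw [hCi, ← Finset.bot_eq_empty, symmDiff_bot]

theorem trans_C : Trans ClC := by
  classical
  refine trans_of_target (wv 0 2 (pts 13062145) {Q, pt 12}) fun x hx => ?_
  obtain ⟨O, N, hO, he, hP, hQ, hPN, hQN, hx⟩ := hx
  obtain ⟨-, -, hP3, hQ3, -⟩ := pts_special
  have hO3 : pts 13062145 ∈ octads := mem_octads.2 ⟨_, mem_weightList.2 ⟨mem_codeList.2 (by decide +kernel),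
    by decide +kernel⟩, rfl⟩
  obtain ⟨T, hT, hTc⟩ := Finset.exists_subset_card_eq (s := (O.erase P).erase Q) (n := 3)
    (by rw [Finset.card_erase_of_mem (Finset.mem_erase.2 ⟨P_ne_Q.symm, hQ⟩), Finset.card_erase_of_mem hP,
      octad_card hO]; norm_num)
  obtain ⟨a, b, c, hab, hac, hbc, rfl⟩ := Finset.card_eq_three.1 hTc
  simp only [Finset.insert_subset_iff, Finset.singleton_subset_iff, Finset.mem_erase] at hT
  obtain ⟨⟨haQ, haP, ha⟩, ⟨hbQ, hbP, hb⟩, hcQ, hcP, hc⟩ := hT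
  obtain ⟨σ, hσ, hσi⟩ := exists_perm [P, Q, a, b, c] [P, Q, pt 12, pt 14, pt 16]
    (by simp [hab, hac, hbc, P_ne_Q, haP.symm, haQ.symm, hbP.symm, hbQ.symm, hcP.symm, hcQ.symm])
    (by decide +kernel) (by simp) rfl
  have h1 : σ P = P := hσi 0 (by simp)
  have h2 : σ Q = Q := hσi 1 (by simp)
  have hO' : σ • O = pts 13062145 := by
    refine (octads_steiner.2 ([P, Q, pt 12, pt 14, pt 16].toFinset) (by decide +kernel)).unique
      ⟨smul_octad hσ hO, fun p hp => ?_⟩ ⟨hO3, by decide +kernel⟩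
    simp only [List.mem_toFinset, List.mem_cons, List.not_mem_nil, or_false] at hp
    have e2 : σ a = pt 12 := hσi 2 (by simp)
    have e3 : σ b = pt 14 := hσi 3 (by simp)
    have e4 : σ c = pt 16 := hσi 4 (by simp)
    rcases hp with rfl | rfl | rfl | rfl | rfl
    · exact h1 ▸ Finset.smul_mem_smul_finset hP
    · exact h2 ▸ Finset.smul_mem_smul_finset hQ
    · exact e2 ▸ Finset.smul_mem_smul_finset ha
    · exact e3 ▸ Finset.smul_mem_smul_finset hb
    · exact e4 ▸ Finset.smul_mem_smul_finset hc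
  have hPN' : P ∉ σ • N := fun h => hPN (by
    rw [← h1] at h; exact (Finset.smul_mem_smul_finset_iff σ).1 h)
  have hQN' : Q ∈ σ • N := h2 ▸ Finset.smul_mem_smul_finset hQN
  obtain ⟨C, hC, hCi, -⟩ := exists_even witC_ok (by decide +kernel) (by norm_num) ((σ • N) ∆ {Q, pt 12}) (by
    have e : ((σ • N) ∆ {Q, pt 12}) ∩ pts 13062145 =
        ((σ • N) ∩ pts 13062145) ∆ ({Q, pt 12} ∩ pts 13062145) := inf_symmDiff_distrib_right _ _ _
    have hev : Even ((σ • N) ∩ pts 13062145).card := by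
      rw [← hO', ← Finset.smul_finset_inter, Finset.card_smul_finset]; exact he
    have hev2 : Even (({Q, pt 12} : Finset GolayPt) ∩ pts 13062145).card := by decide +kernel
    rw [e, symmDiff_def, Finset.sup_eq_union, Finset.card_union_of_disjoint disjoint_sdiff_sdiff]
    have h3 := Finset.card_sdiff_add_card_inter ((σ • N) ∩ pts 13062145) ({Q, pt 12} ∩ pts 13062145)
    have h4 := Finset.card_sdiff_add_card_inter ({Q, pt 12} ∩ pts 13062145) ((σ • N) ∩ pts 13062145)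
    rw [Finset.inter_comm ({Q, pt 12} ∩ pts 13062145)] at h4
    rw [Nat.even_iff] at hev hev2 ⊢
    omega)
  have hq : Q ∈ ({Q, pt 12} : Finset GolayPt) := by simp
  have hp : P ∉ ({Q, pt 12} : Finset GolayPt) := by decide +kernel
  have hPC : P ∉ C := fun h => by
    have := Finset.mem_inter.1 (hCi ▸ Finset.mem_inter.2 ⟨h, hP3⟩)
    rw [Finset.mem_symmDiff] at this
    tauto
  have hQC : Q ∉ C := fun h => by
    have := Finset.mem_inter.1 (hCi ▸ Finset.mem_inter.2 ⟨h, hQ3⟩)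
    rw [Finset.mem_symmDiff] at this
    tauto
  obtain ⟨f1, f2⟩ := fix_pair hσ hC h1 h2 hPC hQC
  refine ⟨mono hσ hC, f1, f2, ?_⟩
  rw [smul_wv hσ hC hx, hO']
  exact wv_congr (sdiff_symm_inter hCi)

theorem trans_D : Trans ClD := by
  rintro x y ⟨i, N, hN, hiP, hiQ, hPN, hQN, hx⟩ ⟨j, M, hM, hjP, hjQ, hPM, hQM, hy⟩
  obtain ⟨σ, hσ, hσi⟩ := exists_perm [P, Q, i] [P, Q, j] (by simp [P_ne_Q, hiP.symm, hiQ.symm])
    (by simp [P_ne_Q, hjP.symm, hjQ.symm]) (by simp) rfl
  have h1 : σ P = P := hσi 0 (by simp)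
  have h2 : σ Q = Q := hσi 1 (by simp)
  have hC : IsC ((σ • N) ∆ M) := symmDiff_mem_supports (smul_C hσ hN) hM
  have hP' : P ∉ σ • N := fun h => hPN (by rw [← h1] at h; exact (Finset.smul_mem_smul_finset_iff σ).1 h)
  have hQ' : Q ∈ σ • N := h2 ▸ Finset.smul_mem_smul_finset hQN
  obtain ⟨f1, f2⟩ := fix_pair hσ hC h1 h2 (by simp [Finset.mem_symmDiff, hP', hPM])
    (by simp [Finset.mem_symmDiff, hQ', hQM])
  refine ⟨mono hσ hC, f1, f2, Subtype.ext ?_⟩
  rw [smul_wv hσ hC hx, hy, Finset.smul_finset_singleton, show σ • i = j from hσi 2 (by simp),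
    symmDiff_symmDiff_cancel_left]

end Cfsg.Agent.Spor.Leech.CrossOrbits
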