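import Cfsg.Agent.Lib.Spor.Leech.Frame
import Cfsg.Agent.Lib.Spor.Leech.Monomial
import Cfsg.Agent.Lib.Spor.Golay.M24Facts

/-!
The three shapes of short vectors under signed permutations: normal forms and tables.
-/

set_option autoImplicit false
set_option maxRecDepth 100000

namespace Cfsg.Agent.Spor.Leech.CrossShapes

open Cfsg Golay
open scoped Pointwise symmDiff

/-- Permutations fixing two points. -/
def pqGens : List ℕ := [981689394591586395031971550393390240, 973982284335655700599296603479252000]

/-- The octads avoiding two points, each with a parent and a permutation. -/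
def avoidTree : List (ℕ × ℕ × ℕ) := [(10558, 0, 0), (2624690, 0, 0), (3154402, 0, 1), (267634, 1, 0), (5375810, 1, 1), (84464, 2, 0), (4271202, 2, 1), (290352, 3, 0), (1084018, 3, 1), (5621792, 4, 0), (608810, 4, 1), (150618, 5, 0), (5249380, 5, 1), (1327290, 6, 0), (31554, 6, 1), (427666, 7, 0), (1090380, 7, 1), (115766, 8, 0), (1378634, 8, 1), (1245726, 9, 0), (381252, 9, 1), (692282, 10, 0), (2232654, 10, 1), (5129250, 11, 0), (3672838, 11, 1), (3237906, 12, 0), (722544, 13, 0), (7438406, 13, 1), (190626, 14, 0), (4490852, 15, 0), (6062602, 15, 1), (2738308, 16, 0), (2435240, 16, 1), (2491452, 17, 0), (1315526, 17, 1), (2201890, 18, 1), (6915112, 19, 0), (3739786, 19, 1), (2255372, 20, 0), (301236, 20, 1), (4731956, 21, 0), (4063314, 21, 1), (6842656, 22, 0), (5640752, 23, 0), (705094, 23, 1), (198058, 24, 1), (1127686, 25, 1), (4510744, 26, 0), (1710664, 26, 1), (3227948, 27, 0), (351362, 27, 1), (4325622, 28, 0), (4989254, 28, 1), (3457556, 29, 0), (314056, 29, 1), (1675812, 30, 0), (2605066, 30, 1), (4593028, 31,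 1), (525274, 32, 0), (6337856, 32, 1), (7079696, 33, 0), (3704512, 33, 1), (2220640, 34, 0), (4294810, 34, 1), (1839388, 36, 0), (2512448, 36, 1), (602472, 37, 0), (6493202, 37, 1), (6979970, 38, 0), (2631052, 38, 1), (2106966, 39, 0), (5538256, 39, 1), (3421328, 40, 0), (1204944, 40, 1), (4282144, 41, 0), (1805314, 41, 1), (1186194, 42, 0), (157028, 42, 1), (5350928, 43, 0), (1687640, 43, 1), (6475812, 44, 0), (919694, 44, 1), (4982904, 45, 0), (6820450, 45, 1), (78514, 46, 1), (1975812, 47, 0), (4845570, 48, 0), (2820376, 48, 1), (2168036, 49, 1), (402026, 50, 0), (4231958, 50, 1), (7357552, 51, 0), (5785794, 51, 1), (3168928, 52, 0), (2328324, 53, 0), (1410188, 53, 1), (6588684, 54, 1), (2207772, 55, 0), (463064, 55, 1), (4850476, 56, 0), (2921478, 56, 1), (7612992, 57, 0), (4768432, 57, 1), (580704, 58, 0), (7473194, 58, 1), (1337732, 59, 0), (1351424, 60, 0), (1230376, 60, 1), (4656648, 61, 1), (180636, 62, 0), (277580, 62, 1), (1573998, 63, 0), (7622914, 63, 1), (2702848, 64, 0), (3375280, 64, 1), (4645632, 65, 0),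 (560668, 65, 1), (555160, 66, 0), (2242672, 66, 1), (5514536, 67, 0), (1594898, 67, 1), (2890176, 69, 0), (6432416, 69, 1), (2409888, 70, 0), (1060490, 70, 1), (1134148, 71, 0), (337856, 72, 0), (4441280, 73, 0), (5842956, 73, 1), (1484824, 74, 0), (21116, 74, 1), (4526126, 75, 0), (987906, 75, 1), (5833010, 76, 1), (6703248, 77, 0), (535268, 77, 1), (1405448, 78, 1), (742412, 79, 0), (3610628, 79, 1), (7479572, 80, 0), (804052, 80, 1), (3328320, 82, 1), (1110320, 83, 0), (42232, 84, 0), (5255258, 84, 1), (6656640, 85, 0), (762504, 85, 1), (1192108, 86, 0), (421910, 86, 1), (4726026, 87, 0), (3806496, 87, 1), (2384216, 88, 0), (4202192, 88, 1), (2664522, 89, 1), (3189796, 90, 0), (1525008, 91, 0), (1265762, 92, 0), (4409606, 92, 1), (237906, 93, 0), (4261212, 93, 1), (792232, 94, 1), (2949708, 95, 0), (4744776, 98, 0), (7903248, 98, 1), (2769128, 99, 1), (2372388, 100, 0), (1164162, 101, 0), (126216, 101, 1), (1217620, 102, 0), (5652556, 102, 1), (396116, 103, 1), (2704706, 104, 1), (2296514, 105, 0), (4301220, 105, 1),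 (371206, 106, 0), (361272, 106, 1), (5210132, 107, 0), (2675464, 108, 1), (6949956, 109, 0), (8126628, 109, 1), (2908802, 110, 0), (2141072, 110, 1), (2969648, 111, 0), (1256224, 112, 0), (307594, 113, 0), (145176, 113, 1), (6100032, 114, 1), (5409412, 115, 0), (843820, 115, 1), (3539848, 116, 1), (668866, 117, 0), (4220306, 118, 0), (1584464, 118, 1), (1903248, 119, 0), (504864, 120, 0), (4361520, 121, 1), (884962, 124, 0), (6365962, 124, 1), (72588, 125, 1), (4241960, 126, 1), (5003780, 127, 1), (2322816, 128, 1), (4785798, 129, 0), (4038912, 129, 1), (2810896, 130, 0), (3147996, 130, 1), (3678776, 131, 0), (2150610, 131, 1), (1121336, 133, 0), (5817604, 134, 1), (4336072, 135, 1), (7221256, 137, 0), (2757268, 137, 1), (628112, 138, 1), (7409024, 139, 0), (1664160, 139, 1), (855332, 141, 1), (208020, 142, 0), (1384564, 142, 1), (4755660, 146, 0), (6889680, 147, 0), (1613974, 148, 1), (1849378, 149, 0), (2245426, 149, 1), (4536592, 150, 0), (675712, 151, 0), (1369154, 152, 0), (5262104, 152, 1), (545190, 153, 0), (2501890,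 153, 1), (2425238, 154, 0), (4415544, 156, 0), (596054, 156, 1), (4213932, 158, 0), (3951624, 159, 0), (832080, 160, 0), (6455896, 160, 1), (2268296, 161, 1), (2019456, 162, 0), (4870480, 164, 0), (231532, 166, 0), (6644740, 168, 0), (8077824, 169, 0), (6344194, 170, 0), (1608104, 170, 1), (416040, 171, 0), (138790, 171, 1), (4243818, 172, 0), (4485344, 173, 1), (2130606, 174, 0), (3444840, 175, 1), (7345676, 176, 0), (702724, 177, 0), (3216208, 179, 0), (168928, 180, 0), (4367374, 180, 1), (36294, 181, 0), (6594610, 184, 1), (5024896, 185, 0), (252432, 186, 1), (5063048, 187, 1), (2531524, 188, 1), (4819776, 189, 0), (4860434, 190, 1), (1445088, 191, 0), (5268006, 191, 1), (104010, 193, 0), (5476616, 193, 1), (4465308, 194, 0), (5508118, 195, 0), (1852256, 195, 1), (4626498, 196, 1), (2126890, 197, 1), (6295992, 198, 1), (3322370, 200, 0), (4346506, 202, 1), (3351624, 206, 1), (861210, 208, 0), (475812, 209, 1), (5780352, 211, 0), (5899416, 212, 1), (4403780, 215, 1), (2365978, 216, 0), (6554826, 217, 0), (2180760, 218,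 0), (1161408, 218, 1), (3698756, 219, 0), (1070536, 220, 0), (5405696, 220, 1), (5709954, 221, 1), (4459426, 229, 0), (567074, 229, 1), (2101096, 230, 0), (5280930, 230, 1), (6308804, 233, 1), (63108, 235, 0), (1722420, 239, 1), (6832158, 240, 0), (1474854, 243, 0), (280334, 243, 1), (6750560, 244, 1), (2654580, 245, 1), (2377830, 247, 1), (4253780, 248, 1), (615188, 250, 0), (2460752, 250, 1), (6305926, 252, 0), (926128, 252, 1), (1050548, 257, 0), (1103886, 262, 0), (1728778, 263, 1), (4538962, 264, 0), (90318, 265, 1), (7397512, 268, 1), (3474978, 269, 0), (837906, 271, 1), (5939296, 275, 0), (3179802, 282, 1), (951624, 284, 0), (1009728, 287, 0), (6359604, 287, 1), (5309160, 289, 0), (1769924, 296, 1), (3294342, 297, 1), (3050016, 299, 0), (2120980, 301, 0), (2826278, 309, 0), (4921504, 310, 0), (5329044, 316, 0), (6379592, 321, 1)]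

/-- Code words meeting the standard octad in all its even subsets. -/
def witA : List ℕ := [0, 352547, 52005, 371206, 213833, 402026, 231532, 452943, 442481, 237906, 396116, 223863, 361272, 57883, 346141, 10558, 493953, 190626, 475812, 140167, 314056, 109547, 262637, 90318, 84464, 272595, 99029, 320502, 133817, 486298, 180636, 499903, 175681, 511842, 157028, 459847, 126216, 298027, 75309, 280334, 290352, 69395, 304405, 115766, 470393, 150618, 517724, 165759, 337856, 18147, 388325, 36294, 418953, 198058, 438188, 249487, 255921, 427666, 208020, 413111, 42232, 378331, 28637, 331518, 334433, 31554, 381252, 45159, 416040, 210955, 430605, 258862, 252432, 441139, 201013, 421910, 39257, 391290, 21116, 340831, 168928, 520899, 153797, 473574, 118953, 307594, 72588, 293551, 283537, 78514, 301236, 129431, 463064, 160251, 515069, 178910, 504864, 185603, 491269, 138790, 325481, 104010, 277580, 89455, 95313, 267634, 114548, 319063, 145176, 480827, 195645, 498974, 15777, 351362, 63108, 366503, 229096, 401355, 243149, 447726, 458192, 236787,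 407285, 219094, 376473, 57274, 357820, 5279]

/-- Code words avoiding two points and meeting an octad avoiding them in all its even subsets. -/
def witB : List ℕ := [0, 705094, 104010, 742412, 427666, 804052, 463064, 905886, 884962, 475812, 792232, 447726, 722544, 115766, 692282, 21116, 987906, 381252, 951624, 280334, 628112, 219094, 525274, 180636, 168928, 545190, 198058, 641004, 267634, 972596, 361272, 999806, 351362, 1023684, 314056, 919694, 252432, 596054, 150618, 560668, 580704, 138790, 608810, 231532, 940786, 301236, 1035448, 331518, 675712, 36294, 776650, 72588, 837906, 396116, 876376, 498974, 511842, 855332, 416040, 826222, 84464, 756662, 57274, 663036, 668866, 63108, 762504, 90318, 832080, 421910, 861210, 517724, 504864, 882278, 402026, 843820, 78514, 782580, 42232, 681662, 337856, 1041798, 307594, 947148, 237906, 615188, 145176, 587102, 567074, 157028, 602472, 258862, 926128, 320502, 1030138, 357820, 1009728, 371206, 982538, 277580, 650962, 208020, 555160, 178910, 190626, 535268, 229096, 638126, 290352, 961654,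 391290, 997948, 31554, 702724, 126216, 733006, 458192, 802710, 486298, 895452, 916384, 473574, 814570, 438188, 752946, 114548, 715640, 10558]

/-- Code words meeting an octad through two points in all its even subsets. -/
def witC : List ℕ := [0, 5279, 18147, 21116, 69395, 72588, 84464, 89455, 133817, 138790, 150618, 153797, 198058, 201013, 213833, 219094, 262637, 267634, 280334, 283537, 331518, 334433, 346141, 351362, 396116, 401355, 413111, 416040, 459847, 463064, 475812, 480827, 4196943, 4202192, 4213932, 4216883, 4261212, 4264387, 4277183, 4282144, 4325622, 4330601, 4343317, 4346506, 4394981, 4397946, 4409606, 4414873, 4459426, 4464445, 4476225, 4479454, 4523185, 4526126, 4538962, 4544205, 4587803, 4593028, 4605944, 4608871, 4656648, 4659863, 4671723, 4676724, 8391797, 8394986, 8407702, 8412681, 8455014, 8460281, 8471941, 8474906, 8521420, 8524371, 8536111, 8541360, 8587743, 8592704, 8605500, 8608675, 8654232, 8657159, 8670075, 8675300, 8716939, 8721940, 8733800, 8737015, 8783649, 8786878, 8798658, 8803677, 8849458,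 8854701, 8867537, 8870478, 12584506, 12587685, 12599513, 12604486, 12650793, 12656054, 12668874, 12671829, 12717187, 12720156, 12733024, 12738303, 12780432, 12785423, 12797299, 12800492, 12847063, 12849992, 12861748, 12866987, 12912836, 12917851, 12930599, 12933816, 12979566, 12982769, 12995469, 13000466, 13042301, 13047522, 13059230, 13062145]

/-- The code as sets. -/
abbrev IsC (C : Finset GolayPt) : Prop := C ∈ supports (golayCode : Set (GolayPt → ZMod 2))

/-- The first point. -/
def P : GolayPt := pt 0

/-- The second point. -/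
def Q : GolayPt := pt 23

theorem P_ne_Q : P ≠ Q := by decide +kernel

/-- A constant plus a multiple of an indicator with signs. -/
def wv (m c : ℤ) (S N : Finset GolayPt) : Vec := flip N fun i => m + if i ∈ S then c else 0

theorem wv_congr {c : ℤ} {S N N' : Finset GolayPt} (h : N ∩ S = N' ∩ S) : wv 0 c S N = wv 0 c S N' := by
  funext i
  have hi := Finset.ext_iff.1 h i
  by_cases hS : i ∈ S <;> simp [wv, flip, hS] at hi ⊢
  by_cases hN : i ∈ N <;> simp [hN, ← hi]

theorem smul_wv {σ : Equiv.Perm GolayPt} (hσ : σ ∈ M24) {C : Finset GolayPt} (hC : IsC C)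
    {m c : ℤ} {S N : Finset GolayPt} {x : leechLattice} (hx : (x : Vec) = wv m c S N) :
    ((mono hσ hC • x : leechLattice) : Vec) = wv m c (σ • S) ((σ • N) ∆ C) := by
  rw [mono_apply, hx]
  funext k
  have hk : ∀ T : Finset GolayPt, k ∈ σ • T ↔ σ.symm k ∈ T := fun T => by
    rw [← Finset.inv_smul_mem_iff]; rfl
  simp only [signedPerm, wv, flip, Finset.mem_symmDiff, hk]
  by_cases h1 : k ∈ C <;> by_cases h2 : σ.symm k ∈ N <;> simp [h1, h2]

theorem smul_C {σ : Equiv.Perm GolayPt} (hσ : σ ∈ M24) {C : Finset GolayPt} (hC : IsC C) : IsC (σ • C) :=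
  smul_supports hσ hC

theorem exists_perm (L L' : List GolayPt) (hL : L.Nodup) (hL' : L'.Nodup) (hlen : L.length ≤ 5)
    (heq : L'.length = L.length) :
    ∃ σ ∈ M24, ∀ (i : ℕ) (h : i < L.length), σ L[i] = L'[i]'(heq ▸ h) := by
  obtain ⟨f, hf, hfi, -⟩ := exists_move L hL hlen
  obtain ⟨g, hg, hgi, -⟩ := exists_move L' hL' (heq ▸ hlen)
  refine ⟨g * f⁻¹, M24.mul_mem hg (M24.inv_mem hf), fun i h => ?_⟩
  have h5 : i < 5 := by omega
  rw [Equiv.Perm.mul_apply, ← hfi ⟨i, h5⟩ h, Equiv.Perm.inv_def, Equiv.symm_apply_apply]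
  exact hgi ⟨i, h5⟩ (heq ▸ h)

theorem exists_flip (L : List GolayPt) (hL : L.Nodup) (hlen : L.length ≤ 5) (N : Finset GolayPt) :
    ∃ C, IsC C ∧ ∀ x ∈ L, (x ∈ C ↔ x ∈ N) := by
  obtain ⟨f, hf, hfi, -⟩ := exists_move L hL hlen
  obtain ⟨c, hc, hci⟩ := exists_sign (Finset.univ.filter fun i => f (base5 i) ∈ N)
  refine ⟨f • c, smul_C hf hc, fun x hx => ?_⟩
  obtain ⟨i, hi, rfl⟩ := List.getElem_of_mem hx
  have e := hfi ⟨i, by omega⟩ hi
  dsimp only at e
  rw [← e, show f (base5 ⟨i, by omega⟩) = f • base5 ⟨i, by omega⟩ from rfl, Finset.smul_mem_smul_finset_iff, hci,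
    Finset.mem_filter]
  simp [Equiv.Perm.smul_def]

theorem card_even_subsets {O : Finset GolayPt} (h : O.card = 8) :
    (O.powerset.filter fun N => Even N.card).card = 128 := by
  have e : O.powerset.filter (fun N => Even N.card) =
      ({0, 2, 4, 6, 8} : Finset ℕ).biUnion fun k => O.powersetCard k := by
    ext N
    simp only [Finset.mem_filter, Finset.mem_powerset, Finset.mem_biUnion, Finset.mem_powersetCard,
      Finset.mem_insert, Finset.mem_singleton]
    refine ⟨fun ⟨hN, he⟩ => ⟨N.card, ?_, hN, rfl⟩, fun ⟨k, hk, hN, e⟩ => ⟨hN, ?_⟩⟩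
    · have := Finset.card_le_card hN
      rw [Nat.even_iff] at he
      omega
    · subst e; rcases hk with h | h | h | h | h <;> rw [h] <;> decide
  rw [e, Finset.card_biUnion fun a _ b _ hab => Finset.pairwise_disjoint_powersetCard O hab]
  simp only [Finset.card_powersetCard, h]
  decide

/-- The check of a list of code words realising all even subsets of a set. -/
def witOk (o f : ℕ) (W : List ℕ) : Bool :=
  W.all (fun w => isCode w && (w &&& f == 0) && (pop (w &&& o) % 2 == 0)) &&
    decide ((W.map (· &&& o)).Nodup) && (W.length == 128)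

theorem exists_even {o f : ℕ} {W : List ℕ} (h : witOk o f W = true) (ho : pop o = 8) (ho' : o < 2 ^ 24)
    (N : Finset GolayPt) (hN : Even (N ∩ pts o).card) :
    ∃ C, IsC C ∧ C ∩ pts o = N ∩ pts o ∧ C ∩ pts f = ∅ := by
  simp only [witOk, Bool.and_eq_true, List.all_eq_true, decide_eq_true_eq, beq_iff_eq] at h
  obtain ⟨⟨hW, hnd⟩, hlen⟩ := h
  have hsub : ((W.map (· &&& o)).toFinset.image pts) ⊆ (pts o).powerset.filter fun N => Even N.card := by
    intro T hT
    simp only [Finset.mem_image, List.mem_toFinset, List.mem_map] at hT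
    obtain ⟨_, ⟨w, hw, rfl⟩, rfl⟩ := hT
    rw [Finset.mem_filter, Finset.mem_powerset, card_pts, ← pts_inter, Nat.even_iff]
    exact ⟨Finset.inter_subset_right, (hW w hw).2⟩
  have hcard : ((W.map (· &&& o)).toFinset.image pts).card = 128 := by
    rw [Finset.card_image_of_injOn, List.toFinset_card_of_nodup hnd, List.length_map, hlen]
    intro a ha b hb e
    simp only [Finset.mem_coe, List.mem_toFinset, List.mem_map] at ha hb
    obtain ⟨u, -, rfl⟩ := ha
    obtain ⟨v, -, rfl⟩ := hb
    exact pts_injOn (Nat.and_lt_two_pow _ ho') (Nat.and_lt_two_pow _ ho') e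
  have heq := Finset.eq_of_subset_of_card_le hsub (by rw [hcard, card_even_subsets (by rw [card_pts, ho])])
  have hmem : N ∩ pts o ∈ (W.map (· &&& o)).toFinset.image pts := by
    rw [heq, Finset.mem_filter, Finset.mem_powerset]; exact ⟨Finset.inter_subset_right, hN⟩
  simp only [Finset.mem_image, List.mem_toFinset, List.mem_map] at hmem
  obtain ⟨_, ⟨w, hw, rfl⟩, e⟩ := hmem
  refine ⟨pts w, mem_supports.2 ⟨w, mem_codeList.2 (hW w hw).1.1, rfl⟩, by rw [pts_inter]; exact e, ?_⟩
  rw [pts_inter, (hW w hw).1.2]
  ext x; simp [mem_pts]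

theorem witA_ok : witOk 5279 0 witA = true := by decide +kernel

theorem witB_ok : witOk 10558 8388609 witB = true := by decide +kernel

theorem witC_ok : witOk 13062145 0 witC = true := by decide +kernel

theorem pts_special : P ∈ pts 8388609 ∧ Q ∈ pts 8388609 ∧ P ∈ pts 13062145 ∧ Q ∈ pts 13062145 ∧
    P ∉ pts 10558 ∧ Q ∉ pts 10558 := by decide +kernel

/-- The check of the tree. -/
def treeOk : Bool :=
  (List.range avoidTree.length).all (fun k =>
    let e := avoidTree.getD k (0, 0, 0)
    (k == 0 && e.1 == 10558) ||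
      (decide (e.2.1 < k) && decide (e.2.2 < pqGens.length) &&
        (imgMask (get (pqGens.getD e.2.2 0)) (avoidTree.getD e.2.1 (0, 0, 0)).1 == e.1))) &&
    pqGens.all (fun g => inM24 g && (get g 0 == 0) && (get g 23 == 23)) &&
    octList.all (fun o => o.testBit 0 || o.testBit 23 || (avoidTree.map Prod.fst).contains o) &&
    (avoidTree.length == 330)

theorem tree_ok : treeOk = true := by decide +kernel

theorem tree_reach {k : ℕ} (hk : k < avoidTree.length) :
    ∃ σ ∈ M24, σ P = P ∧ σ Q = Q ∧ σ • pts 10558 = pts (avoidTree.getD k (0, 0, 0)).1 := by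
  induction k using Nat.strong_induction_on with
  | _ k ih =>
    have h := tree_ok
    simp only [treeOk, Bool.and_eq_true, List.all_eq_true, List.mem_range, Bool.or_eq_true, beq_iff_eq,
      decide_eq_true_eq] at h
    rcases h.1.1.1 k hk with ⟨-, e⟩ | ⟨⟨h1, h2⟩, h3⟩
    · exact ⟨1, M24.one_mem, rfl, rfl, by rw [one_smul, e]⟩
    · obtain ⟨σ, hσ, hP, hQ, hO⟩ := ih _ h1 (lt_trans h1 hk)
      have hm : pqGens.getD (avoidTree.getD k (0, 0, 0)).2.2 0 ∈ pqGens := by
        rw [List.getD_eq_getElem _ _ h2]; exact List.getElem_mem _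
      obtain ⟨⟨hg, g0⟩, g23⟩ := h.1.1.2 _ hm
      have hv : valid (pqGens.getD (avoidTree.getD k (0, 0, 0)).2.2 0) = true := by
        rw [inM24, Bool.and_eq_true] at hg; exact hg.1
      refine ⟨permOf _ * σ, M24.mul_mem (permOf_mem_M24 hg) hσ, ?_, ?_, ?_⟩
      · rw [Equiv.Perm.mul_apply, hP]
        exact idx_injective (by rw [idx_permOf hv, P, idx_pt (by norm_num), g0])
      · rw [Equiv.Perm.mul_apply, hQ]
        exact idx_injective (by rw [idx_permOf hv, Q, idx_pt (by norm_num), g23])
      · rw [mul_smul, hO, permOf_smul_pts hv, h3]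

theorem avoid_listed {o : ℕ} (ho : o ∈ octList) (hP : P ∉ pts o) (hQ : Q ∉ pts o) :
    o ∈ avoidTree.map Prod.fst := by
  rw [mem_pts, P, idx_pt (by norm_num)] at hP
  rw [mem_pts, Q, idx_pt (by norm_num)] at hQ
  have h := tree_ok
  rw [treeOk, Bool.and_eq_true, Bool.and_eq_true] at h
  have h2 := List.all_eq_true.1 h.1.2 o ho
  rw [Bool.or_eq_true, Bool.or_eq_true] at h2
  rcases h2 with (h2 | h2) | h2
  · exact absurd h2 hP
  · exact absurd h2 hQ
  · exact List.contains_iff_mem.1 h2

theorem avoid_reach {O : Finset GolayPt} (hO : O ∈ octads) (hP : P ∉ O) (hQ : Q ∉ O) :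
    ∃ σ ∈ M24, σ P = P ∧ σ Q = Q ∧ σ • O = pts 10558 := by
  obtain ⟨o, ho, rfl⟩ := mem_octads.1 hO
  obtain ⟨e, he, he'⟩ := List.mem_map.1 (avoid_listed ho hP hQ)
  obtain ⟨k, hk, rfl⟩ := List.getElem_of_mem he
  obtain ⟨σ, hσ, h1, h2, h3⟩ := tree_reach hk
  rw [List.getD_eq_getElem _ _ hk, he'] at h3
  exact ⟨σ⁻¹, M24.inv_mem hσ, Equiv.Perm.inv_eq_iff_eq.2 h1.symm, Equiv.Perm.inv_eq_iff_eq.2 h2.symm,
    by rw [← h3, inv_smul_smul]⟩

theorem avoid_count {O : Finset GolayPt} (hO : O ∈ octads) (hP : P ∉ O) (hQ : Q ∉ O) :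
    O ∈ (avoidTree.map fun e => pts e.1).toFinset := by
  obtain ⟨o, ho, rfl⟩ := mem_octads.1 hO
  obtain ⟨e, he, he'⟩ := List.mem_map.1 (avoid_listed ho hP hQ)
  rw [List.mem_toFinset, List.mem_map]
  exact ⟨e, he, by rw [he']⟩

/-- Every short vector has one of three shapes. -/
theorem classify {x : leechLattice} (hx : sqNorm (x : Vec) = 32) :
    (∃ S N, S.card = 2 ∧ (x : Vec) = wv 0 4 S N) ∨
    (∃ O N, O ∈ octads ∧ Even (N ∩ O).card ∧ (x : Vec) = wv 0 2 O N) ∨
    (∃ i N, IsC N ∧ (x : Vec) = wv 1 (-4) {i} N) := by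
  obtain ⟨m, a, hm, hxa, hca, hs⟩ := mem_lattice.1 x.2
  set N := Finset.univ.filter fun i => (x : Vec) i < 0
  rcases hm with rfl | rfl
  · have e : sqNorm (x : Vec) = 4 * ∑ i, a i * a i := by
      simp only [sqNorm, hxa, Finset.mul_sum]
      exact Finset.sum_congr rfl fun i _ => by ring
    rcases code_weight hca with hw | hw
    · have hev : ∀ i, a i = 2 * (a i / 2) := fun i => by
        have h1 : i ∉ support₂ (par a) := by rw [Finset.card_eq_zero.1 hw]; simp
        simp only [support₂, Finset.mem_filter, Finset.mem_univ, true_and, par, intCast_zmod2_ne_zero] at h1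
        omega
      set b : Vec := fun i => a i / 2
      have e2 : ∑ i, b i * b i = 2 := by
        have h4 : ∑ i, a i * a i = 4 * ∑ i, b i * b i := by
          rw [Finset.mul_sum]
          exact Finset.sum_congr rfl fun i _ => by linear_combination (a i + 2 * b i) * (hev i)
        omega
      have hb : ∀ i, b i = 0 ∨ b i = 1 ∨ b i = -1 := fun i => by
        have h := Finset.single_le_sum (fun j _ => mul_self_nonneg (b j)) (Finset.mem_univ i)
        rw [e2] at h
        have h1 : -1 ≤ b i := by nlinarith
        have h2 : b i ≤ 1 := by nlinarith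
        omega
      refine Or.inl ⟨Finset.univ.filter fun i => b i ≠ 0, N, ?_, funext fun i => ?_⟩
      · have : ((Finset.univ.filter fun i => b i ≠ 0).card : ℤ) = 2 := by
          rw [← e2, Finset.card_filter, Nat.cast_sum]
          refine Finset.sum_congr rfl fun i _ => ?_
          rcases hb i with h | h | h <;> rw [h] <;> rfl
        exact_mod_cast this
      · have := hev i
        simp only [wv, flip, N, Finset.mem_filter, Finset.mem_univ, true_and, hxa i]
        rcases hb i with h | h | h <;> simp only [b] at h ⊢ <;> split_ifs <;> omega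
    · have hle := sq_le_sum (a := a)
      have h8 : (support₂ (par a)).card = 8 := by
        rcases hw with h | h | h | h <;> [exact h; omega; omega; omega]
      have hpt : ∀ i, a i * a i = a i % 2 := by
        intro i
        have hnn : ∀ j ∈ (Finset.univ : Finset GolayPt), 0 ≤ a j * a j - a j % 2 := fun j _ => by
          have := sq_emod_four (a j)
          have := mul_self_nonneg (a j)
          omega
        have h0 : ∑ j, (a j * a j - a j % 2) = 0 := by
          rw [Finset.sum_sub_distrib, sum_emod_two, h8]; omega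
        have := (Finset.sum_eq_zero_iff_of_nonneg hnn).1 h0 i (Finset.mem_univ i)
        omega
      have hval : ∀ i, (a i % 2 = 0 ∧ a i = 0) ∨ (a i % 2 = 1 ∧ (a i = 1 ∨ a i = -1)) := fun i => by
        rcases Int.emod_two_eq_zero_or_one (a i) with h | h <;> have := hpt i <;> rw [h] at this
        · exact Or.inl ⟨h, mul_self_eq_zero.1 this⟩
        · exact Or.inr ⟨h, mul_self_eq_one_iff.1 this⟩
      have hmem : ∀ i, i ∈ support₂ (par a) ↔ a i % 2 = 1 := fun i => by
        simp [support₂, par, intCast_zmod2_ne_zero]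
      refine Or.inr (Or.inl ⟨support₂ (par a), N, ⟨supports_iff.2 hca, h8⟩, ?_, funext fun i => ?_⟩)
      · have hneg : ∑ i, a i = 8 - 2 * ((N ∩ support₂ (par a)).card : ℤ) := by
          have h1 : ∀ i, a i = a i % 2 - 2 * (if i ∈ N ∩ support₂ (par a) then 1 else 0) := fun i => by
            simp only [Finset.mem_inter, hmem, N, Finset.mem_filter, Finset.mem_univ, true_and, hxa i]
            rcases hval i with ⟨h, h'⟩ | ⟨h, h' | h'⟩ <;> split_ifs <;> omega
          rw [Finset.sum_congr rfl fun i _ => h1 i, Finset.sum_sub_distrib, sum_emod_two, h8, ← Finset.mul_sum,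
            Finset.sum_ite_mem, Finset.univ_inter, Finset.sum_const]
          simp
        have h2 : ∑ i, (x : Vec) i = 2 * ∑ i, a i := by
          simp only [hxa, Finset.mul_sum]; exact Finset.sum_congr rfl fun i _ => by ring
        rw [Int.ModEq, h2, hneg] at hs
        rw [Nat.even_iff]
        omega
      · simp only [wv, flip, N, Finset.mem_filter, Finset.mem_univ, true_and, hxa i, hmem]
        rcases hval i with ⟨h, h'⟩ | ⟨h, h' | h'⟩ <;> split_ifs <;> omega
  · set C := support₂ (par a)
    have hmemC : ∀ i, i ∈ C ↔ a i % 2 = 1 := fun i => by simp [C, support₂, par, intCast_zmod2_ne_zero]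
    set b : Vec := fun i => ((if i ∈ C then -(x : Vec) i else (x : Vec) i) - 1) / 4
    have hb : ∀ i, (x : Vec) i = if i ∈ C then -(1 + 4 * b i) else 1 + 4 * b i := fun i => by
      simp only [b, hmemC, hxa i]; split_ifs <;> omega
    have e2 : ∑ i, (2 * (b i * b i) + b i) = 1 := by
      have h4 : sqNorm (x : Vec) = 24 + 8 * ∑ i, (2 * (b i * b i) + b i) := by
        rw [show (24 : ℤ) = ∑ _i : GolayPt, 1 by simp, Finset.mul_sum, ← Finset.sum_add_distrib, sqNorm]
        exact Finset.sum_congr rfl fun i _ => by rw [hb i]; split_ifs <;> ring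
      omega
    have hnn : ∀ j ∈ (Finset.univ : Finset GolayPt), 0 ≤ 2 * (b j * b j) + b j := fun j _ => by
      rcases le_or_gt 0 (b j) with h | h <;> nlinarith
    have hval : ∀ i, b i = 0 ∨ b i = -1 := fun i => by
      have h := Finset.single_le_sum hnn (Finset.mem_univ i)
      rw [e2] at h
      have h1 : -1 ≤ b i := by nlinarith
      have h2 : b i ≤ 0 := by nlinarith
      omega
    obtain ⟨i0, hi0⟩ : ∃ i0, (Finset.univ.filter fun i => b i ≠ 0) = {i0} := by
      refine Finset.card_eq_one.1 ?_
      have : ((Finset.univ.filter fun i => b i ≠ 0).card : ℤ) = 1 := by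
        rw [← e2, Finset.card_filter, Nat.cast_sum]
        refine Finset.sum_congr rfl fun i _ => ?_
        rcases hval i with h | h <;> rw [h] <;> rfl
      exact_mod_cast this
    refine Or.inr (Or.inr ⟨i0, C, supports_iff.2 hca, funext fun i => ?_⟩)
    have hi := Finset.ext_iff.1 hi0 i
    simp only [Finset.mem_filter, Finset.mem_univ, true_and, Finset.mem_singleton] at hi
    simp only [wv, flip, Finset.mem_singleton]
    rw [hb i]
    rcases hval i with h | h <;> rw [h] at hi ⊢
    · have : i ≠ i0 := fun he => (hi.2 he) rfl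
      simp [this]
    · have : i = i0 := hi.1 (by norm_num)
      simp [this]

end Cfsg.Agent.Spor.Leech.CrossShapes
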