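import Cfsg.Agent.Lib.Spor.Leech.Frame
import Cfsg.Agent.Lib.Spor.Leech.Monomial
import Cfsg.Agent.Lib.Spor.Leech.CertS11178
import Cfsg.Agent.Lib.Spor.Leech.CertH100
import Cfsg.Agent.Lib.Spor.Leech.CertH22
import Cfsg.Agent.Lib.Spor.Leech.CertH77

/-!
Pairs of vectors of norm 48 with product -32 and the graph on the 100 attached vectors.
-/

set_option autoImplicit false
set_option maxRecDepth 100000

namespace Cfsg.Agent.Spor.Leech.HSPairs

open Cfsg

/-- The standard vector of norm 48. -/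
def bU : leechLattice :=
  mkL [1, 1, 1, 1, 1, 1, 1, 1, 1, 1, 1, 1, 1, 1, 1, 1, 1, 1, 1, 1, 1, 1, 1, 5] (by decide +kernel)

/-- The standard partner. -/
def bW : leechLattice :=
  mkL [-5, -1, -1, -1, -1, -1, -1, -1, -1, -1, -1, -1, -1, -1, -1, -1, -1, -1, -1, -1, -1, -1, -1, -1] (by decide +kernel)

/-- The standard attached vector. -/
def bX : leechLattice :=
  mkL [4, 0, 0, 0, 0, 0, 0, 0, 0, 0, 0, 0, 0, 0, 0, 0, 0, 0, 0, 0, 0, 0, 0, 4] (by decide +kernel)

theorem bU_norm : sqNorm (bU : Vec) = 48 := by decide +kernel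

theorem bW_norm : sqNorm (bW : Vec) = 48 := by decide +kernel

theorem bUW : dotInt (bU : Vec) (bW : Vec) = -32 := by decide +kernel

theorem bX_mem : bX ∈ shellTwo bU bW 24 (-24) := ⟨by decide +kernel, by decide +kernel, by decide +kernel⟩

theorem sum_mem {v w : leechLattice} (hv : sqNorm (v : Vec) = 48) (hw : sqNorm (w : Vec) = 48)
    (hd : dotInt (v : Vec) (w : Vec) = -32) : -v - w ∈ shellOne v (-16) := by
  have e : ((-v - w : leechLattice) : Vec) = -(v : Vec) - (w : Vec) := rfl
  refine ⟨?_, ?_⟩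
  · rw [e, sqNorm_sub]
    have h1 : sqNorm (-(v : Vec)) = sqNorm (v : Vec) := Finset.sum_congr rfl fun i _ => neg_sq _
    have h2 : dotInt (-(v : Vec)) (w : Vec) = -dotInt (v : Vec) (w : Vec) := by
      simp [dotInt, Finset.sum_neg_distrib]
    rw [h1, h2, hv, hw, hd]; norm_num
  · rw [e]
    have h2 : dotInt (v : Vec) (-(v : Vec) - (w : Vec)) = -sqNorm (v : Vec) - dotInt (v : Vec) (w : Vec) := by
      simp only [dotInt, sqNorm, Pi.sub_apply, Pi.neg_apply, ← Finset.sum_neg_distrib, ← Finset.sum_sub_distrib]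
      exact Finset.sum_congr rfl fun i _ => by ring
    rw [h2, hv, hd]; norm_num

theorem to_pair {v w : leechLattice} (hv : sqNorm (v : Vec) = 48) (hw : sqNorm (w : Vec) = 48)
    (hd : dotInt (v : Vec) (w : Vec) = -32) : ∃ h : Co0, h • v = bU ∧ h • w = bW := by
  obtain ⟨h, hh⟩ := exists_move48 hv bU_norm
  obtain ⟨k, k1, k2⟩ := step_one hh (std_one co3s_checks (by decide +kernel)).2 (sum_mem hv hw hd)
    (sum_mem bU_norm bW_norm bUW)
  refine ⟨k, k1, ?_⟩
  rw [co_sub, co_neg, k1] at k2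
  exact sub_right_injective k2

theorem swap {v w : leechLattice} (hv : sqNorm (v : Vec) = 48) (hw : sqNorm (w : Vec) = 48)
    (hd : dotInt (v : Vec) (w : Vec) = -32) : ∃ g : Co0, g • v = w ∧ g • w = v := by
  obtain ⟨h, h1, h2⟩ := to_pair hv hw hd
  obtain ⟨k, k1, k2⟩ := to_pair hw hv (by rwa [dot_comm])
  exact ⟨k⁻¹ * h, by rw [mul_smul, h1, ← k1, inv_smul_smul], by rw [mul_smul, h2, ← k2, inv_smul_smul]⟩

theorem hundred {v w : leechLattice} (hv : sqNorm (v : Vec) = 48) (hw : sqNorm (w : Vec) = 48)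
    (hd : dotInt (v : Vec) (w : Vec) = -32) :
    (shellTwo v w 24 (-24)).ncard = 100 ∧ TransTwo v w (shellTwo v w 24 (-24)) := by
  obtain ⟨h, h1, h2⟩ := to_pair hv hw hd
  have hs := std_two hs_checks (by decide +kernel) (by decide +kernel)
  obtain ⟨hn, ht⟩ := get_two h1 h2 (c := 24) (d := -24) (show TransTwo bU bW (shellTwo bU bW 24 (-24)) from hs.2)
  exact ⟨hn.trans hs.1, ht⟩

theorem suborbits {v w x : leechLattice} (hv : sqNorm (v : Vec) = 48) (hw : sqNorm (w : Vec) = 48)
    (hd : dotInt (v : Vec) (w : Vec) = -32) (hx : x ∈ shellTwo v w 24 (-24)) :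
    (shellThree v w x 24 (-24) 8).ncard = 22 ∧ (shellThree v w x 24 (-24) 16).ncard = 77 ∧
      TransThree v w x (shellThree v w x 24 (-24) 8) ∧ TransThree v w x (shellThree v w x 24 (-24) 16) := by
  obtain ⟨h0, e1, e2⟩ := to_pair hv hw hd
  obtain ⟨h, h1, h2, h3⟩ := step_two e1 e2 (std_two hs_checks (by decide +kernel) (by decide +kernel)).2 hx bX_mem
  have hA := std_three hsA_checks (by decide +kernel) (by decide +kernel) (by decide +kernel)
  have hB := std_three hsB_checks (by decide +kernel) (by decide +kernel) (by decide +kernel)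
  obtain ⟨hnA, htA⟩ := get_three h1 h2 h3 (c := 24) (d := -24) (f := 8)
    (show TransThree bU bW bX (shellThree bU bW bX 24 (-24) 8) from hA.2)
  obtain ⟨hnB, htB⟩ := get_three h1 h2 h3 (c := 24) (d := -24) (f := 16)
    (show TransThree bU bW bX (shellThree bU bW bX 24 (-24) 16) from hB.2)
  exact ⟨hnA.trans hA.1, hnB.trans hB.1, htA, htB⟩

theorem dot_cases {v w x y : leechLattice} (hv : sqNorm (v : Vec) = 48) (hw : sqNorm (w : Vec) = 48)
    (hd : dotInt (v : Vec) (w : Vec) = -32) (hx : x ∈ shellTwo v w 24 (-24)) (hy : y ∈ shellTwo v w 24 (-24))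
    (hne : y ≠ x) : dotInt (x : Vec) (y : Vec) = 8 ∨ dotInt (x : Vec) (y : Vec) = 16 := by
  obtain ⟨hA, hB, -, -⟩ := suborbits hv hw hd hx
  have h := split_cover (S := shellTwo v w 24 (-24)) (fun z hz => hz.1) hx {8, 16} (by decide) ?_ hy
  · simpa [hne] using h
  · have e : ∀ c, {z ∈ shellTwo v w 24 (-24) | dotInt (x : Vec) (z : Vec) = c} = shellThree v w x 24 (-24) c :=
      fun c => by ext z; simp [shellTwo, shellThree, and_assoc]
    rw [(hundred hv hw hd).1, Finset.sum_pair (by decide), e, e, hA, hB]; rfl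

/-- A word moving all 100 attached vectors. -/
def invWord : List (ℕ × ℕ) := [(358351012344366875078237836847632073, 14198444), (0, 0), (177474974032962531555634987612649761, 7414974), (0, 0), (100383444500790756129681846357234286, 9158944), (0, 0), (177474974032962531555634987612649761, 7414974), (0, 0), (718710197479545275211107284922963147, 12618748)]

/-- The packed axis vectors. -/
def axisX (i : GolayPt) : ℕ := encV (Pi.single i 8)

theorem invWord_ok : invWord.all opOk = true ∧ appW invWord (encV (bU : Vec)) = encV (bU : Vec) ∧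
    appW invWord (encV (bW : Vec)) = encV (bW : Vec) := by decide +kernel

theorem invWord_sq : ∀ i, appW invWord (appW invWord (axisX i)) = axisX i := by decide +kernel

theorem invWord_moves : ((List.range 100).all fun k => appW invWord (hsC.X k) != hsC.X k) = true := by decide +kernel

theorem fixed_point_free : ∃ g : Co0, g • bU = bU ∧ g • bW = bW ∧ orderOf g = 2 ∧
    ∀ x ∈ shellTwo bU bW 24 (-24), g • x ≠ x := by
  classical
  obtain ⟨hop, hU, hW⟩ := invWord_ok
  have fix : ∀ u : leechLattice, sqNorm (u : Vec) ≤ 64 → appW invWord (encV (u : Vec)) = encV (u : Vec) →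
      wordG invWord • u = u := fun u hu h => by
    rw [appW_spec hop u hu] at h
    exact Subtype.ext (encV_inj (small_of_norm ((co_norm _ _).trans_le hu)) (small_of_norm hu) h)
  have hmove : ∀ x ∈ shellTwo bU bW 24 (-24), wordG invWord • x ≠ x := fun x hx he => by
    have e : shortSet hsL = shellTwo bU bW 24 (-24) := by
      ext y; simp [shortSet, shellTwo, hsL, bU, bW, mkL_val]
    obtain ⟨hn, hr⟩ := std_two hs_checks (by decide +kernel) (by decide +kernel)
    obtain ⟨k, hk, hX⟩ : ∃ k, k < hsC.n ∧ hsC.X k = encV (x : Vec) := by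
      obtain ⟨hg, hroot, hstart, hspec, hnodes, hodd, hoct, hpair⟩ := hs_checks
      have hxs : x ∈ shortSet hsL := e ▸ hx
      rcases shortList_parts (mem_shortList (fits_of_chk hspec) x.2 hxs.1 (dot_comb (x : Vec) hxs.2)) with
        ⟨i, hi, hm⟩ | ⟨i, hi, hm⟩ | hm
      · obtain ⟨w, hw⟩ := hodd i hi; exact mem_chkMatch hw _ hm
      · obtain ⟨w, hw⟩ := hoct i hi; exact mem_chkMatch hw _ hm
      · obtain ⟨w, hw⟩ := hpair; exact mem_chkMatch hw _ hm
    have h := List.all_eq_true.1 invWord_moves k (List.mem_range.2 hk)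
    rw [hX, appW_spec hop x (by rw [hx.1]; norm_num), he] at h
    simp at h
  refine ⟨wordG invWord, fix bU (by rw [bU_norm]; norm_num) hU, fix bW (by rw [bW_norm]; norm_num) hW, ?_, hmove⟩
  have hsq : wordG invWord * wordG invWord = 1 := by
    refine ext_axis fun i => ?_
    have hn : sqNorm ((axis i : leechLattice) : Vec) ≤ 64 := (axis_norm i).le
    have h := invWord_sq i
    rw [axisX, ← axis_val, appW_spec hop _ hn, appW_spec hop _ ((co_norm _ _).trans_le hn)] at h
    rw [one_smul, mul_smul]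
    exact Subtype.ext (encV_inj (small_of_norm (by rw [co_norm, co_norm]; exact hn)) (small_of_norm hn) h)
  refine orderOf_eq_prime (by rw [pow_two, hsq]) fun h1 => ?_
  exact hmove bX bX_mem (by rw [h1, one_smul])

theorem involution {v w : leechLattice} (hv : sqNorm (v : Vec) = 48) (hw : sqNorm (w : Vec) = 48)
    (hd : dotInt (v : Vec) (w : Vec) = -32) : ∃ g : Co0, g • v = v ∧ g • w = w ∧ orderOf g = 2 ∧
      ∀ x ∈ shellTwo v w 24 (-24), g • x ≠ x := by
  obtain ⟨h, h1, h2⟩ := to_pair hv hw hd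
  obtain ⟨g, gU, gW, hg, hmv⟩ := fixed_point_free
  refine ⟨h⁻¹ * g * h, fix_move h1 gU, fix_move h2 gW, ?_, fun x hx he => ?_⟩
  · rw [← hg]
    have : h⁻¹ * g * h = MulAut.conj h⁻¹ g := by simp
    rw [this]
    exact MulEquiv.orderOf_eq _ g
  · refine hmv _ ((smul_mem_shellTwo h1 h2).2 hx) ?_
    rw [mul_smul, mul_smul, inv_smul_eq_iff] at he
    exact he

end Cfsg.Agent.Spor.Leech.HSPairs
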