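import Cfsg.Agent.Lib.Spor.Leech.Monomial
import Cfsg.Agent.Lib.Spor.Leech.Orth
import Cfsg.Agent.Lib.Spor.Leech.Dist
import Cfsg.Agent.Lib.Spor.ExtraPairCore
import Cfsg.Agent.S5392
import Cfsg.Agent.S5552
import Cfsg.Prelude.Def_MonsterType

/-!
The extraspecial group in an involution centraliser of Monster type as the lattice modulo two.
-/

set_option autoImplicit false
set_option maxRecDepth 100000
set_option linter.style.haveILetI false

namespace Cfsg.Agent.Spor.Leech

open Cfsg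
open scoped Pointwise commutatorElement

variable {G : Type*} [Group G] {z : G}

/-- The hypotheses that are used. -/
structure MT (z : G) (Q : Subgroup (Subgroup.centralizer ({z} : Set G))) [Q.Normal]
    (e : (Subgroup.centralizer ({z} : Set G)) ⧸ Q ≃* Cfsg.Spor.Co1) (ψ : leechLattice → Q ⧸ Subgroup.center Q) :
    Prop where
  ord : orderOf z = 2
  extra : IsExtraspecial 2 Q
  card : Nat.card Q = 2 ^ 25
  iso : IsLeechModTwoIso Q e ψ

theorem MT.of_type {Q : Subgroup (Subgroup.centralizer ({z} : Set G))} [Q.Normal]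
    (hM : IsOfMonsterType z Q) {e : (Subgroup.centralizer ({z} : Set G)) ⧸ Q ≃* Cfsg.Spor.Co1}
    {ψ : leechLattice → Q ⧸ Subgroup.center Q} (hψ : IsLeechModTwoIso Q e ψ) : MT z Q e ψ :=
  ⟨hM.1.1, hM.1.2.2.1, hM.1.2.2.2.1, hψ⟩

/-- The extraspecial group inside the whole group. -/
abbrev QG (Q : Subgroup (Subgroup.centralizer ({z} : Set G))) : Subgroup G :=
  Q.map (Subgroup.centralizer ({z} : Set G)).subtype

/-- An element of the extraspecial group representing a lattice member. -/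
def Rep {Q : Subgroup (Subgroup.centralizer ({z} : Set G))} [Q.Normal] (ψ : leechLattice → Q ⧸ Subgroup.center Q)
    (v : leechLattice) (x : G) : Prop :=
  ∃ q : Q, ((q : Subgroup.centralizer ({z} : Set G)) : G) = x ∧ ψ v = QuotientGroup.mk q

variable {Q : Subgroup (Subgroup.centralizer ({z} : Set G))} [hQn : Q.Normal]
  {e : (Subgroup.centralizer ({z} : Set G)) ⧸ Q ≃* Cfsg.Spor.Co1} {ψ : leechLattice → Q ⧸ Subgroup.center Q}

theorem mem_QG {x : G} : x ∈ QG Q ↔ ∃ q : Q, ((q : Subgroup.centralizer ({z} : Set G)) : G) = x :=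
  ⟨fun ⟨c, hc, e⟩ => ⟨⟨c, hc⟩, e⟩, fun ⟨q, e⟩ => ⟨q, q.2, e⟩⟩

theorem QG_le : QG Q ≤ Subgroup.centralizer ({z} : Set G) := Subgroup.map_subtype_le _

theorem card_QG (h : MT z Q e ψ) : Nat.card (QG Q) = 2 ^ 25 := by
  rw [Subgroup.card_map_of_injective (Subgroup.subtype_injective _), h.card]

theorem cls_of_center {g : Co0} (hg : ∀ v : leechLattice, cls (g • v) = cls v) : g ∈ Subgroup.center Co0 :=
  Agent.S5392.only_center g fun v => by
    obtain ⟨w, hw, e⟩ := cls_eq.1 (hg v)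
    exact ⟨⟨w, hw⟩, e⟩

theorem cls_iff_double {u v : leechLattice} : cls u = cls v ↔ ∃ w : leechLattice, u - v = w + w := by
  rw [cls_eq]
  constructor
  · rintro ⟨w, hw, e⟩
    exact ⟨⟨w, hw⟩, Subtype.ext (e.trans (two_nsmul w))⟩
  · rintro ⟨w, e⟩
    exact ⟨w, w.2, (congrArg Subtype.val e).trans (two_nsmul (w : Vec)).symm⟩

namespace MT

theorem psi_add (h : MT z Q e ψ) (v w : leechLattice) : ψ (v + w) = ψ v * ψ w := h.iso.1 v w

theorem psi_eq_iff (h : MT z Q e ψ) {v w : leechLattice} : ψ v = ψ w ↔ cls v = cls w := by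
  have h0 : ψ v = ψ (v - w) * ψ w := by rw [← h.psi_add, sub_add_cancel]
  rw [cls_iff_double, ← h.iso.2.2.1, h0]
  exact mul_eq_right

theorem exists_vec (h : MT z Q e ψ) {x : G} (hx : x ∈ QG Q) : ∃ v, Rep ψ v x := by
  obtain ⟨q, rfl⟩ := mem_QG.1 hx
  obtain ⟨v, hv⟩ := h.iso.2.1 (QuotientGroup.mk q)
  exact ⟨v, q, rfl, hv⟩

theorem exists_rep (h : MT z Q e ψ) (v : leechLattice) : ∃ x, Rep ψ v x := by
  obtain ⟨q, hq⟩ := QuotientGroup.mk_surjective (ψ v)
  exact ⟨_, q, rfl, hq.symm⟩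

theorem rep_mem {v : leechLattice} {x : G} (hr : Rep ψ v x) : x ∈ QG Q := by
  obtain ⟨q, rfl, -⟩ := hr; exact mem_QG.2 ⟨q, rfl⟩

theorem rep_cls (h : MT z Q e ψ) {v w : leechLattice} {x : G} (hv : Rep ψ v x) (hw : Rep ψ w x) : cls v = cls w := by
  obtain ⟨q, rfl, hq⟩ := hv
  obtain ⟨q', e', hq'⟩ := hw
  obtain rfl : q' = q := Subtype.ext (Subtype.ext e')
  exact h.psi_eq_iff.1 (hq.trans hq'.symm)

theorem rep_congr (h : MT z Q e ψ) {v w : leechLattice} {x : G} (hv : Rep ψ v x) (he : cls v = cls w) : Rep ψ w x := by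
  obtain ⟨q, rfl, hq⟩ := hv
  exact ⟨q, rfl, (h.psi_eq_iff.2 he).symm.trans hq⟩

theorem rep_add (h : MT z Q e ψ) {v w : leechLattice} {x y : G} (hv : Rep ψ v x) (hw : Rep ψ w y) :
    Rep ψ (v + w) (x * y) := by
  obtain ⟨q, rfl, hq⟩ := hv
  obtain ⟨q', rfl, hq'⟩ := hw
  exact ⟨q * q', rfl, by rw [h.psi_add, hq, hq', QuotientGroup.mk_mul]⟩

theorem rep_conj (h : MT z Q e ψ) {g : Co0} {c : Subgroup.centralizer ({z} : Set G)}
    (hg : (QuotientGroup.mk g : Cfsg.Spor.Co1) = e (QuotientGroup.mk c)) {v : leechLattice} {x : G}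
    (hv : Rep ψ v x) : Rep ψ (g • v) ((c : G) * x * (c : G)⁻¹) := by
  obtain ⟨q, rfl, hq⟩ := hv
  exact ⟨⟨c * q * c⁻¹, hQn.conj_mem _ q.2 c⟩, rfl, h.iso.2.2.2 c g hg v q hq⟩

theorem exists_auto (h : MT z Q e ψ) (c : Subgroup.centralizer ({z} : Set G)) :
    ∃ g : Co0, (QuotientGroup.mk g : Cfsg.Spor.Co1) = e (QuotientGroup.mk c) :=
  QuotientGroup.mk_surjective _

theorem exists_elt (h : MT z Q e ψ) (g : Co0) : ∃ c : Subgroup.centralizer ({z} : Set G),
    (QuotientGroup.mk g : Cfsg.Spor.Co1) = e (QuotientGroup.mk c) := by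
  obtain ⟨c, hc⟩ := QuotientGroup.mk_surjective (e.symm (QuotientGroup.mk g))
  exact ⟨c, by rw [hc, MulEquiv.apply_symm_apply]⟩

/-- An element acting trivially on the lattice modulo two lies in the extraspecial group. -/
theorem mem_of_fix (h : MT z Q e ψ) (c : Subgroup.centralizer ({z} : Set G))
    (hc : ∀ (v : leechLattice) (x : G), Rep ψ v x → Rep ψ v ((c : G) * x * (c : G)⁻¹)) : c ∈ Q := by
  obtain ⟨g, hg⟩ := h.exists_auto c
  have hcen : g ∈ Subgroup.center Co0 := cls_of_center fun v => by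
    obtain ⟨x, hx⟩ := h.exists_rep v
    exact h.rep_cls (h.rep_conj hg hx) (hc v x hx)
  have h1 : (QuotientGroup.mk g : Cfsg.Spor.Co1) = 1 := (QuotientGroup.eq_one_iff g).2 hcen
  rw [h1, eq_comm, MulEquiv.map_eq_one_iff, QuotientGroup.eq_one_iff] at hg
  exact hg

theorem z_mem (h : MT z Q e ψ) : z ∈ QG Q := by
  have hzC : z ∈ Subgroup.centralizer ({z} : Set G) := Subgroup.mem_centralizer_singleton_iff.2 rfl
  refine ⟨⟨z, hzC⟩, h.mem_of_fix ⟨z, hzC⟩ fun v x hx => ?_, rfl⟩
  have hxz := Subgroup.mem_centralizer_singleton_iff.1 (QG_le (rep_mem hx))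
  show Rep ψ v (z * x * z⁻¹)
  rwa [← hxz, mul_inv_cancel_right]

theorem z_ne (h : MT z Q e ψ) : z ≠ 1 := fun e => by
  have := h.ord; rw [e, orderOf_one] at this; omega

theorem z_sq (h : MT z Q e ψ) : z * z = 1 := by rw [← pow_two, ← h.ord, pow_orderOf_eq_one]

theorem center_cases (h : MT z Q e ψ) {q : Q} (hq : q ∈ Subgroup.center Q) :
    ((q : Subgroup.centralizer ({z} : Set G)) : G) = 1 ∨ ((q : Subgroup.centralizer ({z} : Set G)) : G) = z := by
  obtain ⟨zq, hzq⟩ := mem_QG.1 h.z_mem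
  have hzc : zq ∈ Subgroup.center Q := Subgroup.mem_center_iff.2 fun g => by
    refine Subtype.ext (Subtype.ext ?_)
    simp only [Subgroup.coe_mul, hzq]
    exact Subgroup.mem_centralizer_singleton_iff.1 (g : Subgroup.centralizer ({z} : Set G)).2
  have h2 := (Nat.card_eq_two_iff' (⟨zq, hzc⟩ : Subgroup.center Q)).1 h.extra.2
  obtain ⟨w, -, hu⟩ := h2
  by_cases h1 : q = zq
  · exact Or.inr (h1 ▸ hzq)
  · have e1 := hu ⟨q, hq⟩ fun e => h1 (congrArg Subtype.val e)
    have e2 := hu 1 fun e => h.z_ne (by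
      have e3 : (1 : Q) = zq := congrArg Subtype.val e
      rw [← e3] at hzq; exact hzq.symm)
    refine Or.inl ?_
    have e4 : q = 1 := congrArg Subtype.val (e1.trans e2.symm)
    rw [e4]; rfl

variable [Finite G]

theorem ext (h : MT z Q e ψ) : ExtraPair.Ext z (QG Q) := by
  obtain ⟨hsq, hcomm⟩ := Agent.Fus.extraspecial_two_facts h.extra
  refine ⟨h.z_mem, h.z_ne, h.z_sq, fun q hq => Subgroup.mem_centralizer_singleton_iff.1 (QG_le hq), ?_, ?_, ?_,
    ?_, ?_⟩
  · rintro x hx y hy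
    obtain ⟨a, rfl⟩ := mem_QG.1 hx
    obtain ⟨b, rfl⟩ := mem_QG.1 hy
    exact h.center_cases (hcomm a b)
  · rintro x hx
    obtain ⟨a, rfl⟩ := mem_QG.1 hx
    rw [← pow_two]
    exact h.center_cases (hsq a)
  · rintro x hx hc
    obtain ⟨a, rfl⟩ := mem_QG.1 hx
    exact h.center_cases (Subgroup.mem_center_iff.2 fun b => Subtype.ext (Subtype.ext (hc _ (mem_QG.2 ⟨b, rfl⟩))))
  · intro c hc
    have hcC : c ∈ Subgroup.centralizer ({z} : Set G) :=
      Subgroup.mem_centralizer_singleton_iff.2 (hc z h.z_mem).symm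
    refine ⟨⟨c, hcC⟩, h.mem_of_fix ⟨c, hcC⟩ fun v x hx => ?_, rfl⟩
    show Rep ψ v (c * x * c⁻¹)
    rwa [← hc x (rep_mem hx), mul_inv_cancel_right]
  · rintro c hc q hq
    obtain ⟨a, rfl⟩ := mem_QG.1 hq
    exact mem_QG.2 ⟨⟨⟨c, Subgroup.mem_centralizer_singleton_iff.2 hc⟩ * a * (⟨c,
      Subgroup.mem_centralizer_singleton_iff.2 hc⟩ : Subgroup.centralizer ({z} : Set G))⁻¹,
      hQn.conj_mem _ a.2 _⟩, rfl⟩

theorem rep_unique (h : MT z Q e ψ) {v : leechLattice} {x y : G} (hx : Rep ψ v x) (hy : Rep ψ v y) :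
    y = x ∨ y = x * z := by
  obtain ⟨a, rfl, ha⟩ := hx
  obtain ⟨b, rfl, hb⟩ := hy
  have hc := h.center_cases (QuotientGroup.eq.1 (ha.symm.trans hb))
  simp only [Subgroup.coe_mul, Subgroup.coe_inv] at hc
  rcases hc with e | e
  · exact Or.inl (inv_mul_eq_one.1 e).symm
  · exact Or.inr (inv_mul_eq_iff_eq_mul.1 e)

theorem rep_mul_z (h : MT z Q e ψ) {v : leechLattice} {x : G} (hx : Rep ψ v x) : Rep ψ v (x * z) := by
  obtain ⟨a, rfl, ha⟩ := hx
  obtain ⟨zq, hzq⟩ := mem_QG.1 h.z_mem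
  refine ⟨a * zq, by simp [hzq], ?_⟩
  rw [ha, QuotientGroup.eq]
  simp only [inv_mul_cancel_left]
  refine Subgroup.mem_center_iff.2 fun g => Subtype.ext (Subtype.ext ?_)
  simp only [Subgroup.coe_mul, hzq]
  exact Subgroup.mem_centralizer_singleton_iff.1 (g : Subgroup.centralizer ({z} : Set G)).2

/-- Conjugation by the centraliser is transitive on the representatives of an orbit. -/
theorem conj_of_conn (h : MT z Q e ψ) {v w : leechLattice} {x y : G} (hx : Rep ψ v x) (hy : Rep ψ w y)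
    (hvz : ∃ q ∈ QG Q, q * y ≠ y * q) (hc : ∃ g : Co0, cls (g • v) = cls w) :
    ∃ c ∈ Subgroup.centralizer ({z} : Set G), c * x * c⁻¹ = y := by
  obtain ⟨g, hg⟩ := hc
  obtain ⟨c, hc⟩ := h.exists_elt g
  have hr := h.rep_congr (h.rep_conj hc hx) hg
  rcases h.rep_unique hy hr with e' | e'
  · exact ⟨c, c.2, e'⟩
  · obtain ⟨q, hq, hqy⟩ := hvz
    have hq' := ((h.ext.conj_cases (rep_mem hy) hq).resolve_left hqy).2
    refine ⟨q * c, mul_mem (QG_le hq) c.2, ?_⟩
    have hqz : q * z * q⁻¹ = z := by rw [h.ext.central q hq, mul_inv_cancel_right]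
    calc q * (c : G) * x * (q * (c : G))⁻¹ = q * ((c : G) * x * (c : G)⁻¹) * q⁻¹ := by group
      _ = q * (y * z) * q⁻¹ := by rw [e']
      _ = (q * y * q⁻¹) * (q * z * q⁻¹) := by group
      _ = y := by rw [hq', hqz, mul_assoc, h.z_sq, mul_one]

theorem noncentral (h : MT z Q e ψ) {x : G} (hx : x ∈ QG Q) (h1 : x ≠ 1) (hz : x ≠ z) :
    ∃ q ∈ QG Q, q * x ≠ x * q := by
  by_contra hcon
  simp only [not_exists, not_and, not_not] at hcon
  rcases h.ext.cen x hx hcon with e | e
  · exact h1 e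
  · exact hz e

theorem rep_zero_iff (h : MT z Q e ψ) {v : leechLattice} {x : G} (hx : Rep ψ v x) :
    cls v = cls 0 ↔ x = 1 ∨ x = z := by
  have h0 : Rep ψ (0 : leechLattice) 1 := ⟨1, rfl, by
    have := h.psi_add 0 0
    rw [add_zero] at this
    exact (mul_eq_left.1 this.symm).trans (QuotientGroup.mk_one _).symm⟩
  constructor
  · intro hc
    rcases h.rep_unique h0 (h.rep_congr hx hc) with e | e
    · exact Or.inl e
    · exact Or.inr (by rwa [one_mul] at e)
  · rintro (rfl | rfl)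
    · exact h.rep_cls hx h0
    · refine h.rep_cls hx ?_
      simpa using h.rep_mul_z h0

/-- Whether two elements fail to commute. -/
noncomputable def beta (x y : G) : ZMod 2 := by classical exact if x * y = y * x then 0 else 1

/-- Whether the square is nontrivial. -/
noncomputable def sqv (x : G) : ZMod 2 := by classical exact if x * x = 1 then 0 else 1

theorem beta_mul (h : MT z Q e ψ) {a b c : G} (ha : a ∈ QG Q) (hb : b ∈ QG Q) (hc : c ∈ QG Q) :
    beta c (a * b) = beta c a + beta c b := by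
  have hn : z ≠ 1 := h.z_ne
  have hkey : ∀ x ∈ QG Q, (c * x = x * c ↔ c * x * c⁻¹ = x) := fun x _ =>
    ⟨fun e => by rw [e, mul_inv_cancel_right], fun e => by
      calc c * x = c * x * c⁻¹ * c := by group
        _ = x * c := by rw [e]⟩
  have e0 : c * (a * b) * c⁻¹ = (c * a * c⁻¹) * (c * b * c⁻¹) := by group
  have hzb : z * b = b * z := (h.ext.central b hb).symm
  unfold beta
  rcases h.ext.conj_cases ha hc with ea | ⟨ea, ea'⟩ <;> rcases h.ext.conj_cases hb hc with eb | ⟨eb, eb'⟩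
  · rw [if_pos ea, if_pos eb, if_pos (by rw [← mul_assoc, ea, mul_assoc, eb, mul_assoc]), add_zero]
  · rw [if_pos ea, if_neg eb, zero_add, if_neg]
    rw [hkey _ (mul_mem ha hb), e0, (hkey a ha).1 ea, eb', ← mul_assoc]
    exact fun e => hn (mul_eq_left.1 e)
  · rw [if_neg ea, if_pos eb, add_zero, if_neg]
    rw [hkey _ (mul_mem ha hb), e0, ea', (hkey b hb).1 eb, mul_assoc, hzb, ← mul_assoc]
    exact fun e => hn (mul_eq_left.1 e)
  · rw [if_neg ea, if_neg eb, if_pos, show (1 : ZMod 2) + 1 = 0 from rfl]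
    rw [hkey _ (mul_mem ha hb), e0, ea', eb']
    calc a * z * (b * z) = a * (z * b) * z := by group
      _ = a * (b * z) * z := by rw [hzb]
      _ = a * b * (z * z) := by group
      _ = a * b := by rw [h.z_sq, mul_one]

theorem sqv_mul (h : MT z Q e ψ) {a b : G} (ha : a ∈ QG Q) (hb : b ∈ QG Q) :
    sqv (a * b) = sqv a + sqv b + beta b a := by
  have hn : z ≠ 1 := h.z_ne
  have hcz : ∀ x ∈ QG Q, x * z = z * x := h.ext.central
  obtain ⟨s, hs, es⟩ : ∃ s, (s = 1 ∨ s = z) ∧ a * a = s := ⟨_, h.ext.sq a ha, rfl⟩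
  obtain ⟨t, ht, et⟩ : ∃ t, (t = 1 ∨ t = z) ∧ b * b = t := ⟨_, h.ext.sq b hb, rfl⟩
  rcases h.ext.conj_cases ha hb with eb | ⟨eb, eb'⟩
  · have e1 : a * b * (a * b) = s * t := by
      calc a * b * (a * b) = a * (b * a) * b := by group
        _ = a * (a * b) * b := by rw [eb]
        _ = (a * a) * (b * b) := by group
        _ = s * t := by rw [es, et]
    unfold sqv beta
    rw [if_pos eb]
    rcases hs with rfl | rfl <;> rcases ht with rfl | rfl <;> simp [es, et, e1, hn, h.z_sq] <;> rfl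
  · have e1 : a * b * (a * b) = s * t * z := by
      calc a * b * (a * b) = a * (b * a * b⁻¹) * (b * b) := by group
        _ = a * (a * z) * t := by rw [eb', et]
        _ = (a * a) * (z * t) := by group
        _ = s * (t * z) := by rw [es]; rcases ht with rfl | rfl <;> simp
        _ = s * t * z := by group
    unfold sqv beta
    rw [if_neg eb]
    rcases hs with rfl | rfl <;> rcases ht with rfl | rfl <;> simp [es, et, e1, hn, h.z_sq] <;> rfl

theorem sqv_mul_z (h : MT z Q e ψ) {x : G} (hx : x ∈ QG Q) : sqv (x * z) = sqv x := by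
  have e1 : x * z * (x * z) = x * x := by
    calc x * z * (x * z) = x * (z * x) * z := by group
      _ = x * (x * z) * z := by rw [h.ext.central x hx]
      _ = x * x * (z * z) := by group
      _ = _ := by rw [h.z_sq, mul_one]
  unfold sqv
  rw [e1]

/-- Involutions correspond to classes of even half norm. -/
theorem sq_parity (h : MT z Q e ψ) {v : leechLattice} {x : G} (hx : Rep ψ v x) :
    x * x = 1 ↔ (sqNorm (v : Vec) / 16) % 2 = 0 := by
  classical
  choose r hr using h.exists_rep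
  let F : leechLattice → ZMod 2 := fun u => sqv (r u)
  have hF : ∀ {u : leechLattice} {y : G}, Rep ψ u y → F u = sqv y := fun {u y} hy => by
    rcases h.rep_unique hy (hr u) with e | e
    · show sqv (r u) = _; rw [e]
    · show sqv (r u) = _; rw [e, h.sqv_mul_z (rep_mem hy)]
  have hne : ∃ u, F u ≠ 0 := by
    by_contra hcon
    simp only [not_exists, not_not] at hcon
    have hall : ∀ y ∈ QG Q, y * y = 1 := fun y hy => by
      obtain ⟨u, hu⟩ := h.exists_vec hy
      have h1 := hcon u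
      rw [hF hu] at h1
      by_contra hne'
      unfold sqv at h1
      rw [if_neg hne'] at h1
      exact one_ne_zero h1
    have hsub : ((QG Q : Subgroup G) : Set G) ⊆ ({1, z} : Set G) := fun y hy => by
      have := h.ext.cen y hy fun q hq => by
        have e2 := hall _ (mul_mem hq hy)
        calc q * y = (q * y)⁻¹ := (inv_eq_of_mul_eq_one_right e2).symm
          _ = y⁻¹ * q⁻¹ := mul_inv_rev q y
          _ = y * q := by rw [inv_eq_of_mul_eq_one_right (hall y hy), inv_eq_of_mul_eq_one_right (hall q hq)]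
      simpa using this
    have h1 : ((QG Q : Subgroup G) : Set G).ncard ≤ 2 :=
      (Set.ncard_le_ncard hsub (Set.toFinite _)).trans ((Set.ncard_insert_le _ _).trans (by simp))
    have h2 : ((QG Q : Subgroup G) : Set G).ncard = 2 ^ 25 := by rw [← card_QG h]; rfl
    omega
  have hcoset : ∀ u w : leechLattice, F (u + (w + w)) = F u := fun u w => by
    have : cls (u + (w + w)) = cls u := cls_iff_double.2 ⟨w, by abel⟩
    rw [hF (h.rep_congr (hr (u + (w + w))) this)]
  have hquad : ∀ a b c : leechLattice, F (a + b + c) + F a + F b + F c = F (a + b) + F (a + c) + F (b + c) := by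
    intro a b c
    have ma := rep_mem (hr a); have mb := rep_mem (hr b); have mc := rep_mem (hr c)
    rw [hF (h.rep_add (h.rep_add (hr a) (hr b)) (hr c)), hF (h.rep_add (hr a) (hr b)),
      hF (h.rep_add (hr a) (hr c)), hF (h.rep_add (hr b) (hr c)), h.sqv_mul (mul_mem ma mb) mc,
      h.sqv_mul ma mb, h.sqv_mul ma mc, h.sqv_mul mb mc, h.beta_mul ma mb mc, hF (hr a), hF (hr b), hF (hr c)]
    generalize sqv (r a) = p; generalize sqv (r b) = q; generalize sqv (r c) = s
    generalize beta (r b) (r a) = i; generalize beta (r c) (r a) = j; generalize beta (r c) (r b) = k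
    revert p q s i j k; decide
  have hinv : ∀ (g : Co0) (u : leechLattice), F (g • u) = F u := fun g u => by
    obtain ⟨c, hc⟩ := h.exists_elt g
    rw [hF (h.rep_conj hc (hr u))]
    show sqv _ = sqv (r u)
    unfold sqv
    simp only [show (c : G) * r u * (c : G)⁻¹ * ((c : G) * r u * (c : G)⁻¹) = (c : G) * (r u * r u) * (c : G)⁻¹ by group,
      conj_eq_one_iff]
  have hmain := Agent.S5552.result F hcoset hquad hinv hne v
  rw [hF hx] at hmain
  unfold sqv at hmain
  constructor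
  · intro he
    rw [if_pos he, eq_comm, ZMod.intCast_zmod_eq_zero_iff_dvd] at hmain
    omega
  · intro he
    by_contra hne'
    rw [if_neg hne'] at hmain
    have h0 : ((sqNorm (v : Vec) / 16 : ℤ) : ZMod 2) = 0 := by
      rw [ZMod.intCast_zmod_eq_zero_iff_dvd]; omega
    exact one_ne_zero (hmain.trans h0)

/-- The short form of an involution outside the centre. -/
theorem exists_short_rep (h : MT z Q e ψ) {x : G} (hx : x ∈ QG Q) (hx2 : x * x = 1) (h1 : x ≠ 1) (hz : x ≠ z) :
    ∃ v, Rep ψ v x ∧ (sqNorm (v : Vec) = 32 ∨ sqNorm (v : Vec) = 64) := by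
  obtain ⟨u, hu⟩ := h.exists_vec hx
  obtain ⟨v, hv, hc⟩ := class_facts.1 (cls u)
  have hr := h.rep_congr hu hc.symm
  refine ⟨v, hr, ?_⟩
  have hpar := (h.sq_parity hr).1 hx2
  rcases norm_multiple v.2 with e | e | e | e | e
  · exfalso
    have : cls v = cls 0 := by rw [show v = 0 from Subtype.ext e]
    rcases (h.rep_zero_iff hr).1 this with e' | e'
    · exact h1 e'
    · exact hz e'
  · exact Or.inl e
  · rw [e] at hpar; norm_num at hpar
  · exact Or.inr e
  · omega

theorem rep_involution (h : MT z Q e ψ) {v : leechLattice} {x : G} (hx : Rep ψ v x)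
    (hn : sqNorm (v : Vec) = 32 ∨ sqNorm (v : Vec) = 64) : x * x = 1 ∧ x ≠ 1 ∧ x ≠ z := by
  have hv0 : cls v ≠ cls 0 := fun he => by
    have hc := congr_short v.2 (0 : leechLattice).2 (by omega) (by simp [sqNorm]) (cls_eq.1 he)
    have h0 : sqNorm ((0 : leechLattice) : Vec) = 0 := by simp [sqNorm]
    rcases hc with e | e | ⟨-, e, -⟩
    · rw [e] at hn; omega
    · rw [e, norm_neg] at hn; omega
    · omega
  refine ⟨(h.sq_parity hx).2 ?_, fun e => hv0 ((h.rep_zero_iff hx).2 (Or.inl e)),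
    fun e => hv0 ((h.rep_zero_iff hx).2 (Or.inr e))⟩
  rcases hn with e | e <;> rw [e] <;> decide

end MT

end Cfsg.Agent.Spor.Leech
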