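import Cfsg.Agent.Lib.Spor.Leech.Orbits
import Cfsg.Agent.Lib.Spor.Golay.Perm

/-!
Short vectors of the rank 24 lattice packed in natural numbers, five bits for each coordinate, and the two kinds of
automorphisms acting on packed vectors.
-/

set_option autoImplicit false
set_option maxRecDepth 100000

namespace Cfsg.Agent.Spor.Leech

open Cfsg

/-- The packed form of a vector with entries in the range from -15 to 15. -/
def encV (x : Vec) : ℕ := Golay.pack 24 fun i => (x (Golay.pt i) + 16).toNat

/-- All entries are at most 8 in absolute value. -/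
def Small (x : Vec) : Prop := ∀ i, -8 ≤ x i ∧ x i ≤ 8

theorem small_of_norm {x : Vec} (h : sqNorm x ≤ 64) : Small x := fun i => by
  have h1 := Finset.single_le_sum (f := fun j => x j ^ 2) (fun j _ => sq_nonneg (x j)) (Finset.mem_univ i)
  unfold sqNorm at h
  constructor <;> nlinarith

theorem get_encV {x : Vec} (hx : Small x) {i : ℕ} (hi : i < 24) :
    Golay.get (encV x) i = (x (Golay.pt i) + 16).toNat :=
  Golay.get_pack 24 _ i hi fun j _ => by have := hx (Golay.pt j); omega

theorem cast_get {x : Vec} (hx : Small x) (p : GolayPt) :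
    (Golay.get (encV x) (Golay.idx p) : ℤ) = x p + 16 := by
  rw [get_encV hx (Golay.idx_lt p), Golay.pt_idx]
  have := hx p
  omega

theorem encV_inj {x y : Vec} (hx : Small x) (hy : Small y) (h : encV x = encV y) : x = y :=
  funext fun p => by have h1 := cast_get hx p; have h2 := cast_get hy p; rw [h] at h1; omega

theorem pack_congr : ∀ (n : ℕ) (f g : ℕ → ℕ), (∀ i < n, f i = g i) → Golay.pack n f = Golay.pack n g
  | 0, _, _, _ => rfl
  | n + 1, f, g, h => by
    rw [Golay.pack, Golay.pack, h 0 (Nat.succ_pos n), pack_congr n _ _ fun i hi => h (i + 1) (by omega)]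

/-- A signed permutation on packed vectors: coordinate `i` of the result is read at position `get Q i`. -/
def appM (Q C X : ℕ) : ℕ :=
  Golay.pack 24 fun i => if C.testBit i then 32 - Golay.get X (Golay.get Q i) else Golay.get X (Golay.get Q i)

/-- The positions of the six tetrads, five bits each. -/
def tetPos : ℕ → ℕ
  | 0 => 100384
  | 1 => 709197
  | 2 => 771525
  | 3 => 639464
  | 4 => 403684
  | _ => 732454

/-- Twice the half sum of the tetrad `t` of a packed vector. -/
def tetSum (X t : ℕ) : ℕ :=
  Golay.get X (Golay.get (tetPos t) 0) + Golay.get X (Golay.get (tetPos t) 1) +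
    Golay.get X (Golay.get (tetPos t) 2) + Golay.get X (Golay.get (tetPos t) 3)

/-- The tetrad of a position. -/
def tetN (i : ℕ) : ℕ := (1560358618942177361920 >>> (3 * i)) % 8

/-- The extra map on packed vectors. -/
def appX (X : ℕ) : ℕ :=
  Golay.pack 24 fun i =>
    if tetN i = 0 then 32 + Golay.get X i - tetSum X (tetN i) / 2 else tetSum X (tetN i) / 2 - Golay.get X i

theorem tet_positions : ∀ p : GolayPt, (Finset.univ.filter fun q => tet q = tet p) =
    {Golay.pt (Golay.get (tetPos (tet p)) 0), Golay.pt (Golay.get (tetPos (tet p)) 1),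
      Golay.pt (Golay.get (tetPos (tet p)) 2), Golay.pt (Golay.get (tetPos (tet p)) 3)} ∧
    (∀ k < 4, Golay.get (tetPos (tet p)) k < 24) ∧
    ((List.range 4).map fun k => Golay.get (tetPos (tet p)) k).Nodup := by decide +kernel

theorem cast_tetSum {x : Vec} (hx : Small x) (p : GolayPt) :
    (tetSum (encV x) (tet p) : ℤ) = (∑ j, if tet j = tet p then x j else 0) + 64 := by
  obtain ⟨he, hlt, hnd⟩ := tet_positions p
  set a := Golay.get (tetPos (tet p)) 0 with ha
  set b := Golay.get (tetPos (tet p)) 1 with hb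
  set c := Golay.get (tetPos (tet p)) 2 with hc
  set d := Golay.get (tetPos (tet p)) 3 with hd
  have la := hlt 0 (by norm_num)
  have lb := hlt 1 (by norm_num)
  have lc := hlt 2 (by norm_num)
  have ld := hlt 3 (by norm_num)
  rw [← ha] at la; rw [← hb] at lb; rw [← hc] at lc; rw [← hd] at ld
  simp [List.range_succ, ← ha, ← hb, ← hc, ← hd] at hnd
  have inj : ∀ {u v : ℕ}, u < 24 → v < 24 → u ≠ v → Golay.pt u ≠ Golay.pt v := fun hu hv h e =>
    h (by have := congrArg Golay.idx e; rwa [Golay.idx_pt hu, Golay.idx_pt hv] at this)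
  rw [← Finset.sum_filter, he, Finset.sum_insert (by
      simp [inj la lb hnd.1.1, inj la lc hnd.1.2.1, inj la ld hnd.1.2.2]),
    Finset.sum_insert (by simp [inj lb lc hnd.2.1.1, inj lb ld hnd.2.1.2]),
    Finset.sum_pair (inj lc ld hnd.2.2)]
  unfold tetSum
  rw [← ha, ← hb, ← hc, ← hd, get_encV hx la, get_encV hx lb, get_encV hx lc, get_encV hx ld]
  have := hx (Golay.pt a); have := hx (Golay.pt b); have := hx (Golay.pt c); have := hx (Golay.pt d)
  omega

theorem appX_spec {x : Vec} (hx : Small x) (he : EvenTet x) (hy : Small (xiFun x)) :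
    appX (encV x) = encV (xiFun x) := by
  refine pack_congr 24 _ _ fun i hi => ?_
  have ht : tetN i = tet (Golay.pt i) := by rw [tet, Golay.idx_pt hi]; rfl
  have hs := cast_tetSum hx (Golay.pt i)
  have hv := cast_get hx (Golay.pt i)
  have hd := he (Golay.pt i)
  have hb := hy (Golay.pt i)
  rw [Golay.idx_pt hi] at hv
  rw [ht]
  obtain ⟨u, hu⟩ := hd
  rw [hu] at hs
  unfold xiFun at hb ⊢
  rw [hu, Int.mul_ediv_cancel_left _ (two_ne_zero' ℤ)] at hb ⊢
  split_ifs at hb ⊢ <;> omega

/-- Whether a pair describes one of the two kinds of automorphisms; `(0, 0)` is the extra map. -/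
def opOk (o : ℕ × ℕ) : Bool := (o.1 == 0) || (Golay.inM24 o.1 && Golay.isCode o.2)

/-- An operation on packed vectors. -/
def appOp (o : ℕ × ℕ) (X : ℕ) : ℕ := if o.1 = 0 then appX X else appM o.1 o.2 X

/-- The automorphism of a pair. -/
noncomputable def opG (o : ℕ × ℕ) : Co0 :=
  if o.1 = 0 then xi else
    if h : Golay.inM24 o.1 = true ∧ Golay.isCode o.2 = true then
      mono (mem_symm (Golay.permOf_mem_M24 h.1)) (Golay.mem_supports.2 ⟨o.2, Golay.mem_codeList.2 h.2, rfl⟩)
    else 1

theorem appOp_spec {o : ℕ × ℕ} (ho : opOk o = true) (v : leechLattice) (hv : sqNorm (v : Vec) ≤ 64) :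
    appOp o (encV v) = encV ((opG o • v : leechLattice) : Vec) := by
  have hx := small_of_norm hv
  have hy : Small ((opG o • v : leechLattice) : Vec) := small_of_norm ((co_norm _ _).trans_le hv)
  unfold appOp
  by_cases h0 : o.1 = 0
  · rw [if_pos h0]
    rw [opG, if_pos h0, xi_apply] at hy ⊢
    exact appX_spec hx (evenTet_of_mem v.2) hy
  · rw [if_neg h0]
    simp only [opOk, Bool.or_eq_true, beq_iff_eq, h0, false_or, Bool.and_eq_true] at ho
    rw [opG, if_neg h0, dif_pos ho, mono_apply]
    have hval : Golay.valid o.1 = true := by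
      have := ho.1; rw [Golay.inM24, Bool.and_eq_true] at this; exact this.1
    refine pack_congr 24 _ _ fun i hi => ?_
    set j := Golay.get o.1 i
    have hj : j = Golay.idx (Golay.permOf o.1 (Golay.pt i)) := by rw [Golay.idx_permOf hval, Golay.idx_pt hi]
    have hg : (Golay.get (encV v) j : ℤ) = (v : Vec) (Golay.permOf o.1 (Golay.pt i)) + 16 := by
      rw [hj]; exact cast_get hx _
    have hb := hx (Golay.permOf o.1 (Golay.pt i))
    have hp : Golay.pt i ∈ Golay.pts o.2 ↔ o.2.testBit i = true := by rw [Golay.mem_pts, Golay.idx_pt hi]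
    simp only [signedPerm, hp, Equiv.symm_symm]
    split_ifs <;> omega

/-- A word of operations on packed vectors, the first one applied first. -/
def appW (w : List (ℕ × ℕ)) (X : ℕ) : ℕ := w.foldl (fun Y o => appOp o Y) X

/-- The automorphism of a word. -/
noncomputable def wordG : List (ℕ × ℕ) → Co0
  | [] => 1
  | o :: w => wordG w * opG o

theorem appW_spec : ∀ {w : List (ℕ × ℕ)}, w.all opOk = true → ∀ (v : leechLattice), sqNorm (v : Vec) ≤ 64 →
    appW w (encV v) = encV ((wordG w • v : leechLattice) : Vec)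
  | [], _, v, _ => by simp [appW, wordG]
  | o :: w, h, v, hv => by
    simp only [List.all_cons, Bool.and_eq_true] at h
    have := appW_spec (w := w) h.2 (opG o • v) ((co_norm _ _).trans_le hv)
    rw [wordG, mul_smul, ← this, ← appOp_spec h.1 v hv, appW, List.foldl_cons, appW]

/-- Evaluate a number to a numeral before passing it on. -/
def forceN {α : Type} (n : ℕ) (k : ℕ → α) : α :=
  Nat.rec (motive := fun _ => α) (k 0) (fun i _ => k (Nat.add i 1)) n

theorem forceN_eq {α : Type} (n : ℕ) (k : ℕ → α) : forceN n k = k n := by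
  cases n <;> rfl

/-- A word of operations, each intermediate vector evaluated. -/
def appWF : List (ℕ × ℕ) → ℕ → ℕ
  | [], X => X
  | o :: w, X => forceN X fun Y => appWF w (appOp o Y)

theorem appWF_eq : ∀ (w : List (ℕ × ℕ)) (X : ℕ), appWF w X = appW w X
  | [], X => rfl
  | o :: w, X => by rw [appWF, forceN_eq, appWF_eq w, appW, appW, List.foldl_cons]

end Cfsg.Agent.Spor.Leech
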