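import Cfsg.Agent.Lib.Spor.Leech.Cert
import Cfsg.Agent.Lib.Spor.Leech.Frame
import Cfsg.Agent.Lib.Spor.Cos.Act

/-!
Permutation representations of vector stabilisers on the enumerated vectors of norm 32.
-/

set_option autoImplicit false
set_option maxRecDepth 100000

namespace Cfsg.Agent.Spor.Leech

open Cfsg

/-- The automorphisms fixing the given vectors. -/
def fixSub (L : List (List ℤ × ℤ)) : Subgroup Co0 where
  carrier := {g | Fixes L g}
  mul_mem' := fun {_ _} hg hh => hg.mul hh
  one_mem' := fun _ _ w _ => one_smul _ w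
  inv_mem' := fun {_} hg => hg.inv

open Classical in
/-- The member given by a word. -/
noncomputable def genW (L : List (List ℤ × ℤ)) (ws : List (List (ℕ × ℕ))) (s : ℕ) : fixSub L :=
  if h : Fixes L (wordG (ws.getD s [])) then ⟨_, h⟩ else 1

/-- The table gives the images of the enumerated vectors under the words. -/
noncomputable def chkImg (C : Cert) (A : Cos.Act) (ws : List (List (ℕ × ℕ))) (k : ℕ) : Bool :=
  (List.range A.n).all fun s => Cos.force (A.im k s) fun j =>
    forceN (C.X k) fun E => Nat.beq (appWF (ws.getD s []) E) (C.X j)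

theorem exists_perm {L : List (List ℤ × ℤ)} {x0 : List ℤ} {C : Cert} {X0 : ℕ} (h : Checks L x0 C X0)
    (A : Cos.Act) (hN : A.N = C.n) (ws : List (List (ℕ × ℕ))) (hlen : ws.length = A.n)
    (hg : chkGens L ws = true) (hinv : ∀ k < A.N, A.chkInv k = true) (him : ∀ k < A.N, chkImg C A ws k = true) :
    ∃ π : fixSub L →* Equiv.Perm (Fin A.N), A.Hom (genW L ws) π := by
  classical
  obtain ⟨htrans, hcard⟩ := cert_main h
  obtain ⟨hgC, hroot, hstart, hspec, hnodes, hodd, hoct, hpair⟩ := h
  simp only [chkRoot, Bool.and_eq_true, decide_eq_true_eq, List.all_eq_true] at hroot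
  let r : leechLattice := ⟨ofList x0, mem_of_inL hroot.1.1⟩
  have hr : sqNorm (r : Vec) = 32 := hroot.1.2
  have hbase : ∀ bc ∈ L, ∃ w : leechLattice, (w : Vec) = ofList bc.1 := fun bc hbc => by
    have hg' := hgC
    simp only [chkGens, Bool.and_eq_true, List.all_eq_true] at hg'
    exact ⟨⟨_, mem_of_inL (hg'.1 bc hbc).1⟩, rfl⟩
  have hmove : ∀ g, Fixes L g → ∀ v ∈ shortSet L, g • v ∈ shortSet L := fun g hgf v hv => by
    refine ⟨(co_norm g v).trans hv.1, fun bc hbc => ?_⟩
    obtain ⟨w, hw⟩ := hbase bc hbc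
    have := co_dot g w v
    rw [hgf bc hbc w hw, hw] at this
    exact this.trans (hv.2 bc hbc)
  have hr0 : r ∈ shortSet L := ⟨hr, hroot.2⟩
  choose f hff hfx using fun k : Fin A.N =>
    reach (x0 := r) hr hstart hgC hnodes _ k.1 (hN ▸ k.2) rfl
  let idx : Fin A.N → shortSet L := fun k => ⟨f k • r, hmove _ (hff k) r hr0⟩
  have henc : ∀ k : Fin A.N, encV ((idx k : leechLattice) : Vec) = C.X k := hfx
  have hinj : Function.Injective idx := fun i j e => by
    have hij : C.X i.1 = C.X j.1 := by rw [← henc i, ← henc j, e]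
    rcases lt_trichotomy i.1 j.1 with hl | hl | hl
    · exact absurd hij (strictMono_X hnodes hl (hN ▸ j.2)).ne
    · exact Fin.ext hl
    · exact absurd hij (strictMono_X hnodes hl (hN ▸ i.2)).ne'
  have : Finite (shortSet L) := (finite_shell.subset fun z hz => hz.1).to_subtype
  have hbij : Function.Bijective idx := hinj.bijective_of_nat_card_le (by
    rw [Nat.card_coe_set_eq, hcard, Nat.card_fin, hN])
  let φ : Fin A.N ≃ shortSet L := Equiv.ofBijective idx hbij
  let sp : fixSub L →* Equiv.Perm (shortSet L) :=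
    { toFun := fun g =>
        { toFun := fun v => ⟨(g : Co0) • (v : leechLattice), hmove _ g.2 v v.2⟩
          invFun := fun v => ⟨(g : Co0)⁻¹ • (v : leechLattice), hmove _ (Fixes.inv g.2) v v.2⟩
          left_inv := fun v => Subtype.ext (inv_smul_smul _ _)
          right_inv := fun v => Subtype.ext (smul_inv_smul _ _) }
      map_one' := Equiv.ext fun v => Subtype.ext (one_smul _ _)
      map_mul' := fun g h => Equiv.ext fun v => Subtype.ext (mul_smul (g : Co0) (h : Co0) (v : leechLattice)) }
  let π : fixSub L →* Equiv.Perm (Fin A.N) := (Equiv.permCongrHom φ.symm).toMonoidHom.comp sp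
  refine ⟨π, hinv, fun s => Equiv.ext fun p => ?_⟩
  show φ.symm (sp (genW L ws s) (φ p)) = _
  rw [Equiv.symm_apply_eq]
  rcases Nat.lt_or_ge s A.n with hs | hs
  · have hmem : ws.getD s [] ∈ ws := by
      rw [List.getD_eq_getElem _ _ (hlen ▸ hs)]; exact List.getElem_mem _
    obtain ⟨hop, hwf⟩ := fixes_of_chk hg hmem
    have hp := List.all_eq_true.1 (him p p.2) s (List.mem_range.2 hs)
    rw [Cos.force_eq, forceN_eq, appWF_eq] at hp
    have hp' := Nat.eq_of_beq_eq_true hp
    rw [← henc p, appW_spec hop _ (by rw [(idx p).2.1]; norm_num), ← A.perm_apply hinv hs p,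
      ← henc] at hp'
    refine Subtype.ext (Subtype.ext (encV_inj (small_of_norm ?_) (small_of_norm ?_) ?_))
    · show sqNorm (((genW L ws s : Co0) • (idx p : leechLattice) : leechLattice) : Vec) ≤ 64
      rw [co_norm, (idx p).2.1]; norm_num
    · show sqNorm ((idx (A.perm s p) : leechLattice) : Vec) ≤ 64
      rw [(idx (A.perm s p)).2.1]; norm_num
    · show encV (((genW L ws s : Co0) • (idx p : leechLattice) : leechLattice) : Vec) =
        encV ((idx (A.perm s p) : leechLattice) : Vec)
      rw [show (genW L ws s : Co0) = wordG (ws.getD s []) by rw [genW, dif_pos hwf]]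
      exact hp'
  · rw [A.perm_out s hs, Equiv.Perm.one_apply]
    have h1 : genW L ws s = 1 := by
      rw [genW]
      split_ifs with hf
      · refine Subtype.ext ?_
        show wordG (ws.getD s []) = 1
        rw [List.getD_eq_default _ _ (hlen ▸ hs)]
        rfl
      · rfl
    rw [h1, map_one, Equiv.Perm.one_apply]

end Cfsg.Agent.Spor.Leech
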