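import Cfsg.Agent.Lib.Spor.Leech.TailModelData

/-! A Sylow 11-subgroup of the stabiliser of a vector of norm 48, with equations killing the tails. -/

set_option autoImplicit false
set_option maxRecDepth 100000
set_option maxHeartbeats 8000000

open Cfsg.Agent.Grp.SchurM.Tails

namespace Cfsg.Agent.Spor.Leech.Tails

/-- Presentation of the Sylow 11-subgroup. -/
def pc11 : PC where
  p := 11
  n := 1
  rhs := [[]]
  defs := []

/-- Elements of the Sylow 11-subgroup. -/
def els11 : List (List ℕ) :=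
   [[0, 0, 0, 0],
    [0, 0, 0, 0, 0, 0],
    [0, 0, 0, 0, 0],
    [0, 0],
    [0, 0, 0, 0, 0, 0, 0, 0],
    [0, 0, 0],
    [0, 0, 0, 0, 0, 0, 0],
    [0, 0, 0, 0, 0, 0, 0, 0, 0],
    [0],
    [0, 0, 0, 0, 0, 0, 0, 0, 0, 0],
    []]

/-- The certificate. -/
def tab11 : TableCert where
  P := pc11
  ews := [[4, 0, 9, 1, 7, 6, 8, 0, 9, 6, 4, 2, 9, 1]]
  gws := [[4, 8, 1, 4, 7, 0, 2, 8, 1, 2, 1, 5]]
  C := [(0, [0], [0, 0, 0, 0, 0])]
  K :=
    { eqns := [.fus [0] [0, 0, 0, 0, 0, 0, 0, 0, 0, 0, 0] []]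
      free := 1
      combo := [[0, 0, 0, 0, 0, 0, 0, 0]] }
  els := els11

theorem tab11_rel : tab11.chkRelW 10 co3M.eqb = true := by decide +kernel

theorem tab11_card : tab11.chkCardW (co3M.code [529]) = true := by decide +kernel

theorem tab11_tails : tab11.K.check tab11.P tab11.C = true := by decide +kernel

theorem sylow11 : Nonempty (SylowCert Model.S48 11) := by
  have : Finite Model.S48 := Nat.finite_of_card_ne_zero (by rw [Model.card_S48]; norm_num)
  exact TableCert.sylowCertW co3M_ok.eqb_sound (co3M_ok.code_sound (by decide +kernel) [529]) Model.card_S48 rfl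
    (by decide) tab11_rel tab11_card tab11_tails (le_of_eq rfl) (by decide +kernel)

end Cfsg.Agent.Spor.Leech.Tails
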