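import Cfsg.Agent.Lib.Spor.Leech.TailModelData

/-! A Sylow 2-subgroup of the stabiliser of a vector of norm 48, with equations killing the tails. -/

set_option autoImplicit false
set_option maxRecDepth 100000
set_option maxHeartbeats 8000000

open Cfsg.Agent.Grp.SchurM.Tails

namespace Cfsg.Agent.Spor.Leech.Tails

/-- Presentation of the Sylow 2-subgroup. -/
def pc2 : PC where
  p := 2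
  n := 10
  rhs := [[7, 8, 9],
    [0, 1],
    [9],
    [0, 2, 4],
    [1, 2, 9],
    [9],
    [0, 3, 5],
    [1, 3, 6],
    [2, 3, 9],
    [],
    [0, 4, 9],
    [1, 4],
    [2, 4, 9],
    [3, 4],
    [9],
    [0, 5],
    [1, 5, 7],
    [2, 5],
    [3, 5, 8],
    [4, 5],
    [8],
    [0, 6, 7, 8],
    [1, 6, 9],
    [2, 6],
    [3, 6, 9],
    [4, 6],
    [5, 6, 8],
    [9],
    [0, 7],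
    [1, 7, 9],
    [2, 7],
    [3, 7, 8],
    [4, 7],
    [5, 7],
    [6, 7, 9],
    [9],
    [0, 8],
    [1, 8, 9],
    [2, 8],
    [3, 8],
    [4, 8],
    [5, 8],
    [6, 8],
    [7, 8],
    [],
    [0, 9],
    [1, 9],
    [2, 9],
    [3, 9],
    [4, 9],
    [5, 9],
    [6, 9],
    [7, 9],
    [8, 9],
    []]
  defs := [(4, 2, 0), (5, 3, 0), (6, 3, 1), (7, 5, 1), (8, 7, 3), (9, 8, 1)]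

/-- Elements of the Sylow 2-subgroup. -/
def els2 : List (List ℕ) :=
   [[0, 1, 2, 3, 5, 6, 9],
    [0, 1, 4, 7, 8],
    [0, 1, 5, 6, 8],
    [0, 1, 2, 3, 4, 7, 9],
    [2, 3, 5, 7, 8, 9],
    [5, 7, 8, 9],
    [4, 6],
    [2, 3, 4, 6],
    [1, 6, 8],
    [0, 4, 5, 6],
    [1, 2, 3, 6, 8, 9],
    [0, 2, 3, 4, 5, 6, 8],
    [1, 4, 5, 7],
    [1, 2, 3, 4, 5, 7, 9],
    [0, 7, 9],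
    [0, 2, 3, 7, 8, 9],
    [0, 1, 3, 4, 5, 7, 8, 9],
    [0, 1, 3, 6, 9],
    [0, 1, 2, 6, 9],
    [0, 1, 2, 4, 5, 7, 8, 9],
    [3, 4],
    [2, 4],
    [3, 5, 6, 7],
    [2, 5, 6, 7],
    [7, 8],
    [0, 1, 2, 3, 6, 7],
    [0, 1, 2, 3, 4, 5, 8],
    [2, 3, 4, 5, 6, 9],
    [2, 3, 7],
    [0, 1, 4, 5, 9],
    [0, 1, 6, 7, 8, 9],
    [4, 5, 6, 8, 9],
    [1, 2, 4, 7],
    [1, 2, 5, 6],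
    [1, 3, 5, 6, 8],
    [1, 3, 4, 7, 8],
    [0, 3, 6, 7, 8],
    [0, 2, 6, 7],
    [0, 2, 4, 5, 8],
    [0, 3, 4, 5],
    [1, 2, 4, 5],
    [0, 2, 4, 9],
    [0, 2, 5, 6, 7, 9],
    [0, 3, 4, 9],
    [1, 3, 4, 5, 8],
    [0, 3, 5, 6, 7, 9],
    [1, 2, 6, 7, 8],
    [1, 3, 6, 7],
    [1, 3, 4, 6, 7, 8],
    [0, 3, 4, 5, 6, 7, 8, 9],
    [1, 3, 5, 9],
    [0, 3, 8],
    [1, 2, 5, 8],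
    [1, 2, 4, 6, 7, 9],
    [0, 2, 4, 5, 6, 7, 8],
    [0, 2, 8, 9],
    [0, 3, 5, 6],
    [1, 3, 6, 9],
    [0, 2, 5, 6, 8],
    [0, 3, 4, 7],
    [0, 2, 4, 7, 8],
    [1, 3, 4, 5, 7, 8, 9],
    [1, 2, 4, 5, 7, 8, 9],
    [1, 2, 6, 9],
    [0, 2, 3, 4, 5, 8],
    [1, 4, 5, 6, 8],
    [0, 6, 7, 8, 9],
    [1, 2, 3, 7, 9],
    [0, 2, 3, 6, 7],
    [1, 2, 3, 4, 5, 6],
    [0, 4, 5, 9],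
    [1, 7, 8, 9],
    [0, 1, 2, 3, 4, 7, 8],
    [0, 1, 5, 6, 9],
    [0, 1, 2, 3, 5, 6, 8],
    [0, 1, 4, 7, 9],
    [2, 3, 4, 6, 8],
    [5, 7, 9],
    [2, 3, 5, 7, 9],
    [4, 6, 8],
    [0, 3, 5, 9],
    [0, 2, 4, 6, 7, 9],
    [0, 3, 4, 6, 7, 8],
    [0, 2, 5, 8],
    [1, 2, 4, 5, 6],
    [1, 3, 4, 5, 6, 8, 9],
    [1, 3, 7, 8],
    [1, 2, 7, 9],
    [0, 1, 2, 5, 6, 7, 8],
    [2, 4, 5, 8, 9],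
    [2, 6, 7, 9],
    [0, 1, 2, 4, 8],
    [3, 4, 5, 9],
    [0, 1, 3, 5, 6, 7, 8],
    [3, 6, 7, 8, 9],
    [0, 1, 3, 4, 8],
    [1, 2, 3, 4, 8, 9],
    [1, 2, 3, 5, 6, 7, 8, 9],
    [1, 5, 6, 7, 8],
    [0, 2, 3, 5, 7],
    [0, 4, 6, 8, 9],
    [0, 2, 3, 4, 6, 8, 9],
    [1, 4, 8],
    [0, 5, 7],
    [0, 1, 5],
    [2, 3, 4, 7],
    [0, 1, 2, 3, 5, 8],
    [2, 3, 5, 6],
    [0, 1, 2, 3, 4, 6, 7, 9],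
    [4, 7, 8, 9],
    [5, 6, 8, 9],
    [0, 1, 4, 6, 7, 8, 9],
    [0, 1, 2, 3, 5, 6, 7, 9],
    [0, 1, 4],
    [4, 6, 7, 8],
    [2, 3, 4, 6, 7],
    [5, 9],
    [0, 1, 5, 6, 7],
    [2, 3, 5, 8, 9],
    [0, 1, 2, 3, 4, 9],
    [1, 4, 6, 8, 9],
    [0, 5, 6, 9],
    [1, 5, 7],
    [1, 2, 3, 5, 7],
    [0, 4, 7, 9],
    [0, 2, 3, 5, 6, 8],
    [0, 2, 3, 4, 7, 8],
    [1, 2, 3, 4, 6, 8, 9],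
    [0, 2, 3, 6, 9],
    [1, 9],
    [0, 4, 5, 7, 8],
    [0, 6],
    [1, 2, 3, 4, 5, 6, 7],
    [1, 4, 5, 6, 7],
    [1, 2, 3, 9],
    [0, 2, 3, 4, 5, 7, 8, 9],
    [0, 1, 2, 4, 5, 9],
    [0, 1, 2, 6, 7, 8, 9],
    [2, 5, 6, 8, 9],
    [0, 1, 3, 6, 7, 9],
    [0, 1, 3, 4, 5, 8, 9],
    [3, 5, 6, 9],
    [2, 4, 7, 8, 9],
    [3, 4, 7, 9],
    [1, 2, 3, 4, 5],
    [0, 8],
    [0, 2, 3, 8],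
    [1, 6, 7, 9],
    [0, 2, 3, 4, 5, 6, 7, 8, 9],
    [1, 4, 5, 8, 9],
    [0, 4, 5, 6, 7, 8, 9],
    [1, 2, 3, 6, 7, 8],
    [0, 2, 3, 6, 7, 8, 9],
    [0, 2, 3, 4, 5, 9],
    [1, 2, 3, 7, 8, 9],
    [0, 4, 5, 8],
    [1, 7, 9],
    [0, 6, 7],
    [1, 2, 3, 4, 5, 6, 8],
    [1, 4, 5, 6],
    [0, 1, 2, 4, 5, 8],
    [0, 1, 3, 6, 7, 8],
    [0, 1, 3, 4, 5],
    [3, 5, 6, 8, 9],
    [0, 1, 2, 6, 7],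
    [2, 5, 6, 9],
    [2, 4, 7, 9],
    [3, 4, 7, 8, 9],
    [0, 1, 8, 9],
    [4, 5, 8, 9],
    [2, 3, 6, 7, 8],
    [6, 7, 9],
    [0, 1, 2, 3, 8, 9],
    [0, 1, 2, 3, 4, 5, 6, 7, 8],
    [2, 3, 4, 5],
    [0, 1, 4, 5, 6, 7, 8],
    [1, 2, 5, 6, 7, 8, 9],
    [0, 2, 4, 5, 7],
    [1, 3, 4, 8, 9],
    [1, 2, 4, 8, 9],
    [0, 3, 4, 5, 7],
    [1, 3, 5, 6, 7, 8, 9],
    [0, 2, 6, 8],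
    [0, 3, 6, 8],
    [3, 7, 8],
    [2, 4, 5, 6],
    [3, 4, 5, 6, 8, 9],
    [0, 1, 3, 4, 6, 7, 8, 9],
    [2, 7, 9],
    [0, 1, 2, 4, 6, 7],
    [0, 1, 3, 5],
    [0, 1, 2, 5, 8, 9],
    [2, 4, 7],
    [0, 1, 2, 6, 7, 9],
    [0, 1, 3, 4, 5, 9],
    [3, 4, 7, 8],
    [0, 1, 2, 4, 5, 8, 9],
    [2, 5, 6],
    [3, 5, 6, 8],
    [0, 1, 3, 6, 7, 8, 9],
    [3, 4, 5, 6, 7],
    [3, 9],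
    [2],
    [0, 1, 3, 5, 7, 8, 9],
    [0, 1, 3, 4, 6],
    [2, 4, 5, 6, 7, 9],
    [0, 1, 2, 5, 7, 8],
    [0, 1, 2, 4, 6, 9],
    [1, 2, 6],
    [0, 2, 5, 6, 8, 9],
    [0, 3, 4, 7, 9],
    [1, 3, 4, 5, 7, 8],
    [0, 2, 4, 7, 8, 9],
    [0, 3, 5, 6, 9],
    [1, 2, 4, 5, 7, 8],
    [1, 3, 6],
    [0, 1, 2, 6, 8],
    [0, 1, 3, 6, 8],
    [0, 1, 2, 4, 5, 7],
    [0, 1, 3, 4, 5, 7],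
    [2, 4, 8],
    [2, 5, 6, 7, 8],
    [3, 4, 8],
    [3, 5, 6, 7, 8],
    [0, 1, 2, 3, 4, 8],
    [0, 1, 4, 8, 9],
    [4, 6, 7],
    [0, 1, 2, 3, 5, 6, 7, 8],
    [0, 1, 5, 6, 7, 8, 9],
    [2, 3, 4, 6, 7, 8],
    [2, 3, 5, 9],
    [5, 8, 9],
    [0, 1, 3, 4, 9],
    [3, 4, 5, 8, 9],
    [0, 1, 3, 5, 6, 7, 9],
    [0, 1, 2, 5, 6, 7, 9],
    [3, 6, 7, 9],
    [2, 4, 5, 9],
    [0, 1, 2, 4, 9],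
    [2, 6, 7, 8, 9],
    [0, 1, 4, 6, 7, 8],
    [0, 1, 5, 9],
    [0, 1, 2, 3, 5, 8, 9],
    [0, 1, 2, 3, 4, 6, 7],
    [4, 7, 8],
    [5, 6, 8],
    [2, 3, 5, 6, 9],
    [2, 3, 4, 7, 9],
    [5, 6],
    [0, 1, 4, 6, 7, 9],
    [0, 1, 5, 8],
    [2, 3, 4, 7, 8, 9],
    [4, 7],
    [0, 1, 2, 3, 4, 6, 7, 8, 9],
    [0, 1, 2, 3, 5],
    [2, 3, 5, 6, 8, 9],
    [0, 1, 3, 9],
    [3, 4, 6, 7, 9],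
    [3, 5, 8],
    [0, 1, 3, 4, 5, 6, 7],
    [0, 1, 2],
    [0, 1, 2, 4, 5, 6, 7, 9],
    [2, 4, 6, 7, 8],
    [2, 5, 9],
    [2, 5, 7, 9],
    [0, 1, 2, 4, 5, 6],
    [3, 4, 6, 8, 9],
    [0, 1, 3, 7, 8],
    [0, 1, 2, 7, 9],
    [0, 1, 3, 4, 5, 6, 8, 9],
    [2, 4, 6, 8],
    [3, 5, 7],
    [2, 3, 4, 5, 7, 8],
    [4, 5, 7, 8, 9],
    [6, 9],
    [0, 1, 4, 5, 6, 8, 9],
    [0, 1, 2, 3, 4, 5, 6, 9],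
    [0, 1, 7, 8],
    [0, 1, 2, 3, 7],
    [2, 3, 6],
    [5, 8],
    [2, 3, 5],
    [0, 1, 2, 3, 4, 8, 9],
    [0, 1, 5, 6, 7, 8],
    [2, 3, 4, 6, 7, 8, 9],
    [0, 1, 2, 3, 5, 6, 7, 8, 9],
    [4, 6, 7, 9],
    [0, 1, 4, 8],
    [0, 2, 5, 7, 8],
    [0, 3, 4, 6],
    [0, 3, 5, 7, 8, 9],
    [0, 2, 4, 6, 9],
    [1, 3, 4, 5, 6, 7, 9],
    [1, 2, 9],
    [1, 3],
    [1, 2, 4, 5, 6, 7],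
    [4, 8],
    [2, 3, 5, 6, 7, 8, 9],
    [0, 1, 2, 3, 4, 6, 8],
    [0, 1, 5, 7, 9],
    [0, 1, 2, 3, 5, 7, 9],
    [2, 3, 4, 8, 9],
    [0, 1, 4, 6, 8],
    [5, 6, 7, 8],
    [1, 3, 4, 5, 6],
    [0, 3, 5, 8, 9],
    [0, 3, 4, 6, 7],
    [1, 3, 7, 9],
    [0, 2, 5],
    [1, 2, 4, 5, 6, 8, 9],
    [1, 2, 7, 8],
    [0, 2, 4, 6, 7, 8, 9],
    [1, 2, 4, 7, 8, 9],
    [1, 2, 5, 6, 8, 9],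
    [1, 3, 5, 6, 9],
    [1, 3, 4, 7, 9],
    [0, 2, 6, 7, 8],
    [0, 2, 4, 5],
    [0, 3, 6, 7],
    [0, 3, 4, 5, 8],
    [1, 4, 5, 6, 9],
    [0, 2, 3, 4, 5],
    [1, 2, 3, 4, 5, 6, 8, 9],
    [0, 4, 5, 8, 9],
    [1, 7],
    [1, 2, 3, 7, 8],
    [0, 6, 7, 9],
    [0, 2, 3, 6, 7, 8],
    [1, 2, 3, 6],
    [1, 4, 5, 7, 8, 9],
    [0, 2, 3, 7, 9],
    [0, 4, 5, 6, 8],
    [1, 2, 3, 4, 5, 7, 8],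
    [1, 6, 9],
    [0, 2, 3, 4, 5, 6],
    [0, 7, 8, 9],
    [0, 4, 5, 6, 7],
    [0, 2, 3, 4, 5, 6, 7],
    [0, 2, 3, 9],
    [1, 2, 3, 6, 7],
    [1, 6, 7, 8, 9],
    [0, 9],
    [1, 2, 3, 4, 5, 8],
    [1, 4, 5, 9],
    [1, 4, 6, 7, 8, 9],
    [0, 5, 6, 7],
    [1, 2, 3, 4, 6, 7, 9],
    [0, 2, 3, 4, 9],
    [0, 4],
    [1, 5],
    [0, 2, 3, 5, 6, 7, 9],
    [1, 2, 3, 5, 8],
    [0, 2, 5, 9],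
    [0, 3, 5, 8],
    [0, 2, 4, 6, 7, 8],
    [1, 2, 7, 8, 9],
    [1, 2, 4, 5, 6, 8],
    [0, 3, 4, 6, 7, 9],
    [1, 3, 7],
    [1, 3, 4, 5, 6, 9],
    [1, 3, 4, 5, 9],
    [1, 3, 6, 7, 8, 9],
    [0, 3, 5, 6, 7, 8, 9],
    [1, 2, 6, 7, 9],
    [0, 3, 4, 8, 9],
    [1, 2, 4, 5, 8, 9],
    [0, 2, 4, 8, 9],
    [0, 2, 5, 6, 7, 8, 9],
    [0, 1, 3, 4, 5, 6, 8],
    [3, 5, 7, 9],
    [0, 1, 2, 4, 5, 6, 9],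
    [0, 1, 3, 7, 8, 9],
    [0, 1, 2, 7],
    [2, 4, 6, 8, 9],
    [3, 4, 6, 8],
    [2, 5, 7],
    [0],
    [1, 6, 7, 8],
    [1, 2, 3, 4, 5, 8, 9],
    [0, 2, 3],
    [1, 2, 3, 6, 7, 9],
    [1, 4, 5],
    [0, 2, 3, 4, 5, 6, 7, 9],
    [0, 4, 5, 6, 7, 9],
    [0, 3, 4, 7, 8, 9],
    [0, 2, 4, 7, 9],
    [1, 3, 6, 8, 9],
    [0, 3, 5, 6, 8, 9],
    [1, 2, 6, 8, 9],
    [0, 2, 5, 6, 9],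
    [1, 3, 4, 5, 7, 9],
    [1, 2, 4, 5, 7, 9],
    [0, 1, 4, 5, 7, 9],
    [0, 1, 2, 3, 6, 8],
    [2, 3, 8],
    [4, 5, 6, 7, 8, 9],
    [2, 3, 4, 5, 6, 7, 8, 9],
    [8],
    [0, 1, 2, 3, 4, 5, 7],
    [0, 1, 6, 8, 9],
    [1, 3, 8, 9],
    [1, 2, 8],
    [0, 2, 5, 7],
    [0, 3, 4, 6, 8],
    [0, 2, 4, 6, 8, 9],
    [0, 3, 5, 7, 9],
    [1, 2, 4, 5, 6, 7, 8, 9],
    [1, 3, 4, 5, 6, 7, 8],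
    [1, 2, 3, 5, 6, 7],
    [1, 2, 3, 4],
    [1, 4, 9],
    [1, 5, 6, 7, 9],
    [0, 2, 3, 5, 7, 8],
    [0, 5, 7, 8],
    [0, 2, 3, 4, 6, 9],
    [0, 4, 6, 9],
    [0, 1, 2, 4, 5, 6, 8],
    [0, 1, 3, 4, 5, 6, 9],
    [3, 4, 6],
    [2, 4, 6, 9],
    [0, 1, 3, 7],
    [0, 1, 2, 7, 8, 9],
    [2, 5, 7, 8],
    [3, 5, 7, 8, 9],
    [0, 2, 4, 6, 8],
    [0, 3, 4, 6, 8, 9],
    [0, 2, 5, 7, 9],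
    [0, 3, 5, 7],
    [1, 3, 4, 5, 6, 7, 8, 9],
    [1, 2, 8, 9],
    [1, 2, 4, 5, 6, 7, 8],
    [1, 3, 8],
    [2, 4, 5, 6, 7, 8],
    [0, 1, 2, 4, 6, 8, 9],
    [2, 8, 9],
    [3, 4, 5, 6, 7, 8, 9],
    [3, 8],
    [0, 1, 2, 5, 7],
    [0, 1, 3, 4, 6, 8],
    [0, 1, 3, 5, 7, 9],
    [2, 3, 4],
    [0, 1, 2, 3, 4, 6],
    [0, 1, 4, 6],
    [2, 3, 5, 6, 7],
    [5, 6, 7, 9],
    [0, 1, 2, 3, 5, 7, 8, 9],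
    [4, 9],
    [0, 1, 5, 7, 8, 9],
    [0, 2, 4, 5, 6, 8, 9],
    [0, 3, 7, 9],
    [1, 3, 4, 6],
    [1, 2, 4, 6, 9],
    [1, 2, 5, 7, 8],
    [1, 3, 5, 7, 8, 9],
    [0, 2, 7, 8],
    [0, 3, 4, 5, 6],
    [3, 8, 9],
    [0, 1, 3, 5, 7],
    [3, 4, 5, 6, 7, 8],
    [2, 4, 5, 6, 7, 8, 9],
    [0, 1, 2, 5, 7, 9],
    [0, 1, 3, 4, 6, 8, 9],
    [2, 8],
    [0, 1, 2, 4, 6, 8],
    [1, 2, 4, 9],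
    [0, 2, 6, 9],
    [1, 3, 5, 6, 7, 9],
    [1, 2, 5, 6, 7, 9],
    [0, 2, 4, 5, 7, 8, 9],
    [0, 3, 4, 5, 7, 8, 9],
    [0, 3, 6, 9],
    [1, 3, 4, 9],
    [0, 1, 5, 7, 8],
    [0, 1, 4, 6, 9],
    [0, 1, 2, 3, 5, 7, 8],
    [5, 6, 7],
    [2, 3, 5, 6, 7, 9],
    [4],
    [0, 1, 2, 3, 4, 6, 9],
    [2, 3, 4, 9],
    [0, 1, 2, 4, 7, 9],
    [0, 1, 3, 5, 6, 8, 9],
    [2, 6, 8],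
    [3, 6, 8],
    [2, 4, 5, 7],
    [3, 4, 5, 7],
    [0, 1, 2, 5, 6, 9],
    [0, 1, 3, 4, 7, 8, 9],
    [1, 8],
    [0, 6, 8],
    [1, 2, 3, 4, 5, 6, 7, 8, 9],
    [1, 4, 5, 6, 7, 8, 9],
    [1, 2, 3, 8],
    [0, 2, 3, 6, 8, 9],
    [0, 2, 3, 4, 5, 7, 9],
    [0, 4, 5, 7],
    [1, 3, 5, 7, 8],
    [1, 2, 4, 6],
    [0, 3, 4, 5, 6, 9],
    [1, 3, 4, 6, 9],
    [1, 2, 5, 7, 8, 9],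
    [0, 3, 7],
    [0, 2, 7, 8, 9],
    [0, 2, 4, 5, 6, 8],
    [1, 2, 5, 6, 7],
    [1, 3, 4],
    [1, 3, 5, 6, 7],
    [0, 2, 4, 5, 7, 8],
    [0, 2, 6],
    [1, 2, 4],
    [0, 3, 4, 5, 7, 8],
    [0, 3, 6],
    [3, 4, 5, 7, 9],
    [2, 6, 8, 9],
    [3, 6, 8, 9],
    [0, 1, 3, 4, 7, 8],
    [2, 4, 5, 7, 9],
    [0, 1, 2, 5, 6],
    [0, 1, 3, 5, 6, 8],
    [0, 1, 2, 4, 7],
    [0, 2, 3, 6, 8],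
    [0, 2, 3, 4, 5, 7],
    [0, 6, 8, 9],
    [1, 2, 3, 4, 5, 6, 7, 8],
    [1, 4, 5, 6, 7, 8],
    [0, 4, 5, 7, 9],
    [1, 2, 3, 8, 9],
    [1, 8, 9],
    [2, 3, 4, 6, 9],
    [0, 1, 2, 3, 5, 6],
    [4, 6, 9],
    [0, 1, 5, 6, 8, 9],
    [2, 3, 5, 7, 8],
    [5, 7, 8],
    [0, 1, 4, 7, 8, 9],
    [0, 1, 2, 3, 4, 7],
    [0, 4, 5, 6, 9],
    [0, 7],
    [0, 2, 3, 7, 8],
    [0, 2, 3, 4, 5, 6, 8, 9],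
    [1, 4, 5, 7, 9],
    [1, 2, 3, 4, 5, 7],
    [1, 2, 3, 6, 8],
    [1, 6, 8, 9],
    [1, 3, 4, 6, 7, 9],
    [1, 2, 5, 9],
    [1, 3, 5, 8],
    [1, 2, 4, 6, 7, 8],
    [0, 2, 4, 5, 6, 7],
    [0, 3, 4, 5, 6, 7, 9],
    [0, 3],
    [0, 2, 9],
    [2, 3, 4, 5, 8, 9],
    [6, 7, 8],
    [4, 5],
    [0, 1, 4, 5, 6, 7],
    [0, 1, 2, 3, 4, 5, 6, 7],
    [0, 1, 9],
    [2, 3, 6, 7, 9],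
    [0, 1, 2, 3, 9],
    [4, 6, 8, 9],
    [5, 7],
    [0, 1, 4, 7],
    [2, 3, 4, 6, 8, 9],
    [2, 3, 5, 7],
    [0, 1, 5, 6],
    [0, 1, 2, 3, 5, 6, 8, 9],
    [0, 1, 2, 3, 4, 7, 8, 9],
    [9],
    [4, 5, 6, 7],
    [2, 3, 9],
    [0, 1, 6, 9],
    [0, 1, 2, 3, 4, 5, 7, 8],
    [2, 3, 4, 5, 6, 7],
    [0, 1, 4, 5, 7, 8, 9],
    [0, 1, 2, 3, 6],
    [0, 1, 2, 3, 4, 5, 6, 7, 8, 9],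
    [2, 3, 6, 7, 8, 9],
    [0, 1, 4, 5, 6, 7, 8, 9],
    [2, 3, 4, 5, 9],
    [6, 7],
    [0, 1, 2, 3, 8],
    [4, 5, 8],
    [0, 1, 8],
    [3, 4, 5, 6],
    [2, 7, 8],
    [2, 4, 5, 6, 8, 9],
    [3, 7, 9],
    [0, 1, 3, 5, 8],
    [0, 1, 2, 4, 6, 7, 8],
    [0, 1, 2, 5, 9],
    [0, 1, 3, 4, 6, 7, 9],
    [2, 4, 6, 7, 9],
    [0, 1, 2, 8],
    [0, 1, 2, 4, 5, 6, 7, 8, 9],
    [2, 5, 8],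
    [3, 5, 9],
    [0, 1, 3, 4, 5, 6, 7, 8],
    [0, 1, 3, 8, 9],
    [3, 4, 6, 7, 8],
    [1, 3, 5, 7, 9],
    [1, 2, 5, 7],
    [0, 2, 7, 9],
    [0, 3, 7, 8],
    [1, 2, 4, 6, 8, 9],
    [1, 3, 4, 6, 8],
    [0, 3, 4, 5, 6, 8, 9],
    [0, 2, 4, 5, 6],
    [4, 5, 9],
    [0, 1],
    [2, 3, 6, 7],
    [0, 1, 4, 5, 6, 7, 9],
    [0, 1, 2, 3],
    [6, 7, 8, 9],
    [0, 1, 2, 3, 4, 5, 6, 7, 9],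
    [2, 3, 4, 5, 8],
    [0, 3, 4, 5, 8, 9],
    [1, 3, 5, 6],
    [0, 2, 4, 5, 9],
    [0, 3, 6, 7, 9],
    [1, 2, 4, 7, 8],
    [0, 2, 6, 7, 8, 9],
    [1, 3, 4, 7],
    [1, 2, 5, 6, 8],
    [3],
    [2, 4, 5, 6, 7],
    [0, 1, 2, 5, 7, 8, 9],
    [2, 9],
    [0, 1, 3, 4, 6, 9],
    [3, 4, 5, 6, 7, 9],
    [0, 1, 3, 5, 7, 8],
    [0, 1, 2, 4, 6],
    [0, 1, 2, 3, 4, 5, 9],
    [0, 1, 6, 7],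
    [0, 1, 2, 3, 6, 7, 8, 9],
    [0, 1, 4, 5, 8],
    [2, 3, 7, 8],
    [4, 5, 6, 9],
    [2, 3, 4, 5, 6, 8, 9],
    [7],
    [2, 3, 5, 6, 8],
    [0, 1, 2, 3, 5, 9],
    [0, 1, 2, 3, 4, 6, 7, 8],
    [2, 3, 4, 7, 8],
    [5, 6, 9],
    [0, 1, 4, 6, 7],
    [0, 1, 5, 8, 9],
    [4, 7, 9],
    [0, 2, 4, 6],
    [1, 2, 4, 5, 6, 7, 9],
    [0, 3, 5, 7, 8],
    [1, 2],
    [0, 3, 4, 6, 9],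
    [0, 2, 5, 7, 8, 9],
    [1, 3, 4, 5, 6, 7],
    [1, 3, 9],
    [0, 1, 2, 3, 4, 6, 8, 9],
    [2, 3, 4, 8],
    [0, 1, 4, 6, 8, 9],
    [0, 1, 2, 3, 5, 7],
    [5, 6, 7, 8, 9],
    [4, 8, 9],
    [0, 1, 5, 7],
    [2, 3, 5, 6, 7, 8],
    [1, 2, 5, 8, 9],
    [1, 3, 5],
    [1, 2, 4, 6, 7],
    [0, 2, 4, 5, 6, 7, 8, 9],
    [1, 3, 4, 6, 7, 8, 9],
    [0, 3, 4, 5, 6, 7, 8],
    [0, 2, 8],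
    [0, 3, 8, 9],
    [0, 1, 2, 3, 7, 9],
    [2, 3, 4, 5, 7, 8, 9],
    [6],
    [2, 3, 6, 9],
    [0, 1, 7, 8, 9],
    [0, 1, 2, 3, 4, 5, 6],
    [0, 1, 4, 5, 6, 8],
    [4, 5, 7, 8],
    [0, 1, 5, 6, 7, 9],
    [5],
    [0, 1, 4, 9],
    [0, 1, 2, 3, 4],
    [4, 6, 7, 8, 9],
    [2, 3, 5, 8],
    [0, 1, 2, 3, 5, 6, 7],
    [2, 3, 4, 6, 7, 9],
    [0, 3, 4, 8],
    [0, 3, 5, 6, 7, 8],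
    [0, 2, 4, 8],
    [0, 2, 5, 6, 7, 8],
    [1, 3, 4, 5],
    [1, 3, 6, 7, 8],
    [1, 2, 6, 7],
    [1, 2, 4, 5, 8],
    [1, 2, 3, 4, 7, 8, 9],
    [0, 2, 3, 5, 9],
    [1, 2, 3, 5, 6, 8, 9],
    [1, 4, 7],
    [0, 5, 8, 9],
    [0, 2, 3, 4, 6, 7, 8],
    [1, 5, 6],
    [0, 4, 6, 7],
    [0, 1, 3, 4, 5, 8],
    [3, 4, 7],
    [0, 1, 2, 6, 7, 8],
    [0, 1, 3, 6, 7],
    [0, 1, 2, 4, 5],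
    [2, 5, 6, 8],
    [2, 4, 7, 8],
    [3, 5, 6],
    [2, 6],
    [3, 6],
    [0, 1, 2, 4, 7, 8],
    [0, 1, 3, 4, 7],
    [3, 4, 5, 7, 8],
    [2, 4, 5, 7, 8],
    [0, 1, 3, 5, 6],
    [0, 1, 2, 5, 6, 8],
    [0, 2],
    [1, 2, 5],
    [1, 2, 4, 6, 7, 8, 9],
    [0, 3, 4, 5, 6, 7],
    [1, 3, 4, 6, 7],
    [1, 3, 5, 8, 9],
    [0, 2, 4, 5, 6, 7, 9],
    [0, 3, 9],
    [0, 2, 3, 5, 6, 7, 8],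
    [1, 5, 8],
    [0, 4, 8, 9],
    [0, 5, 6, 7, 8, 9],
    [1, 4, 6, 7, 9],
    [1, 2, 3, 5],
    [1, 2, 3, 4, 6, 7, 8, 9],
    [0, 2, 3, 4, 8],
    [0, 1, 2, 3, 6, 9],
    [4, 5, 6, 7, 9],
    [2, 3, 4, 5, 6, 7, 9],
    [0, 1, 6],
    [0, 1, 2, 3, 4, 5, 7, 8, 9],
    [0, 1, 4, 5, 7, 8],
    [2, 3],
    [],
    [0, 2, 3, 6, 7, 9],
    [0, 4, 5],
    [1, 2, 3, 7],
    [1, 2, 3, 4, 5, 6, 9],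
    [0, 2, 3, 4, 5, 8, 9],
    [1, 7, 8],
    [1, 4, 5, 6, 8, 9],
    [0, 6, 7, 8],
    [1, 2, 3, 4, 7],
    [1, 5, 6, 8, 9],
    [0, 2, 3, 4, 6, 7],
    [1, 2, 3, 5, 6],
    [0, 5, 9],
    [0, 4, 6, 7, 8],
    [0, 2, 3, 5, 8, 9],
    [1, 4, 7, 8, 9],
    [3, 6, 7],
    [2, 4, 5],
    [2, 6, 7, 8],
    [3, 4, 5, 8],
    [0, 1, 3, 4],
    [0, 1, 3, 5, 6, 7],
    [0, 1, 2, 5, 6, 7],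
    [0, 1, 2, 4],
    [2, 7],
    [0, 1, 2, 5, 8],
    [3, 4, 5, 6, 8],
    [0, 1, 3, 5, 9],
    [0, 1, 2, 4, 6, 7, 9],
    [2, 4, 5, 6, 9],
    [3, 7, 8, 9],
    [0, 1, 3, 4, 6, 7, 8],
    [3, 5, 6, 7, 8, 9],
    [2, 5, 6, 7, 8, 9],
    [0, 1, 3, 4, 5, 7, 9],
    [0, 1, 2, 6, 8, 9],
    [0, 1, 3, 6, 8, 9],
    [3, 4, 8, 9],
    [0, 1, 2, 4, 5, 7, 9],
    [2, 4, 8, 9],
    [1, 4, 5, 8],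
    [0, 8, 9],
    [0, 4, 5, 6, 7, 8],
    [1, 6, 7],
    [1, 2, 3, 6, 7, 8, 9],
    [0, 2, 3, 4, 5, 6, 7, 8],
    [0, 2, 3, 8, 9],
    [1, 2, 3, 4, 5, 9],
    [1, 5, 8, 9],
    [1, 4, 6, 7],
    [1, 2, 3, 4, 6, 7, 8],
    [0, 5, 6, 7, 8],
    [1, 2, 3, 5, 9],
    [0, 2, 3, 4, 8, 9],
    [0, 4, 8],
    [0, 2, 3, 5, 6, 7, 8, 9],
    [0, 3, 6, 8, 9],
    [1, 3, 4, 8],
    [1, 2, 4, 8],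
    [1, 3, 5, 6, 7, 8],
    [1, 2, 5, 6, 7, 8],
    [0, 2, 4, 5, 7, 9],
    [0, 2, 6, 8, 9],
    [0, 3, 4, 5, 7, 9],
    [0, 4, 6, 7, 9],
    [1, 2, 3, 5, 6, 8],
    [0, 2, 3, 4, 6, 7, 8, 9],
    [1, 4, 7, 9],
    [0, 5, 8],
    [1, 5, 6, 9],
    [0, 2, 3, 5],
    [1, 2, 3, 4, 7, 8],
    [0, 7, 8],
    [0, 4, 5, 6, 8, 9],
    [0, 2, 3, 4, 5, 6, 9],
    [1, 6],
    [1, 4, 5, 7, 8],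
    [0, 2, 3, 7],
    [1, 2, 3, 4, 5, 7, 8, 9],
    [1, 2, 3, 6, 9],
    [0, 1, 2, 9],
    [0, 1, 2, 4, 5, 6, 7],
    [0, 1, 3, 4, 5, 6, 7, 9],
    [2, 4, 6, 7, 8, 9],
    [0, 1, 3],
    [2, 5],
    [3, 4, 6, 7],
    [3, 5, 8, 9],
    [0, 1, 3, 4, 5, 6, 7, 8, 9],
    [0, 1, 2, 8, 9],
    [0, 1, 3, 8],
    [0, 1, 2, 4, 5, 6, 7, 8],
    [3, 5],
    [2, 5, 8, 9],
    [3, 4, 6, 7, 8, 9],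
    [2, 4, 6, 7],
    [0, 2, 5, 8, 9],
    [1, 2, 4, 5, 6, 9],
    [0, 2, 4, 6, 7],
    [0, 3, 4, 6, 7, 8, 9],
    [1, 3, 7, 8, 9],
    [0, 3, 5],
    [1, 2, 7],
    [1, 3, 4, 5, 6, 8],
    [0, 1, 3, 4, 6, 7],
    [0, 1, 2, 4, 6, 7, 8, 9],
    [2, 4, 5, 6, 8],
    [3, 7],
    [3, 4, 5, 6, 9],
    [2, 7, 8, 9],
    [0, 1, 2, 5],
    [0, 1, 3, 5, 8, 9],
    [1, 4, 6, 8],
    [0, 2, 3, 4, 7, 8, 9],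
    [1, 2, 3, 4, 6, 8],
    [1, 2, 3, 5, 7, 9],
    [0, 4, 7],
    [0, 2, 3, 5, 6, 8, 9],
    [0, 5, 6],
    [1, 5, 7, 9],
    [0, 2, 3, 4, 5, 7, 8],
    [0, 2, 3, 6],
    [1, 2, 3],
    [1, 2, 3, 4, 5, 6, 7, 9],
    [1],
    [0, 4, 5, 7, 8, 9],
    [0, 6, 9],
    [1, 4, 5, 6, 7, 9],
    [1, 5, 9],
    [0, 2, 3, 5, 6, 7],
    [1, 2, 3, 5, 8, 9],
    [1, 2, 3, 4, 6, 7],
    [0, 2, 3, 4],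
    [0, 5, 6, 7, 9],
    [0, 4, 9],
    [1, 4, 6, 7, 8],
    [2, 3, 6, 8, 9],
    [2, 3, 4, 5, 7, 9],
    [4, 5, 7],
    [0, 1, 2, 3, 7, 8],
    [0, 1, 2, 3, 4, 5, 6, 8, 9],
    [0, 1, 7],
    [6, 8],
    [0, 1, 4, 5, 6, 9],
    [0, 2, 3, 4, 6],
    [1, 2, 3, 4, 9],
    [0, 2, 3, 5, 7, 8, 9],
    [0, 5, 7, 8, 9],
    [0, 4, 6],
    [1, 4],
    [1, 5, 6, 7],
    [1, 2, 3, 5, 6, 7, 9],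
    [0, 1, 2, 7, 8],
    [0, 1, 3, 7, 9],
    [2, 5, 7, 8, 9],
    [0, 1, 2, 4, 5, 6, 8, 9],
    [3, 4, 6, 9],
    [0, 1, 3, 4, 5, 6],
    [3, 5, 7, 8],
    [2, 4, 6],
    [0, 1, 4, 5, 6],
    [6, 8, 9],
    [0, 1, 7, 9],
    [4, 5, 7, 9],
    [0, 1, 2, 3, 7, 8, 9],
    [2, 3, 4, 5, 7],
    [2, 3, 6, 8],
    [0, 1, 2, 3, 4, 5, 6, 8],
    [0, 3, 5, 6, 8],
    [0, 2, 5, 6],
    [1, 2, 4, 5, 7],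
    [1, 3, 6, 8],
    [0, 2, 4, 7],
    [0, 3, 4, 7, 8],
    [1, 3, 4, 5, 7],
    [1, 2, 6, 8],
    [1, 5, 7, 8, 9],
    [1, 4, 6],
    [0, 4, 7, 8, 9],
    [1, 2, 3, 4, 6],
    [0, 5, 6, 8, 9],
    [1, 2, 3, 5, 7, 8, 9],
    [0, 2, 3, 5, 6],
    [0, 2, 3, 4, 7],
    [0, 2, 3, 4, 7, 9],
    [1, 2, 3, 5, 7, 8],
    [0, 5, 6, 8],
    [0, 4, 7, 8],
    [1, 4, 6, 9],
    [0, 2, 3, 5, 6, 9],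
    [1, 2, 3, 4, 6, 9],
    [1, 5, 7, 8],
    [0, 1, 2, 3, 4, 5, 7, 9],
    [2, 3, 8, 9],
    [8, 9],
    [2, 3, 4, 5, 6, 7, 8],
    [0, 1, 6, 8],
    [0, 1, 2, 3, 6, 8, 9],
    [0, 1, 4, 5, 7],
    [4, 5, 6, 7, 8],
    [0, 1, 3, 6],
    [0, 1, 2, 4, 5, 7, 8],
    [2, 4, 9],
    [3, 5, 6, 7, 9],
    [3, 4, 9],
    [0, 1, 2, 6],
    [0, 1, 3, 4, 5, 7, 8],
    [2, 5, 6, 7, 9],
    [0, 3, 4],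
    [0, 3, 5, 6, 7],
    [0, 2, 4],
    [0, 2, 5, 6, 7],
    [1, 3, 4, 5, 8, 9],
    [1, 2, 6, 7, 8, 9],
    [1, 3, 6, 7, 9],
    [1, 2, 4, 5, 9],
    [1, 3, 4, 6, 8, 9],
    [1, 2, 4, 6, 8],
    [1, 3, 5, 7],
    [0, 3, 7, 8, 9],
    [0, 2, 4, 5, 6, 9],
    [1, 2, 5, 7, 9],
    [0, 3, 4, 5, 6, 8],
    [0, 2, 7],
    [1, 2, 3, 5, 6, 9],
    [0, 4, 6, 7, 8, 9],
    [1, 4, 7, 8],
    [0, 2, 3, 4, 6, 7, 9],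
    [0, 2, 3, 5, 8],
    [1, 2, 3, 4, 7, 9],
    [1, 5, 6, 8],
    [0, 5],
    [2, 4, 5, 7, 8, 9],
    [3, 4, 5, 7, 8, 9],
    [2, 6, 9],
    [0, 1, 2, 5, 6, 8, 9],
    [3, 6, 9],
    [0, 1, 3, 4, 7, 9],
    [0, 1, 2, 4, 7, 8, 9],
    [0, 1, 3, 5, 6, 9],
    [0, 2, 6, 7, 9],
    [1, 2, 5, 6, 9],
    [1, 3, 4, 7, 8, 9],
    [1, 2, 4, 7, 9],
    [0, 3, 4, 5, 9],
    [1, 3, 5, 6, 8, 9],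
    [0, 3, 6, 7, 8, 9],
    [0, 2, 4, 5, 8, 9],
    [0, 5, 7, 9],
    [1, 5, 6, 7, 8, 9],
    [0, 2, 3, 5, 7, 9],
    [0, 4, 6, 8],
    [1, 4, 8, 9],
    [1, 2, 3, 4, 8],
    [1, 2, 3, 5, 6, 7, 8],
    [0, 2, 3, 4, 6, 8],
    [4, 5, 6, 8],
    [7, 8, 9],
    [2, 3, 4, 5, 6],
    [2, 3, 7, 9],
    [0, 1, 4, 5],
    [0, 1, 2, 3, 4, 5, 8, 9],
    [0, 1, 6, 7, 8],
    [0, 1, 2, 3, 6, 7, 9],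
    [2, 3, 4, 5, 6, 8],
    [2, 3, 7, 8, 9],
    [4, 5, 6],
    [7, 9],
    [0, 1, 2, 3, 6, 7, 8],
    [0, 1, 6, 7, 9],
    [0, 1, 4, 5, 8, 9],
    [0, 1, 2, 3, 4, 5],
    [3, 4, 5],
    [2, 4, 5, 8],
    [3, 6, 7, 8],
    [2, 6, 7],
    [0, 1, 3, 5, 6, 7, 8, 9],
    [0, 1, 2, 4, 8, 9],
    [0, 1, 3, 4, 8, 9],
    [0, 1, 2, 5, 6, 7, 8, 9]]

/-- The certificate. -/
def tab2 : TableCert where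
  P := pc2
  ews := [[8, 0, 2, 6, 5, 4, 2, 1, 3, 5, 1, 4, 2],
    [9, 7, 8, 4, 1, 3, 3, 9, 8, 9, 1, 8],
    [0, 4, 3, 0, 9, 5, 9, 0, 2, 8, 8, 0, 0, 9],
    [9, 1, 1, 5, 3, 1, 1, 0, 0, 1, 7, 0],
    [8, 8, 5, 1, 3, 0, 0, 4, 1, 1, 7, 4, 4, 4, 1],
    [8, 0, 2, 6, 6, 4, 5, 6, 7, 5, 1, 4, 6, 3, 1],
    [3, 7, 4, 6, 8, 8, 9, 7, 9, 2, 1, 1],
    [4, 1, 3, 4, 4, 8, 8, 4, 5, 6, 9, 1, 7],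
    [8, 9, 1, 5, 4, 2, 9, 6, 0, 0, 3, 3],
    [6, 0, 6, 5, 9, 5, 6, 9, 3, 9, 5, 8, 0]]
  gws := [[9, 1, 3, 1, 8, 8, 5, 9, 3, 5, 3, 0, 0, 6],
    [9, 5, 6, 4, 5, 5, 1, 4, 3, 0, 0, 0, 0],
    [5, 4, 6, 6, 2, 1, 0, 4, 0, 6, 5, 8, 6],
    [1, 1, 8, 1, 0, 6, 7, 9, 0, 6, 0, 3, 6],
    [1, 1, 5, 9, 1, 3, 9, 1, 8, 6, 6, 6, 9]]
  C := [(0, [0, 1, 2, 3, 5, 6, 7, 9], [2, 5, 9]),
    (0, [4], [3, 4, 6, 8, 9]),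
    (0, [0, 1, 4, 6, 7, 8], [2, 4, 6, 9]),
    (0, [0, 1, 4, 6, 7, 9], [3, 4, 8]),
    (1, [3, 4, 8], [1, 2, 6, 7, 8]),
    (1, [2, 4, 9], [1, 9]),
    (2, [1, 6, 7, 8, 9], [2, 9]),
    (2, [0, 1, 5, 8], [4, 5, 6, 7, 8]),
    (2, [4, 7, 9], [2, 3, 4, 5, 6, 7, 8]),
    (3, [4, 5, 6, 9], [2, 6, 7, 8]),
    (3, [2, 3, 4, 5, 6, 8], [2, 4, 5, 7, 8]),
    (3, [2, 6, 7, 9], [2, 3, 8, 9]),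
    (4, [1, 2, 6, 8, 9], [0, 4, 5, 6, 8, 9]),
    (4, [1, 2, 4, 6, 7, 9], [0, 5, 6, 7])]
  K :=
    { eqns := [.cons [2, 1, 0] 0 1,
      .cons [3, 1, 0] 0 1,
      .cons [3, 2, 0] 0 1,
      .cons [3, 2, 1] 0 1,
      .cons [4, 1, 0] 0 1,
      .cons [4, 2, 0] 0 1,
      .cons [4, 2, 1] 0 1,
      .cons [4, 3, 0] 0 1,
      .cons [4, 3, 1] 0 1,
      .cons [4, 3, 2] 0 1,
      .cons [5, 1, 0] 0 1,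
      .cons [5, 2, 0] 0 1,
      .cons [5, 2, 1] 0 1,
      .cons [5, 3, 0] 0 1,
      .cons [5, 3, 1] 0 1,
      .cons [5, 3, 2] 0 1,
      .cons [5, 4, 1] 0 1,
      .cons [5, 4, 3] 0 1,
      .cons [6, 1, 0] 0 1,
      .cons [6, 2, 0] 0 1,
      .cons [6, 2, 1] 0 1,
      .cons [6, 3, 0] 0 1,
      .cons [6, 4, 0] 0 1,
      .cons [6, 5, 0] 0 1,
      .cons [6, 5, 1] 0 1,
      .cons [6, 5, 2] 0 1,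
      .cons [6, 5, 3] 0 1,
      .cons [7, 3, 0] 0 1,
      .cons [7, 3, 1] 0 1,
      .cons [7, 5, 3] 0 1,
      .cons [7, 6, 3] 0 1,
      .cons [2, 2, 0] 0 1,
      .cons [2, 0, 0] 0 1,
      .cons [3, 3, 0] 0 1,
      .cons [3, 0, 0] 0 1,
      .cons [3, 3, 1] 0 1,
      .cons [3, 1, 1] 0 1,
      .cons [5, 5, 1] 0 1,
      .fus [0, 1, 2, 3] [1, 0] [0, 1],
      .fus [0, 1, 2, 3] [2, 2] [],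
      .fus [0, 1, 2, 3] [3, 3] [1, 1],
      .fus [0, 1, 2, 3] [0, 2, 0] [2],
      .fus [0, 1, 2, 3] [1, 2, 1] [2],
      .fus [0, 1, 2, 3] [1, 3, 1] [3],
      .fus [0, 1, 2, 3] [2, 0, 0] [0, 0, 2],
      .fus [4, 5] [1, 0] [0, 1],
      .fus [6, 7, 8] [0, 1, 0] [1],
      .fus [9, 10, 11] [2, 1] [1, 2],
      .fus [12, 13] [0, 0] []]
      free := 55
      combo := [[1, 2, 6, 11, 12, 15, 16, 17, 18, 19, 20, 21, 22, 23, 26, 30, 33, 34, 35, 37, 39, 44, 46, 47],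
    [1, 2, 3, 6, 7, 8, 10, 12, 13, 19, 21, 24, 28, 31, 32, 35, 38, 39, 40, 41, 42, 45, 48],
    [1, 2, 3, 4, 5, 6, 8, 13, 14, 15, 18, 22, 25, 27, 28, 29, 30, 32, 34, 36, 37, 38, 40, 45, 46, 47, 48],
    [],
    [0, 1, 2, 3, 4, 7, 9, 11, 12, 15, 17, 19, 20, 22, 27, 28, 32, 34, 35, 37, 38, 40, 41, 42, 45],
    [1, 3, 6, 12, 13, 15, 18, 20, 22, 23, 24, 25, 26, 30, 33, 34, 35, 36, 37, 38, 39, 40, 42, 43, 44],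
    [],
    [],
    [0, 1, 3, 4, 7, 9, 11, 14, 15, 16, 17, 18, 20, 21, 26, 27, 28, 31, 32, 33, 34, 35, 36, 37, 42, 43, 44, 47],
    [0, 2, 4, 6, 7, 9, 11, 12, 13, 15, 24, 26, 27, 32, 33, 38, 40, 41, 44, 47],
    [0, 2, 13, 14, 16, 21, 23, 25, 28, 29, 31, 33, 35, 40, 41, 42, 44],
    [0, 4, 5, 6, 8, 12, 15, 19, 20, 22],
    [0, 2, 4, 5, 6, 12, 13, 14, 15, 16, 21, 23, 25, 28, 29, 32, 33, 35, 40, 41, 42, 44],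
    [1, 2, 4, 5, 6, 7, 11, 13, 15, 17, 18, 19, 22, 23, 26, 27, 29, 31, 34, 36, 37, 40, 41, 42, 47],
    [0, 2, 4, 6, 7, 9, 11, 12, 13, 14, 15, 16, 20, 21, 24, 25, 27, 29, 30, 31, 32, 33, 35, 40, 41, 42, 44],
    [0, 4, 8, 14, 19, 23, 26, 27, 28, 30, 31, 32, 33, 34, 38, 42, 43],
    [],
    [1, 4, 6, 8, 9, 11, 12, 13, 17, 18, 20, 23, 26, 27, 29, 31, 34, 36, 37, 40, 41, 42, 47],
    [0, 4, 12, 14, 16, 17, 23, 25, 27, 28, 29, 31, 32, 38, 42, 43],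
    [11],
    [0, 4, 5, 7, 8, 11, 13, 19, 20, 21, 23, 26, 31, 32, 33, 38, 42, 43],
    [1, 4, 6, 7, 9, 11, 14, 15, 16, 17, 22, 23, 25, 27, 28, 30],
    [0, 1, 2, 4, 5, 15, 18, 25, 27, 28, 32, 34, 35, 37, 38, 40, 41, 43],
    [3, 6, 9],
    [0, 1, 2, 5, 6, 8, 9, 12, 18, 19, 22, 25, 27, 28, 32, 34, 36, 37, 38, 40, 41, 43],
    [8],
    [4, 6, 7, 9, 11, 14, 15, 16, 17, 22, 25, 28, 30],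
    [0, 1, 2, 4, 5, 7, 8, 11, 12, 18, 19, 22, 23, 24, 25, 30, 32, 34, 35, 36, 37, 38, 40, 41, 43],
    [10],
    [5, 8, 12, 16, 17, 18, 19, 20, 23, 24, 25, 27, 28, 30],
    [8, 16, 17, 19, 25],
    [],
    [16],
    [13, 27],
    [4, 6, 7, 9, 11, 15, 16, 17, 22, 25, 28, 30],
    [4, 6, 7, 9, 11, 13, 15, 25, 27, 37],
    [13, 23, 27, 29],
    [],
    [25],
    [4, 6, 8, 9, 12, 16, 17, 19, 25, 26, 30],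
    [17],
    [23, 27, 29],
    [7, 8, 11, 12, 16, 17, 19, 25, 30],
    [23, 27],
    [5, 7, 8, 11, 12, 13, 14, 16, 17, 19, 20, 21, 23, 25, 26, 28],
    [5, 8, 12, 15, 19, 20, 22],
    [4],
    [8, 12, 15, 19, 20, 22],
    [4, 6, 9],
    [4, 6],
    [4, 6, 7, 9, 11],
    [8, 12, 15, 19, 22],
    [4, 6, 7, 8, 9, 11, 12, 16, 17, 19, 25],
    [4, 6, 7, 9, 11, 15, 25],
    [4, 6, 7, 8, 9, 11, 12, 15, 19, 22, 23, 24, 27, 28, 30]] }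
  els := els2

theorem tab2_rel : tab2.chkRelW 10 co3M.eqb = true := by decide +kernel

theorem tab2_card : tab2.chkCardW (co3M.code [529, 357]) = true := by decide +kernel

theorem tab2_tails : tab2.K.check tab2.P tab2.C = true := by decide +kernel

theorem sylow2 : Nonempty (SylowCert Model.S48 2) := by
  have : Finite Model.S48 := Nat.finite_of_card_ne_zero (by rw [Model.card_S48]; norm_num)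
  exact TableCert.sylowCertW co3M_ok.eqb_sound (co3M_ok.code_sound (by decide +kernel) [529, 357]) Model.card_S48 rfl
    (by decide) tab2_rel tab2_card tab2_tails (le_of_eq rfl) (by decide +kernel)

end Cfsg.Agent.Spor.Leech.Tails
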