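import Cfsg.Agent.Lib.Spor.Leech.TailModelData

/-! A Sylow 23-subgroup of the stabiliser of a vector of norm 48, with equations killing the tails. -/

set_option autoImplicit false
set_option maxRecDepth 100000
set_option maxHeartbeats 8000000

open Cfsg.Agent.Grp.SchurM.Tails

namespace Cfsg.Agent.Spor.Leech.Tails

/-- Presentation of the Sylow 23-subgroup. -/
def pc23 : PC where
  p := 23
  n := 1
  rhs := [[]]
  defs := []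

/-- Elements of the Sylow 23-subgroup. -/
def els23 : List (List ℕ) :=
   [[0, 0, 0, 0, 0],
    [0, 0, 0, 0, 0, 0, 0, 0, 0, 0, 0, 0, 0, 0, 0, 0, 0, 0, 0],
    [0, 0, 0, 0, 0, 0, 0, 0, 0, 0, 0, 0, 0, 0, 0, 0],
    [0, 0, 0, 0, 0, 0, 0, 0, 0, 0, 0, 0, 0, 0, 0, 0, 0, 0, 0, 0, 0, 0],
    [0],
    [0, 0, 0, 0, 0, 0, 0],
    [0, 0, 0, 0, 0, 0, 0, 0, 0, 0, 0, 0, 0, 0, 0, 0, 0, 0, 0, 0, 0],
    [0, 0],
    [0, 0, 0, 0, 0, 0, 0, 0],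
    [0, 0, 0, 0, 0, 0, 0, 0, 0, 0, 0],
    [0, 0, 0, 0],
    [0, 0, 0, 0, 0, 0, 0, 0, 0, 0],
    [0, 0, 0, 0, 0, 0, 0, 0, 0],
    [0, 0, 0, 0, 0, 0, 0, 0, 0, 0, 0, 0, 0],
    [0, 0, 0, 0, 0, 0, 0, 0, 0, 0, 0, 0],
    [0, 0, 0, 0, 0, 0, 0, 0, 0, 0, 0, 0, 0, 0, 0, 0, 0, 0],
    [0, 0, 0, 0, 0, 0, 0, 0, 0, 0, 0, 0, 0, 0],
    [0, 0, 0, 0, 0, 0, 0, 0, 0, 0, 0, 0, 0, 0, 0, 0, 0],
    [0, 0, 0],
    [0, 0, 0, 0, 0, 0, 0, 0, 0, 0, 0, 0, 0, 0, 0],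
    [0, 0, 0, 0, 0, 0, 0, 0, 0, 0, 0, 0, 0, 0, 0, 0, 0, 0, 0, 0],
    [],
    [0, 0, 0, 0, 0, 0]]

/-- The certificate. -/
def tab23 : TableCert where
  P := pc23
  ews := [[8, 2, 9, 2, 0, 6, 7, 4, 2, 9, 0, 2]]
  gws := [[2, 3, 3, 9, 0, 4, 0, 6, 6, 8, 4, 1, 0]]
  C := [(0, [0, 0, 0, 0, 0, 0, 0, 0, 0, 0], [0, 0, 0, 0, 0, 0, 0])]
  K :=
    { eqns := [.fus [0] [0, 0, 0, 0, 0, 0, 0, 0, 0, 0, 0, 0, 0, 0, 0, 0, 0, 0, 0, 0, 0, 0, 0] []]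
      free := 1
      combo := [[0, 0, 0, 0, 0, 0, 0, 0]] }
  els := els23

theorem tab23_rel : tab23.chkRelW 10 co3M.eqb = true := by decide +kernel

theorem tab23_card : tab23.chkCardW (co3M.code [529]) = true := by decide +kernel

theorem tab23_tails : tab23.K.check tab23.P tab23.C = true := by decide +kernel

theorem sylow23 : Nonempty (SylowCert Model.S48 23) := by
  have : Finite Model.S48 := Nat.finite_of_card_ne_zero (by rw [Model.card_S48]; norm_num)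
  exact TableCert.sylowCertW co3M_ok.eqb_sound (co3M_ok.code_sound (by decide +kernel) [529]) Model.card_S48 rfl
    (by decide) tab23_rel tab23_card tab23_tails (le_of_eq rfl) (by decide +kernel)

end Cfsg.Agent.Spor.Leech.Tails
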