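import Cfsg.Agent.Lib.Spor.Leech.TailModelData

/-! A Sylow 3-subgroup of the stabiliser of a vector of norm 48, with equations killing the tails. -/

set_option autoImplicit false
set_option maxRecDepth 100000
set_option maxHeartbeats 8000000

open Cfsg.Agent.Grp.SchurM.Tails

namespace Cfsg.Agent.Spor.Leech.Tails

/-- Presentation of the Sylow 3-subgroup. -/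
def pc3 : PC where
  p := 3
  n := 7
  rhs := [[],
    [0, 1],
    [],
    [0, 2, 4],
    [1, 2, 4, 4, 5, 6],
    [6],
    [0, 3, 5],
    [1, 3, 4, 5, 6, 6],
    [2, 3, 4, 4, 6],
    [],
    [0, 4],
    [1, 4],
    [2, 4, 6],
    [3, 4],
    [],
    [0, 5],
    [1, 5],
    [2, 5],
    [3, 5, 6],
    [4, 5],
    [],
    [0, 6],
    [1, 6],
    [2, 6],
    [3, 6],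
    [4, 6],
    [5, 6],
    []]
  defs := [(4, 2, 0), (5, 3, 0), (6, 4, 2)]

/-- Elements of the Sylow 3-subgroup. -/
def els3 : List (List ℕ) :=
   [[1, 1, 2, 3, 5, 5, 6, 6],
    [0, 1, 3, 5, 5, 6],
    [1, 1, 2, 3, 3, 4, 4, 5, 5],
    [0, 0, 2, 2, 3, 4],
    [0, 0, 2, 2, 4, 4, 6],
    [1, 1, 2, 4, 5, 5, 6],
    [0, 1, 3, 3, 4, 4, 5, 5, 6, 6],
    [0, 0, 2, 2, 3, 3, 6, 6],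
    [0, 1, 4, 5, 5],
    [0, 0, 1, 3, 5, 6, 6],
    [0, 1, 1, 2, 3, 3, 4, 4, 5],
    [0, 1, 1, 2, 3, 5],
    [2, 2, 3, 4, 5, 5, 6],
    [0, 0, 1, 4, 5, 6, 6],
    [0, 0, 1, 3, 3, 4, 4, 5, 6, 6],
    [0, 1, 1, 2, 4, 5],
    [2, 2, 3, 3, 5, 5, 6, 6],
    [2, 2, 4, 4, 5, 5],
    [0, 0, 2, 2, 3, 3, 5, 6],
    [1, 1, 2, 3],
    [1, 1, 2, 3, 3, 4, 4, 6, 6],
    [0, 1, 4],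
    [0, 0, 2, 2, 4, 4, 5, 6],
    [0, 1, 3, 3, 4, 4, 6],
    [1, 1, 2, 4, 6],
    [0, 0, 2, 2, 3, 4, 5, 6],
    [0, 1, 3, 6, 6],
    [0, 1, 3, 3, 5, 5, 6, 6],
    [1, 1, 2, 4, 4, 5, 5, 6, 6],
    [0, 1, 4, 4, 5, 5],
    [0, 0, 2, 2, 3, 3, 4, 6],
    [0, 1, 3, 4, 5, 5, 6],
    [1, 1, 2, 3, 4, 5, 5],
    [1, 1, 2, 3, 3, 5, 5, 6],
    [0, 0, 2, 2, 3, 4, 4, 6, 6],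
    [0, 0, 2, 2],
    [1, 1, 2, 3, 3, 5, 6, 6],
    [0, 0, 2, 2, 3, 3, 4, 5, 5, 6, 6],
    [0, 0, 2, 2, 3, 4, 4, 5, 5, 6],
    [0, 1, 3, 3, 5],
    [0, 1, 4, 4, 5],
    [1, 1, 2, 3, 4, 5, 6, 6],
    [1, 1, 2, 4, 4, 5, 6, 6],
    [0, 0, 2, 2, 5, 5],
    [0, 1, 3, 4, 5],
    [0, 0, 1, 1, 2, 3, 3, 5],
    [1, 3, 3, 5, 6],
    [0, 2, 2, 3, 3, 4, 5, 5],
    [1, 3, 4, 5, 6],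
    [0, 0, 1, 1, 2, 4, 4, 5],
    [0, 2, 2, 3, 4, 4, 5, 5, 6, 6],
    [0, 0, 1, 1, 2, 3, 4, 5],
    [0, 2, 2, 5, 5, 6],
    [1, 4, 4, 5, 6],
    [0, 1, 1, 2, 3, 4, 5, 5, 6, 6],
    [0, 1, 1, 2, 3, 3, 5, 5],
    [0, 0, 1, 4, 4, 5, 5, 6, 6],
    [2, 2, 3, 3, 4],
    [0, 1, 1, 2, 4, 4, 5, 5, 6],
    [2, 2, 6, 6],
    [0, 0, 1, 3, 3, 5, 5, 6],
    [2, 2, 3, 4, 4, 6],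
    [0, 0, 1, 3, 4, 5, 5],
    [0, 1, 1, 2, 3, 3, 4, 4, 5, 5, 6, 6],
    [2, 2, 4, 4],
    [0, 1, 1, 2, 3, 5, 5, 6],
    [0, 0, 1, 3, 3, 4, 4, 5, 5, 6],
    [0, 0, 1, 4, 5, 5, 6, 6],
    [0, 1, 1, 2, 4, 5, 5],
    [2, 2, 3, 3, 6],
    [0, 0, 1, 3, 5, 5],
    [2, 2, 3, 4, 6, 6],
    [0, 1, 1, 2, 3, 4, 4, 5, 6, 6],
    [0, 0, 1, 5, 6, 6],
    [0, 0, 1, 3, 3, 4, 5, 6, 6],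
    [0, 0, 1, 3, 4, 4, 5, 6, 6],
    [0, 1, 1, 2, 5, 6, 6],
    [2, 2, 4, 5, 5, 6],
    [2, 2, 3, 3, 4, 4, 5, 5],
    [0, 1, 1, 2, 3, 3, 4, 5, 6, 6],
    [2, 2, 3, 5, 5, 6, 6],
    [0, 1, 1, 3, 3, 4],
    [2, 3, 3, 4],
    [2, 6, 6],
    [0, 0, 1, 2, 2, 3, 5, 6],
    [0, 1, 1, 6, 6],
    [2, 3, 4, 4, 6],
    [0, 0, 1, 2, 2, 3, 3, 4, 4, 5, 6],
    [0, 1, 1, 3, 4, 4, 6],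
    [0, 0, 1, 2, 2, 4, 5, 6],
    [1, 1, 2, 6],
    [1, 1, 2, 3, 4, 4],
    [0, 0, 2, 2, 3, 3, 4, 4, 5],
    [0, 0, 2, 2, 4, 5],
    [0, 0, 2, 2, 3, 5],
    [0, 1, 3, 4, 4],
    [0, 1, 6],
    [1, 1, 2, 3, 3, 4, 6, 6],
    [0, 1, 3, 3, 4, 6, 6],
    [2, 5, 5, 6],
    [0, 0, 1, 2, 2, 3, 6, 6],
    [0, 1, 1, 3, 4, 4, 5, 5, 6, 6],
    [0, 0, 1, 2, 2, 4],
    [2, 3, 4, 4, 5, 5, 6, 6],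
    [2, 3, 3, 4, 5, 5],
    [0, 1, 1, 3, 3, 4, 5, 5],
    [0, 0, 1, 2, 2, 3, 3, 4, 4, 6],
    [0, 1, 1, 5, 5, 6],
    [0, 2, 3, 3, 6],
    [0, 2, 3, 4, 6, 6],
    [1, 2, 2, 5, 6],
    [0, 0, 1, 1, 4, 4, 6],
    [0, 2, 4, 4],
    [1, 2, 2, 3, 3, 4, 5, 6],
    [0, 0, 1, 1, 3, 4],
    [0, 0, 1, 1, 3, 3, 6, 6],
    [1, 2, 2, 3, 4, 4, 5, 6],
    [2, 3, 4],
    [0, 1, 1, 4, 4, 6, 6],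
    [2, 4, 4, 6],
    [0, 1, 1, 3, 4, 6],
    [0, 0, 1, 2, 2, 3, 3, 4, 5, 6, 6],
    [0, 0, 1, 2, 2, 3, 4, 4, 5, 6, 6],
    [0, 1, 1, 3, 3],
    [2, 3, 3, 6, 6],
    [0, 0, 1, 2, 2, 5, 6, 6],
    [1, 2, 2, 3, 4, 5, 5, 6, 6],
    [0, 0, 1, 1, 3, 5],
    [0, 2, 3, 3, 4, 4, 5, 6],
    [0, 2, 4, 5, 6],
    [0, 2, 3, 5, 6],
    [0, 0, 1, 1, 3, 3, 4, 4, 5],
    [1, 2, 2, 3, 3, 5, 5],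
    [1, 2, 2, 4, 4, 5, 5, 6],
    [0, 0, 1, 1, 4, 5],
    [0, 0, 1, 1, 3, 6],
    [1, 2, 2, 4, 4, 5],
    [1, 2, 2, 3, 4, 5],
    [0, 2, 3, 6, 6],
    [1, 2, 2, 3, 3, 5],
    [0, 2, 4],
    [0, 0, 1, 1, 4, 6, 6],
    [0, 2, 3, 3, 4, 4, 6],
    [0, 0, 1, 1, 3, 3, 4, 4],
    [0, 0, 1, 2, 2, 3, 3, 6, 6],
    [2, 3, 3, 4, 4, 5, 5],
    [0, 1, 1, 3, 5, 5, 6],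
    [2, 4, 5, 5, 6],
    [0, 1, 1, 4, 5, 5],
    [0, 0, 1, 2, 2, 4, 4, 6],
    [0, 0, 1, 2, 2, 3, 4],
    [2, 3, 5, 5, 6, 6],
    [0, 1, 1, 3, 3, 4, 4, 5, 5, 6, 6],
    [0, 1, 2, 2, 3, 5, 5],
    [1, 1, 3, 3, 4, 5],
    [0, 0, 2, 3, 4, 4, 5],
    [0, 0, 2, 5],
    [0, 0, 2, 3, 3, 4, 5],
    [1, 1, 5],
    [0, 1, 2, 2, 3, 3, 4, 4, 5, 5, 6],
    [1, 1, 3, 4, 4, 5],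
    [0, 1, 2, 2, 4, 5, 5, 6, 6],
    [0, 0, 1, 1, 3, 3, 4, 5, 5],
    [0, 2, 3, 4, 4, 5, 5, 6, 6],
    [1, 2, 2, 3, 3, 4, 4, 6],
    [0, 2, 5, 5, 6],
    [0, 2, 3, 3, 4, 5, 5],
    [1, 2, 2, 3, 6, 6],
    [1, 2, 2, 4],
    [0, 0, 1, 1, 5, 5, 6],
    [0, 0, 1, 1, 3, 4, 4, 5, 5, 6, 6],
    [0, 0, 1, 1, 2, 5, 5],
    [0, 2, 2, 3, 6],
    [1, 3, 3, 4, 5, 5, 6, 6],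
    [0, 0, 1, 1, 2, 3, 4, 4, 5, 5, 6],
    [0, 0, 1, 1, 2, 3, 3, 4, 5, 5, 6, 6],
    [0, 2, 2, 3, 3, 4, 4],
    [1, 5, 5],
    [1, 3, 4, 4, 5, 5, 6],
    [0, 2, 2, 4, 6, 6],
    [0, 0, 1, 2, 2, 3, 3, 4, 6],
    [2, 4, 4, 5, 5, 6, 6],
    [2, 3, 3, 5, 5, 6],
    [0, 0, 1, 2, 2],
    [0, 1, 1, 3, 4, 5, 5, 6],
    [0, 1, 1, 3, 3, 5, 5, 6, 6],
    [0, 0, 1, 2, 2, 3, 4, 4, 6, 6],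
    [2, 3, 4, 5, 5],
    [0, 1, 1, 4, 4, 5, 5],
    [1, 1, 4, 4],
    [0, 1, 2, 2, 3, 3, 4, 5],
    [0, 0, 2, 3, 3],
    [0, 1, 2, 2, 5],
    [0, 1, 2, 2, 3, 4, 4, 5],
    [0, 0, 2, 4, 4, 6, 6],
    [0, 0, 2, 3, 4, 6],
    [1, 1, 3, 3, 6],
    [1, 1, 3, 4, 6, 6],
    [0, 2, 4, 5, 5, 6],
    [1, 2, 2, 4, 4, 6],
    [0, 2, 3, 3, 4, 4, 5, 5],
    [0, 0, 1, 1, 3, 3, 4, 4, 5, 5, 6, 6],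
    [1, 2, 2, 3, 3, 6, 6],
    [0, 0, 1, 1, 4, 5, 5],
    [1, 2, 2, 3, 4],
    [0, 0, 1, 1, 3, 5, 5, 6],
    [0, 2, 3, 5, 5, 6, 6],
    [0, 2, 2, 5],
    [0, 0, 1, 1, 2, 4, 4, 6, 6],
    [1, 3, 4, 6, 6],
    [0, 0, 1, 1, 2, 3, 3],
    [0, 0, 1, 1, 2, 3, 4, 6],
    [1, 4, 4],
    [0, 2, 2, 3, 3, 4, 5],
    [0, 2, 2, 3, 4, 4, 5],
    [1, 3, 3, 6],
    [1, 4, 5, 6],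
    [0, 0, 1, 1, 2, 3, 3, 4, 4, 5, 6, 6],
    [0, 0, 1, 1, 2, 3, 5, 6, 6],
    [0, 2, 2, 3, 3, 5, 5, 6],
    [0, 0, 1, 1, 2, 4, 5, 6, 6],
    [0, 2, 2, 3, 4, 5, 5],
    [1, 3, 5, 6],
    [1, 3, 3, 4, 4, 5, 6],
    [0, 2, 2, 4, 4, 5, 5, 6, 6],
    [0, 0, 2, 3, 4, 5, 5],
    [0, 1, 2, 2, 3, 3, 4, 6],
    [1, 1, 3, 4, 5, 5, 6],
    [0, 0, 2, 3, 3, 5, 5, 6],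
    [0, 1, 2, 2, 3, 4, 4, 6, 6],
    [0, 1, 2, 2],
    [1, 1, 4, 4, 5, 5],
    [1, 1, 3, 3, 5, 5, 6, 6],
    [0, 0, 2, 4, 4, 5, 5, 6, 6],
    [0, 0, 1, 2, 3, 5, 5, 6],
    [0, 0, 1, 2, 4, 5, 5],
    [3, 3, 4, 4, 5, 5, 6],
    [0, 1, 1, 2, 2, 3, 4, 6, 6],
    [3, 5, 5],
    [0, 1, 1, 2, 2, 3, 3, 6],
    [0, 0, 1, 2, 3, 3, 4, 4, 5, 5, 6, 6],
    [4, 5, 5, 6, 6],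
    [0, 1, 1, 2, 2, 4, 4],
    [2, 2, 3, 5],
    [0, 1, 1, 2, 6],
    [0, 0, 1, 3, 4, 4],
    [0, 0, 1, 3, 3, 4, 6, 6],
    [0, 1, 1, 2, 3, 3, 4, 6, 6],
    [0, 0, 1, 6],
    [0, 1, 1, 2, 3, 4, 4],
    [2, 2, 4, 5],
    [2, 2, 3, 3, 4, 4, 5],
    [1, 3, 4, 5, 5, 6],
    [0, 0, 1, 1, 2, 4, 4, 5, 5, 6, 6],
    [0, 2, 2, 3, 4, 4, 6, 6],
    [1, 3, 3, 5, 5, 6, 6],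
    [1, 4, 4, 5, 5],
    [0, 0, 1, 1, 2, 3, 4, 5, 5],
    [0, 2, 2, 3, 3, 4, 6],
    [0, 2, 2],
    [0, 0, 1, 1, 2, 3, 3, 5, 5, 6],
    [0, 1, 1, 4, 5, 6, 6],
    [2, 3, 5],
    [0, 0, 1, 2, 2, 4, 4, 5, 5],
    [0, 1, 1, 3, 3, 4, 4, 5, 6, 6],
    [0, 0, 1, 2, 2, 3, 3, 5, 5, 6, 6],
    [0, 1, 1, 3, 5, 6, 6],
    [2, 3, 3, 4, 4, 5],
    [2, 4, 5],
    [0, 0, 1, 2, 2, 3, 4, 5, 5, 6],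
    [1, 1, 2, 5, 5, 6, 6],
    [0, 0, 2, 2, 3, 3, 4, 4, 6, 6],
    [0, 1, 3, 4, 4, 5, 5],
    [0, 1, 5, 5, 6, 6],
    [0, 1, 3, 3, 4, 5, 5, 6],
    [1, 1, 2, 3, 3, 4, 5, 5, 6],
    [0, 0, 2, 2, 4, 6],
    [0, 0, 2, 2, 3],
    [1, 1, 2, 3, 4, 4, 5, 5],
    [0, 1, 2, 4],
    [0, 0, 4, 6, 6],
    [1, 1, 2, 2, 3, 3, 5],
    [1, 1, 2, 2, 4, 4, 5],
    [0, 1, 2, 3, 6, 6],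
    [0, 0, 3, 6],
    [1, 1, 2, 2, 3, 4, 5],
    [0, 1, 2, 3, 3, 4, 4, 6],
    [0, 0, 3, 3, 4, 4],
    [0, 0, 1, 1, 3, 3, 4, 6, 6],
    [0, 0, 1, 1, 6],
    [1, 2, 2, 3, 3, 4, 4, 5],
    [0, 2, 3, 3, 4, 6, 6],
    [0, 0, 1, 1, 3, 4, 4],
    [0, 2, 6],
    [1, 2, 2, 3, 5],
    [0, 2, 3, 4, 4],
    [1, 2, 2, 4, 5],
    [0, 2, 2, 3, 3, 6],
    [1, 3, 3, 4, 4, 5, 5, 6],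
    [0, 0, 1, 1, 2, 4, 5, 5],
    [0, 2, 2, 4, 4],
    [0, 2, 2, 3, 4, 6, 6],
    [0, 0, 1, 1, 2, 3, 5, 5, 6],
    [1, 4, 5, 5, 6, 6],
    [0, 0, 1, 1, 2, 3, 3, 4, 4, 5, 5, 6, 6],
    [1, 3, 5, 5],
    [0, 3, 6, 6],
    [1, 2, 4, 6],
    [0, 0, 1, 1, 2, 2, 3, 4, 5, 6],
    [0, 0, 1, 1, 2, 2, 4, 4, 5, 6],
    [1, 2, 3],
    [1, 2, 3, 3, 4, 4, 6, 6],
    [0, 4],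
    [0, 3, 3, 4, 4, 6],
    [0, 0, 1, 1, 2, 2, 3, 3, 5, 6],
    [1, 1, 2, 3, 3, 5, 5],
    [0, 1, 3, 4, 5, 5],
    [1, 1, 2, 3, 4, 5, 5, 6, 6],
    [1, 1, 2, 4, 4, 5, 5, 6],
    [0, 0, 2, 2, 6, 6],
    [0, 0, 2, 2, 3, 4, 4, 6],
    [0, 1, 4, 4, 5, 5, 6, 6],
    [0, 0, 2, 2, 3, 3, 4],
    [0, 1, 3, 3, 5, 5, 6],
    [0, 0, 1, 1, 2, 3, 6],
    [0, 2, 2, 3, 4, 5, 6, 6],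
    [0, 0, 1, 1, 2, 4, 6, 6],
    [0, 2, 2, 4, 4, 5, 6, 6],
    [0, 0, 1, 1, 2, 3, 3, 4, 4],
    [1, 3, 3, 4, 4, 6, 6],
    [1, 4, 6],
    [1, 3],
    [0, 2, 2, 3, 3, 5, 6, 6],
    [2, 3, 3, 5, 6],
    [0, 1, 1, 4, 4, 5, 6, 6],
    [0, 0, 1, 2, 2, 5, 5, 6, 6],
    [2, 3, 4, 5, 6],
    [0, 1, 1, 3, 4, 5, 6, 6],
    [0, 0, 1, 2, 2, 3, 4, 4, 5, 5],
    [0, 1, 1, 3, 3, 5, 6, 6],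
    [2, 4, 4, 5, 6],
    [0, 0, 1, 2, 2, 3, 3, 4, 5, 5, 6],
    [2, 3, 6, 6],
    [0, 1, 1, 3, 3, 4, 4],
    [0, 1, 1, 3, 6],
    [2, 3, 3, 4, 4, 6],
    [0, 0, 1, 2, 2, 4, 4, 5],
    [0, 1, 1, 4, 6, 6],
    [0, 0, 1, 2, 2, 3, 4, 5],
    [2, 4],
    [0, 0, 1, 2, 2, 3, 3, 5],
    [0, 0, 2, 2, 3, 4, 5, 6, 6],
    [0, 1, 3],
    [1, 1, 2, 4, 6, 6],
    [1, 1, 2, 3, 3, 4, 4],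
    [0, 1, 3, 3, 4, 4, 6, 6],
    [1, 1, 2, 3, 6],
    [0, 0, 2, 2, 3, 3, 5, 6, 6],
    [0, 1, 4, 6],
    [0, 0, 2, 2, 4, 4, 5, 6, 6],
    [0, 1, 3, 3, 4, 5, 6, 6],
    [0, 0, 2, 2, 3, 5, 5, 6, 6],
    [1, 1, 2, 5, 6, 6],
    [0, 0, 2, 2, 4, 5, 5, 6],
    [1, 1, 2, 3, 4, 4, 5, 6, 6],
    [1, 1, 2, 3, 3, 4, 5, 6, 6],
    [0, 0, 2, 2, 3, 3, 4, 4, 5, 5],
    [0, 1, 3, 4, 4, 5, 6, 6],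
    [0, 1, 5, 6, 6],
    [0, 0, 1, 2, 2, 3, 3, 4, 4, 6, 6],
    [0, 0, 1, 2, 2, 3],
    [2, 3, 3, 4, 5, 5, 6],
    [2, 3, 4, 4, 5, 5],
    [0, 1, 1, 5, 5, 6, 6],
    [0, 1, 1, 3, 3, 4, 5, 5, 6],
    [0, 0, 1, 2, 2, 4, 6],
    [2, 5, 5, 6, 6],
    [0, 1, 1, 3, 4, 4, 5, 5],
    [0, 0, 2, 2, 5, 6, 6],
    [0, 0, 2, 2, 3, 4, 4, 5, 6, 6],
    [0, 1, 4, 4, 6, 6],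
    [1, 1, 2, 4, 4, 6],
    [0, 0, 2, 2, 3, 3, 4, 5, 6, 6],
    [1, 1, 2, 3, 4],
    [1, 1, 2, 3, 3, 6, 6],
    [0, 1, 3, 4, 6],
    [0, 1, 3, 3],
    [2, 2, 4],
    [2, 2, 3, 6, 6],
    [0, 1, 1, 2, 5, 5, 6],
    [0, 1, 1, 2, 3, 3, 4, 5, 5],
    [2, 2, 3, 3, 4, 4, 6],
    [0, 1, 1, 2, 3, 4, 4, 5, 5, 6, 6],
    [0, 0, 1, 3, 4, 4, 5, 5, 6, 6],
    [0, 0, 1, 3, 3, 4, 5, 5],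
    [0, 0, 1, 5, 5, 6],
    [1, 2, 3, 3, 4, 4, 5, 5, 6],
    [1, 2, 4, 5, 5, 6, 6],
    [1, 2, 3, 5, 5],
    [0, 3, 3, 4, 4, 5, 5],
    [0, 4, 5, 5, 6],
    [0, 0, 1, 1, 2, 2, 3, 3],
    [0, 0, 1, 1, 2, 2, 4, 4, 6, 6],
    [0, 0, 1, 1, 2, 2, 3, 4, 6],
    [0, 3, 5, 5, 6, 6],
    [0, 1, 3, 3, 6],
    [1, 1, 2, 3, 3],
    [1, 1, 2, 3, 4, 6],
    [0, 0, 2, 2, 3, 3, 4, 5],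
    [0, 0, 2, 2, 3, 4, 4, 5],
    [0, 0, 2, 2, 5],
    [0, 1, 4, 4],
    [0, 1, 3, 4, 6, 6],
    [1, 1, 2, 4, 4, 6, 6],
    [1, 1, 2, 3, 5],
    [0, 1, 3, 5, 6, 6],
    [0, 0, 2, 2, 4, 4, 5, 5],
    [0, 0, 2, 2, 3, 4, 5, 5, 6],
    [0, 1, 3, 3, 4, 4, 5, 6, 6],
    [1, 1, 2, 4, 5],
    [0, 1, 4, 5, 6, 6],
    [0, 0, 2, 2, 3, 3, 5, 5, 6, 6],
    [1, 1, 2, 3, 3, 4, 4, 5],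
    [1, 2, 3, 4, 4, 5, 6],
    [0, 0, 1, 1, 2, 2, 3, 5, 5, 6],
    [0, 3, 3, 4, 5, 6],
    [0, 5, 6],
    [0, 0, 1, 1, 2, 2, 3, 3, 4, 4, 5, 5, 6, 6],
    [0, 3, 4, 4, 5, 6],
    [1, 2, 3, 3, 4, 5, 6],
    [1, 2, 5, 6],
    [0, 0, 1, 1, 2, 2, 4, 5, 5],
    [0, 0, 1, 3, 4, 5, 6],
    [2, 2, 3, 4, 4, 5, 5, 6, 6],
    [2, 2, 5, 5, 6],
    [0, 1, 1, 2, 3, 3, 5],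
    [0, 1, 1, 2, 3, 4, 5],
    [0, 0, 1, 4, 4, 5, 6],
    [2, 2, 3, 3, 4, 5, 5],
    [0, 1, 1, 2, 4, 4, 5],
    [0, 0, 1, 3, 3, 5, 6],
    [0, 3, 4, 5],
    [0, 0, 1, 1, 2, 2, 5, 5],
    [0, 0, 1, 1, 2, 2, 3, 4, 4, 5, 5, 6],
    [1, 2, 4, 4, 5, 6, 6],
    [1, 2, 3, 3, 5, 6, 6],
    [0, 3, 3, 5],
    [0, 0, 1, 1, 2, 2, 3, 3, 4, 5, 5, 6, 6],
    [1, 2, 3, 4, 5, 6, 6],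
    [0, 4, 4, 5],
    [0, 1, 4, 5, 5, 6, 6],
    [0, 0, 2, 2, 4, 4],
    [0, 1, 3, 3, 4, 4, 5, 5, 6],
    [0, 1, 3, 5, 5],
    [1, 1, 2, 4, 5, 5],
    [0, 0, 2, 2, 3, 4, 6, 6],
    [1, 1, 2, 3, 3, 4, 4, 5, 5, 6, 6],
    [1, 1, 2, 3, 5, 5, 6],
    [0, 0, 2, 2, 3, 3, 6],
    [0, 1, 2],
    [0, 1, 2, 3, 4, 4, 6, 6],
    [0, 0],
    [0, 1, 2, 3, 3, 4, 6],
    [1, 1, 2, 2, 4, 5, 6, 6],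
    [1, 1, 2, 2, 3, 5, 6, 6],
    [1, 1, 2, 2, 3, 3, 4, 4, 5, 6, 6],
    [0, 0, 3, 3, 4, 6],
    [0, 0, 3, 4, 4, 6, 6],
    [2, 2, 3, 3, 6, 6],
    [2, 2, 3, 4],
    [0, 1, 1, 2, 4, 5, 5, 6],
    [0, 0, 1, 3, 3, 4, 4, 5, 5, 6, 6],
    [0, 1, 1, 2, 3, 5, 5, 6, 6],
    [2, 2, 4, 4, 6],
    [0, 0, 1, 3, 5, 5, 6],
    [0, 1, 1, 2, 3, 3, 4, 4, 5, 5],
    [0, 0, 1, 4, 5, 5],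
    [0, 1, 1, 2, 3, 3, 5, 5, 6, 6],
    [2, 2, 3, 4, 4],
    [2, 2, 6],
    [0, 1, 1, 2, 4, 4, 5, 5],
    [2, 2, 3, 3, 4, 6, 6],
    [0, 0, 1, 3, 4, 5, 5, 6, 6],
    [0, 0, 1, 4, 4, 5, 5, 6],
    [0, 1, 1, 2, 3, 4, 5, 5, 6],
    [0, 0, 1, 3, 3, 5, 5],
    [0, 0, 1, 1, 3, 3, 5, 5],
    [0, 0, 1, 1, 3, 4, 5, 5, 6, 6],
    [1, 2, 2, 3, 3, 4, 6, 6],
    [0, 2, 4, 4, 5, 5],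
    [0, 2, 3, 4, 5, 5, 6],
    [1, 2, 2, 3, 4, 4],
    [0, 2, 3, 3, 5, 5, 6, 6],
    [0, 0, 1, 1, 4, 4, 5, 5, 6],
    [1, 2, 2, 6],
    [2, 2, 3, 6],
    [0, 1, 1, 2, 3, 4, 4, 5, 5, 6],
    [2, 2, 3, 3, 4, 4],
    [0, 1, 1, 2, 5, 5],
    [0, 0, 1, 3, 4, 4, 5, 5, 6],
    [0, 0, 1, 3, 3, 4, 5, 5, 6, 6],
    [0, 1, 1, 2, 3, 3, 4, 5, 5, 6, 6],
    [2, 2, 4, 6, 6],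
    [0, 0, 1, 5, 5],
    [0, 0, 1, 3, 3, 5, 6, 6],
    [0, 1, 1, 2, 4, 4, 5, 6],
    [0, 1, 1, 2, 3, 3, 5, 6],
    [0, 1, 1, 2, 3, 4, 5, 6],
    [2, 2, 3, 4, 4, 5, 5],
    [0, 0, 1, 3, 4, 5, 6, 6],
    [2, 2, 3, 3, 4, 5, 5, 6],
    [0, 0, 1, 4, 4, 5, 6, 6],
    [2, 2, 5, 5, 6, 6],
    [0, 2, 3, 3, 4, 5, 6],
    [1, 2, 2, 3, 5, 5, 6],
    [0, 0, 1, 1, 3, 3, 4, 5, 6],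
    [1, 2, 2, 4, 5, 5],
    [1, 2, 2, 3, 3, 4, 4, 5, 5, 6, 6],
    [0, 2, 5, 6],
    [0, 0, 1, 1, 3, 4, 4, 5, 6],
    [0, 0, 1, 1, 5, 6],
    [0, 2, 3, 4, 4, 5, 6],
    [1, 1, 2, 4, 5, 6, 6],
    [0, 0, 2, 2, 3, 3, 5, 5, 6],
    [1, 1, 2, 3, 3, 4, 4, 5, 6, 6],
    [0, 1, 3, 3, 4, 4, 5, 6],
    [0, 0, 2, 2, 4, 4, 5, 5, 6, 6],
    [0, 0, 2, 2, 3, 4, 5, 5],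
    [0, 1, 4, 5, 6],
    [0, 1, 3, 5, 6],
    [1, 1, 2, 3, 5, 6, 6],
    [0, 0, 1, 1, 4, 6],
    [0, 0, 1, 1, 3, 3, 4, 4, 6, 6],
    [0, 2, 3, 6],
    [0, 2, 3, 3, 4, 4],
    [1, 2, 2, 4, 4, 5, 6, 6],
    [0, 0, 1, 1, 3],
    [0, 2, 4, 6, 6],
    [1, 2, 2, 3, 3, 5, 6, 6],
    [1, 2, 2, 3, 4, 5, 6, 6],
    [0, 1, 1, 2],
    [2, 2, 3, 3, 4, 4, 5, 6, 6],
    [0, 0, 1],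
    [0, 0, 1, 3, 4, 4, 6, 6],
    [2, 2, 4, 5, 6, 6],
    [0, 1, 1, 2, 3, 3, 4, 6],
    [0, 1, 1, 2, 3, 4, 4, 6, 6],
    [2, 2, 3, 5, 6, 6],
    [0, 0, 1, 3, 3, 4, 6],
    [0, 1, 2, 5, 6],
    [0, 0, 3, 3, 4, 5, 6],
    [1, 1, 2, 2, 3, 5, 5, 6],
    [1, 1, 2, 2, 3, 3, 4, 4, 5, 5, 6, 6],
    [0, 1, 2, 3, 3, 4, 5, 6],
    [0, 0, 3, 4, 4, 5, 6],
    [1, 1, 2, 2, 4, 5, 5],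
    [0, 1, 2, 3, 4, 4, 5, 6],
    [0, 0, 5, 6],
    [1, 3, 3, 4, 6, 6],
    [0, 0, 1, 1, 2, 3, 4, 4],
    [0, 2, 2, 4, 5],
    [1, 3, 4, 4],
    [0, 2, 2, 3, 5],
    [1, 6],
    [0, 0, 1, 1, 2, 6],
    [0, 2, 2, 3, 3, 4, 4, 5],
    [0, 0, 1, 1, 2, 3, 3, 4, 6, 6],
    [0, 5, 5, 6],
    [0, 0, 1, 1, 2, 2, 3, 3, 4, 4, 6],
    [1, 2, 3, 3, 4, 5, 5],
    [1, 2, 5, 5, 6],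
    [0, 3, 4, 4, 5, 5, 6, 6],
    [0, 3, 3, 4, 5, 5],
    [1, 2, 3, 4, 4, 5, 5, 6, 6],
    [0, 0, 1, 1, 2, 2, 4],
    [0, 0, 1, 1, 2, 2, 3, 6, 6],
    [2, 2, 3, 3, 5],
    [0, 0, 1, 4, 6, 6],
    [0, 1, 1, 2, 3, 6, 6],
    [2, 2, 3, 4, 5],
    [2, 2, 4, 4, 5],
    [0, 1, 1, 2, 4],
    [0, 1, 1, 2, 3, 3, 4, 4, 6],
    [0, 0, 1, 3, 3, 4, 4],
    [0, 0, 1, 3, 6],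
    [0, 0, 1, 3, 4, 6, 6],
    [0, 1, 1, 2, 3, 4, 6],
    [2, 2, 3, 3, 4, 5],
    [2, 2, 5],
    [0, 0, 1, 4, 4],
    [0, 0, 1, 3, 3, 6],
    [0, 1, 1, 2, 3, 3],
    [2, 2, 3, 4, 4, 5],
    [0, 1, 1, 2, 4, 4, 6, 6],
    [0, 0, 3, 3, 4, 4, 5],
    [1, 1, 2, 2, 3, 3, 5, 5],
    [0, 1, 2, 3, 3, 4, 4, 5, 6],
    [0, 1, 2, 3, 5, 6],
    [1, 1, 2, 2, 3, 4, 5, 5, 6, 6],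
    [0, 1, 2, 4, 5, 6],
    [0, 0, 4, 5],
    [1, 1, 2, 2, 4, 4, 5, 5, 6],
    [0, 0, 3, 5],
    [0, 0, 1, 3, 3, 4, 5, 6],
    [2, 2, 3, 3, 4, 4, 5, 5, 6, 6],
    [0, 1, 1, 2, 5, 6],
    [0, 0, 1, 3, 4, 4, 5, 6],
    [2, 2, 3, 5, 5, 6],
    [2, 2, 4, 5, 5],
    [0, 1, 1, 2, 3, 3, 4, 5, 6],
    [0, 0, 1, 5, 6],
    [0, 1, 1, 2, 3, 4, 4, 5, 6],
    [0, 1, 5],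
    [1, 1, 2, 3, 4, 4, 5],
    [1, 1, 2, 3, 3, 4, 5],
    [0, 0, 2, 2, 4, 5, 5, 6, 6],
    [0, 1, 3, 4, 4, 5],
    [0, 0, 2, 2, 3, 5, 5],
    [0, 1, 3, 3, 4, 5],
    [0, 0, 2, 2, 3, 3, 4, 4, 5, 5, 6],
    [1, 1, 2, 5],
    [0, 3, 3, 4, 4, 5, 6],
    [0, 0, 1, 1, 2, 2, 3, 4, 5, 5],
    [1, 2, 3, 5, 6, 6],
    [1, 2, 3, 3, 4, 4, 5, 6, 6],
    [1, 2, 4, 5, 6, 6],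
    [0, 3, 5, 6],
    [0, 0, 1, 1, 2, 2, 3, 3, 5, 5, 6],
    [0, 0, 1, 1, 2, 2, 4, 4, 5, 5, 6, 6],
    [0, 4, 5, 6],
    [0, 0, 2, 2, 3, 6, 6],
    [0, 0, 2, 2, 4],
    [0, 0, 2, 2, 3, 3, 4, 4, 6],
    [1, 1, 2, 3, 3, 4, 5, 5],
    [0, 1, 3, 4, 4, 5, 5, 6, 6],
    [1, 1, 2, 3, 4, 4, 5, 5, 6, 6],
    [1, 1, 2, 5, 5, 6],
    [0, 1, 5, 5, 6],
    [0, 1, 3, 3, 4, 5, 5],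
    [0, 0, 1, 3],
    [2, 2, 4, 4, 5, 6, 6],
    [2, 2, 3, 4, 5, 6, 6],
    [0, 1, 1, 2, 4, 6, 6],
    [0, 1, 1, 2, 3, 6],
    [0, 0, 1, 3, 3, 4, 4, 6, 6],
    [0, 1, 1, 2, 3, 3, 4, 4],
    [0, 0, 1, 4, 6],
    [2, 2, 3, 3, 5, 6, 6],
    [0, 1, 2, 3, 3, 4, 5, 5, 6, 6],
    [1, 1, 2, 2, 3, 6],
    [0, 0, 5, 5],
    [0, 1, 2, 3, 4, 4, 5, 5, 6],
    [0, 0, 3, 4, 4, 5, 5, 6],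
    [1, 1, 2, 2, 3, 3, 4, 4],
    [1, 1, 2, 2, 4, 6, 6],
    [0, 1, 2, 5, 5],
    [0, 0, 3, 3, 4, 5, 5, 6, 6],
    [2, 2, 3, 4, 4, 5, 6, 6],
    [0, 1, 1, 2, 3, 3, 6, 6],
    [0, 0, 1, 3, 3],
    [0, 0, 1, 4, 4, 6, 6],
    [2, 2, 3, 3, 4, 5, 6, 6],
    [0, 1, 1, 2, 3, 4],
    [0, 1, 1, 2, 4, 4, 6],
    [2, 2, 5, 6, 6],
    [0, 0, 1, 3, 4, 6],
    [0, 1, 3, 3, 4, 6],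
    [0, 1],
    [1, 1, 2, 3, 4, 4, 6, 6],
    [0, 1, 3, 4, 4, 6, 6],
    [0, 0, 2, 2, 3, 3, 4, 4, 5, 6, 6],
    [0, 0, 2, 2, 4, 5, 6, 6],
    [1, 1, 2, 3, 3, 4, 6],
    [1, 1, 2],
    [0, 0, 2, 2, 3, 5, 6, 6],
    [0, 1, 2, 3, 4, 5, 6, 6],
    [1, 1, 2, 2, 5, 5],
    [0, 0, 3, 3, 5],
    [0, 0, 4, 4, 5],
    [0, 0, 3, 4, 5],
    [1, 1, 2, 2, 3, 3, 4, 5, 5, 6, 6],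
    [0, 1, 2, 3, 3, 5, 6, 6],
    [0, 1, 2, 4, 4, 5, 6, 6],
    [1, 1, 2, 2, 3, 4, 4, 5, 5, 6],
    [0, 0, 2, 3, 5, 6],
    [1, 1, 3, 5],
    [0, 1, 2, 2, 4, 4, 5, 5, 6],
    [1, 1, 3, 3, 4, 4, 5],
    [0, 0, 2, 3, 3, 4, 4, 5, 6],
    [1, 1, 4, 5],
    [0, 0, 2, 4, 5, 6],
    [0, 1, 2, 2, 3, 4, 5, 5, 6, 6],
    [0, 1, 2, 2, 3, 3, 5, 5],
    [0, 1, 1, 2, 4, 4],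
    [0, 0, 1, 3, 4],
    [2, 2, 5, 6],
    [0, 1, 1, 2, 3, 4, 6, 6],
    [2, 2, 3, 3, 4, 5, 6],
    [0, 0, 1, 4, 4, 6],
    [0, 0, 1, 3, 3, 6, 6],
    [2, 2, 3, 4, 4, 5, 6],
    [0, 1, 1, 2, 3, 3, 6],
    [0, 0, 1, 2, 3, 4, 4, 5, 5],
    [0, 0, 1, 2, 3, 3, 4, 5, 5, 6],
    [3, 3, 4, 5, 5, 6],
    [0, 0, 1, 2, 5, 5, 6, 6],
    [0, 1, 1, 2, 2, 3],
    [3, 4, 4, 5, 5],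
    [0, 1, 1, 2, 2, 3, 3, 4, 4, 6, 6],
    [5, 5, 6, 6],
    [0, 1, 1, 2, 2, 4, 6],
    [0, 2, 2, 3, 5, 5, 6, 6],
    [0, 0, 1, 1, 2, 5, 6, 6],
    [0, 2, 2, 4, 5, 5, 6],
    [1, 3, 4, 4, 5, 6, 6],
    [0, 0, 1, 1, 2, 3, 3, 4, 5, 6, 6],
    [1, 5, 6, 6],
    [0, 2, 2, 3, 3, 4, 4, 5, 5],
    [1, 3, 3, 4, 5, 6, 6],
    [0, 0, 1, 1, 2, 3, 4, 4, 5, 6, 6],
    [0, 0, 1, 1, 4, 4, 5, 6],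
    [0, 2, 3, 3, 5],
    [1, 2, 2, 3, 3, 4, 5, 5],
    [1, 2, 2, 3, 4, 4, 5, 5, 6, 6],
    [0, 2, 3, 4, 5],
    [1, 2, 2, 5, 5, 6],
    [0, 0, 1, 1, 3, 4, 5, 6],
    [0, 0, 1, 1, 3, 3, 5, 6],
    [0, 2, 4, 4, 5],
    [0, 2, 2, 3, 3, 4, 4, 5, 6],
    [0, 2, 2, 3, 5, 6],
    [0, 0, 1, 1, 2, 3, 3, 4],
    [0, 2, 2, 4, 5, 6],
    [1, 3, 4, 4, 6],
    [1, 6, 6],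
    [0, 0, 1, 1, 2, 3, 4, 4, 6],
    [0, 0, 1, 1, 2, 6, 6],
    [1, 3, 3, 4],
    [0, 2, 2, 3, 4, 5, 5, 6],
    [1, 3, 5, 6, 6],
    [0, 0, 1, 1, 2, 4, 5],
    [1, 3, 3, 4, 4, 5, 6, 6],
    [0, 0, 1, 1, 2, 3, 3, 4, 4, 5],
    [0, 0, 1, 1, 2, 3, 5],
    [0, 2, 2, 4, 4, 5, 5],
    [0, 2, 2, 3, 3, 5, 5, 6, 6],
    [1, 4, 5, 6, 6],
    [0, 0, 1, 1, 2, 3, 3, 5, 5, 6, 6],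
    [0, 2, 2, 3, 3, 4, 6, 6],
    [0, 2, 2, 6],
    [0, 0, 1, 1, 2, 4, 4, 5, 5],
    [1, 3, 3, 5, 5],
    [1, 4, 4, 5, 5, 6],
    [0, 0, 1, 1, 2, 3, 4, 5, 5, 6],
    [0, 2, 2, 3, 4, 4],
    [1, 3, 4, 5, 5, 6, 6],
    [0, 1, 1, 3, 3, 4, 5, 6, 6],
    [2, 3, 3, 4, 5, 6, 6],
    [0, 0, 1, 2, 2, 3, 3, 4, 4, 5, 5],
    [2, 5, 6, 6],
    [2, 3, 4, 4, 5, 6, 6],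
    [0, 1, 1, 5, 6, 6],
    [0, 1, 1, 3, 4, 4, 5, 6, 6],
    [0, 0, 1, 2, 2, 4, 5, 5, 6],
    [0, 0, 1, 2, 2, 3, 5, 5, 6, 6],
    [0, 0, 1, 1, 2, 2, 3, 3, 4, 4, 6, 6],
    [1, 2, 5, 5, 6, 6],
    [0, 0, 1, 1, 2, 2, 3],
    [1, 2, 3, 4, 4, 5, 5],
    [0, 3, 3, 4, 5, 5, 6],
    [0, 0, 1, 1, 2, 2, 4, 6],
    [1, 2, 3, 3, 4, 5, 5, 6],
    [0, 3, 4, 4, 5, 5],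
    [0, 5, 5, 6, 6],
    [0, 1, 1, 2, 3, 3, 4, 4, 6, 6],
    [2, 2, 3, 3, 5, 6],
    [0, 0, 1, 3, 3, 4, 4, 6],
    [0, 1, 1, 2, 4, 6],
    [0, 0, 1, 4],
    [2, 2, 3, 4, 5, 6],
    [2, 2, 4, 4, 5, 6],
    [0, 0, 1, 3, 6, 6],
    [0, 1, 1, 2, 3],
    [1, 3, 3, 6, 6],
    [0, 2, 2, 3, 3, 4, 5, 6],
    [0, 2, 2, 3, 4, 4, 5, 6],
    [1, 3, 4],
    [0, 0, 1, 1, 2, 3, 4, 6, 6],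
    [1, 4, 4, 6],
    [0, 0, 1, 1, 2, 3, 3, 6],
    [0, 0, 1, 1, 2, 4, 4],
    [0, 2, 2, 5, 6],
    [0, 0, 2, 2, 3, 3, 4, 4, 5, 5, 6, 6],
    [0, 1, 3, 4, 4, 5, 6],
    [0, 1, 5, 6],
    [1, 1, 2, 5, 6],
    [0, 0, 2, 2, 4, 5, 5],
    [1, 1, 2, 3, 3, 4, 5, 6],
    [0, 0, 2, 2, 3, 5, 5, 6],
    [0, 1, 3, 3, 4, 5, 6],
    [1, 1, 2, 3, 4, 4, 5, 6],
    [0, 2, 2, 4, 4, 5, 6],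
    [1, 3, 6, 6],
    [0, 0, 1, 1, 2, 3],
    [1, 4],
    [1, 3, 3, 4, 4, 6],
    [0, 0, 1, 1, 2, 3, 3, 4, 4, 6, 6],
    [0, 0, 1, 1, 2, 4, 6],
    [0, 2, 2, 3, 3, 5, 6],
    [0, 2, 2, 3, 4, 5, 6],
    [6, 6],
    [0, 1, 1, 2, 2, 3, 3, 4, 4, 5, 6],
    [0, 0, 1, 2, 3, 4, 4, 6],
    [0, 0, 1, 2, 6, 6],
    [0, 1, 1, 2, 2, 4, 5, 6],
    [0, 0, 1, 2, 3, 3, 4],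
    [3, 4, 4, 6],
    [3, 3, 4],
    [0, 1, 1, 2, 2, 3, 5, 6],
    [1, 5, 6],
    [0, 0, 1, 1, 2, 3, 4, 4, 5, 6],
    [1, 3, 3, 4, 5, 6],
    [1, 3, 4, 4, 5, 6],
    [0, 2, 2, 3, 3, 4, 4, 5, 5, 6, 6],
    [0, 2, 2, 4, 5, 5],
    [0, 0, 1, 1, 2, 5, 6],
    [0, 0, 1, 1, 2, 3, 3, 4, 5, 6],
    [0, 2, 2, 3, 5, 5, 6],
    [0, 0, 1, 2, 3, 3, 4, 4, 6],
    [3, 3, 4, 4],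
    [4, 6, 6],
    [0, 1, 1, 2, 2, 3, 3, 5],
    [0, 0, 1, 2, 4],
    [0, 1, 1, 2, 2, 4, 4, 5],
    [0, 0, 1, 2, 3, 6, 6],
    [0, 1, 1, 2, 2, 3, 4, 5],
    [3, 6],
    [1, 1, 2, 3, 4, 4, 5, 5, 6],
    [0, 1, 3, 3, 4, 5, 5, 6, 6],
    [0, 1, 5, 5],
    [1, 1, 2, 3, 3, 4, 5, 5, 6, 6],
    [0, 1, 3, 4, 4, 5, 5, 6],
    [0, 0, 2, 2, 4, 6, 6],
    [1, 1, 2, 5, 5],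
    [0, 0, 2, 2, 3, 6],
    [0, 0, 2, 2, 3, 3, 4, 4],
    [0, 0, 1, 1, 2, 2, 4, 5],
    [1, 2, 3, 3, 4, 6, 6],
    [1, 2, 3, 4, 4],
    [0, 6],
    [0, 0, 1, 1, 2, 2, 3, 3, 4, 4, 5],
    [0, 0, 1, 1, 2, 2, 3, 5],
    [0, 3, 4, 4],
    [1, 2, 6],
    [0, 3, 3, 4, 6, 6],
    [1, 1, 2, 3, 3, 4],
    [0, 0, 2, 2, 3, 5, 6],
    [0, 0, 2, 2, 4, 5, 6],
    [0, 1, 3, 4, 4, 6],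
    [0, 1, 3, 3, 4],
    [1, 1, 2, 6, 6],
    [0, 1, 6, 6],
    [0, 0, 2, 2, 3, 3, 4, 4, 5, 6],
    [1, 1, 2, 3, 4, 4, 6],
    [0, 1, 4, 5],
    [1, 1, 2, 3, 3, 4, 4, 5, 6],
    [0, 1, 3, 3, 4, 4, 5],
    [0, 0, 2, 2, 3, 3, 5, 5],
    [0, 1, 3, 5],
    [0, 0, 2, 2, 3, 4, 5, 5, 6, 6],
    [1, 1, 2, 4, 5, 6],
    [1, 1, 2, 3, 5, 6],
    [0, 0, 2, 2, 4, 4, 5, 5, 6],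
    [0, 0, 3, 3, 4, 4, 6],
    [0, 1, 2, 3, 3, 4, 4, 6, 6],
    [1, 1, 2, 2, 3, 4, 5, 6],
    [0, 1, 2, 3],
    [0, 0, 3, 6, 6],
    [0, 1, 2, 4, 6],
    [1, 1, 2, 2, 4, 4, 5, 6],
    [0, 0, 4],
    [1, 1, 2, 2, 3, 3, 5, 6],
    [0, 0, 2, 2, 5, 5, 6],
    [1, 1, 2, 3, 4, 5],
    [0, 1, 3, 4, 5, 6],
    [0, 1, 4, 4, 5, 6],
    [1, 1, 2, 3, 3, 5],
    [0, 0, 2, 2, 3, 3, 4, 5, 5],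
    [1, 1, 2, 4, 4, 5],
    [0, 1, 3, 3, 5, 6],
    [0, 0, 2, 2, 3, 4, 4, 5, 5, 6, 6],
    [0, 4, 4, 5, 5, 6],
    [0, 3, 4, 5, 5, 6, 6],
    [1, 2, 3, 4, 5, 5, 6],
    [1, 2, 3, 3, 5, 5, 6, 6],
    [0, 3, 3, 5, 5],
    [0, 0, 1, 1, 2, 2, 6],
    [0, 0, 1, 1, 2, 2, 3, 3, 4, 6, 6],
    [0, 0, 1, 1, 2, 2, 3, 4, 4],
    [1, 2, 4, 4, 5, 5],
    [1, 5, 5, 6],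
    [0, 2, 2, 4],
    [1, 3, 4, 4, 5, 5, 6, 6],
    [0, 0, 1, 1, 2, 3, 4, 4, 5, 5, 6, 6],
    [0, 0, 1, 1, 2, 3, 3, 4, 5, 5],
    [0, 2, 2, 3, 6, 6],
    [1, 3, 3, 4, 5, 5],
    [0, 2, 2, 3, 3, 4, 4, 6],
    [0, 0, 1, 1, 2, 5, 5, 6],
    [0, 1, 3, 4],
    [0, 1, 3, 3, 6, 6],
    [0, 0, 2, 2, 3, 3, 4, 5, 6],
    [1, 1, 2, 4, 4],
    [1, 1, 2, 3, 4, 6, 6],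
    [0, 1, 4, 4, 6],
    [0, 0, 2, 2, 5, 6],
    [0, 0, 2, 2, 3, 4, 4, 5, 6],
    [1, 1, 2, 3, 3, 6],
    [1, 1, 2, 2, 6],
    [0, 1, 2, 3, 3, 5, 5, 6, 6],
    [0, 0, 3, 4, 5, 5, 6, 6],
    [1, 1, 2, 2, 3, 3, 4, 6, 6],
    [0, 1, 2, 4, 4, 5, 5],
    [1, 1, 2, 2, 3, 4, 4],
    [0, 1, 2, 3, 4, 5, 5, 6],
    [0, 0, 4, 4, 5, 5, 6],
    [0, 0, 3, 3, 5, 5],
    [0, 0, 1, 1, 2, 3, 3, 4, 4, 5, 5, 6],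
    [1, 4, 5, 5, 6],
    [0, 2, 2, 3, 3],
    [0, 0, 1, 1, 2, 4, 5, 5, 6, 6],
    [0, 2, 2, 3, 4, 6],
    [0, 2, 2, 4, 4, 6, 6],
    [1, 3, 5, 5, 6, 6],
    [1, 3, 3, 4, 4, 5, 5],
    [0, 0, 1, 1, 2, 3, 5, 5],
    [2, 2, 3, 3, 5, 5],
    [2, 2, 3, 4, 5, 5, 6, 6],
    [0, 1, 1, 2, 3, 3, 4, 4, 5, 6],
    [0, 0, 1, 3, 3, 4, 4, 5],
    [0, 1, 1, 2, 4, 5, 6],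
    [0, 0, 1, 3, 5],
    [2, 2, 4, 4, 5, 5, 6],
    [0, 0, 1, 4, 5],
    [0, 1, 1, 2, 3, 5, 6],
    [1, 1, 2, 2, 3, 3, 6, 6],
    [0, 1, 2, 3, 3, 4, 4, 5, 5],
    [0, 0, 4, 5, 5],
    [0, 0, 3, 3, 4, 4, 5, 5, 6, 6],
    [0, 1, 2, 4, 5, 5, 6],
    [1, 1, 2, 2, 3, 4],
    [1, 1, 2, 2, 4, 4, 6],
    [0, 0, 3, 5, 5, 6],
    [0, 1, 2, 3, 5, 5, 6, 6],
    [2, 2, 5, 5],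
    [2, 2, 3, 3, 4, 5, 5, 6, 6],
    [0, 0, 1, 4, 4, 5],
    [0, 1, 1, 2, 3, 4, 5, 6, 6],
    [0, 1, 1, 2, 4, 4, 5, 6, 6],
    [2, 2, 3, 4, 4, 5, 5, 6],
    [0, 0, 1, 3, 4, 5],
    [0, 0, 1, 3, 3, 5],
    [0, 1, 1, 2, 3, 3, 5, 6, 6],
    [0, 0, 1, 5, 5, 6, 6],
    [0, 0, 1, 3, 3, 4, 5, 5, 6],
    [0, 0, 1, 3, 4, 4, 5, 5],
    [0, 1, 1, 2, 3, 3, 4, 5, 5, 6],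
    [2, 2, 4, 6],
    [2, 2, 3, 3, 4, 4, 6, 6],
    [0, 1, 1, 2, 3, 4, 4, 5, 5],
    [0, 1, 1, 2, 5, 5, 6, 6],
    [2, 2, 3],
    [0, 0, 3, 4, 6, 6],
    [0, 0, 3, 3, 6],
    [0, 1, 2, 3, 4, 6],
    [0, 0, 4, 4],
    [1, 1, 2, 2, 3, 3, 4, 5],
    [0, 1, 2, 4, 4, 6, 6],
    [1, 1, 2, 2, 5],
    [1, 1, 2, 2, 3, 4, 4, 5],
    [0, 1, 2, 3, 3],
    [0, 1, 1, 2, 3, 4, 4, 6],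
    [0, 1, 1, 2, 3, 3, 4],
    [2, 2, 4, 5, 6],
    [0, 0, 1, 3, 3, 4],
    [2, 2, 3, 5, 6],
    [0, 0, 1, 3, 4, 4, 6],
    [0, 0, 1, 6, 6],
    [2, 2, 3, 3, 4, 4, 5, 6],
    [0, 1, 1, 2, 6, 6],
    [0, 0, 1, 1, 2, 2, 5, 6],
    [1, 2, 3, 3, 6],
    [0, 4, 4, 6],
    [0, 3, 3, 6, 6],
    [1, 2, 3, 4, 6, 6],
    [0, 0, 1, 1, 2, 2, 3, 4, 4, 5, 6],
    [0, 0, 1, 1, 2, 2, 3, 3, 4, 5, 6],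
    [0, 3, 4],
    [1, 2, 4, 4],
    [0, 0, 2, 3, 4, 4, 6],
    [0, 1, 2, 2, 3, 5, 6],
    [0, 0, 2, 6, 6],
    [0, 1, 2, 2, 3, 3, 4, 4, 5, 6],
    [0, 1, 2, 2, 4, 5, 6],
    [1, 1, 3, 4, 4, 6],
    [1, 1, 6, 6],
    [1, 1, 3, 3, 4],
    [0, 0, 2, 3, 3, 4],
    [0, 0, 2, 4, 5],
    [0, 0, 2, 3, 3, 4, 4, 5],
    [1, 1, 3, 3, 4, 4, 5, 6, 6],
    [0, 1, 2, 2, 4, 4, 5, 5],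
    [0, 1, 2, 2, 3, 3, 5, 5, 6, 6],
    [0, 1, 2, 2, 3, 4, 5, 5, 6],
    [0, 0, 2, 3, 5],
    [1, 1, 3, 5, 6, 6],
    [1, 1, 4, 5, 6, 6],
    [2, 4, 5, 5, 6, 6],
    [0, 0, 1, 2, 2, 3, 4, 6],
    [2, 3, 5, 5],
    [0, 0, 1, 2, 2, 4, 4, 6, 6],
    [0, 1, 1, 3, 5, 5, 6, 6],
    [2, 3, 3, 4, 4, 5, 5, 6],
    [0, 1, 1, 3, 3, 4, 4, 5, 5],
    [0, 0, 1, 2, 2, 3, 3],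
    [0, 1, 1, 4, 5, 5, 6],
    [0, 2, 5],
    [1, 2, 2, 3, 5, 5],
    [0, 2, 3, 4, 4, 5],
    [0, 0, 1, 1, 5],
    [0, 2, 3, 3, 4, 5],
    [0, 0, 1, 1, 3, 4, 4, 5],
    [0, 0, 1, 1, 3, 3, 4, 5],
    [1, 2, 2, 4, 5, 5, 6, 6],
    [1, 2, 2, 3, 3, 4, 4, 5, 5, 6],
    [0, 0, 1, 2, 2, 3, 5, 5, 6],
    [0, 1, 1, 3, 4, 4, 5, 6],
    [0, 1, 1, 5, 6],
    [2, 3, 3, 4, 5, 6],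
    [0, 0, 1, 2, 2, 4, 5, 5],
    [0, 0, 1, 2, 2, 3, 3, 4, 4, 5, 5, 6, 6],
    [2, 3, 4, 4, 5, 6],
    [2, 5, 6],
    [0, 1, 1, 3, 3, 4, 5, 6],
    [0, 1, 2, 2, 3, 4, 5],
    [1, 1, 3, 3, 4, 4],
    [1, 1, 3, 6],
    [0, 0, 2, 4],
    [0, 1, 2, 2, 4, 4, 5],
    [0, 0, 2, 3, 3, 4, 4, 6],
    [0, 0, 2, 3, 6, 6],
    [0, 1, 2, 2, 3, 3, 5],
    [1, 1, 4, 6, 6],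
    [2, 6],
    [0, 0, 1, 2, 2, 4, 5],
    [0, 0, 1, 2, 2, 3, 3, 4, 4, 5],
    [2, 3, 4, 4],
    [0, 1, 1, 6],
    [0, 1, 1, 3, 4, 4],
    [0, 1, 1, 3, 3, 4, 6, 6],
    [0, 0, 1, 2, 2, 3, 5],
    [2, 3, 3, 4, 6, 6],
    [0, 0, 1, 2, 2, 3, 4, 5, 6, 6],
    [0, 1, 1, 3, 3, 4, 4, 6, 6],
    [0, 0, 1, 2, 2, 3, 3, 5, 6, 6],
    [2, 3, 3, 4, 4],
    [2, 4, 6, 6],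
    [0, 1, 1, 4, 6],
    [2, 3, 6],
    [0, 1, 1, 3],
    [0, 0, 1, 2, 2, 4, 4, 5, 6, 6],
    [0, 0, 2, 3, 4, 5, 6],
    [1, 1, 3, 4, 5, 6, 6],
    [1, 1, 4, 4, 5, 6, 6],
    [0, 1, 2, 2, 5, 5, 6, 6],
    [0, 0, 2, 4, 4, 5, 6],
    [0, 1, 2, 2, 3, 4, 4, 5, 5],
    [0, 0, 2, 3, 3, 5, 6],
    [1, 1, 3, 3, 5, 6, 6],
    [0, 1, 2, 2, 3, 3, 4, 5, 5, 6],
    [1, 1, 3, 5, 5, 6, 6],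
    [0, 1, 2, 2, 3, 4, 6],
    [0, 0, 2, 4, 5, 5, 6, 6],
    [0, 0, 2, 3, 3, 4, 4, 5, 5, 6],
    [0, 0, 2, 3, 5, 5],
    [0, 1, 2, 2, 3, 3],
    [0, 1, 2, 2, 4, 4, 6, 6],
    [1, 1, 3, 3, 4, 4, 5, 5],
    [1, 1, 4, 5, 5, 6],
    [1, 2, 2, 3, 3, 4],
    [1, 2, 2, 3, 4, 4, 6],
    [0, 2, 4, 4, 5, 5, 6],
    [0, 0, 1, 1, 4, 4, 5, 5, 6, 6],
    [0, 2, 3, 3, 5, 5],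
    [0, 2, 3, 4, 5, 5, 6, 6],
    [1, 2, 2, 6, 6],
    [0, 0, 1, 1, 3, 3, 5, 5, 6],
    [0, 0, 1, 1, 3, 4, 5, 5],
    [0, 0, 1, 2, 2, 3, 3, 4, 5, 5, 6, 6],
    [0, 1, 1, 3, 3, 5],
    [0, 0, 1, 2, 2, 3, 4, 4, 5, 5, 6],
    [2, 4, 4, 5, 6, 6],
    [0, 1, 1, 3, 4, 5],
    [2, 3, 4, 5, 6, 6],
    [2, 3, 3, 5, 6, 6],
    [0, 1, 1, 4, 4, 5],
    [0, 0, 1, 2, 2, 5, 5],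
    [0, 0, 1, 1, 3, 4, 4, 5, 5, 6],
    [0, 2, 5, 5],
    [0, 0, 1, 1, 5, 5],
    [1, 2, 2, 3, 3, 4, 4],
    [1, 2, 2, 4, 6, 6],
    [1, 2, 2, 3, 6],
    [0, 2, 3, 4, 4, 5, 5, 6],
    [0, 2, 3, 3, 4, 5, 5, 6, 6],
    [0, 0, 1, 1, 3, 3, 4, 5, 5, 6, 6],
    [1, 2, 2, 3, 3, 5, 5, 6, 6],
    [1, 2, 2, 4, 4, 5, 5],
    [0, 2, 4, 5],
    [0, 0, 1, 1, 4, 5, 6, 6],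
    [1, 2, 2, 3, 4, 5, 5, 6],
    [0, 2, 3, 3, 4, 4, 5],
    [0, 0, 1, 1, 3, 3, 4, 4, 5, 6, 6],
    [0, 0, 1, 1, 3, 5, 6, 6],
    [0, 2, 3, 5],
    [0, 0, 1, 1, 3, 4, 5],
    [0, 2, 4, 4, 5, 6, 6],
    [0, 0, 1, 1, 3, 3, 5],
    [0, 0, 1, 1, 4, 4, 5],
    [1, 2, 2, 5, 5],
    [0, 2, 3, 4, 5, 6, 6],
    [1, 2, 2, 3, 3, 4, 5, 5, 6, 6],
    [1, 2, 2, 3, 4, 4, 5, 5, 6],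
    [0, 2, 3, 3, 5, 6, 6],
    [0, 1, 2, 2, 3, 3, 4, 4],
    [1, 1, 3, 3, 4, 5, 5, 6, 6],
    [0, 0, 2, 5, 5],
    [1, 1, 5, 5],
    [0, 0, 2, 3, 3, 4, 5, 5, 6, 6],
    [0, 0, 2, 3, 4, 4, 5, 5, 6],
    [0, 1, 2, 2, 4, 6, 6],
    [0, 1, 2, 2, 3, 6],
    [1, 1, 3, 4, 4, 5, 5, 6],
    [2, 3, 3, 5, 5],
    [2, 3, 4, 5, 5, 6, 6],
    [0, 0, 1, 2, 2, 3, 4, 4, 6],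
    [0, 0, 1, 2, 2, 3, 3, 4],
    [0, 1, 1, 4, 4, 5, 5, 6, 6],
    [0, 0, 1, 2, 2, 6, 6],
    [0, 1, 1, 3, 3, 5, 5, 6],
    [2, 4, 4, 5, 5, 6],
    [0, 1, 1, 3, 4, 5, 5],
    [1, 2, 2, 3, 5, 6, 6],
    [1, 2, 2, 4, 5, 6, 6],
    [0, 2, 3, 4, 4, 6, 6],
    [0, 2, 3, 3, 4, 6],
    [1, 2, 2, 3, 3, 4, 4, 5, 6, 6],
    [0, 2],
    [0, 0, 1, 1],
    [0, 0, 1, 1, 3, 4, 4, 6, 6],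
    [0, 0, 1, 1, 3, 3, 4, 6],
    [2, 3, 4, 4, 5],
    [0, 1, 1, 3, 3, 4, 5],
    [0, 0, 1, 2, 2, 4, 5, 5, 6, 6],
    [2, 5],
    [0, 0, 1, 2, 2, 3, 5, 5],
    [0, 0, 1, 2, 2, 3, 3, 4, 4, 5, 5, 6],
    [0, 1, 1, 5],
    [0, 1, 1, 3, 4, 4, 5],
    [2, 3, 3, 4, 5],
    [0, 0, 1, 2, 2, 3, 4, 5, 5],
    [2, 4, 5, 6, 6],
    [2, 3, 3, 4, 4, 5, 6, 6],
    [0, 1, 1, 3, 3, 4, 4, 5, 6],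
    [0, 1, 1, 4, 5, 6],
    [0, 0, 1, 2, 2, 3, 3, 5, 5, 6],
    [0, 1, 1, 3, 5, 6],
    [0, 0, 1, 2, 2, 4, 4, 5, 5, 6, 6],
    [2, 3, 5, 6, 6],
    [1, 2, 2, 3, 4, 4, 5, 5],
    [0, 2, 3, 3, 5, 6],
    [1, 2, 2, 3, 3, 4, 5, 5, 6],
    [0, 0, 1, 1, 3, 3, 5, 6, 6],
    [0, 2, 3, 4, 5, 6],
    [0, 2, 4, 4, 5, 6],
    [1, 2, 2, 5, 5, 6, 6],
    [0, 0, 1, 1, 3, 4, 5, 6, 6],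
    [0, 0, 1, 1, 4, 4, 5, 6, 6],
    [1, 1, 2, 4, 4, 5, 6],
    [0, 0, 2, 2, 3, 4, 4, 5, 5],
    [0, 1, 3, 4, 5, 6, 6],
    [0, 1, 3, 3, 5, 6, 6],
    [0, 1, 4, 4, 5, 6, 6],
    [1, 1, 2, 3, 4, 5, 6],
    [0, 0, 2, 2, 3, 3, 4, 5, 5, 6],
    [1, 1, 2, 3, 3, 5, 6],
    [0, 0, 2, 2, 5, 5, 6, 6],
    [1, 1, 2, 2, 3, 4, 6, 6],
    [0, 1, 2, 3, 5, 5, 6],
    [0, 0, 3, 5, 5],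
    [0, 1, 2, 4, 5, 5],
    [1, 1, 2, 2, 4, 4],
    [0, 0, 3, 3, 4, 4, 5, 5, 6],
    [0, 1, 2, 3, 3, 4, 4, 5, 5, 6, 6],
    [1, 1, 2, 2, 3, 3, 6],
    [0, 0, 4, 5, 5, 6, 6],
    [0, 2, 3, 5, 5],
    [0, 0, 1, 1, 3, 5, 5, 6, 6],
    [0, 0, 1, 1, 3, 3, 4, 4, 5, 5],
    [0, 0, 1, 1, 4, 5, 5, 6],
    [1, 2, 2, 3, 4, 6],
    [0, 2, 3, 3, 4, 4, 5, 5, 6],
    [1, 2, 2, 4, 4, 6, 6],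
    [0, 2, 4, 5, 5, 6, 6],
    [1, 2, 2, 3, 3],
    [0, 0, 1, 2, 2, 5, 6],
    [0, 1, 1, 3, 4],
    [0, 1, 1, 3, 3, 6, 6],
    [2, 3, 4, 6, 6],
    [2, 3, 3, 6],
    [0, 0, 1, 2, 2, 3, 4, 4, 5, 6],
    [2, 4, 4],
    [0, 0, 1, 2, 2, 3, 3, 4, 5, 6],
    [0, 1, 1, 4, 4, 6],
    [0, 0, 1, 1, 2, 2, 3, 3, 4, 5, 6, 6],
    [1, 2, 3, 4],
    [0, 0, 1, 1, 2, 2, 5, 6, 6],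
    [0, 0, 1, 1, 2, 2, 3, 4, 4, 5, 6, 6],
    [1, 2, 4, 4, 6],
    [0, 3, 4, 6],
    [0, 4, 4, 6, 6],
    [1, 2, 3, 3, 6, 6],
    [0, 3, 3],
    [1, 2, 3, 4, 4, 6, 6],
    [0, 3, 4, 4, 6, 6],
    [0, 0, 1, 1, 2, 2, 3, 5, 6, 6],
    [1, 2],
    [0, 3, 3, 4, 6],
    [0],
    [0, 0, 1, 1, 2, 2, 4, 5, 6, 6],
    [1, 2, 3, 3, 4, 6],
    [0, 0, 1, 1, 2, 2, 3, 3, 4, 4, 5, 6, 6],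
    [0, 2, 2, 3, 5, 5],
    [0, 0, 1, 1, 2, 3, 3, 4, 5],
    [0, 2, 2, 3, 3, 4, 4, 5, 5, 6],
    [0, 2, 2, 4, 5, 5, 6, 6],
    [0, 0, 1, 1, 2, 3, 4, 4, 5],
    [1, 3, 4, 4, 5],
    [0, 0, 1, 1, 2, 5],
    [1, 3, 3, 4, 5],
    [1, 5],
    [0, 1, 2, 3, 3, 6, 6],
    [0, 1, 2, 4, 4, 6],
    [1, 1, 2, 2, 3, 4, 4, 5, 6, 6],
    [0, 0, 3, 4, 6],
    [0, 0, 3, 3],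
    [0, 0, 4, 4, 6, 6],
    [1, 1, 2, 2, 5, 6, 6],
    [0, 1, 2, 3, 4],
    [1, 1, 2, 2, 3, 3, 4, 5, 6, 6],
    [0, 0, 1, 1, 2, 2, 3, 4, 4, 6, 6],
    [0, 0, 1, 1, 2, 2, 3, 3, 4, 6],
    [0, 0, 1, 1, 2, 2],
    [1, 2, 4, 4, 5, 5, 6, 6],
    [0, 3, 3, 5, 5, 6, 6],
    [1, 2, 3, 3, 5, 5, 6],
    [0, 4, 4, 5, 5],
    [1, 2, 3, 4, 5, 5],
    [0, 3, 4, 5, 5, 6],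
    [0, 1, 1, 2, 3, 5, 6, 6],
    [2, 2, 4, 4, 5, 5, 6, 6],
    [0, 1, 1, 2, 4, 5, 6, 6],
    [0, 0, 1, 4, 5, 6],
    [0, 0, 1, 3, 3, 4, 4, 5, 6],
    [2, 2, 3, 3, 5, 5, 6],
    [0, 1, 1, 2, 3, 3, 4, 4, 5, 6, 6],
    [0, 0, 1, 3, 5, 6],
    [2, 2, 3, 4, 5, 5],
    [0, 1, 1, 2, 2, 4, 4, 6, 6],
    [0, 1, 1, 2, 2, 3, 4, 6],
    [0, 0, 1, 2, 4, 5, 5, 6, 6],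
    [0, 0, 1, 2, 3, 3, 4, 4, 5, 5, 6],
    [0, 0, 1, 2, 3, 5, 5],
    [4, 5, 5, 6],
    [3, 3, 4, 4, 5, 5],
    [0, 1, 1, 2, 2, 3, 3],
    [3, 5, 5, 6, 6],
    [0, 1, 2, 4, 4, 5, 5, 6],
    [1, 1, 2, 2, 3, 4, 4, 6],
    [0, 0, 3, 3, 5, 5, 6],
    [1, 1, 2, 2, 3, 3, 4],
    [0, 1, 2, 3, 4, 5, 5, 6, 6],
    [0, 0, 3, 4, 5, 5],
    [0, 0, 4, 4, 5, 5, 6, 6],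
    [1, 1, 2, 2, 6, 6],
    [0, 1, 2, 3, 3, 5, 5],
    [1, 2, 2, 5],
    [1, 2, 2, 3, 4, 4, 5],
    [0, 0, 1, 1, 3, 3, 6],
    [0, 0, 1, 1, 4, 4],
    [0, 2, 3, 4, 6],
    [0, 0, 1, 1, 3, 4, 6, 6],
    [1, 2, 2, 3, 3, 4, 5],
    [0, 2, 4, 4, 6, 6],
    [0, 2, 3, 3],
    [0, 1, 2, 2, 4, 4, 5, 6, 6],
    [0, 0, 2, 4, 6, 6],
    [0, 0, 2, 3, 6],
    [0, 1, 2, 2, 3, 3, 5, 6, 6],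
    [0, 0, 2, 3, 3, 4, 4],
    [1, 1, 4, 6],
    [0, 1, 2, 2, 3, 4, 5, 6, 6],
    [1, 1, 3],
    [1, 1, 3, 3, 4, 4, 6, 6],
    [0, 0, 2, 4, 4, 5, 5],
    [1, 1, 3, 3, 5, 5],
    [0, 1, 2, 2, 3, 3, 4, 6, 6],
    [1, 1, 3, 4, 5, 5, 6, 6],
    [0, 1, 2, 2, 3, 4, 4],
    [0, 0, 2, 3, 4, 5, 5, 6],
    [0, 0, 2, 3, 3, 5, 5, 6, 6],
    [1, 1, 4, 4, 5, 5, 6],
    [0, 1, 2, 2, 6],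
    [1, 1, 3, 3, 5],
    [0, 0, 2, 4, 4, 5, 6, 6],
    [1, 1, 3, 4, 5],
    [1, 1, 4, 4, 5],
    [0, 0, 2, 3, 4, 5, 6, 6],
    [0, 0, 2, 3, 3, 5, 6, 6],
    [0, 1, 2, 2, 3, 3, 4, 5, 5, 6, 6],
    [0, 1, 2, 2, 3, 4, 4, 5, 5, 6],
    [0, 1, 2, 2, 5, 5],
    [0, 0, 2, 3, 3, 6],
    [0, 1, 2, 2, 3, 3, 4, 5, 6],
    [1, 1, 3, 4],
    [0, 1, 2, 2, 3, 4, 4, 5, 6],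
    [0, 1, 2, 2, 5, 6],
    [0, 0, 2, 4, 4],
    [1, 1, 3, 3, 6, 6],
    [1, 1, 4, 4, 6],
    [0, 0, 2, 3, 4, 6, 6],
    [1, 1, 3, 4, 4, 5, 6, 6],
    [1, 1, 5, 6, 6],
    [0, 0, 2, 5, 6, 6],
    [0, 0, 2, 3, 3, 4, 5, 6, 6],
    [0, 1, 2, 2, 3, 3, 4, 4, 5, 5],
    [0, 1, 2, 2, 4, 5, 5, 6],
    [1, 1, 3, 3, 4, 5, 6, 6],
    [0, 1, 2, 2, 3, 5, 5, 6, 6],
    [0, 0, 2, 3, 4, 4, 5, 6, 6],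
    [1, 1, 3, 4, 4, 5, 5, 6, 6],
    [0, 0, 2, 3, 4, 4, 5, 5, 6, 6],
    [1, 1, 5, 5, 6],
    [1, 1, 3, 3, 4, 5, 5],
    [0, 1, 2, 2, 3, 6, 6],
    [0, 1, 2, 2, 3, 3, 4, 4, 6],
    [0, 0, 2, 5, 5, 6],
    [0, 1, 2, 2, 4],
    [0, 0, 2, 3, 3, 4, 5, 5],
    [0, 1, 2, 2, 3, 3, 6],
    [0, 0, 2, 4, 5, 5],
    [0, 1, 2, 2, 3, 4, 6, 6],
    [1, 1, 4, 5, 5, 6, 6],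
    [0, 1, 2, 2, 4, 4],
    [1, 1, 3, 5, 5],
    [1, 1, 3, 3, 4, 4, 5, 5, 6],
    [0, 0, 2, 3, 3, 4, 4, 5, 5, 6, 6],
    [0, 0, 2, 3, 5, 5, 6],
    [0, 0, 1, 2, 2, 3, 4, 5, 5, 6, 6],
    [2, 3, 5, 6],
    [0, 1, 1, 3, 5],
    [2, 3, 3, 4, 4, 5, 6],
    [0, 0, 1, 2, 2, 4, 4, 5, 5, 6],
    [0, 0, 1, 2, 2, 3, 3, 5, 5],
    [0, 1, 1, 3, 3, 4, 4, 5],
    [2, 4, 5, 6],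
    [0, 1, 1, 4, 5],
    [0, 1, 2, 2, 4, 6],
    [0, 0, 2, 3, 3, 4, 5, 5, 6],
    [0, 1, 2, 2, 3],
    [1, 1, 3, 4, 4, 5, 5],
    [0, 0, 2, 5, 5, 6, 6],
    [0, 0, 2, 3, 4, 4, 5, 5],
    [1, 1, 5, 5, 6, 6],
    [0, 1, 2, 2, 3, 3, 4, 4, 6, 6],
    [1, 1, 3, 3, 4, 5, 5, 6],
    [0, 0, 2, 3, 3, 4, 6],
    [0, 1, 2, 2, 3, 5, 6, 6],
    [1, 1],
    [0, 0, 2, 3, 4, 4, 6, 6],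
    [1, 1, 3, 3, 4, 6],
    [0, 1, 2, 2, 3, 3, 4, 4, 5, 6, 6],
    [0, 0, 2],
    [1, 1, 3, 4, 4, 6, 6],
    [0, 1, 2, 2, 4, 5, 6, 6],
    [0, 0, 1, 2, 2, 5, 5, 6],
    [0, 1, 1, 4, 4, 5, 6],
    [2, 3, 4, 5],
    [2, 3, 3, 5],
    [2, 4, 4, 5],
    [0, 0, 1, 2, 2, 3, 4, 4, 5, 5, 6, 6],
    [0, 1, 1, 3, 3, 5, 6],
    [0, 1, 1, 3, 4, 5, 6],
    [0, 0, 1, 2, 2, 3, 3, 4, 5, 5],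
    [0, 0, 1, 2, 2, 3, 4, 4, 5],
    [0, 0, 1, 2, 2, 3, 3, 4, 5],
    [0, 0, 1, 2, 2, 5],
    [2, 3, 3],
    [0, 1, 1, 3, 3, 6],
    [2, 4, 4, 6, 6],
    [0, 1, 1, 4, 4],
    [2, 3, 4, 6],
    [0, 1, 1, 3, 4, 6, 6],
    [1, 3, 5, 5, 6],
    [0, 0, 1, 1, 2, 3, 5, 5, 6, 6],
    [1, 3, 3, 4, 4, 5, 5, 6, 6],
    [0, 2, 2, 4, 4, 6],
    [0, 2, 2, 3, 4],
    [0, 0, 1, 1, 2, 3, 3, 4, 4, 5, 5],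
    [0, 0, 1, 1, 2, 4, 5, 5, 6],
    [1, 4, 5, 5],
    [0, 2, 2, 3, 3, 6, 6],
    [3, 5, 6],
    [0, 1, 1, 2, 2, 3, 4, 5, 5],
    [0, 0, 1, 2, 3, 5, 6, 6],
    [0, 0, 1, 2, 4, 5, 6, 6],
    [4, 5, 6],
    [0, 0, 1, 2, 3, 3, 4, 4, 5, 6, 6],
    [0, 1, 1, 2, 2, 4, 4, 5, 5, 6, 6],
    [3, 3, 4, 4, 5, 6],
    [0, 1, 1, 2, 2, 3, 3, 5, 5, 6],
    [0, 0, 1, 1, 2, 2, 4, 4, 5, 5, 6],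
    [1, 2, 3, 3, 4, 4, 5, 6],
    [1, 2, 4, 5, 6],
    [0, 3, 5],
    [0, 4, 5],
    [1, 2, 3, 5, 6],
    [0, 0, 1, 1, 2, 2, 3, 4, 5, 5, 6, 6],
    [0, 3, 3, 4, 4, 5],
    [0, 0, 1, 1, 2, 2, 3, 3, 5, 5],
    [0, 1, 1, 3, 4, 5, 5, 6, 6],
    [0, 1, 1, 3, 3, 5, 5],
    [0, 1, 1, 4, 4, 5, 5, 6],
    [0, 0, 1, 2, 2, 3, 4, 4],
    [2, 4, 4, 5, 5],
    [0, 0, 1, 2, 2, 6],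
    [2, 3, 4, 5, 5, 6],
    [0, 0, 1, 2, 2, 3, 3, 4, 6, 6],
    [2, 3, 3, 5, 5, 6, 6],
    [0, 2, 2, 3, 4, 4, 5, 5, 6],
    [0, 2, 2, 5, 5],
    [0, 0, 1, 1, 2, 3, 3, 5, 6, 6],
    [0, 2, 2, 3, 3, 4, 5, 5, 6, 6],
    [1, 4, 4, 5],
    [0, 0, 1, 1, 2, 3, 4, 5, 6, 6],
    [0, 0, 1, 1, 2, 4, 4, 5, 6, 6],
    [1, 3, 3, 5],
    [1, 3, 4, 5],
    [1, 2, 4, 4, 6, 6],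
    [0, 3, 3, 6],
    [0, 3, 4, 6, 6],
    [0, 0, 1, 1, 2, 2, 3, 4, 4, 5],
    [1, 2, 3, 3],
    [0, 4, 4],
    [0, 0, 1, 1, 2, 2, 3, 3, 4, 5],
    [1, 2, 3, 4, 6],
    [0, 0, 1, 1, 2, 2, 5],
    [1, 2, 2],
    [0, 0, 1, 1, 3, 4, 5, 5, 6],
    [0, 2, 3, 4, 5, 5],
    [0, 0, 1, 1, 3, 3, 5, 5, 6, 6],
    [0, 2, 3, 3, 5, 5, 6],
    [0, 0, 1, 1, 4, 4, 5, 5],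
    [0, 2, 4, 4, 5, 5, 6, 6],
    [1, 2, 2, 3, 4, 4, 6, 6],
    [1, 2, 2, 3, 3, 4, 6],
    [3, 4, 5],
    [0, 1, 1, 2, 2, 5, 5],
    [0, 0, 1, 2, 3, 3, 5, 6, 6],
    [4, 4, 5],
    [0, 1, 1, 2, 2, 3, 3, 4, 5, 5, 6, 6],
    [0, 0, 1, 2, 3, 4, 5, 6, 6],
    [0, 0, 1, 2, 4, 4, 5, 6, 6],
    [0, 1, 1, 2, 2, 3, 4, 4, 5, 5, 6],
    [3, 3, 5],
    [0, 1, 1, 2, 2, 6],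
    [0, 0, 1, 2, 3, 3, 5, 5, 6, 6],
    [0, 0, 1, 2, 3, 4, 5, 5, 6],
    [0, 0, 1, 2, 4, 4, 5, 5],
    [0, 1, 1, 2, 2, 3, 3, 4, 6, 6],
    [3, 3, 5, 5],
    [0, 1, 1, 2, 2, 3, 4, 4],
    [3, 4, 5, 5, 6, 6],
    [4, 4, 5, 5, 6],
    [1, 1, 3, 3, 4, 4, 5, 5, 6, 6],
    [0, 0, 2, 3, 5, 5, 6, 6],
    [1, 1, 4, 5, 5],
    [0, 0, 2, 3, 3, 4, 4, 5, 5],
    [0, 1, 2, 2, 4, 4, 6],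
    [0, 1, 2, 2, 3, 3, 6, 6],
    [1, 1, 3, 5, 5, 6],
    [0, 1, 2, 2, 3, 4],
    [0, 0, 2, 4, 5, 5, 6],
    [0, 1, 1, 2, 2, 4, 5, 5],
    [0, 0, 1, 2, 5, 6],
    [0, 0, 1, 2, 3, 4, 4, 5, 6],
    [3, 3, 4, 5, 6],
    [3, 4, 4, 5, 6],
    [5, 6],
    [0, 1, 1, 2, 2, 3, 5, 5, 6],
    [0, 1, 1, 2, 2, 3, 3, 4, 4, 5, 5, 6, 6],
    [0, 0, 1, 2, 3, 3, 4, 5, 6],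
    [0, 0, 1, 1, 2],
    [1, 3, 3, 4, 6],
    [1],
    [0, 0, 1, 1, 2, 3, 3, 4, 6],
    [1, 3, 4, 4, 6, 6],
    [0, 2, 2, 4, 5, 6, 6],
    [0, 2, 2, 3, 5, 6, 6],
    [0, 2, 2, 3, 3, 4, 4, 5, 6, 6],
    [0, 0, 1, 1, 2, 3, 4, 4, 6, 6],
    [0, 1, 1, 2, 2, 3, 4, 4, 5, 6],
    [0, 0, 1, 2, 3, 3, 6],
    [4, 4, 6],
    [0, 1, 1, 2, 2, 3, 3, 4, 5, 6],
    [3, 3, 6, 6],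
    [0, 0, 1, 2, 4, 4],
    [0, 1, 1, 2, 2, 5, 6],
    [3, 4],
    [0, 0, 1, 2, 3, 4, 6, 6],
    [0, 0, 1, 2, 2, 3, 3, 5, 6],
    [0, 0, 1, 2, 2, 4, 4, 5, 6],
    [2, 4, 6],
    [0, 1, 1, 4],
    [2, 3, 3, 4, 4, 6, 6],
    [0, 1, 1, 3, 6, 6],
    [0, 0, 1, 2, 2, 3, 4, 5, 6],
    [2, 3],
    [0, 1, 1, 3, 3, 4, 4, 6],
    [0, 0, 1, 1, 3, 3, 4],
    [1, 2, 2, 4, 5, 6],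
    [0, 2, 3, 4, 4, 6],
    [0, 2, 6, 6],
    [0, 0, 1, 1, 3, 4, 4, 6],
    [0, 2, 3, 3, 4],
    [1, 2, 2, 3, 3, 4, 4, 5, 6],
    [1, 2, 2, 3, 5, 6],
    [0, 0, 1, 1, 6, 6],
    [0, 2, 4, 4, 6],
    [0, 0, 1, 1, 3, 3],
    [1, 2, 2, 3, 4, 4, 5, 6, 6],
    [0, 0, 1, 1, 3, 4, 6],
    [1, 2, 2, 3, 3, 4, 5, 6, 6],
    [0, 2, 3, 3, 6, 6],
    [0, 0, 1, 1, 4, 4, 6, 6],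
    [0, 2, 3, 4],
    [1, 2, 2, 5, 6, 6],
    [1, 2, 2, 3, 3, 6],
    [0, 0, 1, 1, 3, 5, 5],
    [0, 2, 4, 5, 5],
    [0, 2, 3, 3, 4, 4, 5, 5, 6, 6],
    [1, 2, 2, 4, 4],
    [1, 2, 2, 3, 4, 6, 6],
    [0, 0, 1, 1, 4, 5, 5, 6, 6],
    [0, 2, 3, 5, 5, 6],
    [0, 0, 1, 1, 3, 3, 4, 4, 5, 5, 6],
    [0, 1, 2, 2, 3, 3, 4, 5, 5],
    [0, 1, 2, 2, 3, 4, 4, 5, 5, 6, 6],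
    [0, 0, 2, 3, 3, 5],
    [1, 1, 3, 3, 5, 6],
    [0, 1, 2, 2, 5, 5, 6],
    [0, 0, 2, 4, 4, 5],
    [0, 0, 2, 3, 4, 5],
    [1, 1, 4, 4, 5, 6],
    [1, 1, 3, 4, 5, 6],
    [0, 0, 3, 4, 5, 6],
    [1, 1, 2, 2, 3, 3, 4, 5, 5],
    [0, 1, 2, 4, 4, 5],
    [0, 0, 4, 4, 5, 6],
    [1, 1, 2, 2, 3, 4, 4, 5, 5, 6, 6],
    [0, 0, 3, 3, 5, 6],
    [0, 1, 2, 3, 4, 5],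
    [0, 1, 2, 3, 3, 5],
    [1, 1, 2, 2, 5, 5, 6],
    [0, 2, 2, 3, 3, 4, 4, 6, 6],
    [0, 0, 1, 1, 2, 5, 5, 6, 6],
    [1, 3, 4, 4, 5, 5],
    [0, 2, 2, 4, 6],
    [0, 0, 1, 1, 2, 3, 3, 4, 5, 5, 6],
    [1, 3, 3, 4, 5, 5, 6],
    [0, 0, 1, 1, 2, 3, 4, 4, 5, 5],
    [1, 5, 5, 6, 6],
    [0, 2, 2, 3],
    [0, 0, 1, 2, 4, 4, 5],
    [3, 4, 5, 6],
    [3, 3, 5, 6],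
    [0, 1, 1, 2, 2, 3, 4, 4, 5, 5, 6, 6],
    [0, 0, 1, 2, 3, 3, 5],
    [0, 1, 1, 2, 2, 3, 3, 4, 5, 5],
    [0, 1, 1, 2, 2, 5, 5, 6],
    [0, 0, 1, 2, 3, 4, 5],
    [4, 4, 5, 6],
    [1, 3, 4, 5, 6, 6],
    [0, 0, 1, 1, 2, 4, 4, 5, 6],
    [1, 4, 4, 5, 6, 6],
    [0, 0, 1, 1, 2, 3, 4, 5, 6],
    [0, 2, 2, 3, 3, 4, 5, 5, 6],
    [1, 3, 3, 5, 6, 6],
    [0, 2, 2, 5, 5, 6, 6],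
    [0, 2, 2, 3, 4, 4, 5, 5],
    [0, 0, 1, 1, 2, 3, 3, 5, 6],
    [1, 1, 4],
    [1, 1, 3, 6, 6],
    [1, 1, 3, 3, 4, 4, 6],
    [0, 1, 2, 2, 3, 3, 5, 6],
    [0, 0, 2, 3, 3, 4, 4, 6, 6],
    [0, 0, 2, 3],
    [0, 1, 2, 2, 4, 4, 5, 6],
    [0, 1, 2, 2, 3, 4, 5, 6],
    [0, 0, 2, 4, 6],
    [0, 1, 1, 2, 2, 3, 3, 4, 6],
    [0, 1, 1, 2, 2, 3, 4, 4, 6, 6],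
    [0, 1, 1, 2, 2],
    [0, 0, 1, 2, 3, 3, 5, 5, 6],
    [4, 4, 5, 5],
    [3, 4, 5, 5, 6],
    [0, 0, 1, 2, 4, 4, 5, 5, 6, 6],
    [0, 0, 1, 2, 3, 4, 5, 5],
    [3, 3, 5, 5, 6, 6],
    [0, 1, 1, 2, 2, 3, 3, 4, 5],
    [0, 0, 1, 2, 4, 4, 6, 6],
    [3, 4, 6, 6],
    [0, 0, 1, 2, 3, 4, 6],
    [0, 1, 1, 2, 2, 3, 4, 4, 5],
    [3, 3, 6],
    [0, 1, 1, 2, 2, 5],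
    [4, 4],
    [0, 0, 1, 2, 3, 3],
    [0, 2, 2, 3, 3, 5],
    [0, 0, 1, 1, 2, 4],
    [0, 2, 2, 3, 4, 5],
    [1, 3, 3, 4, 4],
    [1, 4, 6, 6],
    [0, 0, 1, 1, 2, 3, 3, 4, 4, 6],
    [1, 3, 6],
    [0, 2, 2, 4, 4, 5],
    [0, 0, 1, 1, 2, 3, 6, 6],
    [0, 1, 1, 2, 2, 3, 3, 5, 5],
    [0, 1, 1, 2, 2, 4, 4, 5, 5, 6],
    [0, 0, 1, 2, 4, 5, 6],
    [4, 5],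
    [0, 0, 1, 2, 3, 5, 6],
    [3, 3, 4, 4, 5],
    [3, 5],
    [0, 0, 1, 2, 3, 3, 4, 4, 5, 6],
    [0, 1, 1, 2, 2, 3, 4, 5, 5, 6, 6],
    [1, 2, 2, 3, 3, 4, 4, 5, 5],
    [0, 0, 1, 1, 3, 4, 4, 5, 6, 6],
    [0, 0, 1, 1, 5, 6, 6],
    [0, 2, 3, 4, 4, 5, 6, 6],
    [1, 2, 2, 4, 5, 5, 6],
    [0, 0, 1, 1, 3, 3, 4, 5, 6, 6],
    [0, 2, 5, 6, 6],
    [0, 2, 3, 3, 4, 5, 6, 6],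
    [1, 2, 2, 3, 5, 5, 6, 6],
    [1, 1, 2, 2, 3, 3, 4, 4, 6],
    [0, 1, 2, 5, 5, 6],
    [0, 0, 3, 3, 4, 5, 5],
    [1, 1, 2, 2, 4],
    [0, 0, 3, 4, 4, 5, 5, 6, 6],
    [0, 0, 5, 5, 6],
    [0, 1, 2, 3, 3, 4, 5, 5],
    [0, 1, 2, 3, 4, 4, 5, 5, 6, 6],
    [1, 1, 2, 2, 3, 6, 6],
    [1, 1, 3, 4, 4],
    [0, 1, 2, 2, 4, 5],
    [1, 1, 3, 3, 4, 6, 6],
    [0, 1, 2, 2, 3, 3, 4, 4, 5],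
    [1, 1, 6],
    [0, 0, 2, 6],
    [0, 0, 2, 3, 4, 4],
    [0, 0, 2, 3, 3, 4, 6, 6],
    [0, 1, 2, 2, 3, 5],
    [0, 1, 1, 2, 2, 3, 3, 4, 4, 5, 5, 6],
    [0, 0, 1, 2, 5],
    [3, 4, 4, 5],
    [3, 3, 4, 5],
    [0, 0, 1, 2, 3, 3, 4, 5],
    [5],
    [0, 1, 1, 2, 2, 3, 5, 5],
    [0, 0, 1, 2, 3, 4, 4, 5],
    [0, 1, 1, 2, 2, 4, 5, 5, 6, 6],
    [0, 1, 1, 2, 3, 3, 4, 5],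
    [2, 2, 3, 5, 5],
    [2, 2, 4, 5, 5, 6, 6],
    [0, 0, 1, 5],
    [0, 0, 1, 3, 4, 4, 5],
    [2, 2, 3, 3, 4, 4, 5, 5, 6],
    [0, 1, 1, 2, 5],
    [0, 1, 1, 2, 3, 4, 4, 5],
    [0, 0, 1, 3, 3, 4, 5],
    [1, 2, 3, 3, 4, 5, 6, 6],
    [0, 0, 1, 1, 2, 2, 3, 3, 4, 4, 5, 5],
    [0, 0, 1, 1, 2, 2, 3, 5, 5, 6, 6],
    [1, 2, 5, 6, 6],
    [0, 0, 1, 1, 2, 2, 4, 5, 5, 6],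
    [0, 3, 4, 4, 5, 6, 6],
    [0, 3, 3, 4, 5, 6, 6],
    [1, 2, 3, 4, 4, 5, 6, 6],
    [0, 5, 6, 6],
    [1, 2, 4, 4, 5, 5, 6],
    [0, 3, 4, 5, 5],
    [0, 0, 1, 1, 2, 2, 3, 4, 4, 6],
    [1, 2, 3, 4, 5, 5, 6, 6],
    [0, 0, 1, 1, 2, 2, 3, 3, 4],
    [0, 3, 3, 5, 5, 6],
    [0, 0, 1, 1, 2, 2, 6, 6],
    [0, 4, 4, 5, 5, 6, 6],
    [1, 2, 3, 3, 5, 5],
    [0, 0, 1, 2, 2, 4, 5, 6, 6],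
    [0, 1, 1, 3, 4, 4, 6, 6],
    [0, 0, 1, 2, 2, 3, 5, 6, 6],
    [2, 3, 4, 4, 6, 6],
    [0, 0, 1, 2, 2, 3, 3, 4, 4, 5, 6, 6],
    [0, 1, 1],
    [2, 3, 3, 4, 6],
    [0, 1, 1, 3, 3, 4, 6],
    [2],
    [0, 0, 1, 1, 2, 2, 3, 4, 4, 5, 5],
    [1, 2, 3, 3, 5, 6],
    [0, 4, 4, 5, 6, 6],
    [0, 0, 1, 1, 2, 2, 3, 3, 4, 5, 5, 6],
    [1, 2, 4, 4, 5, 6],
    [0, 0, 1, 1, 2, 2, 5, 5, 6, 6],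
    [0, 3, 4, 5, 6, 6],
    [1, 2, 3, 4, 5, 6],
    [0, 3, 3, 5, 6, 6],
    [0, 1, 2, 3, 5, 6, 6],
    [0, 0, 3, 5, 6],
    [0, 1, 2, 4, 5, 6, 6],
    [1, 1, 2, 2, 4, 4, 5, 5, 6, 6],
    [1, 1, 2, 2, 3, 4, 5, 5],
    [0, 0, 3, 3, 4, 4, 5, 6],
    [0, 0, 4, 5, 6],
    [0, 1, 2, 3, 3, 4, 4, 5, 6, 6],
    [1, 1, 2, 2, 3, 3, 5, 5, 6],
    [1, 2, 2, 4, 6],
    [0, 0, 1, 1, 3, 4, 4, 5, 5],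
    [0, 0, 1, 1, 5, 5, 6, 6],
    [0, 2, 3, 3, 4, 5, 5, 6],
    [1, 2, 2, 3],
    [0, 0, 1, 1, 3, 3, 4, 5, 5, 6],
    [1, 2, 2, 3, 3, 4, 4, 6, 6],
    [0, 2, 3, 4, 4, 5, 5],
    [0, 2, 5, 5, 6, 6],
    [0, 0, 2, 2, 3, 3],
    [1, 1, 2, 4, 5, 5, 6, 6],
    [0, 0, 2, 2, 3, 4, 6],
    [0, 1, 3, 3, 4, 4, 5, 5],
    [0, 0, 2, 2, 4, 4, 6, 6],
    [0, 1, 4, 5, 5, 6],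
    [1, 1, 2, 3, 3, 4, 4, 5, 5, 6],
    [1, 1, 2, 3, 5, 5],
    [0, 1, 3, 5, 5, 6, 6],
    [1, 1, 2, 2, 3, 3, 4, 5, 6],
    [1, 1, 2, 2, 5, 6],
    [1, 1, 2, 2, 3, 4, 4, 5, 6],
    [0, 1, 2, 3, 4, 6, 6],
    [0, 1, 2, 3, 3, 6],
    [0, 1, 2, 4, 4],
    [0, 0, 4, 4, 6],
    [0, 0, 3, 3, 6, 6],
    [0, 0, 3, 4],
    [1, 1, 2, 2, 3, 4, 4, 5, 5],
    [0, 1, 2, 3, 3, 5, 6],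
    [0, 1, 2, 4, 4, 5, 6],
    [1, 1, 2, 2, 5, 5, 6, 6],
    [0, 0, 3, 3, 5, 6, 6],
    [1, 1, 2, 2, 3, 3, 4, 5, 5, 6],
    [0, 1, 2, 3, 4, 5, 6],
    [0, 0, 4, 4, 5, 6, 6],
    [0, 0, 3, 4, 5, 6, 6],
    [0, 0, 1, 1, 4, 5, 6],
    [1, 2, 2, 4, 4, 5, 5, 6, 6],
    [0, 2, 3, 5, 6, 6],
    [0, 0, 1, 1, 3, 3, 4, 4, 5, 6],
    [0, 2, 4, 5, 6, 6],
    [0, 2, 3, 3, 4, 4, 5, 6, 6],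
    [1, 2, 2, 3, 3, 5, 5, 6],
    [0, 0, 1, 1, 3, 5, 6],
    [1, 2, 2, 3, 4, 5, 5],
    [0, 1, 1, 2, 2, 3, 6],
    [0, 1, 1, 2, 2, 4, 6, 6],
    [0, 1, 1, 2, 2, 3, 3, 4, 4],
    [0, 0, 1, 2, 3, 3, 4, 5, 5, 6, 6],
    [0, 0, 1, 2, 5, 5],
    [5, 5],
    [0, 0, 1, 2, 3, 4, 4, 5, 5, 6],
    [3, 4, 4, 5, 5, 6],
    [3, 3, 4, 5, 5, 6, 6],
    [0, 2, 2, 5, 6, 6],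
    [1, 4, 4, 6, 6],
    [0, 2, 2, 3, 4, 4, 5, 6, 6],
    [0, 0, 1, 1, 2, 3, 4],
    [0, 0, 1, 1, 2, 3, 3, 6, 6],
    [1, 3, 3],
    [0, 2, 2, 3, 3, 4, 5, 6, 6],
    [0, 0, 1, 1, 2, 4, 4, 6],
    [1, 3, 4, 6],
    [0, 0, 1, 2, 3, 3, 4, 5, 6, 6],
    [0, 1, 1, 2, 2, 3, 5, 5, 6, 6],
    [5, 6, 6],
    [0, 1, 1, 2, 2, 4, 5, 5, 6],
    [0, 1, 1, 2, 2, 3, 3, 4, 4, 5, 5],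
    [0, 0, 1, 2, 3, 4, 4, 5, 6, 6],
    [3, 4, 4, 5, 6, 6],
    [3, 3, 4, 5, 6, 6],
    [0, 0, 1, 2, 5, 6, 6],
    [0, 3, 5, 5],
    [0, 0, 1, 1, 2, 2, 4, 4],
    [0, 3, 3, 4, 4, 5, 5, 6],
    [0, 0, 1, 1, 2, 2, 3, 4, 6, 6],
    [1, 2, 3, 5, 5, 6],
    [1, 2, 4, 5, 5],
    [0, 4, 5, 5, 6, 6],
    [1, 2, 3, 3, 4, 4, 5, 5, 6, 6],
    [0, 0, 1, 1, 2, 2, 3, 3, 6],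
    [0, 3, 3, 5, 6],
    [1, 2, 3, 4, 5],
    [0, 4, 4, 5, 6],
    [1, 2, 4, 4, 5],
    [0, 3, 4, 5, 6],
    [0, 0, 1, 1, 2, 2, 3, 3, 4, 5, 5],
    [0, 0, 1, 1, 2, 2, 5, 5, 6],
    [1, 2, 3, 3, 5],
    [0, 0, 1, 1, 2, 2, 3, 4, 4, 5, 5, 6, 6],
    [0, 0, 2, 2, 3, 3, 4, 6, 6],
    [0, 1, 4, 4, 5, 5, 6],
    [0, 0, 2, 2, 3, 4, 4],
    [0, 0, 2, 2, 6],
    [0, 1, 3, 3, 5, 5],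
    [1, 1, 2, 3, 4, 5, 5, 6],
    [0, 1, 3, 4, 5, 5, 6, 6],
    [1, 1, 2, 3, 3, 5, 5, 6, 6],
    [1, 1, 2, 4, 4, 5, 5],
    [0, 0, 1, 1, 2, 2, 3, 4],
    [0, 0, 1, 1, 2, 2, 3, 3, 6, 6],
    [0, 3, 5, 5, 6],
    [0, 0, 1, 1, 2, 2, 4, 4, 6],
    [1, 2, 3, 3, 4, 4, 5, 5],
    [0, 4, 5, 5],
    [1, 2, 4, 5, 5, 6],
    [1, 2, 3, 5, 5, 6, 6],
    [0, 3, 3, 4, 4, 5, 5, 6, 6],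
    [0, 0, 2, 2, 4, 4, 5],
    [0, 1, 3, 6],
    [1, 1, 2, 4],
    [0, 1, 3, 3, 4, 4],
    [0, 1, 4, 6, 6],
    [0, 0, 2, 2, 3, 4, 5],
    [1, 1, 2, 3, 6, 6],
    [1, 1, 2, 3, 3, 4, 4, 6],
    [0, 0, 2, 2, 3, 3, 5],
    [0, 0, 1, 2, 3, 4],
    [0, 0, 1, 2, 3, 3, 6, 6],
    [0, 1, 1, 2, 2, 5, 6, 6],
    [3, 3],
    [3, 4, 6],
    [4, 4, 6, 6],
    [0, 0, 1, 2, 4, 4, 6],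
    [0, 1, 1, 2, 2, 3, 4, 4, 5, 6, 6],
    [0, 1, 1, 2, 2, 3, 3, 4, 5, 6, 6],
    [1, 1, 2, 2, 4, 5, 5, 6],
    [0, 0, 3, 4, 4, 5, 6, 6],
    [0, 0, 5, 6, 6],
    [0, 1, 2, 3, 4, 4, 5, 6, 6],
    [1, 1, 2, 2, 3, 5, 5, 6, 6],
    [0, 1, 2, 3, 3, 4, 5, 6, 6],
    [1, 1, 2, 2, 3, 3, 4, 4, 5, 5],
    [0, 1, 2, 5, 6, 6],
    [0, 0, 3, 3, 4, 5, 6, 6],
    [0, 4, 6],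
    [1, 2, 3, 3, 4, 4],
    [0, 0, 1, 1, 2, 2, 3, 3, 5, 6, 6],
    [0, 0, 1, 1, 2, 2, 3, 4, 5, 6, 6],
    [0, 3, 3, 4, 4, 6, 6],
    [1, 2, 4, 6, 6],
    [0, 3],
    [1, 2, 3, 6],
    [0, 0, 1, 1, 2, 2, 4, 4, 5, 6, 6],
    [3, 6, 6],
    [0, 1, 1, 2, 2, 3, 4, 5, 6],
    [0, 0, 1, 2, 3],
    [3, 3, 4, 4, 6],
    [0, 1, 1, 2, 2, 4, 4, 5, 6],
    [0, 1, 1, 2, 2, 3, 3, 5, 6],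
    [0, 0, 1, 2, 3, 3, 4, 4, 6, 6],
    [0, 0, 1, 2, 4, 6],
    [4],
    [0, 0, 3, 3, 4, 5, 5, 6],
    [0, 0, 3, 4, 4, 5, 5],
    [1, 1, 2, 2, 3],
    [1, 1, 2, 2, 4, 6],
    [0, 1, 2, 3, 4, 4, 5, 5],
    [0, 0, 5, 5, 6, 6],
    [0, 1, 2, 5, 5, 6, 6],
    [0, 1, 2, 3, 3, 4, 5, 5, 6],
    [1, 1, 2, 2, 3, 3, 4, 4, 6, 6],
    [0, 1, 1, 4, 5, 5, 6, 6],
    [0, 1, 1, 3, 3, 4, 4, 5, 5, 6],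
    [0, 0, 1, 2, 2, 3, 3, 6],
    [0, 1, 1, 3, 5, 5],
    [2, 3, 3, 4, 4, 5, 5, 6, 6],
    [0, 0, 1, 2, 2, 4, 4],
    [2, 3, 5, 5, 6],
    [0, 0, 1, 2, 2, 3, 4, 6, 6],
    [2, 4, 5, 5],
    [0, 0, 5],
    [0, 1, 2, 3, 4, 4, 5],
    [0, 1, 2, 3, 3, 4, 5],
    [0, 0, 3, 3, 4, 5],
    [1, 1, 2, 2, 3, 3, 4, 4, 5, 5, 6],
    [0, 1, 2, 5],
    [0, 0, 3, 4, 4, 5],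
    [1, 1, 2, 2, 4, 5, 5, 6, 6],
    [1, 1, 2, 2, 3, 5, 5],
    [1, 3, 4, 5, 5],
    [0, 2, 2, 6, 6],
    [0, 0, 1, 1, 2, 3, 4, 5, 5, 6, 6],
    [1, 4, 4, 5, 5, 6, 6],
    [1, 3, 3, 5, 5, 6],
    [0, 0, 1, 1, 2, 3, 3, 5, 5],
    [0, 2, 2, 3, 4, 4, 6],
    [0, 2, 2, 3, 3, 4],
    [0, 0, 1, 1, 2, 4, 4, 5, 5, 6],
    [0, 0, 4, 4, 5, 5],
    [0, 0, 3, 3, 5, 5, 6, 6],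
    [0, 1, 2, 3, 3, 5, 5, 6],
    [0, 1, 2, 3, 4, 5, 5],
    [1, 1, 2, 2],
    [1, 1, 2, 2, 3, 3, 4, 6],
    [1, 1, 2, 2, 3, 4, 4, 6, 6],
    [0, 0, 3, 4, 5, 5, 6],
    [0, 1, 2, 4, 4, 5, 5, 6, 6],
    [3, 4, 4],
    [0, 1, 1, 2, 2, 4, 5],
    [0, 1, 1, 2, 2, 3, 5],
    [0, 0, 1, 2, 3, 3, 4, 6, 6],
    [6],
    [3, 3, 4, 6, 6],
    [0, 0, 1, 2, 3, 4, 4],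
    [0, 0, 1, 2, 6],
    [0, 1, 1, 2, 2, 3, 3, 4, 4, 5],
    [3, 3, 5, 5, 6],
    [4, 4, 5, 5, 6, 6],
    [3, 4, 5, 5],
    [0, 0, 1, 2, 3, 4, 5, 5, 6, 6],
    [0, 0, 1, 2, 4, 4, 5, 5, 6],
    [0, 0, 1, 2, 3, 3, 5, 5],
    [0, 1, 1, 2, 2, 3, 4, 4, 6],
    [0, 1, 1, 2, 2, 3, 3, 4],
    [0, 1, 1, 2, 2, 6, 6],
    [0, 0, 1, 3, 3, 5, 5, 6, 6],
    [0, 0, 1, 3, 4, 5, 5, 6],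
    [0, 1, 1, 2, 3, 4, 5, 5],
    [0, 0, 1, 4, 4, 5, 5],
    [0, 1, 1, 2, 4, 4, 5, 5, 6, 6],
    [2, 2, 3, 3, 4, 6],
    [2, 2],
    [2, 2, 3, 4, 4, 6, 6],
    [0, 1, 1, 2, 3, 3, 5, 5, 6],
    [0, 0, 4, 5, 6, 6],
    [1, 1, 2, 2, 4, 4, 5, 5],
    [1, 1, 2, 2, 3, 4, 5, 5, 6],
    [0, 0, 3, 5, 6, 6],
    [0, 1, 2, 4, 5],
    [0, 1, 2, 3, 3, 4, 4, 5],
    [1, 1, 2, 2, 3, 3, 5, 5, 6, 6],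
    [0, 0, 3, 3, 4, 4, 5, 6, 6],
    [0, 1, 2, 3, 5],
    [0, 0, 1, 4, 5, 5, 6],
    [0, 0, 1, 3, 5, 5, 6, 6],
    [2, 2, 3, 4, 6],
    [0, 0, 1, 3, 3, 4, 4, 5, 5],
    [2, 2, 4, 4, 6, 6],
    [0, 1, 1, 2, 4, 5, 5, 6, 6],
    [0, 1, 1, 2, 3, 5, 5],
    [0, 1, 1, 2, 3, 3, 4, 4, 5, 5, 6],
    [2, 2, 3, 3],
    [1, 1, 2, 2, 3, 5],
    [1, 1, 2, 2, 3, 3, 4, 4, 5],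
    [0, 1, 2, 3, 3, 4, 6, 6],
    [0, 0, 3, 4, 4],
    [1, 1, 2, 2, 4, 5],
    [0, 0, 3, 3, 4, 6, 6],
    [0, 0, 6],
    [0, 1, 2, 3, 4, 4],
    [0, 1, 2, 6],
    [0, 5],
    [0, 0, 1, 1, 2, 2, 4, 5, 5, 6, 6],
    [1, 2, 5],
    [0, 3, 4, 4, 5],
    [1, 2, 3, 4, 4, 5],
    [0, 3, 3, 4, 5],
    [0, 0, 1, 1, 2, 2, 3, 3, 4, 4, 5, 5, 6],
    [1, 2, 3, 3, 4, 5],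
    [0, 0, 1, 1, 2, 2, 3, 5, 5],
    [0, 0, 1, 1, 2, 2, 4, 4, 5],
    [1, 2, 3, 6, 6],
    [0, 3, 3, 4, 4],
    [0, 0, 1, 1, 2, 2, 3, 3, 5],
    [0, 3, 6],
    [1, 2, 3, 3, 4, 4, 6],
    [1, 2, 4],
    [0, 4, 6, 6],
    [0, 0, 1, 1, 2, 2, 3, 4, 5],
    [0, 2, 2, 4, 4, 5, 5, 6],
    [1, 4, 5],
    [1, 3, 3, 4, 4, 5],
    [0, 2, 2, 3, 3, 5, 5],
    [1, 3, 5],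
    [0, 2, 2, 3, 4, 5, 5, 6, 6],
    [0, 0, 1, 1, 2, 4, 5, 6],
    [0, 0, 1, 1, 2, 3, 5, 6],
    [0, 0, 1, 1, 2, 3, 3, 4, 4, 5, 6],
    [0, 0, 1, 1, 2, 2, 3, 3, 4, 4, 5, 6],
    [0, 3, 3, 4],
    [1, 2, 6, 6],
    [1, 2, 3, 3, 4],
    [0, 6, 6],
    [0, 0, 1, 1, 2, 2, 3, 5, 6],
    [0, 3, 4, 4, 6],
    [0, 0, 1, 1, 2, 2, 4, 5, 6],
    [1, 2, 3, 4, 4, 6],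
    [0, 0, 1, 2, 3, 4, 5, 6],
    [4, 4, 5, 6, 6],
    [0, 1, 1, 2, 2, 3, 3, 4, 5, 5, 6],
    [0, 1, 1, 2, 2, 5, 5, 6, 6],
    [0, 1, 1, 2, 2, 3, 4, 4, 5, 5],
    [3, 3, 5, 6, 6],
    [0, 0, 1, 2, 3, 3, 5, 6],
    [0, 0, 1, 2, 4, 4, 5, 6],
    [3, 4, 5, 6, 6],
    [0, 0, 3, 4, 4, 6],
    [0, 0, 3, 3, 4],
    [1, 1, 2, 2, 4, 5, 6],
    [0, 1, 2, 6, 6],
    [0, 0, 6, 6],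
    [0, 1, 2, 3, 4, 4, 6],
    [0, 1, 2, 3, 3, 4],
    [1, 1, 2, 2, 3, 3, 4, 4, 5, 6],
    [1, 1, 2, 2, 3, 5, 6],
    [3, 3, 4, 4, 5, 6, 6],
    [0, 1, 1, 2, 2, 3, 3, 5, 5, 6, 6],
    [0, 0, 1, 2, 3, 3, 4, 4, 5],
    [0, 1, 1, 2, 2, 3, 4, 5, 5, 6],
    [4, 5, 6, 6],
    [0, 0, 1, 2, 4, 5],
    [0, 0, 1, 2, 3, 5],
    [0, 1, 1, 2, 2, 4, 4, 5, 5],
    [3, 5, 6, 6],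
    [0, 4, 5, 6, 6],
    [0, 0, 1, 1, 2, 2, 3, 3, 5, 5, 6, 6],
    [0, 3, 5, 6, 6],
    [0, 0, 1, 1, 2, 2, 4, 4, 5, 5],
    [1, 2, 4, 5],
    [0, 3, 3, 4, 4, 5, 6, 6],
    [0, 0, 1, 1, 2, 2, 3, 4, 5, 5, 6],
    [1, 2, 3, 5],
    [1, 2, 3, 3, 4, 4, 5],
    [0, 0, 4, 5, 5, 6],
    [1, 1, 2, 2, 4, 4, 6, 6],
    [0, 0, 3, 5, 5, 6, 6],
    [0, 1, 2, 3, 5, 5],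
    [0, 0, 3, 3, 4, 4, 5, 5],
    [1, 1, 2, 2, 3, 3],
    [1, 1, 2, 2, 3, 4, 6],
    [0, 1, 2, 4, 5, 5, 6, 6],
    [0, 1, 2, 3, 3, 4, 4, 5, 5, 6],
    [0, 1, 2, 2, 4, 5, 5],
    [0, 0, 2, 3, 4, 4, 5, 6],
    [0, 1, 2, 2, 3, 3, 4, 4, 5, 5, 6, 6],
    [0, 1, 2, 2, 3, 5, 5, 6],
    [1, 1, 3, 4, 4, 5, 6],
    [1, 1, 5, 6],
    [1, 1, 3, 3, 4, 5, 6],
    [0, 0, 2, 3, 3, 4, 5, 6],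
    [0, 0, 2, 5, 6],
    [0, 1, 1, 2, 2, 3, 5, 6, 6],
    [0, 0, 1, 2],
    [3, 3, 4, 6],
    [0, 0, 1, 2, 3, 4, 4, 6, 6],
    [0, 1, 1, 2, 2, 3, 3, 4, 4, 5, 6, 6],
    [0, 0, 1, 2, 3, 3, 4, 6],
    [],
    [3, 4, 4, 6, 6],
    [0, 1, 1, 2, 2, 4, 5, 6, 6],
    [1, 1, 3, 3],
    [0, 0, 2, 3, 4],
    [1, 1, 3, 4, 6],
    [0, 0, 2, 4, 4, 6],
    [0, 1, 2, 2, 3, 4, 4, 5, 6, 6],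
    [0, 1, 2, 2, 5, 6, 6],
    [1, 1, 4, 4, 6, 6],
    [0, 1, 2, 2, 3, 3, 4, 5, 6, 6],
    [0, 0, 2, 3, 3, 6, 6],
    [0, 1, 1, 5, 5],
    [0, 1, 1, 3, 4, 4, 5, 5, 6],
    [2, 5, 5],
    [0, 1, 1, 3, 3, 4, 5, 5, 6, 6],
    [2, 3, 4, 4, 5, 5, 6],
    [0, 0, 1, 2, 2, 3, 3, 4, 4],
    [2, 3, 3, 4, 5, 5, 6, 6],
    [0, 0, 1, 2, 2, 4, 6, 6],
    [0, 0, 1, 2, 2, 3, 6],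
    [1, 1, 4, 4, 5, 5, 6, 6],
    [0, 1, 2, 2, 6, 6],
    [0, 1, 2, 2, 3, 4, 4, 6],
    [0, 0, 2, 3, 3, 5, 5],
    [0, 0, 2, 4, 4, 5, 5, 6],
    [1, 1, 3, 4, 5, 5],
    [1, 1, 3, 3, 5, 5, 6],
    [0, 0, 2, 3, 4, 5, 5, 6, 6],
    [0, 1, 2, 2, 3, 3, 4],
    [0, 0, 1, 2, 4, 6, 6],
    [4, 6],
    [0, 1, 1, 2, 2, 4, 4, 5, 6, 6],
    [0, 1, 1, 2, 2, 3, 3, 5, 6, 6],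
    [0, 1, 1, 2, 2, 3, 4, 5, 6, 6],
    [0, 0, 1, 2, 3, 3, 4, 4],
    [0, 0, 1, 2, 3, 6],
    [3],
    [3, 3, 4, 4, 6, 6],
    [0, 0, 1, 1, 3, 3, 4, 4, 6],
    [1, 2, 2, 3, 4, 5, 6],
    [0, 2, 3, 3, 4, 4, 6, 6],
    [0, 2, 4, 6],
    [1, 2, 2, 3, 3, 5, 6],
    [1, 2, 2, 4, 4, 5, 6],
    [0, 0, 1, 1, 3, 6, 6],
    [0, 0, 1, 1, 4],
    [0, 2, 3],
    [0, 1, 2, 2, 3, 3, 5, 5, 6],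
    [0, 1, 2, 2, 3, 4, 5, 5],
    [1, 1, 4, 5, 6],
    [1, 1, 3, 5, 6],
    [0, 0, 2, 4, 5, 6, 6],
    [0, 1, 2, 2, 4, 4, 5, 5, 6, 6],
    [0, 0, 2, 3, 3, 4, 4, 5, 6, 6],
    [0, 0, 2, 3, 5, 6, 6],
    [1, 1, 3, 3, 4, 4, 5, 6],
    [3, 4, 4, 5, 5, 6, 6],
    [5, 5, 6],
    [3, 3, 4, 5, 5],
    [0, 1, 1, 2, 2, 4],
    [0, 0, 1, 2, 3, 4, 4, 5, 5, 6, 6],
    [0, 1, 1, 2, 2, 3, 3, 4, 4, 6],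
    [0, 0, 1, 2, 5, 5, 6],
    [0, 1, 1, 2, 2, 3, 6, 6],
    [0, 0, 1, 2, 3, 3, 4, 5, 5],
    [0, 0, 1, 1, 2, 2, 4, 6, 6],
    [0, 0, 1, 1, 2, 2, 3, 6],
    [1, 2, 3, 4, 4, 5, 5, 6],
    [0, 5, 5],
    [0, 3, 4, 4, 5, 5, 6],
    [0, 3, 3, 4, 5, 5, 6, 6],
    [1, 2, 3, 3, 4, 5, 5, 6, 6],
    [1, 2, 5, 5],
    [0, 0, 1, 1, 2, 2, 3, 3, 4, 4],
    [1, 1, 2, 2, 3, 3, 5, 6, 6],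
    [0, 0, 3, 3, 4, 4, 6, 6],
    [1, 1, 2, 2, 4, 4, 5, 6, 6],
    [0, 0, 4, 6],
    [1, 1, 2, 2, 3, 4, 5, 6, 6],
    [0, 0, 3],
    [0, 1, 2, 4, 6, 6],
    [0, 1, 2, 3, 6],
    [0, 1, 2, 3, 3, 4, 4],
    [4, 5, 5],
    [0, 1, 1, 2, 2, 4, 4, 6],
    [3, 5, 5, 6],
    [0, 1, 1, 2, 2, 3, 3, 6, 6],
    [3, 3, 4, 4, 5, 5, 6, 6],
    [0, 0, 1, 2, 3, 3, 4, 4, 5, 5],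
    [0, 1, 1, 2, 2, 3, 4],
    [0, 0, 1, 2, 4, 5, 5, 6],
    [0, 0, 1, 2, 3, 5, 5, 6, 6]]

/-- The certificate. -/
def tab3 : TableCert where
  P := pc3
  ews := [[4, 4, 8, 6, 3, 1, 5, 1, 9, 8, 6, 3],
    [4, 0, 7, 8, 8, 2, 9, 3, 0, 1, 8, 9],
    [3, 5, 5, 9, 1, 5, 6, 4, 0, 2, 0, 3, 2],
    [4, 8, 5, 9, 0, 7, 8, 7, 1, 0, 4, 1, 0],
    [4, 2, 0, 1, 0, 1, 0, 0, 7, 4, 3, 7, 9, 9],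
    [8, 5, 5, 1, 7, 1, 1, 1, 1, 2, 1, 0],
    [8, 0, 8, 5, 8, 5, 8, 5, 3, 9, 5, 7]]
  gws := [[4, 4, 0, 2, 4, 4, 3, 4, 2, 0, 2, 4, 1],
    [5, 8, 5, 5, 6, 3, 9, 5, 3, 5, 5, 7, 3, 1, 7, 0],
    [3, 3, 0, 0, 0, 1, 0, 2, 8, 7, 4, 2, 5]]
  C := [(0, [0, 1, 1, 2, 2, 3, 3, 4, 5, 6, 6], [3, 3, 5]),
    (0, [0, 0, 1, 2, 5, 5], [0, 0, 1, 2, 3, 3]),
    (0, [0, 0, 1, 2, 3, 3, 4, 5, 6], [4, 4, 6]),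
    (0, [0, 0, 1, 2, 3, 3, 4, 4, 6, 6], [0, 1, 1, 2, 2, 3, 4, 4, 5, 5, 6]),
    (1, [0, 1, 1, 2, 2, 3, 3, 4, 4, 5], [0, 1, 1, 2, 2, 3, 4]),
    (1, [0, 0, 2, 2, 3, 4, 4, 5, 6], [2, 3, 5, 6]),
    (1, [0, 1, 1, 2, 2, 4, 5, 6], [3, 4, 4, 5, 5, 6, 6]),
    (1, [0, 0, 3, 4, 5, 6], [0, 1, 2, 4, 4, 5, 5, 6]),
    (2, [4, 4, 5, 5, 6], [0, 0, 6]),
    (2, [4, 4, 5, 5], [4, 4, 5, 6]),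
    (2, [4, 5, 5, 6, 6], [0, 5, 6, 6]),
    (2, [0, 0, 1, 1, 4, 5, 6], [0, 1, 1, 4, 4, 5, 6, 6]),
    (2, [0, 0, 4, 4, 5, 5, 6, 6], [0, 0, 1, 1, 4, 4, 5, 6, 6])]
  K :=
    { eqns := [.cons [2, 1, 0] 0 1,
      .cons [3, 1, 0] 0 1,
      .cons [3, 2, 0] 0 1,
      .cons [3, 2, 1] 0 1,
      .cons [4, 2, 0] 0 1,
      .cons [4, 2, 1] 0 1,
      .cons [4, 3, 0] 0 1,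
      .cons [4, 3, 1] 0 1,
      .cons [4, 3, 2] 0 1,
      .cons [5, 2, 1] 0 1,
      .cons [5, 3, 2] 0 1,
      .cons [2, 2, 2, 0] 0 2,
      .cons [2, 0, 0, 0] 0 1,
      .cons [2, 2, 2, 1] 0 2,
      .fus [0, 1, 2, 3] [2, 0] [0, 2],
      .fus [0, 1, 2, 3] [3, 0] [0, 3],
      .fus [0, 1, 2, 3] [0, 0, 0] [],
      .fus [0, 1, 2, 3] [1, 1, 1] [],
      .fus [4, 5, 6, 7] [1, 1, 1] [],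
      .fus [4, 5, 6, 7] [1, 0, 1, 0] [0, 0, 1, 1],
      .fus [4, 5, 6, 7] [1, 2, 3, 0] [0, 2, 3, 1],
      .fus [4, 5, 6, 7] [3, 0, 1, 2] [2, 1, 0, 3],
      .fus [4, 5, 6, 7] [3, 0, 3, 0] [0, 0, 3, 3],
      .fus [4, 5, 6, 7] [3, 3, 1, 3] [1],
      .fus [8, 9, 10, 11, 12] [0, 0, 0] []]
      free := 28
      combo := [[4, 5, 6, 6, 7, 7, 9, 11, 11, 12, 13, 13, 24],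
    [0, 1, 1, 2, 2, 3, 3, 4, 4, 5, 5, 6, 6, 8, 8, 10, 11, 11, 19, 21, 21, 22, 22],
    [0, 0, 2, 3, 3, 4, 6, 6, 7, 7, 8, 9, 9, 12, 13, 15, 16, 16, 18, 18, 19, 22, 22],
    [],
    [1, 2, 2, 3, 3, 6, 7, 7, 8, 9, 10, 10, 12, 13, 13, 15, 15, 16, 16, 17, 17, 20, 21, 22, 23],
    [1, 3, 3, 5, 5, 6, 7, 9, 9, 10, 10, 11, 12, 12, 13, 15, 15, 18, 19, 19, 24],
    [],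
    [0, 1, 2, 3, 4, 5, 5, 6, 6, 7, 9, 9, 11, 12, 12, 15, 15, 16, 16, 17, 17, 19, 19, 20, 20, 21, 21, 22, 22, 23],
    [2, 3, 4, 5, 5, 6, 6, 8, 8, 9, 11, 12, 13, 13, 14, 14, 15, 16, 17, 20, 21, 22, 23, 23],
    [4, 4, 7, 8, 10, 11, 11, 13, 13, 17],
    [1, 1, 3, 3, 4, 6, 6, 8, 8, 10, 10, 11, 12, 12, 13, 15, 19, 22],
    [0, 0, 2, 3, 4, 6, 7, 7, 8, 9, 9, 10, 10, 11, 11, 12, 13, 15, 19, 19],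
    [],
    [0, 1, 1, 3, 4, 5, 7, 8, 9, 10, 10, 11, 11, 13, 15, 15],
    [12],
    [1, 1, 2, 4, 6, 7, 7, 9, 9, 10, 13, 13, 15, 15, 22],
    [2, 3, 3, 4, 6, 6, 8, 8, 11, 12, 12, 19, 22, 22],
    [0, 2, 2, 3, 3, 4, 5, 7, 8, 8, 11, 12, 15, 19, 19, 22, 22],
    [0, 1, 1, 3, 3, 5, 6, 6, 7, 8, 8, 9, 11, 11, 12, 12, 13, 13, 15, 19, 22, 22],
    [6],
    [4, 5, 6, 6, 7, 7, 9, 11, 11, 13, 13],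
    [4, 6, 7, 7],
    [5, 6, 6, 7, 7, 9],
    [6, 6, 7, 9, 9, 10],
    [6, 6, 7, 8, 8],
    [6, 7, 7],
    [6, 6, 9],
    [4, 9, 10, 10, 11, 11, 12, 12]] }
  els := els3

theorem tab3_rel : tab3.chkRelW 10 co3M.eqb = true := by decide +kernel

theorem tab3_card : tab3.chkCardW (co3M.code [529, 530]) = true := by decide +kernel

theorem tab3_tails : tab3.K.check tab3.P tab3.C = true := by decide +kernel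

theorem sylow3 : Nonempty (SylowCert Model.S48 3) := by
  have : Finite Model.S48 := Nat.finite_of_card_ne_zero (by rw [Model.card_S48]; norm_num)
  exact TableCert.sylowCertW co3M_ok.eqb_sound (co3M_ok.code_sound (by decide +kernel) [529, 530]) Model.card_S48 rfl
    (by decide) tab3_rel tab3_card tab3_tails (le_of_eq rfl) (by decide +kernel)

end Cfsg.Agent.Spor.Leech.Tails
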