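import Cfsg.Agent.Lib.Spor.Leech.TailModelData

/-! A Sylow 5-subgroup of the stabiliser of a vector of norm 48, with equations killing the tails. -/

set_option autoImplicit false
set_option maxRecDepth 100000
set_option maxHeartbeats 8000000

open Cfsg.Agent.Grp.SchurM.Tails

namespace Cfsg.Agent.Spor.Leech.Tails

/-- Presentation of the Sylow 5-subgroup. -/
def pc5 : PC where
  p := 5
  n := 3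
  rhs := [[],
    [0, 1, 2],
    [],
    [0, 2],
    [1, 2],
    []]
  defs := [(2, 1, 0)]

/-- Elements of the Sylow 5-subgroup. -/
def els5 : List (List ℕ) :=
   [[0, 1, 1, 1, 2, 2, 2, 2],
    [0, 0, 0, 0, 1, 1],
    [0, 0, 0, 0, 2],
    [0, 0, 0, 2],
    [0, 1],
    [0, 0, 0, 0, 1, 1, 1, 1, 2, 2, 2, 2],
    [0, 0, 0, 0, 1, 2, 2, 2, 2],
    [0, 0, 0, 1, 1, 1, 1, 2, 2, 2, 2],
    [0, 0, 0, 0, 1, 1, 1, 2],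
    [0, 0, 0, 0, 1, 1, 1, 2, 2],
    [0, 2, 2, 2],
    [1],
    [0, 0, 0, 0, 1, 1, 1, 1],
    [1, 1, 1, 2],
    [0, 2, 2],
    [0, 1, 1, 2, 2],
    [0, 1, 1, 1, 1],
    [0, 0, 0, 1, 1, 1, 1, 2],
    [0, 0, 0, 1, 1, 2],
    [0, 0, 0, 1, 2, 2, 2],
    [1, 1, 1],
    [0, 0, 1, 1, 1, 1, 2],
    [0, 0, 0, 1, 1, 1, 2, 2, 2],
    [2, 2, 2, 2],
    [0, 0, 1, 1, 1, 2, 2],
    [1, 1, 2, 2, 2, 2],
    [0, 1, 1, 1, 1, 2, 2],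
    [0, 0, 0, 0, 1, 2, 2],
    [1, 2, 2],
    [0, 0, 1, 1, 1, 2, 2, 2, 2],
    [0, 0, 0, 1, 1, 1, 2, 2],
    [0, 0, 1, 1, 2, 2, 2],
    [0, 1, 1, 2],
    [0, 0],
    [2, 2, 2],
    [2, 2],
    [0, 0, 0, 1, 1, 2, 2],
    [0, 0, 1, 2, 2, 2],
    [0, 0, 0, 1, 1, 1, 1],
    [0, 0, 1, 1, 1, 1, 2, 2, 2],
    [0, 0, 1, 2, 2],
    [0, 0, 0, 0, 1, 1, 2, 2, 2, 2],
    [1, 1, 1, 1, 2, 2],
    [0, 0, 0, 1, 2, 2, 2, 2],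
    [0, 2, 2, 2, 2],
    [1, 1, 1, 1],
    [0, 0, 1, 1, 1],
    [0, 1, 1, 1],
    [0, 0, 1, 1, 2, 2, 2, 2],
    [0, 0, 2, 2, 2, 2],
    [0, 0, 0, 0, 1, 1, 1, 2, 2, 2],
    [1, 1, 2, 2],
    [0, 0, 1, 1, 1, 2, 2, 2],
    [0, 0, 1, 2, 2, 2, 2],
    [0, 0, 2, 2, 2],
    [0, 0, 1, 1, 1, 1],
    [0, 0, 0, 1, 1, 2, 2, 2, 2],
    [0, 0, 1, 1, 2],
    [1, 1, 2, 2, 2],
    [1, 1, 1, 1, 2],
    [0, 0, 0, 1, 2],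
    [0, 1, 2],
    [0, 0, 0, 1, 1, 1, 2],
    [0, 0, 0, 0],
    [0, 0, 1, 1],
    [0, 0, 0],
    [0, 0, 0, 0, 1, 1, 2],
    [1, 1, 1, 2, 2, 2, 2],
    [0, 1, 2, 2, 2, 2],
    [0, 1, 1, 1, 1, 2],
    [1, 1, 1, 1, 2, 2, 2, 2],
    [1, 2, 2, 2, 2],
    [0, 0, 0, 0, 1, 1, 1, 1, 2, 2],
    [1, 1, 2],
    [0, 1, 1, 2, 2, 2],
    [0, 0, 0, 0, 2, 2, 2],
    [0, 0, 2],
    [0, 0, 0, 0, 1, 2],
    [0, 0, 0, 2, 2, 2],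
    [0, 0, 0, 0, 1, 1, 1],
    [0, 1, 2, 2, 2],
    [0, 0, 0, 2, 2, 2, 2],
    [1, 1, 1, 1, 2, 2, 2],
    [0, 0, 2, 2],
    [0, 0, 0, 1, 2, 2],
    [0, 0, 1],
    [1, 1],
    [0, 0, 1, 1, 2, 2],
    [0, 0, 0, 0, 2, 2, 2, 2],
    [0, 1, 1, 2, 2, 2, 2],
    [2],
    [0, 0, 0, 0, 1, 1, 2, 2],
    [0, 0, 0, 0, 1, 2, 2, 2],
    [1, 2],
    [0, 0, 0, 0, 2, 2],
    [0, 1, 1, 1, 2, 2, 2],
    [0, 1, 1],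
    [0, 0, 0, 2, 2],
    [0, 0, 1, 1, 1, 1, 2, 2, 2, 2],
    [0, 0, 0, 0, 1, 1, 1, 1, 2, 2, 2],
    [0, 0, 0, 1, 1, 2, 2, 2],
    [0, 0, 0, 1, 1, 1, 2, 2, 2, 2],
    [1, 1, 1, 2, 2, 2],
    [0, 1, 1, 1, 1, 2, 2, 2, 2],
    [0],
    [1, 2, 2, 2],
    [0, 0, 0, 1],
    [0, 1, 1, 1, 1, 2, 2, 2],
    [0, 0, 1, 1, 1, 1, 2, 2],
    [0, 0, 0, 1, 1, 1],
    [0, 0, 1, 2],
    [0, 0, 0, 1, 1],
    [0, 0, 0, 0, 1],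
    [0, 0, 0, 0, 1, 1, 1, 1, 2],
    [0, 0, 0, 1, 1, 1, 1, 2, 2, 2],
    [0, 1, 1, 1, 2, 2],
    [1, 1, 1, 2, 2],
    [0, 1, 2, 2],
    [0, 0, 0, 1, 1, 1, 1, 2, 2],
    [0, 2],
    [0, 0, 0, 0, 1, 1, 2, 2, 2],
    [],
    [0, 1, 1, 1, 2],
    [0, 0, 0, 0, 1, 1, 1, 2, 2, 2, 2],
    [0, 0, 1, 1, 1, 2]]

/-- The certificate. -/
def tab5 : TableCert where
  P := pc5
  ews := [[7, 4, 6, 3, 2, 6, 9, 9, 0, 9, 5, 6],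
    [5, 2, 0, 9, 7, 0, 7, 1, 1, 4, 0, 9],
    [0, 0, 4, 7, 0, 1, 5, 9, 7, 0, 0, 1]]
  gws := [[5, 9, 7, 5, 5, 5, 9, 2, 6, 6, 6, 7, 9, 1]]
  C := [(0, [0, 0, 0, 1], [0]),
    (0, [0, 0, 0, 0, 1, 2, 2], [1, 1, 1, 2, 2, 2, 2])]
  K :=
    { eqns := [.cons [1, 1, 1, 1, 1, 0] 0 4,
      .fus [0, 1] [1, 0, 0, 1] [0, 1, 1, 0],
      .fus [0, 1] [0, 0, 0, 0, 0] [],
      .fus [0, 1] [1, 0, 0, 0, 1] [0, 1, 0, 1, 0],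
      .fus [0, 1] [1, 1, 1, 1, 1] []]
      free := 6
      combo := [[0, 2, 2, 2, 2, 4, 4],
    [],
    [0, 0, 0, 0, 2, 2, 2, 4],
    [0, 0, 0, 0, 1, 1, 3, 3, 3, 3],
    [0, 1, 1, 1, 1],
    [0, 0, 0, 0]] }
  els := els5

theorem tab5_rel : tab5.chkRelW 10 co3M.eqb = true := by decide +kernel

theorem tab5_card : tab5.chkCardW (co3M.code [538]) = true := by decide +kernel

theorem tab5_tails : tab5.K.check tab5.P tab5.C = true := by decide +kernel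

theorem sylow5 : Nonempty (SylowCert Model.S48 5) := by
  have : Finite Model.S48 := Nat.finite_of_card_ne_zero (by rw [Model.card_S48]; norm_num)
  exact TableCert.sylowCertW co3M_ok.eqb_sound (co3M_ok.code_sound (by decide +kernel) [538]) Model.card_S48 rfl
    (by decide) tab5_rel tab5_card tab5_tails (le_of_eq rfl) (by decide +kernel)

end Cfsg.Agent.Spor.Leech.Tails
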