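import Cfsg.Agent.Lib.Spor.Leech.TailModelData

/-! A Sylow 7-subgroup of the stabiliser of a vector of norm 48, with equations killing the tails. -/

set_option autoImplicit false
set_option maxRecDepth 100000
set_option maxHeartbeats 8000000

open Cfsg.Agent.Grp.SchurM.Tails

namespace Cfsg.Agent.Spor.Leech.Tails

/-- Presentation of the Sylow 7-subgroup. -/
def pc7 : PC where
  p := 7
  n := 1
  rhs := [[]]
  defs := []

/-- Elements of the Sylow 7-subgroup. -/
def els7 : List (List ℕ) :=
   [[0],
    [0, 0, 0, 0, 0],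
    [0, 0],
    [0, 0, 0],
    [0, 0, 0, 0, 0, 0],
    [0, 0, 0, 0],
    []]

/-- The certificate. -/
def tab7 : TableCert where
  P := pc7
  ews := [[1, 8, 2, 0, 1, 5, 3, 5, 1, 0, 2, 9]]
  gws := [[7, 3, 7, 3, 9, 7, 4, 5, 5, 8]]
  C := [(0, [0, 0, 0], [0, 0, 0, 0, 0])]
  K :=
    { eqns := [.fus [0] [0, 0, 0, 0, 0, 0, 0] []]
      free := 1
      combo := [[0, 0, 0]] }
  els := els7

theorem tab7_rel : tab7.chkRelW 10 co3M.eqb = true := by decide +kernel

theorem tab7_card : tab7.chkCardW (co3M.code [529]) = true := by decide +kernel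

theorem tab7_tails : tab7.K.check tab7.P tab7.C = true := by decide +kernel

theorem sylow7 : Nonempty (SylowCert Model.S48 7) := by
  have : Finite Model.S48 := Nat.finite_of_card_ne_zero (by rw [Model.card_S48]; norm_num)
  exact TableCert.sylowCertW co3M_ok.eqb_sound (co3M_ok.code_sound (by decide +kernel) [529]) Model.card_S48 rfl
    (by decide) tab7_rel tab7_card tab7_tails (le_of_eq rfl) (by decide +kernel)

end Cfsg.Agent.Spor.Leech.Tails
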