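import Cfsg.Agent.Lib.Spor.Leech.ThreeSimple
import Cfsg.Agent.Lib.Spor.Cos.Act
import Cfsg.Agent.Lib.Grp.SchurM.TailWords

/-! Words in chosen automorphisms fixing a vector of norm 48, acting on a table of short vectors. -/

set_option autoImplicit false
set_option maxRecDepth 100000

open Cfsg Cfsg.Agent.Spor.Cos

namespace Cfsg.Agent.Spor.Leech.Tails

/-- A list of vectors, their packed forms and the table of the letters. -/
structure Model where
  /-- the letters -/
  gl : List (List (ℕ × ℕ))
  /-- the vectors -/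
  vs : List (List ℤ)
  /-- packed forms -/
  xt : Tab
  /-- table of images -/
  act : Act
  /-- indices of a spanning set -/
  base : List ℕ
  /-- coefficients giving a multiple of each unit vector -/
  coef : List (List ℤ)
  /-- that multiple -/
  den : ℤ

namespace Model

variable (M : Model)

/-- The fixed vector as a list. -/
def uList : List ℤ := [1, 1, 1, 1, 1, 1, 1, 1, 1, 1, 1, 1, 1, 1, 1, 1, 1, 1, 1, 1, 1, 1, 1, 5]

/-- The letters fix the vector. -/
noncomputable def chkLetters : Bool :=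
  Nat.beq M.act.n M.gl.length && chkGens [(uList, 48)] M.gl

/-- The vectors and their packed forms. -/
noncomputable def chkVecs : Bool :=
  Nat.beq M.act.N M.vs.length &&
    (List.range M.vs.length).all fun p =>
      inL (ofList (M.vs.getD p [])) && decide (sqNorm (ofList (M.vs.getD p [])) ≤ 64) &&
        Nat.beq (encV (ofList (M.vs.getD p []))) (M.xt.at p) &&
          (Nat.ble M.vs.length (p + 1) || Nat.blt (M.xt.at p) (M.xt.at (p + 1)))

/-- The table of images, for one point. -/
noncomputable def chkIm (p : ℕ) : Bool :=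
  (List.range M.gl.length).all fun s => Cos.force (M.act.im p s) fun q =>
    Nat.blt q M.act.N && Nat.beq (appWF (M.gl.getD s []) (M.xt.at p)) (M.xt.at q)

/-- The spanning condition. -/
noncomputable def chkSpan : Bool :=
  decide (M.den ≠ 0) && M.base.all (fun b => Nat.blt b M.vs.length) &&
    (List.range 24).all fun i => (List.range 24).all fun j =>
      decide (((List.range M.base.length).map fun t =>
        (M.coef.getD i []).getD t 0 * (M.vs.getD (M.base.getD t 0) []).getD j 0).sum = if i = j then M.den else 0)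

/-- The whole table. -/
structure Ok : Prop where
  letters : M.chkLetters = true
  vecs : M.chkVecs = true
  im : ∀ p < M.act.N, M.chkIm p = true
  span : M.chkSpan = true

/-- The stabiliser. -/
abbrev S48 : Type := ↥(MulAction.stabilizer Co0 ThreeOrbits.bU)

open _root_.Classical in
/-- The letters as elements. -/
noncomputable def gT (s : ℕ) : S48 :=
  if h : wordG (M.gl.getD s []) ∈ MulAction.stabilizer Co0 ThreeOrbits.bU then ⟨_, h⟩ else 1

open _root_.Classical in
/-- The points. -/
noncomputable def pt (p : ℕ) : leechLattice :=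
  if h : inL (ofList (M.vs.getD p [])) = true then ⟨_, mem_of_inL h⟩ else 0

variable {M}

theorem Ok.gT_val (h : M.Ok) {s : ℕ} (hs : s < M.act.n) :
    (M.gT s).1 = wordG (M.gl.getD s []) ∧ (M.gl.getD s []).all opOk = true := by
  have hl := h.letters
  simp only [chkLetters, Bool.and_eq_true] at hl
  rw [Nat.eq_of_beq_eq_true hl.1] at hs
  obtain ⟨hop, hfix⟩ := fixes_of_chk hl.2 (w := M.gl.getD s []) (by
    rw [List.getD_eq_getElem _ _ hs]; exact List.getElem_mem _)
  have hm : wordG (M.gl.getD s []) ∈ MulAction.stabilizer Co0 ThreeOrbits.bU :=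
    MulAction.mem_stabilizer_iff.2 (hfix (uList, 48) (List.mem_singleton.2 rfl) _ rfl)
  exact ⟨by rw [gT, dif_pos hm], hop⟩

theorem Ok.pt_spec (h : M.Ok) {p : ℕ} (hp : p < M.act.N) :
    ((M.pt p : leechLattice) : Vec) = ofList (M.vs.getD p []) ∧ sqNorm ((M.pt p : leechLattice) : Vec) ≤ 64 ∧
      encV ((M.pt p : leechLattice) : Vec) = M.xt.at p ∧
      (p + 1 < M.act.N → M.xt.at p < M.xt.at (p + 1)) := by
  have hv := h.vecs
  simp only [chkVecs, Bool.and_eq_true, List.all_eq_true, List.mem_range, Bool.or_eq_true] at hv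
  have hN := Nat.eq_of_beq_eq_true hv.1
  obtain ⟨⟨⟨h1, h2⟩, h3⟩, h4⟩ := hv.2 p (hN ▸ hp)
  have e : ((M.pt p : leechLattice) : Vec) = ofList (M.vs.getD p []) := by rw [pt, dif_pos h1]
  refine ⟨e, e ▸ of_decide_eq_true h2, e ▸ Nat.eq_of_beq_eq_true h3, fun hlt => ?_⟩
  exact Nat.le_of_ble_eq_true (h4.resolve_left fun h' => by
    have := Nat.le_of_ble_eq_true h'
    omega)

theorem Ok.xt_lt (h : M.Ok) {p q : ℕ} (hpq : p < q) (hq : q < M.act.N) : M.xt.at p < M.xt.at q := by
  induction hpq with
  | refl => exact (h.pt_spec (Nat.lt_of_succ_lt hq)).2.2.2 hq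
  | @step m _ ih => exact (ih (by omega)).trans ((h.pt_spec (show m < M.act.N by omega)).2.2.2 hq)

theorem Ok.pt_inj (h : M.Ok) {p q : ℕ} (hp : p < M.act.N) (hq : q < M.act.N) (e : M.pt p = M.pt q) : p = q := by
  have e' : M.xt.at p = M.xt.at q := by rw [← (h.pt_spec hp).2.2.1, ← (h.pt_spec hq).2.2.1, e]
  rcases lt_trichotomy p q with hlt | heq | hgt
  · exact absurd e' (h.xt_lt hlt hq).ne
  · exact heq
  · exact absurd e' (h.xt_lt hgt hp).ne'

theorem Ok.step (h : M.Ok) {s p : ℕ} (hs : s < M.act.n) (hp : p < M.act.N) :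
    M.act.im p s < M.act.N ∧ (M.gT s).1 • M.pt p = M.pt (M.act.im p s) := by
  obtain ⟨hv, hop⟩ := h.gT_val hs
  have hl := h.letters
  simp only [chkLetters, Bool.and_eq_true] at hl
  have hi := h.im p hp
  simp only [chkIm, List.all_eq_true, List.mem_range] at hi
  have hi' := hi s (Nat.eq_of_beq_eq_true hl.1 ▸ hs)
  rw [Cos.force_eq, Bool.and_eq_true] at hi'
  have hq : M.act.im p s < M.act.N := Nat.le_of_ble_eq_true hi'.1
  refine ⟨hq, Subtype.ext (encV_inj (small_of_norm ((co_norm _ _).trans_le (h.pt_spec hp).2.1))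
    (small_of_norm (h.pt_spec hq).2.1) ?_)⟩
  rw [hv, ← appW_spec hop _ (h.pt_spec hp).2.1, (h.pt_spec hp).2.2.1, (h.pt_spec hq).2.2.1, ← appWF_eq]
  exact Nat.eq_of_beq_eq_true hi'.2

theorem Ok.ev_pt (h : M.Ok) : ∀ (w : List ℕ), (∀ s ∈ w, s < M.act.n) → ∀ {p : ℕ}, p < M.act.N →
    M.act.go w p < M.act.N ∧ (Cos.ev M.gT w).1 • M.pt p = M.pt (M.act.go w p)
  | [], _, p, hp => ⟨hp, one_smul _ _⟩
  | s :: w, hw, p, hp => by
    obtain ⟨h1, h2⟩ := h.ev_pt w (fun t ht => hw t (List.mem_cons_of_mem _ ht)) hp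
    obtain ⟨h3, h4⟩ := h.step (hw s List.mem_cons_self) h1
    rw [Act.go_cons]
    refine ⟨h3, ?_⟩
    show ((M.gT s).1 * (Cos.ev M.gT w).1) • M.pt p = _
    rw [mul_smul, h2, h4]

theorem Ok.det (h : M.Ok) (y : S48) (hy : ∀ b ∈ M.base, y.1 • M.pt b = M.pt b) : y = 1 := by
  have hs := h.span
  simp only [chkSpan, Bool.and_eq_true, decide_eq_true_eq, List.all_eq_true, List.mem_range] at hs
  obtain ⟨⟨hden, hb⟩, hsum⟩ := hs
  have hN : M.act.N = M.vs.length := by
    have hv := h.vecs
    simp only [chkVecs, Bool.and_eq_true] at hv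
    exact Nat.eq_of_beq_eq_true hv.1
  refine Subtype.ext (Subtype.ext (Equiv.ext fun x => ?_))
  show y.1 • x = x
  have hd : ∀ b ∈ M.base, dotInt (((y.1 • x : leechLattice) : Vec) - (x : Vec)) ((M.pt b : leechLattice) : Vec) = 0 := by
    intro b hb'
    have e := co_dot y.1 x (M.pt b)
    rw [hy b hb'] at e
    simp only [dotInt, Pi.sub_apply, sub_mul, Finset.sum_sub_distrib] at e ⊢
    rw [e, sub_self]
  refine Subtype.ext (funext fun i => sub_eq_zero.1 ?_)
  set z : Vec := ((y.1 • x : leechLattice) : Vec) - (x : Vec) with hz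
  have key : M.den * z i = ((List.range M.base.length).map fun t =>
      (M.coef.getD (Golay.idx i) []).getD t 0 * dotInt z ((M.pt (M.base.getD t 0) : leechLattice) : Vec)).sum := by
    have hpt : ∀ t ∈ List.range M.base.length, ((M.pt (M.base.getD t 0) : leechLattice) : Vec) =
        ofList (M.vs.getD (M.base.getD t 0) []) := fun t ht => by
      refine (h.pt_spec ?_).1
      rw [hN, List.getD_eq_getElem _ _ (List.mem_range.1 ht)]
      exact Nat.le_of_ble_eq_true (hb _ (List.getElem_mem _))
    rw [List.map_congr_left fun t ht => by rw [hpt t ht]]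
    simp only [dotInt, Finset.mul_sum]
    have swap : ∀ (l : List ℕ) (f : ℕ → GolayPt → ℤ),
        (l.map fun t => ∑ j, f t j).sum = ∑ j, (l.map fun t => f t j).sum := by
      intro l f
      induction l with
      | nil => simp
      | cons a l ih => simp only [List.map_cons, List.sum_cons, ih, Finset.sum_add_distrib]
    rw [swap]
    have hj : ∀ j : GolayPt, ((List.range M.base.length).map fun t =>
        (M.coef.getD (Golay.idx i) []).getD t 0 * (z j * ofList (M.vs.getD (M.base.getD t 0) []) j)).sum =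
        if j = i then M.den * z j else 0 := by
      intro j
      have e := hsum (Golay.idx i) (Golay.idx_lt i) (Golay.idx j) (Golay.idx_lt j)
      rw [List.map_congr_left fun t _ => (show _ = z j * ((M.coef.getD (Golay.idx i) []).getD t 0 *
        (M.vs.getD (M.base.getD t 0) []).getD (Golay.idx j) 0) by simp only [ofList]; ring), List.sum_map_mul_left, e]
      by_cases hji : j = i
      · subst hji; rw [if_pos rfl, if_pos rfl, mul_comm]
      · rw [if_neg hji, if_neg, mul_zero]
        exact fun e' => hji (by rw [← Golay.pt_idx j, ← e', Golay.pt_idx])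
    rw [Finset.sum_congr rfl fun j _ => hj j, Finset.sum_ite_eq' Finset.univ i]
    simp
  have h0 : ((List.range M.base.length).map fun t =>
      (M.coef.getD (Golay.idx i) []).getD t 0 * dotInt z ((M.pt (M.base.getD t 0) : leechLattice) : Vec)).sum = 0 := by
    refine List.sum_eq_zero fun a ha => ?_
    obtain ⟨t, ht, rfl⟩ := List.mem_map.1 ha
    rw [hd _ (by rw [List.getD_eq_getElem _ _ (List.mem_range.1 ht)]; exact List.getElem_mem _), mul_zero]
  rw [h0] at key
  exact (mul_eq_zero.1 key).resolve_left hden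

variable (M)

/-- Agreement on the spanning set. -/
noncomputable def eqb (u v : List ℕ) : Bool := M.base.all fun b => Nat.beq (M.act.go u b) (M.act.go v b)

/-- An invariant: the images of some points. -/
noncomputable def code (ps : List ℕ) (u : List ℕ) : ℕ :=
  List.rec (motive := fun _ => ℕ) 0 (fun b _ r => r * 65536 + M.act.go u (b % M.act.N)) ps

variable {M}

theorem Ok.eqb_sound (h : M.Ok) (u v : List ℕ) (hu : ∀ s ∈ u, s < M.act.n) (hv : ∀ s ∈ v, s < M.act.n)
    (e : M.eqb u v = true) : Cos.ev M.gT u = Cos.ev M.gT v := by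
  refine (inv_mul_eq_one.1 (h.det ((Cos.ev M.gT v)⁻¹ * Cos.ev M.gT u) fun b hb => ?_)).symm
  have hbN : b < M.act.N := by
    have hs := h.span
    have hv' := h.vecs
    simp only [chkSpan, chkVecs, Bool.and_eq_true, List.all_eq_true] at hs hv'
    rw [Nat.eq_of_beq_eq_true hv'.1]
    exact Nat.le_of_ble_eq_true (hs.1.2 b hb)
  obtain ⟨-, e1⟩ := h.ev_pt u hu hbN
  obtain ⟨-, e2⟩ := h.ev_pt v hv hbN
  show ((Cos.ev M.gT v).1⁻¹ * (Cos.ev M.gT u).1) • M.pt b = M.pt b
  rw [mul_smul, e1, Nat.eq_of_beq_eq_true (List.all_eq_true.1 e b hb), ← e2, inv_smul_smul]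

theorem Ok.code_sound (h : M.Ok) (hN : 0 < M.act.N) (ps u v : List ℕ) (hu : ∀ s ∈ u, s < M.act.n)
    (hv : ∀ s ∈ v, s < M.act.n) (e : Cos.ev M.gT u = Cos.ev M.gT v) : M.code ps u = M.code ps v := by
  induction ps with
  | nil => rfl
  | cons b l ih =>
    obtain ⟨l1, e1⟩ := h.ev_pt u hu (Nat.mod_lt b hN)
    obtain ⟨l2, e2⟩ := h.ev_pt v hv (Nat.mod_lt b hN)
    simp only [code] at ih ⊢
    rw [ih, h.pt_inj l1 l2 (by rw [← e1, ← e2, e])]

theorem card_S48 : Nat.card S48 = 495766656000 := ThreeSimple.facts.2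

end Model

end Cfsg.Agent.Spor.Leech.Tails
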