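import Cfsg.Prelude.Def_Spor_Conway
import Cfsg.Agent.Lib.Spor.Leech.Tail2
import Cfsg.Agent.Lib.Spor.Leech.Tail3
import Cfsg.Agent.Lib.Spor.Leech.Tail5
import Cfsg.Agent.Lib.Spor.Leech.Tail7
import Cfsg.Agent.Lib.Spor.Leech.Tail11
import Cfsg.Agent.Lib.Spor.Leech.Tail23

/-! The multiplier of Co₃ is trivial. -/

set_option autoImplicit false
set_option maxRecDepth 100000

open Cfsg Cfsg.Agent.Grp.SchurM.Tails

namespace Cfsg.Agent.Spor.Leech.Tails

theorem multiplier_S48 : Cfsg.HasCyclicSchurMultiplier Model.S48 1 := by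
  have : Finite Model.S48 := Nat.finite_of_card_ne_zero (by rw [Model.card_S48]; norm_num)
  refine multiplier_trivial fun p hp hd => ?_
  rw [Model.card_S48, show 495766656000 = 2 ^ 10 * 3 ^ 7 * 5 ^ 3 * 7 * 11 * 23 by norm_num] at hd
  have key : ∀ r : ℕ, r.Prime → p ∣ r → p = r := fun r hr h => (Nat.prime_dvd_prime_iff_eq hp hr).1 h
  rcases (Nat.Prime.dvd_mul hp).1 hd with hd | h23
  · rcases (Nat.Prime.dvd_mul hp).1 hd with hd | h11
    · rcases (Nat.Prime.dvd_mul hp).1 hd with hd | h7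
      · rcases (Nat.Prime.dvd_mul hp).1 hd with hd | h5
        · rcases (Nat.Prime.dvd_mul hp).1 hd with h2 | h3
          · obtain rfl := key 2 Nat.prime_two (hp.dvd_of_dvd_pow h2); exact sylow2
          · obtain rfl := key 3 Nat.prime_three (hp.dvd_of_dvd_pow h3); exact sylow3
        · obtain rfl := key 5 (by norm_num) (hp.dvd_of_dvd_pow h5); exact sylow5
      · obtain rfl := key 7 (by norm_num) h7; exact sylow7
    · obtain rfl := key 11 (by norm_num) h11; exact sylow11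
  · obtain rfl := key 23 (by norm_num) h23; exact sylow23

/-- The group of the definitions inside the automorphisms of the lattice. -/
noncomputable def equivV : ↥Cfsg.Spor.Co3 ≃* ↥(MulAction.stabilizer Co0 Cfsg.Spor.leechV) where
  toFun g := ⟨⟨g.1, g.2.1⟩, g.2.2⟩
  invFun g := ⟨g.1.1, g.1.2, g.2⟩
  left_inv _ := rfl
  right_inv _ := rfl
  map_mul' _ _ := rfl

theorem norm_leechV : sqNorm (Cfsg.Spor.leechV : Vec) = 48 := by decide +kernel

theorem multiplier : Cfsg.HasCyclicSchurMultiplier ↥Cfsg.Spor.Co3 1 := by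
  obtain ⟨k, hk⟩ := exists_move48 norm_leechV ThreeOrbits.bU_norm
  let r : ↥Cfsg.Spor.Co3 ≃* Model.S48 := equivV.trans (StabSimple.oneEquiv k hk)
  have : Finite Model.S48 := Nat.finite_of_card_ne_zero (by rw [Model.card_S48]; norm_num)
  have : Finite ↥Cfsg.Spor.Co3 := Finite.of_equiv _ r.toEquiv.symm
  refine Spor.Mult.trivial_of_forall fun Δ _ _ σ hσ => ?_
  have hker : (r.toMonoidHom.comp σ).ker = σ.ker := MonoidHom.ker_mulEquiv_comp σ r
  obtain ⟨π, hπ⟩ := multiplier_S48.2 Δ (r.toMonoidHom.comp σ)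
    ⟨r.surjective.comp hσ.1, hker.le.trans hσ.2.1, hker.le.trans hσ.2.2⟩
  haveI : Subsingleton (Multiplicative (ZMod 1)) := inferInstanceAs (Subsingleton (ZMod 1))
  have hs : Subsingleton (r.toMonoidHom.comp σ).ker := hπ.subsingleton
  rw [eq_bot_iff]
  intro x hx
  have h1 := Subsingleton.elim (⟨x, hker.ge hx⟩ : (r.toMonoidHom.comp σ).ker) 1
  exact Subgroup.mem_bot.2 (congrArg Subtype.val h1)

end Cfsg.Agent.Spor.Leech.Tails
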